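import Mathlib

/-!
# Freeness of finite projective modules of constant rank near a finite set of primes

* `avoid Z`: the submonoid of elements lying outside all primes of `Z`.
* `finite_maximalSpectrum_localization`: the localization at `avoid Z` (for finite `Z`)
  is semilocal.
* `finrank_quotient_tensor_eq_rankAtStalk`
* `exists_basis_away_of_rankAtStalk_eq`: the main theorem.
-/

set_option autoImplicit false

namespace Groth.Agent.Lib.Helper13.SemilocalFree

open TensorProduct

section
variable {A : Type*} [CommRing A]

/-- The multiplicative set of elements avoiding all primes of `Z`. -/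
def avoid (Z : Set (PrimeSpectrum A)) : Submonoid A := ⨅ p ∈ Z, p.asIdeal.primeCompl

lemma mem_avoid {Z : Set (PrimeSpectrum A)} {s : A} :
    s ∈ avoid Z ↔ ∀ p ∈ Z, s ∉ p.asIdeal := by
  simp only [avoid, Submonoid.mem_iInf]
  rfl

theorem finite_maximalSpectrum_localization (Z : Set (PrimeSpectrum A)) (hZ : Z.Finite) :
    Finite (MaximalSpectrum (Localization (avoid Z))) := by
  classical
  have hZf : Finite Z := hZ.to_subtype
  have key : ∀ P : MaximalSpectrum (Localization (avoid Z)),
      PrimeSpectrum.comap (algebraMap A (Localization (avoid Z))) P.toPrimeSpectrum ∈ Z := by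
    intro P
    have hPprime : P.asIdeal.IsPrime := P.isMaximal.isPrime
    obtain ⟨hqprime, hdisj⟩ :=
      (IsLocalization.isPrime_iff_isPrime_disjoint (avoid Z) (Localization (avoid Z))
        P.asIdeal).mp hPprime
    have hsub : ((P.asIdeal.under A : Ideal A) : Set A) ⊆
        ⋃ p ∈ (hZ.toFinset : Set (PrimeSpectrum A)), (p.asIdeal : Set A) := by
      intro x hx
      by_contra hnot
      refine Set.disjoint_left.mp hdisj ?_ hx
      rw [SetLike.mem_coe, mem_avoid]
      intro p hp hxp
      apply hnot
      simp only [Set.mem_iUnion]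
      exact ⟨p, by simpa using hp, hxp⟩
    obtain ⟨p, hpZ, hle⟩ := (Ideal.subset_union_prime (s := hZ.toFinset)
      (f := fun p : PrimeSpectrum A => p.asIdeal) ⟨_, hqprime⟩ ⟨_, hqprime⟩
      (fun i _ _ _ => i.isPrime)).mp hsub
    have hpZ' : p ∈ Z := by simpa using hpZ
    have hpdisj : Disjoint ((avoid Z : Submonoid A) : Set A) (p.asIdeal : Set A) := by
      rw [Set.disjoint_left]
      intro x hxS hxp
      exact (mem_avoid.mp hxS) p hpZ' hxp
    have hP'prime : (Ideal.map (algebraMap A (Localization (avoid Z))) p.asIdeal).IsPrime :=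
      IsLocalization.isPrime_of_isPrime_disjoint (avoid Z) _ _ p.isPrime hpdisj
    have hPle : P.asIdeal ≤ Ideal.map (algebraMap A (Localization (avoid Z))) p.asIdeal := by
      rw [← IsLocalization.map_under (avoid Z) (Localization (avoid Z)) P.asIdeal]
      exact Ideal.map_mono hle
    have hPeq : P.asIdeal = Ideal.map (algebraMap A (Localization (avoid Z))) p.asIdeal :=
      P.isMaximal.eq_of_le hP'prime.ne_top hPle
    have hqp : P.asIdeal.under A = p.asIdeal := by
      rw [hPeq]
      exact IsLocalization.under_map_of_isPrime_disjoint (avoid Z) _ p.isPrime hpdisj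
    have : PrimeSpectrum.comap (algebraMap A (Localization (avoid Z))) P.toPrimeSpectrum = p :=
      PrimeSpectrum.ext hqp
    rw [this]
    exact hpZ'
  refine Finite.of_injective (fun P => (⟨_, key P⟩ : Z)) ?_
  intro P Q h
  have h' := congrArg Subtype.val h
  exact MaximalSpectrum.toPrimeSpectrum_injective
    (PrimeSpectrum.localization_comap_injective (Localization (avoid Z)) (avoid Z) h')

end

section
variable (R : Type*) [CommRing R] (N : Type*) [AddCommGroup N] [Module R N]
  [Module.Finite R N] [Module.Flat R N]

theorem finrank_quotient_tensor_eq_rankAtStalk (P : Ideal R) [hP : P.IsMaximal] :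
    Module.finrank (R ⧸ P) ((R ⧸ P) ⊗[R] N) = Module.rankAtStalk N ⟨P, hP.isPrime⟩ := by
  let _ := Ideal.Quotient.field P
  rw [Module.rankAtStalk_eq]
  let e : P.ResidueField ⊗[R ⧸ P] ((R ⧸ P) ⊗[R] N) ≃ₗ[P.ResidueField] P.ResidueField ⊗[R] N :=
    AlgebraTensorModule.cancelBaseChange R (R ⧸ P) P.ResidueField P.ResidueField N
  calc Module.finrank (R ⧸ P) ((R ⧸ P) ⊗[R] N)
      = Module.finrank P.ResidueField (P.ResidueField ⊗[R ⧸ P] ((R ⧸ P) ⊗[R] N)) :=
        (Module.finrank_baseChange (R := P.ResidueField) (S := R ⧸ P)
          (M' := (R ⧸ P) ⊗[R] N)).symm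
    _ = Module.finrank P.ResidueField (P.ResidueField ⊗[R] N) := e.finrank_eq

end

section
variable (A : Type*) [CommRing A] (M : Type*) [AddCommGroup M] [Module A M]
  [Module.Finite A M] [Module.Projective A M]

theorem nonempty_basis_localization_avoid (r : ℕ)
    (hr : ∀ p : PrimeSpectrum A, Module.rankAtStalk M p = r)
    (Z : Set (PrimeSpectrum A)) (hZ : Z.Finite) :
    Nonempty (Module.Basis (Fin r) (Localization (avoid Z)) (LocalizedModule (avoid Z) M)) := by
  have := finite_maximalSpectrum_localization Z hZ
  have hbc : IsBaseChange (Localization (avoid Z)) (LocalizedModule.mkLinearMap (avoid Z) M) :=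
    LocalizedModule.isBaseChange (avoid Z) M
  have : Module.Finite (Localization (avoid Z)) (LocalizedModule (avoid Z) M) :=
    Module.Finite.of_isLocalizedModule (avoid Z) (LocalizedModule.mkLinearMap (avoid Z) M)
  have : Module.Flat (Localization (avoid Z)) (LocalizedModule (avoid Z) M) := inferInstance
  apply Module.nonempty_basis_of_flat_of_finrank_eq
  intro P
  have := P.isMaximal
  rw [finrank_quotient_tensor_eq_rankAtStalk, Module.rankAtStalk_isBaseChange hbc, hr]

theorem exists_basis_away_of_rankAtStalk_eq (r : ℕ)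
    (hr : ∀ p : PrimeSpectrum A, Module.rankAtStalk M p = r)
    (Z : Set (PrimeSpectrum A)) (hZ : Z.Finite) :
    ∃ s : A, (∀ p ∈ Z, s ∉ p.asIdeal) ∧
      Nonempty (Module.Basis (Fin r) (Localization.Away s)
        (LocalizedModule (Submonoid.powers s) M)) := by
  obtain ⟨b⟩ := nonempty_basis_localization_avoid A M r hr Z hZ
  have : Module.FinitePresentation A M := Module.finitePresentation_of_projective A M
  obtain ⟨s, hs, b', -⟩ := Module.FinitePresentation.exists_basis_localizedModule_powers (avoid Z)
    (LocalizedModule.mkLinearMap (avoid Z) M) (Localization (avoid Z)) b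
  exact ⟨s, mem_avoid.mp hs, ⟨b'⟩⟩

end

end Groth.Agent.Lib.Helper13.SemilocalFree
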