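/-
Helper13 library: points of `𝔾_a` and `𝔾_m` (and more generally of base changes of affine group
schemes `Spec A`) and the global functions they define: `gaFn`, `gmFn` are injective, additive resp.
multiplicative, natural, and every function (unit) comes from a point.
-/
import Groth.Prelude.Def_Red2

set_option autoImplicit false
universe u
open CategoryTheory MonoidalCategory CartesianMonoidalCategory MonObj GrpObj AlgebraicGeometry CategoryTheory.Limits
open Red
open scoped TensorProduct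

namespace Groth.Agent.Lib.Helper13

section General

variable {R : Type u} [CommRing R] {A : Type u} [CommRing A] [HopfAlgebra R A]
variable {S : Scheme.{u}} (f : S ⟶ Spec (CommRingCat.of R))

/-- The morphism to `Spec A` underlying a point of the base change of `Spec A`. -/
noncomputable def ptHom {X : Over S}
    (x : X ⟶ bc f ((Spec (CommRingCat.of A)).asOver (Spec (CommRingCat.of R)))) :
    X.left ⟶ Spec (CommRingCat.of A) :=
  x.left ≫ pullback.fst _ _

/-- The global function on `X` attached to an `X`-valued point of the base change of `Spec A` and an element of `A`. -/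
noncomputable def ptFn {X : Over S}
    (x : X ⟶ bc f ((Spec (CommRingCat.of A)).asOver (Spec (CommRingCat.of R)))) (a : A) : Γ(X.left, ⊤) :=
  (ptHom f x).appTop ((Scheme.ΓSpecIso (CommRingCat.of A)).inv a)

/-- `ptFn` as a ring homomorphism in the element of `A`. -/
noncomputable def ptRingHom {X : Over S}
    (x : X ⟶ bc f ((Spec (CommRingCat.of A)).asOver (Spec (CommRingCat.of R)))) : A →+* Γ(X.left, ⊤) :=
  ((Scheme.ΓSpecIso (CommRingCat.of A)).inv ≫ (ptHom f x).appTop).hom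

lemma ptRingHom_apply {X : Over S}
    (x : X ⟶ bc f ((Spec (CommRingCat.of A)).asOver (Spec (CommRingCat.of R)))) (a : A) :
    ptRingHom f x a = ptFn f x a := rfl

lemma ptHom_comp {X X' : Over S} (g : X' ⟶ X)
    (x : X ⟶ bc f ((Spec (CommRingCat.of A)).asOver (Spec (CommRingCat.of R)))) :
    ptHom f (g ≫ x) = g.left ≫ ptHom f x := by
  unfold ptHom
  rw [Over.comp_left, Category.assoc]

lemma ptFn_comp {X X' : Over S} (g : X' ⟶ X)
    (x : X ⟶ bc f ((Spec (CommRingCat.of A)).asOver (Spec (CommRingCat.of R)))) (a : A) :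
    ptFn f (g ≫ x) a = g.left.appTop (ptFn f x a) := by
  unfold ptFn
  rw [ptHom_comp, Scheme.Hom.comp_appTop]
  rfl

lemma pt_ext {X : Over S}
    (x y : X ⟶ bc f ((Spec (CommRingCat.of A)).asOver (Spec (CommRingCat.of R))))
    (h : ∀ a, ptFn f x a = ptFn f y a) : x = y := by
  apply Over.OverMorphism.ext
  apply pullback.hom_ext
  · apply ext_to_Spec
    ext a
    exact h a
  · have h1 := Over.w x
    have h2 := Over.w y
    exact h1.trans h2.symm

variable (R A) in
/-- `Spec A ×_{Spec R} Spec A ⟶ Spec (A ⊗ A)`, typed on the tensor product in `Over (Spec R)`. -/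
noncomputable def tensorSpecHom :
    (((Spec (CommRingCat.of A)).asOver (Spec (CommRingCat.of R))) ⊗
      ((Spec (CommRingCat.of A)).asOver (Spec (CommRingCat.of R)))).left ⟶
      Spec (CommRingCat.of (A ⊗[R] A)) :=
  (pullbackSpecIso R A A).hom

/-- the morphism `X ⟶ Spec (A ⊗ A)` attached to a pair of points. -/
noncomputable def ptPair {X : Over S}
    (x y : X ⟶ bc f ((Spec (CommRingCat.of A)).asOver (Spec (CommRingCat.of R)))) :
    X.left ⟶ Spec (CommRingCat.of (A ⊗[R] A)) :=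
  (lift x y).left ≫ (Functor.LaxMonoidal.μ (Over.pullback f) _ _).left ≫ pullback.fst _ _ ≫
    tensorSpecHom R A

lemma ptPair_fst {X : Over S}
    (x y : X ⟶ bc f ((Spec (CommRingCat.of A)).asOver (Spec (CommRingCat.of R)))) :
    ptPair f x y ≫ Spec.map (CommRingCat.ofHom
      (Algebra.TensorProduct.includeLeftRingHom (R := R) (A := A) (B := A))) = ptHom f x := by
  have h1 : tensorSpecHom R A ≫ Spec.map (CommRingCat.ofHom
      (Algebra.TensorProduct.includeLeftRingHom (R := R) (A := A) (B := A))) = pullback.fst _ _ :=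
    pullbackSpecIso_hom_fst ..
  have h2 := Over.μ_pullback_left_fst_fst (f := f) ((Spec (CommRingCat.of A)).asOver (Spec (CommRingCat.of R)))
    ((Spec (CommRingCat.of A)).asOver (Spec (CommRingCat.of R)))
  have h3 : (lift x y).left ≫ pullback.fst _ _ = x.left := by
    rw [← Over.fst_left, ← Over.comp_left, lift_fst]
  unfold ptPair ptHom
  simp only [Category.assoc]
  rw [h1]
  erw [h2]
  exact (Category.assoc _ _ _).symm.trans (congrArg (· ≫ pullback.fst _ _) h3)

lemma ptPair_snd {X : Over S}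
    (x y : X ⟶ bc f ((Spec (CommRingCat.of A)).asOver (Spec (CommRingCat.of R)))) :
    ptPair f x y ≫ Spec.map (CommRingCat.ofHom
      (RingHomClass.toRingHom (Algebra.TensorProduct.includeRight (R := R) (A := A) (B := A)))) = ptHom f y := by
  have h1 : tensorSpecHom R A ≫ Spec.map (CommRingCat.ofHom
      (RingHomClass.toRingHom (Algebra.TensorProduct.includeRight (R := R) (A := A) (B := A)))) = pullback.snd _ _ :=
    pullbackSpecIso_hom_snd ..
  have h2 := Over.μ_pullback_left_fst_snd (f := f) ((Spec (CommRingCat.of A)).asOver (Spec (CommRingCat.of R)))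
    ((Spec (CommRingCat.of A)).asOver (Spec (CommRingCat.of R)))
  have h3 : (lift x y).left ≫ pullback.snd _ _ = y.left := by
    rw [← Over.snd_left, ← Over.comp_left, lift_snd]
  unfold ptPair ptHom
  simp only [Category.assoc]
  rw [h1]
  erw [h2]
  exact (Category.assoc _ _ _).symm.trans (congrArg (· ≫ pullback.fst _ _) h3)

lemma bc_map_left_fst {Y Z : Over (Spec (CommRingCat.of R))} (g : Y ⟶ Z) :
    ((Over.pullback f).map g).left ≫ pullback.fst _ _ = pullback.fst _ _ ≫ g.left := by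
  erw [pullback.lift_fst]

lemma ptHom_mul {X : Over S}
    (x y : X ⟶ bc f ((Spec (CommRingCat.of A)).asOver (Spec (CommRingCat.of R)))) :
    ptHom f (x * y) =
      ptPair f x y ≫ Spec.map (CommRingCat.ofHom (Bialgebra.comulAlgHom R A).toRingHom) := by
  have hμ : μ[bc f ((Spec (CommRingCat.of A)).asOver (Spec (CommRingCat.of R)))] =
      Functor.LaxMonoidal.μ (Over.pullback f) _ _ ≫ (Over.pullback f).map μ[(Spec (CommRingCat.of A)).asOver (Spec (CommRingCat.of R))] := rfl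
  have h1 : μ[(Spec (CommRingCat.of A)).asOver (Spec (CommRingCat.of R))].left =
      tensorSpecHom R A ≫ Spec.map (CommRingCat.ofHom (Bialgebra.comulAlgHom R A).toRingHom) :=
    mul_spec_asOver_spec_left
  have key : (x * y).left ≫ pullback.fst _ _ =
      (lift x y).left ≫ (Functor.LaxMonoidal.μ (Over.pullback f) _ _).left ≫ pullback.fst _ _ ≫
        μ[(Spec (CommRingCat.of A)).asOver (Spec (CommRingCat.of R))].left := by
    rw [Hom.mul_def, hμ]
    simp only [Over.comp_left, Category.assoc]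
    rw [bc_map_left_fst]
  rw [h1] at key
  exact key

lemma specMap_appTop_ΓSpecIso_inv {B C : Type u} [CommRing B] [CommRing C] (φ : B →+* C) (b : B) :
    (Spec.map (CommRingCat.ofHom φ)).appTop ((Scheme.ΓSpecIso (CommRingCat.of B)).inv b) =
      (Scheme.ΓSpecIso (CommRingCat.of C)).inv (φ b) := by
  have := Scheme.ΓSpecIso_inv_naturality (CommRingCat.ofHom φ)
  exact (congr($this b)).symm

lemma ptFn_mul {X : Over S}
    (x y : X ⟶ bc f ((Spec (CommRingCat.of A)).asOver (Spec (CommRingCat.of R)))) (a : A)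
    {J : Type*} (s : Finset J) (p q : J → A)
    (h : Coalgebra.comul (R := R) a = ∑ i ∈ s, p i ⊗ₜ[R] q i) :
    ptFn f (x * y) a = ∑ i ∈ s, ptFn f x (p i) * ptFn f y (q i) := by
  have hx : ∀ b, ptFn f x b =
      (ptPair f x y).appTop ((Scheme.ΓSpecIso (CommRingCat.of (A ⊗[R] A))).inv (b ⊗ₜ[R] 1)) := by
    intro b
    unfold ptFn
    rw [← ptPair_fst f x y, Scheme.Hom.comp_appTop, CommRingCat.comp_apply, specMap_appTop_ΓSpecIso_inv]
    rfl
  have hy : ∀ b, ptFn f y b =
      (ptPair f x y).appTop ((Scheme.ΓSpecIso (CommRingCat.of (A ⊗[R] A))).inv (1 ⊗ₜ[R] b)) := by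
    intro b
    unfold ptFn
    rw [← ptPair_snd f x y, Scheme.Hom.comp_appTop, CommRingCat.comp_apply, specMap_appTop_ΓSpecIso_inv]
    rfl
  have hxy : ptFn f (x * y) a =
      (ptPair f x y).appTop ((Scheme.ΓSpecIso (CommRingCat.of (A ⊗[R] A))).inv (Coalgebra.comul (R := R) a)) := by
    unfold ptFn
    rw [ptHom_mul, Scheme.Hom.comp_appTop, CommRingCat.comp_apply, specMap_appTop_ΓSpecIso_inv]
    rfl
  rw [hxy, h, map_sum, map_sum]
  refine Finset.sum_congr rfl fun i _ => ?_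
  rw [hx, hy, ← map_mul, ← map_mul, Algebra.TensorProduct.tmul_mul_tmul, _root_.mul_one, _root_.one_mul]


lemma ptFn_mul_one_term {X : Over S}
    (x y : X ⟶ bc f ((Spec (CommRingCat.of A)).asOver (Spec (CommRingCat.of R)))) (a p q : A)
    (h : Coalgebra.comul (R := R) a = p ⊗ₜ[R] q) :
    ptFn f (x * y) a = ptFn f x p * ptFn f y q := by
  have := ptFn_mul f x y a (Finset.univ : Finset (Fin 1)) (fun _ => p) (fun _ => q) (by simpa using h)
  simpa using this

lemma ptFn_mul_two_terms {X : Over S}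
    (x y : X ⟶ bc f ((Spec (CommRingCat.of A)).asOver (Spec (CommRingCat.of R)))) (a p₁ q₁ p₂ q₂ : A)
    (h : Coalgebra.comul (R := R) a = p₁ ⊗ₜ[R] q₁ + p₂ ⊗ₜ[R] q₂) :
    ptFn f (x * y) a = ptFn f x p₁ * ptFn f y q₁ + ptFn f x p₂ * ptFn f y q₂ := by
  have := ptFn_mul f x y a (Finset.univ : Finset (Fin 2)) ![p₁, p₂] ![q₁, q₂]
    (by simpa [Fin.sum_univ_two] using h)
  simpa [Fin.sum_univ_two] using this

lemma ptFn_one_elt {X : Over S}
    (x : X ⟶ bc f ((Spec (CommRingCat.of A)).asOver (Spec (CommRingCat.of R)))) :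
    ptFn f x 1 = 1 := by
  rw [← ptRingHom_apply, map_one]

lemma ptFn_mul_elt {X : Over S}
    (x : X ⟶ bc f ((Spec (CommRingCat.of A)).asOver (Spec (CommRingCat.of R)))) (a b : A) :
    ptFn f x (a * b) = ptFn f x a * ptFn f x b := by
  rw [← ptRingHom_apply, map_mul]; rfl

/-- The point attached to a ring homomorphism `A →+* Γ(X, ⊤)` compatible with the base. -/
noncomputable def mkPt {X : Over S} (φ : A →+* Γ(X.left, ⊤))
    (h : (X.left.toSpecΓ ≫ Spec.map (CommRingCat.ofHom φ)) ≫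
      ((Spec (CommRingCat.of A)).asOver (Spec (CommRingCat.of R))).hom = X.hom ≫ f) :
    X ⟶ bc f ((Spec (CommRingCat.of A)).asOver (Spec (CommRingCat.of R))) :=
  Over.homMk (pullback.lift (X.left.toSpecΓ ≫ Spec.map (CommRingCat.ofHom φ)) X.hom h)
    (pullback.lift_snd _ _ _)

lemma ptHom_mkPt {X : Over S} (φ : A →+* Γ(X.left, ⊤))
    (h : (X.left.toSpecΓ ≫ Spec.map (CommRingCat.ofHom φ)) ≫
      ((Spec (CommRingCat.of A)).asOver (Spec (CommRingCat.of R))).hom = X.hom ≫ f) :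
    ptHom f (mkPt f φ h) = X.left.toSpecΓ ≫ Spec.map (CommRingCat.ofHom φ) :=
  pullback.lift_fst _ _ _

lemma ptFn_mkPt {X : Over S} (φ : A →+* Γ(X.left, ⊤))
    (h : (X.left.toSpecΓ ≫ Spec.map (CommRingCat.ofHom φ)) ≫
      ((Spec (CommRingCat.of A)).asOver (Spec (CommRingCat.of R))).hom = X.hom ≫ f) (a : A) :
    ptFn f (mkPt f φ h) a = φ a := by
  unfold ptFn
  rw [ptHom_mkPt, Scheme.Hom.comp_appTop, CommRingCat.comp_apply, specMap_appTop_ΓSpecIso_inv,
    Scheme.toSpecΓ_appTop]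
  exact congr($((Scheme.ΓSpecIso Γ(X.left, ⊤)).inv_hom_id) (φ a))

end General

section GaGm

variable {S : Scheme.{u}}

/-- Every ring homomorphism out of `ULift ℤ` is the integer cast. -/
lemma ringHom_uliftInt_apply {B : Type*} [Ring B] (g : ULift.{u} ℤ →+* B) (r : ULift.{u} ℤ) :
    g r = (r.down : B) := by
  have : r = ((r.down : ℤ) : ULift.{u} ℤ) := by
    apply ULift.ext; simp
  conv_lhs => rw [this]
  rw [map_intCast]

lemma ringHom_uliftInt_ext {B : Type*} [Ring B] (g h : ULift.{u} ℤ →+* B) : g = h := by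
  ext r
  rw [ringHom_uliftInt_apply, ringHom_uliftInt_apply]

/-- Ring homomorphisms out of `ℤ[X]` (as a symmetric algebra) are determined by the image of the coordinate. -/
lemma symRingHom_ext {B : Type*} [CommRing B]
    (φ ψ : SymmetricAlgebra (ULift.{u} ℤ) (ULift.{u} ℤ) →+* B)
    (h : φ (SymmetricAlgebra.ι (ULift.{u} ℤ) (ULift.{u} ℤ) (ULift.up 1)) =
      ψ (SymmetricAlgebra.ι (ULift.{u} ℤ) (ULift.{u} ℤ) (ULift.up 1))) : φ = ψ := by
  refine RingHom.ext fun a => ?_
  refine SymmetricAlgebra.induction _ _ (motive := fun a => φ a = ψ a) ?_ ?_ ?_ ?_ a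
  · intro r
    exact congr($(ringHom_uliftInt_ext (φ.comp (algebraMap _ _)) (ψ.comp (algebraMap _ _))) r)
  · intro m
    have : m = (m.down : ℤ) • (ULift.up 1 : ULift.{u} ℤ) := by
      apply ULift.ext; simp
    rw [this, map_zsmul, map_zsmul, map_zsmul, h]
  · intro a b ha hb
    rw [map_mul, map_mul, ha, hb]
  · intro a b ha hb
    rw [map_add, map_add, ha, hb]

/-- Ring homomorphisms out of `ℤ[T, T⁻¹]` (as a group algebra) are determined by the image of `T`. -/
lemma gmRingHom_ext {B : Type*} [CommRing B]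
    (φ ψ : MonoidAlgebra (ULift.{u} ℤ) (Multiplicative ℤ) →+* B)
    (h : φ (MonoidAlgebra.single (Multiplicative.ofAdd (1 : ℤ)) 1) =
      ψ (MonoidAlgebra.single (Multiplicative.ofAdd (1 : ℤ)) 1)) : φ = ψ := by
  apply MonoidAlgebra.ringHom_ext
  · intro b
    exact congr($(ringHom_uliftInt_ext (φ.comp MonoidAlgebra.singleOneRingHom)
      (ψ.comp MonoidAlgebra.singleOneRingHom)) b)
  · intro a
    have := MonoidHom.ext_mint (f := (φ : _ →* B).comp (MonoidAlgebra.of (ULift.{u} ℤ) (Multiplicative ℤ)))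
      (g := (ψ : _ →* B).comp (MonoidAlgebra.of (ULift.{u} ℤ) (Multiplicative ℤ))) h
    exact congr($this a)

variable {X : Over S}

theorem gaFn_injective : Function.Injective (gaFn : (X ⟶ Ga S) → Γ(X.left, ⊤)) := by
  intro x y h
  apply pt_ext
  intro a
  rw [← ptRingHom_apply, ← ptRingHom_apply]
  exact congr($(symRingHom_ext _ _ h) a)

theorem gmFn_injective : Function.Injective (gmFn : (X ⟶ Gm S) → Γ(X.left, ⊤)) := by
  intro x y h
  apply pt_ext
  intro a
  rw [← ptRingHom_apply, ← ptRingHom_apply]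
  exact congr($(gmRingHom_ext _ _ h) a)

theorem gaFn_mul (x y : X ⟶ Ga S) : gaFn (x * y) = gaFn x + gaFn y := by
  have := ptFn_mul_two_terms _ x y _ _ _ _ _
    (SymmetricAlgebra.comul_ι (ULift.{u} ℤ) (ULift.{u} ℤ) (ULift.up 1))
  rw [ptFn_one_elt, ptFn_one_elt, _root_.mul_one, _root_.one_mul] at this
  exact this

theorem gmFn_mul (x y : X ⟶ Gm S) : gmFn (x * y) = gmFn x * gmFn y := by
  refine ptFn_mul_one_term _ x y _ _ _ ?_
  simp

theorem gaFn_comp {X' : Over S} (g : X' ⟶ X) (x : X ⟶ Ga S) :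
    gaFn (g ≫ x) = g.left.appTop (gaFn x) := ptFn_comp _ g x _

theorem gmFn_comp {X' : Over S} (g : X' ⟶ X) (x : X ⟶ Gm S) :
    gmFn (g ≫ x) = g.left.appTop (gmFn x) := ptFn_comp _ g x _


theorem gaFn_one : gaFn (1 : X ⟶ Ga S) = 0 := by
  have e : (1 : X ⟶ Ga S) * 1 = 1 := _root_.mul_one (M := X ⟶ Ga S) 1
  have := gaFn_mul (1 : X ⟶ Ga S) 1
  rw [e] at this
  exact left_eq_add.mp this

theorem gaFn_inv (x : X ⟶ Ga S) : gaFn x⁻¹ = - gaFn x := by
  have := gaFn_mul x⁻¹ x
  rw [inv_mul_cancel, gaFn_one] at this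
  exact eq_neg_of_add_eq_zero_left this.symm

theorem gaFn_div (x y : X ⟶ Ga S) : gaFn (x / y) = gaFn x - gaFn y := by
  rw [div_eq_mul_inv, gaFn_mul, gaFn_inv, sub_eq_add_neg]

/-- `gaFn` as a monoid homomorphism to the additive group of functions. -/
noncomputable def gaFnHom (X : Over S) : (X ⟶ Ga S) →* Multiplicative Γ(X.left, ⊤) where
  toFun x := Multiplicative.ofAdd (gaFn x)
  map_one' := by rw [gaFn_one]; rfl
  map_mul' x y := by rw [gaFn_mul]; rfl

theorem gaFn_pow (x : X ⟶ Ga S) (n : ℕ) : gaFn (x ^ n) = n • gaFn x := by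
  have := map_pow (gaFnHom X) x n
  exact congrArg Multiplicative.toAdd this

theorem gaFn_zpow (x : X ⟶ Ga S) (n : ℤ) : gaFn (x ^ n) = n • gaFn x := by
  have := map_zpow (gaFnHom X) x n
  exact congrArg Multiplicative.toAdd this

theorem ga_mul_comm (x y : X ⟶ Ga S) : x * y = y * x := by
  apply gaFn_injective
  rw [gaFn_mul, gaFn_mul, add_comm]

theorem gm_mul_comm (x y : X ⟶ Gm S) : x * y = y * x := by
  apply gmFn_injective
  rw [gmFn_mul, gmFn_mul, mul_comm]

theorem isUnit_gmFn (t : X ⟶ Gm S) : IsUnit (gmFn t) := by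
  refine IsUnit.of_mul_eq_one (ptFn _ t (MonoidAlgebra.single (Multiplicative.ofAdd (-1 : ℤ)) 1)) ?_
  change ptFn _ t _ * ptFn _ t _ = 1
  rw [← ptFn_mul_elt, MonoidAlgebra.single_mul_single, ← ofAdd_add]
  simpa [MonoidAlgebra.one_def] using ptFn_one_elt _ t

theorem gmFn_one : gmFn (1 : X ⟶ Gm S) = 1 := by
  have e : (1 : X ⟶ Gm S) * 1 = 1 := _root_.mul_one (M := X ⟶ Gm S) 1
  have h := gmFn_mul (1 : X ⟶ Gm S) 1
  rw [e] at h
  have hu := isUnit_gmFn (1 : X ⟶ Gm S)
  exact (hu.mul_left_cancel (by rw [← h, _root_.mul_one])).symm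

theorem gmFn_inv_mul (t : X ⟶ Gm S) : gmFn t⁻¹ * gmFn t = 1 := by
  rw [← gmFn_mul, inv_mul_cancel, gmFn_one]

theorem gmFn_mul_inv (t : X ⟶ Gm S) : gmFn t * gmFn t⁻¹ = 1 := by
  rw [← gmFn_mul, mul_inv_cancel, gmFn_one]

/-- `gmFn` as a monoid homomorphism. -/
noncomputable def gmFnHom (X : Over S) : (X ⟶ Gm S) →* Γ(X.left, ⊤) where
  toFun := gmFn
  map_one' := gmFn_one
  map_mul' := gmFn_mul

theorem gmFn_pow (t : X ⟶ Gm S) (n : ℕ) : gmFn (t ^ n) = gmFn t ^ n := map_pow (gmFnHom X) t n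

/-- Every global function is the coordinate of a point of `𝔾_a`. -/
theorem exists_gaFn_eq (b : Γ(X.left, ⊤)) : ∃ x : X ⟶ Ga S, gaFn x = b := by
  let _ : Algebra (ULift.{u} ℤ) Γ(X.left, ⊤) := ULift.algebra' ℤ _
  let φ : SymmetricAlgebra (ULift.{u} ℤ) (ULift.{u} ℤ) →+* Γ(X.left, ⊤) :=
    (SymmetricAlgebra.lift (LinearMap.toSpanSingleton (ULift.{u} ℤ) Γ(X.left, ⊤) b)).toRingHom
  refine ⟨mkPt _ φ (specULiftZIsTerminal.hom_ext _ _), ?_⟩
  change ptFn _ _ _ = b
  rw [ptFn_mkPt]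
  change (SymmetricAlgebra.lift _) (SymmetricAlgebra.ι _ _ _) = b
  rw [SymmetricAlgebra.lift_ι_apply, LinearMap.toSpanSingleton_apply]
  exact _root_.one_smul (ULift.{u} ℤ) b

/-- Every invertible global function is the coordinate of a point of `𝔾_m`. -/
theorem exists_gmFn_eq (b : Γ(X.left, ⊤)) (hb : IsUnit b) : ∃ t : X ⟶ Gm S, gmFn t = b := by
  let _ : Algebra (ULift.{u} ℤ) Γ(X.left, ⊤) := ULift.algebra' ℤ _
  let ψ : Multiplicative ℤ →* Γ(X.left, ⊤) := (Units.coeHom _).comp (zpowersHom _ hb.unit)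
  let φ : MonoidAlgebra (ULift.{u} ℤ) (Multiplicative ℤ) →+* Γ(X.left, ⊤) :=
    (MonoidAlgebra.lift (ULift.{u} ℤ) Γ(X.left, ⊤) (Multiplicative ℤ) ψ).toRingHom
  refine ⟨mkPt _ φ (specULiftZIsTerminal.hom_ext _ _), ?_⟩
  change ptFn _ _ _ = b
  rw [ptFn_mkPt]
  change (MonoidAlgebra.lift _ _ _ ψ) (MonoidAlgebra.single _ _) = b
  rw [MonoidAlgebra.lift_single, _root_.one_smul]
  simp [ψ]


section Char

variable {T : Over S} [GrpObj T] (α : T ⟶ Gm S) [IsMonHom α]

theorem gmFn_mul_comp (s t : X ⟶ T) : gmFn ((s * t) ≫ α) = gmFn (s ≫ α) * gmFn (t ≫ α) := by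
  rw [← gmFn_mul]
  exact congrArg gmFn (MonObj.mul_comp s t α)

theorem gmFn_one_comp : gmFn ((1 : X ⟶ T) ≫ α) = 1 := by
  rw [← gmFn_one (X := X)]
  exact congrArg gmFn (MonObj.one_comp α)

theorem gmFn_inv_comp_mul (t : X ⟶ T) : gmFn (t⁻¹ ≫ α) * gmFn (t ≫ α) = 1 := by
  rw [← gmFn_mul_comp, inv_mul_cancel, gmFn_one_comp]

theorem gmFn_mul_inv_comp (t : X ⟶ T) : gmFn (t ≫ α) * gmFn (t⁻¹ ≫ α) = 1 := by
  rw [← gmFn_mul_comp, mul_inv_cancel, gmFn_one_comp]

theorem gmFn_pow_comp (t : X ⟶ T) (n : ℕ) : gmFn ((t ^ n) ≫ α) = gmFn (t ≫ α) ^ n := by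
  induction n with
  | zero => rw [pow_zero, pow_zero, gmFn_one_comp]
  | succ n ih => rw [pow_succ, pow_succ, gmFn_mul_comp, ih]

end Char

section AddChar

variable {T : Over S} [GrpObj T] (β : T ⟶ Ga S) [IsMonHom β]

theorem gaFn_mul_comp (s t : X ⟶ T) : gaFn ((s * t) ≫ β) = gaFn (s ≫ β) + gaFn (t ≫ β) := by
  rw [← gaFn_mul]
  exact congrArg gaFn (MonObj.mul_comp s t β)

end AddChar

end GaGm

end Groth.Agent.Lib.Helper13
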