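import Mathlib
import Groth.Agent.Lib.Helper16.EtDim
import Groth.Agent.Lib.Helper15.IrrStalk
import Groth.Agent.Lib.Helper14.GeomRegSmooth
import Groth.Agent.Lib.Helper9.RegLocal
import Groth.Agent.Lib.Helper12.SchemeDimFT
import Groth.Agent.Lib.Helper9.TopDim
import Groth.Agent.Lib.Helper29.FibHomQF

/-!
# Helper13: dimension arguments for homomorphisms of abelian varieties

* `isIntegral_of_smooth_connected`: smooth connected schemes over a field are integral.
* `dim_lt_top`: irreducible schemes locally of finite type over a field are finite dimensional.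
* `surjective_of_lqf`: a closed locally quasi-finite map to an irreducible scheme of the same finite
  dimension is surjective.
* `exists_quasiFiniteAt`: a flat surjective map locally of finite type between schemes of the same
  finite dimension is quasi-finite at some point.
-/

set_option autoImplicit false
universe u
open CategoryTheory CategoryTheory.Limits AlgebraicGeometry Opposite Topology

namespace Groth.Agent.Lib.Helper13.AbVarDim

open Groth.Agent.Lib.Helper16 Groth.Agent.Lib.Helper16.EtDim

theorem isIntegral_of_smooth_connected (k : Type u) [Field k] {X : Scheme.{u}}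
    (g : X ⟶ Spec (CommRingCat.of k)) [Smooth g] [ConnectedSpace X] : IsIntegral X := by
  haveI : IsLocallyNoetherian X := LocallyOfFiniteType.isLocallyNoetherian g
  rw [Groth.Agent.Lib.Helper15.NT.isIntegral_iff_connected_and_isDomain_stalk]
  refine ⟨inferInstance, fun x => ?_⟩
  have hx : x ∈ g.smoothLocus := by
    have : g.smoothLocus = ⊤ := Scheme.Hom.smoothLocus_eq_top_iff.mpr inferInstance
    rw [this]; trivial
  haveI := Groth.Agent.Lib.Helper14.GeomRegSmooth.isRegularLocalRing_stalk_of_mem_smoothLocus k g x hx
  exact Groth.Agent.Lib.Helper9.RegLocal.isDomain_of_isRegularLocalRing _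

attribute [local instance] Curv2.resAlgebra in
theorem dim_lt_top (k : Type u) [Field k] (X : Scheme.{u}) [X.Over (Spec (CommRingCat.of k))]
    [LocallyOfFiniteType (X ↘ Spec (CommRingCat.of k))] [IrreducibleSpace X] :
    topologicalKrullDim X < ⊤ := by
  obtain ⟨U, hU, hx⟩ := Groth.Agent.Lib.Helper12.SchemeDimFT.exists_affineOpen_mem X (genericPoint X)
  obtain ⟨m, hm1, -⟩ :=
    Groth.Agent.Lib.Helper12.SchemeDimFT.exists_trdeg_eq_coheight k X U hU _ hx
  rw [Groth.Agent.Lib.Helper12.SchemeDimFT.topologicalKrullDim_eq_of_irreducible k X m hm1]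
  exact WithBot.coe_lt_coe.mpr (ENat.natCast_lt_top m)


attribute [local instance] specializationOrder in
/-- A closed, locally quasi-finite morphism to an irreducible scheme of the same finite dimension
is surjective. -/
theorem surjective_of_lqf {X Y : Scheme.{u}} (f : X ⟶ Y) [LocallyQuasiFinite f]
    (hcl : IsClosedMap f) [IrreducibleSpace Y] [Nonempty X]
    (hdim : topologicalKrullDim X = topologicalKrullDim Y) (hfin : topologicalKrullDim Y < ⊤) :
    Function.Surjective f := by
  by_contra hns
  have hη : genericPoint Y ∉ Set.range f := by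
    intro hη
    apply hns
    have hcl' : IsClosed (Set.range f) := hcl.isClosed_range
    have h1 : closure {genericPoint Y} ⊆ Set.range f :=
      closure_minimal (Set.singleton_subset_iff.mpr hη) hcl'
    have h2 : closure {genericPoint Y} = Set.univ := genericPoint_spec Y
    rw [h2] at h1
    intro y
    exact h1 (Set.mem_univ y)
  let g : WithTop X → Y := fun a => a.recTopCoe (genericPoint Y) (fun x => f x)
  have hg : StrictMono g := by
    intro a b hab
    induction a using WithTop.recTopCoe with
    | top => exact absurd hab (not_top_lt)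
    | coe a =>
      induction b using WithTop.recTopCoe with
      | top =>
        change f a < genericPoint Y
        refine lt_of_le_of_ne ?_ ?_
        · exact (genericPoint_spec Y).specializes (Set.mem_univ _)
        · intro h
          exact hη ⟨a, h⟩
      | coe b =>
        exact strictMono_of_locallyQuasiFinite f (WithTop.coe_lt_coe.mp hab)
  have h1 := Order.krullDim_le_of_strictMono g hg
  rw [Order.krullDim_WithTop, ← topologicalKrullDim_eq_krullDim, ← topologicalKrullDim_eq_krullDim,
    hdim] at h1
  -- d + 1 ≤ d with d finite and nonnegative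
  have hnn : (0 : WithBot ℕ∞) ≤ topologicalKrullDim Y := by
    haveI : Nonempty Y := ⟨genericPoint Y⟩
    exact Groth.Agent.Lib.Helper9.topologicalKrullDim_nonneg_of_nonempty
  generalize topologicalKrullDim Y = d at h1 hfin hnn
  cases d using WithBot.recBotCoe with
  | bot => exact absurd hnn (by simp)
  | coe d =>
    have hd : d ≠ ⊤ := by
      intro h; subst h; exact lt_irrefl _ hfin
    have h2 : d + 1 ≤ d := by exact_mod_cast h1
    exact absurd h2 (by
      rw [not_le]
      exact ENat.lt_add_one_iff hd |>.mpr le_rfl)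


open TopologicalSpace in
theorem isOpen_singleton_of_noetherian {W : Type*} [TopologicalSpace W] [NoetherianSpace W]
    [QuasiSober W] (c : W) (hc : IsClosed ({c} : Set W)) (hmin : ∀ z : W, z ⤳ c → z = c) :
    IsOpen ({c} : Set W) := by
  have hfin : (irreducibleComponents W).Finite := NoetherianSpace.finite_irreducibleComponents
  let T : Set (Set W) := {Z ∈ irreducibleComponents W | c ∉ Z}
  have hTfin : T.Finite := hfin.subset (fun Z hZ => hZ.1)
  have hclosed : IsClosed (⋃₀ T) := by
    rw [Set.sUnion_eq_biUnion]
    refine Set.Finite.isClosed_biUnion hTfin ?_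
    intro Z hZ
    exact isClosed_of_mem_irreducibleComponents Z hZ.1
  have heq : ({c} : Set W) = (⋃₀ T)ᶜ := by
    ext w
    simp only [Set.mem_singleton_iff, Set.mem_compl_iff, Set.mem_sUnion, not_exists, not_and]
    constructor
    · rintro rfl Z hZ hcZ
      exact hZ.2 hcZ
    · intro hw
      have hZ : irreducibleComponent w ∈ irreducibleComponents W :=
        irreducibleComponent_mem_irreducibleComponents w
      have hcZ : c ∈ irreducibleComponent w := by
        by_contra hcZ
        exact hw _ ⟨hZ, hcZ⟩ mem_irreducibleComponent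
      obtain ⟨η, hη⟩ := QuasiSober.sober hZ.1 (isClosed_of_mem_irreducibleComponents _ hZ)
      have h1 : η ⤳ c := hη.specializes hcZ
      have h2 : η = c := hmin η h1
      have h3 : irreducibleComponent w = {c} := by
        rw [← hη.def, h2, hc.closure_eq]
      have : w ∈ ({c} : Set W) := h3 ▸ mem_irreducibleComponent
      exact this
  rw [heq]
  exact hclosed.isOpen_compl

/-- In a locally Noetherian scheme, a closed point without proper generizations is isolated. -/
theorem isOpen_singleton_of_closed_of_minimal (F : Scheme.{u}) [IsLocallyNoetherian F] (c : F)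
    (hc : IsClosed ({c} : Set F)) (hmin : ∀ z : F, z ⤳ c → z = c) : IsOpen ({c} : Set F) := by
  obtain ⟨U, hU, hcU, -⟩ := exists_isAffineOpen_mem_and_subset (X := F) (x := c) (U := ⊤) trivial
  haveI : IsNoetherianRing Γ(F, U) := IsLocallyNoetherian.component_noetherian ⟨U, hU⟩
  haveI : TopologicalSpace.NoetherianSpace (U : Set F) := noetherianSpace_of_isAffineOpen U hU
  have hemb : IsOpenEmbedding (Subtype.val : ↥(U : Set F) → F) := U.2.isOpenEmbedding_subtypeVal
  haveI : QuasiSober ↥(U : Set F) := hemb.quasiSober
  let c' : ↥(U : Set F) := ⟨c, hcU⟩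
  have hc' : IsClosed ({c'} : Set ↥(U : Set F)) := by
    have : ({c'} : Set ↥(U : Set F)) = Subtype.val ⁻¹' {c} := by
      ext w
      simp only [Set.mem_singleton_iff, Set.mem_preimage]
      exact ⟨fun h => h ▸ rfl, fun h => Subtype.ext h⟩
    rw [this]
    exact hc.preimage continuous_subtype_val
  have hmin' : ∀ z : ↥(U : Set F), z ⤳ c' → z = c' := by
    intro z hz
    exact Subtype.ext (hmin z.1 ((subtype_specializes_iff z c').mp hz))
  have h1 := isOpen_singleton_of_noetherian c' hc' hmin'
  have h2 := hemb.isOpenMap _ h1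
  rwa [Set.image_singleton] at h2

attribute [local instance] specializationOrder in
/-- A flat surjective morphism locally of finite type between schemes of the same finite dimension
is quasi-finite at some point. -/
theorem exists_quasiFiniteAt {X Y : Scheme.{u}} (f : X ⟶ Y) [Flat f] [LocallyOfFiniteType f]
    (hs : Function.Surjective f) [Nonempty Y]
    (hdim : topologicalKrullDim X = topologicalKrullDim Y) (hfin : topologicalKrullDim Y < ⊤) :
    ∃ x : X, f.QuasiFiniteAt x := by
  have hY : topologicalKrullDim Y = ((⨆ y : Y, Order.coheight y : ℕ∞) : WithBot ℕ∞) := by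
    rw [topologicalKrullDim_eq_krullDim, Order.krullDim_eq_iSup_coheight_of_nonempty]
  have hlt : (⨆ y : Y, Order.coheight y) < (⊤ : ℕ∞) := by
    rw [hY] at hfin
    exact WithBot.coe_lt_coe.mp hfin
  obtain ⟨y, hy⟩ := ENat.exists_eq_iSup_of_lt_top hlt
  obtain ⟨x₀, rfl⟩ := hs y
  set D : ℕ∞ := ⨆ y : Y, Order.coheight y with hD
  -- the fibre
  letI ovF : (f.fiber (f x₀)).Over (Spec (CommRingCat.of (Y.residueField (f x₀)))) :=
    ⟨f.fiberToSpecResidueField (f x₀)⟩
  haveI hlft : LocallyOfFiniteType (f.fiberToSpecResidueField (f x₀)) :=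
    MorphismProperty.of_isPullback (P := @LocallyOfFiniteType)
      (IsPullback.of_hasPullback f (Y.fromSpecResidueField (f x₀))) inferInstance
  haveI : JacobsonSpace (f.fiber (f x₀)) :=
    LocallyOfFiniteType.jacobsonSpace (f.fiberToSpecResidueField (f x₀))
  haveI : IsLocallyNoetherian (f.fiber (f x₀)) :=
    LocallyOfFiniteType.isLocallyNoetherian (f.fiberToSpecResidueField (f x₀))
  have hne : (Set.univ : Set (f.fiber (f x₀))).Nonempty := ⟨f.asFiber x₀, trivial⟩
  obtain ⟨c, -, hcc⟩ := nonempty_inter_closedPoints hne isOpen_univ.isLocallyClosed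
  have hcc' : IsClosed ({c} : Set (f.fiber (f x₀))) := hcc
  have hfc : ∀ z : f.fiber (f x₀), f (f.fiberι (f x₀) z) = f x₀ := by
    intro z
    have h3 : f.fiberι (f x₀) z ∈ Set.range (f.fiberι (f x₀)) := ⟨z, rfl⟩
    rw [Scheme.Hom.range_fiberι] at h3
    exact h3
  have hcoh : ∀ x : X, Order.coheight x ≤ D := by
    intro x
    have h1 : ((Order.coheight x : ℕ∞) : WithBot ℕ∞) ≤ Order.krullDim X :=
      Order.coheight_le_krullDim x
    rw [← topologicalKrullDim_eq_krullDim, hdim, hY] at h1
    exact WithBot.coe_le_coe.mp h1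
  have hmin : ∀ z : f.fiber (f x₀), z ⤳ c → z = c := by
    intro z hz
    by_contra hne
    have h1 : f.fiberι (f x₀) z ⤳ f.fiberι (f x₀) c := hz.map (f.fiberι (f x₀)).continuous
    have h2 : f.fiberι (f x₀) z ≠ f.fiberι (f x₀) c := fun h =>
      hne ((f.fiberι (f x₀)).isEmbedding.injective h)
    have h3 : f.fiberι (f x₀) c < f.fiberι (f x₀) z := lt_of_le_of_ne h1 (Ne.symm h2)
    have h4 := Order.coheight_add_one_le h3
    have h5 : Order.coheight (f (f.fiberι (f x₀) z)) ≤ Order.coheight (f.fiberι (f x₀) z) :=
      coheight_apply_le_of_flat f _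
    rw [hfc z, hy] at h5
    have h6 : D + 1 ≤ D := (add_le_add_left h5 1).trans (h4.trans (hcoh _))
    exact absurd h6 (by
      rw [not_le]
      exact (ENat.lt_add_one_iff hlt.ne).mpr le_rfl)
  have hopen := isOpen_singleton_of_closed_of_minimal (f.fiber (f x₀)) c hcc' hmin
  refine ⟨f.fiberι (f x₀) c, ?_⟩
  rw [Groth.Agent.Lib.Helper29.FibHomSmooth.qfAt_iff f (f.fiberι (f x₀) c) (f x₀) (hfc c)]
  have h7 : (f.fiberHomeo (f x₀)).symm ⟨f.fiberι (f x₀) c, hfc c⟩ = c :=
    (f.fiberHomeo (f x₀)).symm_apply_apply c
  rw [h7]
  exact hopen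

end Groth.Agent.Lib.Helper13.AbVarDim
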