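import Mathlib

/-!
# Basic facts on sheaves of modules: `toSheaf` preserves colimits, restriction of scalars

* `preservesColimitsOfShape_of_reflective`: if `L ⊣ G` with invertible counit and `L ⋙ T` preserves
  colimits of shape `K`, then so does `T`.
* `toSheaf_preservesColimitsOfSize`: `SheafOfModules.toSheaf R` preserves (and reflects) colimits.
* `restrictScalars_preservesLimitsOfSize`, `restrictScalars_preservesColimitsOfSize`,
  `restrictScalars_reflectsIsomorphisms`.
-/

set_option autoImplicit false
universe w w' v₁ v₂ v₃ u₁ u₂ u₃ u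

open CategoryTheory CategoryTheory.Limits

namespace Groth.Agent.Lib.Helper13.ModSheafBasic

section General

variable {P : Type u₁} [Category.{v₁} P] {S : Type u₂} [Category.{v₂} S]
  {A : Type u₃} [Category.{v₃} A]

/-- If `L ⊣ G` with invertible counit (i.e. `G` fully faithful), `P` has colimits of shape `K` and
`L ⋙ T` preserves them, then `T` preserves colimits of shape `K`. -/
lemma preservesColimitsOfShape_of_reflective {L : P ⥤ S} {G : S ⥤ P} (adj : L ⊣ G)
    [IsIso adj.counit] (K : Type w) [Category.{w'} K] [HasColimitsOfShape K P]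
    (T : S ⥤ A) [PreservesColimitsOfShape K (L ⋙ T)] : PreservesColimitsOfShape K T := by
  constructor
  intro F
  let e : (F ⋙ G) ⋙ L ≅ F :=
    Functor.associator _ _ _ ≪≫ Functor.isoWhiskerLeft F (asIso adj.counit) ≪≫ F.rightUnitor
  have hL : PreservesColimitsOfSize.{w', w} L := adj.leftAdjoint_preservesColimits
  have : PreservesColimit ((F ⋙ G) ⋙ L) T :=
    preservesColimit_of_preserves_colimit_cocone
      (isColimitOfPreserves L (colimit.isColimit (F ⋙ G)))
      (isColimitOfPreserves (L ⋙ T) (colimit.isColimit (F ⋙ G)))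
  exact preservesColimit_of_iso_diagram T e

end General

section Modules

variable {C : Type u₁} [Category.{v₁} C] {J : GrothendieckTopology C}

/-- `SheafOfModules.toSheaf R` preserves colimits of shape `K`. -/
instance toSheaf_preservesColimitsOfShape (R : Sheaf J RingCat.{u})
    [HasWeakSheafify J AddCommGrpCat.{v₂}] [J.WEqualsLocallyBijective AddCommGrpCat.{v₂}]
    (K : Type w) [Category.{w'} K] [HasColimitsOfShape K (PresheafOfModules.{v₂} R.obj)]
    [PreservesColimitsOfShape K (PresheafOfModules.toPresheaf.{v₂} R.obj)] :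
    PreservesColimitsOfShape K (SheafOfModules.toSheaf.{v₂} R) := by
  have : PreservesColimitsOfShape K
      (PresheafOfModules.sheafification.{v₂} (𝟙 R.obj) ⋙ SheafOfModules.toSheaf.{v₂} R) :=
    preservesColimitsOfShape_of_natIso
      (PresheafOfModules.sheafificationCompToSheaf.{v₂} (𝟙 R.obj)).symm
  exact preservesColimitsOfShape_of_reflective
    (PresheafOfModules.sheafificationAdjunction.{v₂} (𝟙 R.obj)) K _

/-- `restrictScalars α ⋙ toSheaf R ≅ toSheaf R'`. -/
noncomputable def restrictScalarsCompToSheaf {R R' : Sheaf J RingCat.{u}} (α : R ⟶ R') :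
    SheafOfModules.restrictScalars.{v₂} α ⋙ SheafOfModules.toSheaf.{v₂} R ≅
      SheafOfModules.toSheaf.{v₂} R' :=
  NatIso.ofComponents (fun _ => Iso.refl _)

/-- `restrictScalars α ⋙ forget R ⋙ toPresheaf ≅ forget R' ⋙ toPresheaf`. -/
noncomputable def restrictScalarsCompForgetToPresheaf {R R' : Sheaf J RingCat.{u}} (α : R ⟶ R') :
    SheafOfModules.restrictScalars.{v₂} α ⋙ SheafOfModules.forget.{v₂} R ⋙
        PresheafOfModules.toPresheaf R.obj ≅
      SheafOfModules.forget.{v₂} R' ⋙ PresheafOfModules.toPresheaf R'.obj :=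
  NatIso.ofComponents (fun _ => Iso.refl _)

instance restrictScalars_reflectsIsomorphisms {R R' : Sheaf J RingCat.{u}} (α : R ⟶ R') :
    (SheafOfModules.restrictScalars.{v₂} α).ReflectsIsomorphisms := by
  have h1 : (SheafOfModules.forget.{v₂} R' ⋙
      PresheafOfModules.toPresheaf R'.obj).ReflectsIsomorphisms := inferInstance
  have h2 : (SheafOfModules.restrictScalars.{v₂} α ⋙ (SheafOfModules.forget.{v₂} R ⋙
        PresheafOfModules.toPresheaf R.obj)).ReflectsIsomorphisms :=
    ⟨fun f hf => by
      have := (NatIso.isIso_map_iff (restrictScalarsCompForgetToPresheaf α) f).1 hf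
      exact isIso_of_reflects_iso f (SheafOfModules.forget.{v₂} R' ⋙
        PresheafOfModules.toPresheaf R'.obj)⟩
  exact reflectsIsomorphisms_of_comp _ (SheafOfModules.forget.{v₂} R ⋙
        PresheafOfModules.toPresheaf R.obj)

end Modules

end Groth.Agent.Lib.Helper13.ModSheafBasic
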