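import Mathlib
import Groth.Prelude
import Groth.Agent.Lib.Helper13.ModSheafBasic
import Groth.Agent.Lib.Helper3.QCExact
import Groth.Agent.Lib.Helper3.QCOpen

/-!
# Serre's criterion, part 1: from vanishing of `H^1` of ideals to exactness of global sections

* `surjective_app_top_of_H1`: for a short exact sequence of `O_X`-modules with `H^1(X, S.X₁) = 0`,
  the map on global sections `Γ(S.X₂) → Γ(S.X₃)` is surjective.
* `subsingleton_H1_of_jointly_mono`: if `H^1` vanishes on quasi-coherent ideals, it vanishes on
  quasi-coherent modules admitting a jointly monomorphic finite family of maps to `O_X`.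
-/
set_option autoImplicit false
universe u
open CategoryTheory CategoryTheory.Limits Opposite TopologicalSpace AlgebraicGeometry
open Groth.Agent.Lib.Helper13 Groth.Agent.Lib.Helper3

noncomputable section

namespace Groth.Agent.Lib.Helper13.SerreCrit1

variable {X : Scheme.{u}}

/-- the forgetful functor to abelian sheaves. -/
abbrev TT (X : Scheme.{u}) :
    X.Modules ⥤ Sheaf (Opens.grothendieckTopology X) AddCommGrpCat.{u} :=
  SheafOfModules.toSheaf.{u} X.ringCatSheaf

instance (X : Scheme.{u}) : (TT X).Additive where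

theorem toSheaf_pfc {C : Type u} [SmallCategory C] {J : GrothendieckTopology C}
    (R : Sheaf J RingCat.{u}) : PreservesFiniteColimits (SheafOfModules.toSheaf.{u} R) :=
  ⟨fun _ _ _ => ModSheafBasic.toSheaf_preservesColimitsOfShape _ _⟩

theorem toSheaf_pfl {C : Type u} [SmallCategory C] {J : GrothendieckTopology C}
    (R : Sheaf J RingCat.{u}) : PreservesFiniteLimits (SheafOfModules.toSheaf.{u} R) :=
  inferInstance

instance (X : Scheme.{u}) : PreservesFiniteColimits (TT X) := toSheaf_pfc X.ringCatSheaf

instance (X : Scheme.{u}) : PreservesFiniteLimits (TT X) := toSheaf_pfl X.ringCatSheaf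

lemma shortExact_map_toSheaf (S : ShortComplex X.Modules) (hS : S.ShortExact) :
    (S.map (TT X)).ShortExact :=
  hS.map_of_exact (TT X)

lemma surjective_app_top_of_H1 (S : ShortComplex X.Modules) (hS : S.ShortExact)
    (h1 : Subsingleton (Coh.HH X S.X₁ 1)) : Function.Surjective (S.g.app ⊤) := by
  have hS' := shortExact_map_toSheaf S hS
  have hT : IsTerminal (⊤ : X.Opens) := isTerminalTop
  intro y
  let x₃ : Sheaf.H (Coh.toAb S.X₃) 0 := (Sheaf.H.equiv₀ (Coh.toAb S.X₃) hT).symm y
  have hx : x₃.comp hS'.extClass (zero_add 1) = 0 := @Subsingleton.elim _ h1 _ _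
  obtain ⟨x₂, hx₂⟩ := Abelian.Ext.covariant_sequence_exact₃ _ hS' x₃ (zero_add 1) hx
  refine ⟨Sheaf.H.equiv₀ (Coh.toAb S.X₂) hT x₂, ?_⟩
  have h2 := Sheaf.H.equiv₀_naturality hT
    ((TT X).map S.g) x₂
  have h3 : Sheaf.H.map ((TT X).map S.g) 0 x₂ = x₃ := hx₂
  rw [h3] at h2
  refine h2.trans ?_
  exact (Sheaf.H.equiv₀ (Coh.toAb S.X₃) hT).apply_symm_apply y

/-- the kernel–image short complex of a morphism. -/
def kerIm {A : Type*} [Category A] [Abelian A] {M N : A} (β : M ⟶ N) : ShortComplex A :=
  ShortComplex.mk (kernel.ι β) (Abelian.factorThruImage β) (by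
    rw [← cancel_mono (Abelian.image.ι β), Category.assoc, Abelian.image.fac, kernel.condition,
      zero_comp])

/-- the kernel–image short exact sequence of a morphism. -/
lemma shortExact_kerIm {A : Type*} [Category A] [Abelian A] {M N : A} (β : M ⟶ N) :
    (kerIm β).ShortExact := by
  have hmono : Mono (kerIm β).f := inferInstanceAs (Mono (kernel.ι β))
  have hepi : Epi (kerIm β).g := inferInstanceAs (Epi (Abelian.factorThruImage β))
  refine ShortComplex.ShortExact.mk' ?_ hmono hepi
  let S₁ := ShortComplex.mk (kernel.ι β) β (kernel.condition β)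
  let φ : kerIm β ⟶ S₁ :=
    { τ₁ := 𝟙 _
      τ₂ := 𝟙 _
      τ₃ := Abelian.image.ι β
      comm₁₂ := by simp [kerIm, S₁]
      comm₂₃ := by simp [kerIm, S₁] }
  haveI : Epi φ.τ₁ := inferInstanceAs (Epi (𝟙 _))
  haveI : IsIso φ.τ₂ := inferInstanceAs (IsIso (𝟙 _))
  haveI : Mono φ.τ₃ := inferInstanceAs (Mono (Abelian.image.ι β))
  exact (ShortComplex.exact_iff_of_epi_of_isIso_of_mono φ).2 (ShortComplex.exact_kernel β)

/-- `H^1` of the middle term of a short exact sequence vanishes if it does for the outer terms. -/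
lemma subsingleton_H1_middle (S : ShortComplex X.Modules) (hS : S.ShortExact) (n : ℕ)
    (h1 : Subsingleton (Coh.HH X S.X₁ n)) (h3 : Subsingleton (Coh.HH X S.X₃ n)) :
    Subsingleton (Coh.HH X S.X₂ n) := by
  have hS' := shortExact_map_toSheaf S hS
  refine subsingleton_of_forall_eq 0 fun x => ?_
  have hx : x.comp (Abelian.Ext.mk₀ (S.map (TT X)).g) (add_zero n) = 0 :=
    @Subsingleton.elim _ h3 _ _
  obtain ⟨x₁, hx₁⟩ := Abelian.Ext.covariant_sequence_exact₂ _ hS' x hx
  have hx0 : x₁ = 0 := @Subsingleton.elim _ h1 _ _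
  rw [← hx₁, hx0, Abelian.Ext.zero_comp]
  rfl

/-- if `H^1` vanishes on quasi-coherent ideals, it vanishes on quasi-coherent modules admitting a
jointly monomorphic finite family of maps to `O_X`. -/
theorem subsingleton_H1_of_jointly_mono
    (h : ∀ (I : X.Modules) (i : I ⟶ Coh.structureModule X), Mono i →
      I.IsQuasicoherent → Subsingleton (Coh.HH X I 1)) :
    ∀ (n : ℕ) (F : X.Modules) (g : Fin n → (F ⟶ Coh.structureModule X)), F.IsQuasicoherent →
      (∀ (T : X.Modules) (t : T ⟶ F), (∀ k, t ≫ g k = 0) → t = 0) →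
      Subsingleton (Coh.HH X F 1) := by
  intro n
  induction n with
  | zero =>
    intro F g hF hg
    have h0 : 𝟙 F = 0 := hg F (𝟙 F) (fun k => k.elim0)
    have hz : IsZero F := (IsZero.iff_id_eq_zero F).2 h0
    have hz' : IsZero (Coh.toAb F) := (TT X).map_isZero hz
    exact Sheaf.subsingleton_H_of_isZero hz' 1
  | succ n ih =>
    intro F g hF hg
    have := hF
    let β : F ⟶ Coh.structureModule X := g (Fin.last n)
    have hK : (kernel β : X.Modules).IsQuasicoherent := QCProps.isQuasicoherent_kernel β
    have hI : (Abelian.image β : X.Modules).IsQuasicoherent := by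
      have : (cokernel β : X.Modules).IsQuasicoherent := QCProps.isQuasicoherent_cokernel β
      exact QCProps.isQuasicoherent_kernel (cokernel.π β)
    have h1 : Subsingleton (Coh.HH X (kernel β) 1) := by
      refine ih (kernel β) (fun k => kernel.ι β ≫ g k.castSucc) hK ?_
      intro T t ht
      have h2 : t ≫ kernel.ι β = 0 := by
        refine hg T (t ≫ kernel.ι β) fun k => ?_
        refine Fin.lastCases ?_ (fun k' => ?_) k
        · rw [Category.assoc]
          exact (congrArg (t ≫ ·) (kernel.condition β)).trans comp_zero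
        · rw [Category.assoc]
          exact ht k'
      exact (cancel_mono (kernel.ι β)).1 (h2.trans zero_comp.symm)
    have h3 : Subsingleton (Coh.HH X (Abelian.image β) 1) :=
      h (Abelian.image β) (Abelian.image.ι β) inferInstance hI
    exact subsingleton_H1_middle (kerIm β) (shortExact_kerIm β) 1 h1 h3

end Groth.Agent.Lib.Helper13.SerreCrit1
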