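import Mathlib

/-!
# The right derived functors of a restricted Yoneda functor are the `Ext` presheaves

For a functor `L : D ⥤ A` into an abelian category with `Ext` groups and enough injectives, the
functor `homPre L : A ⥤ (Dᵒᵖ ⥤ Ab)`, `M ↦ Hom(L -, M)` has right derived functors
`F ↦ (U ↦ Ext^i(L U, F))` (`rightDerivedIso`).  The comparison is made through
`InjectiveResolution.extMk`.
-/
set_option autoImplicit false
universe w v u v' u'
open CategoryTheory CategoryTheory.Limits Opposite CategoryTheory.Abelian

noncomputable section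

namespace Groth.Agent.Lib.Helper13.ExtPresheaf

section General

variable {A : Type u} [Category.{v} A] [Abelian A] [HasExt.{w} A] {X Y : A}
  (R : InjectiveResolution Y)

lemma extMk_congr {n : ℕ} {f f' : X ⟶ R.cocomplex.X n} (h : f = f') (m : ℕ) (hm : n + 1 = m)
    (hf : f ≫ R.cocomplex.d n m = 0) (hf' : f' ≫ R.cocomplex.d n m = 0) :
    R.extMk f m hm hf = R.extMk f' m hm hf' := by
  subst h
  rfl

lemma extMk_zero_eq_zero_iff (f : X ⟶ R.cocomplex.X 0) (hf : f ≫ R.cocomplex.d 0 1 = 0) :
    R.extMk f 1 rfl hf = 0 ↔ f = 0 := by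
  simp only [← R.extEquivCohomologyClass.apply_eq_iff_eq,
    InjectiveResolution.extEquivCohomologyClass_extMk,
    InjectiveResolution.extEquivCohomologyClass_zero,
    CochainComplex.HomComplex.CohomologyClass.mk_eq_zero_iff]
  rw [CochainComplex.HomComplex.Cocycle.fromSingleMk_mem_coboundaries_iff _ _ _ _ _ (-1) (by lia)]
  constructor
  · rintro ⟨g, hg⟩
    have hz : IsZero (R.cochainComplex.X (-1)) :=
      CochainComplex.isZero_of_isStrictlyGE _ 0 _ (by lia)
    have hg0 : g = 0 := hz.eq_of_tgt _ _
    rw [hg0, zero_comp] at hg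
    have h2 : f ≫ (R.cochainComplexXIso 0 0 rfl).inv = 0 := hg.symm
    have h3 := congrArg (fun t => t ≫ (R.cochainComplexXIso 0 0 rfl).hom) h2
    simpa using h3
  · rintro rfl
    exact ⟨0, by simp⟩

lemma extMk_zero_eq_zero_iff' (f : X ⟶ R.cocomplex.X 0) (m : ℕ) (hm : 0 + 1 = m)
    (hf : f ≫ R.cocomplex.d 0 m = 0) :
    R.extMk f m hm hf = 0 ↔ f = 0 := by
  subst hm
  exact extMk_zero_eq_zero_iff R f hf

omit [HasExt.{w} A] in
/-- A short complex in a functor category is exact if it is so pointwise. -/
lemma exact_of_evaluation {K : Type*} [Category K] (T : ShortComplex (K ⥤ A))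
    (h : ∀ k : K, (T.map ((evaluation K A).obj k)).Exact) : T.Exact := by
  rw [ShortComplex.exact_iff_isZero_homology, Functor.isZero_iff]
  intro k
  exact IsZero.of_iso ((ShortComplex.exact_iff_isZero_homology _).1 (h k))
    (T.mapHomologyIso ((evaluation K A).obj k)).symm

end General

variable {A : Type u} [Category.{v} A] [Abelian A] [HasExt.{v} A]
  {D : Type u'} [Category.{v'} D] (L : D ⥤ A)

/-- The restricted Yoneda functor `M ↦ Hom(L -, M)`. -/
def homPre : A ⥤ (Dᵒᵖ ⥤ AddCommGrpCat.{v}) where
  obj M :=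
    { obj := fun U => AddCommGrpCat.of (L.obj U.unop ⟶ M)
      map := fun {U V} φ => AddCommGrpCat.ofHom
        { toFun := fun g => L.map φ.unop ≫ g
          map_zero' := comp_zero
          map_add' := fun _ _ => Preadditive.comp_add _ _ _ _ _ _ }
      map_id := fun U => by
        ext g
        change L.map (𝟙 U.unop) ≫ g = g
        rw [L.map_id, Category.id_comp]
      map_comp := fun {U V W} φ ψ => by
        ext g
        change L.map (ψ.unop ≫ φ.unop) ≫ g = L.map ψ.unop ≫ L.map φ.unop ≫ g
        rw [L.map_comp, Category.assoc] }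
  map {M N} f :=
    { app := fun U => AddCommGrpCat.ofHom
        { toFun := fun g => g ≫ f
          map_zero' := zero_comp
          map_add' := fun _ _ => Preadditive.add_comp _ _ _ _ _ _ }
      naturality := fun {U V} φ => by
        ext g
        change (L.map φ.unop ≫ g) ≫ f = L.map φ.unop ≫ g ≫ f
        rw [Category.assoc] }
  map_id M := by
    ext U g
    change g ≫ 𝟙 M = g
    rw [Category.comp_id]
  map_comp {M N K} f f' := by
    ext U g
    change g ≫ f ≫ f' = (g ≫ f) ≫ f'
    rw [Category.assoc]

instance : (homPre L).Additive where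
  map_add {M N f f'} := by
    ext U g
    change g ≫ (f + f') = g ≫ f + g ≫ f'
    rw [Preadditive.comp_add]

/-- The `Ext` presheaf `U ↦ Ext^i(L U, F)`. -/
abbrev extPre (F : A) (i : ℕ) : Dᵒᵖ ⥤ AddCommGrpCat.{v} :=
  L.op ⋙ (extFunctor i).flip.obj F

variable {F : A} (I : InjectiveResolution F)

/-- the complex of presheaves `Hom(L -, I^•)`. -/
abbrev preCx : CochainComplex (Dᵒᵖ ⥤ AddCommGrpCat.{v}) ℕ :=
  ((homPre L).mapHomologicalComplex (ComplexShape.up ℕ)).obj I.cocomplex

variable (i : ℕ) (U : D)

/-- the morphism underlying a cycle. -/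
def zhom (z : ((preCx L I).cycles i).obj (op U)) : L.obj U ⟶ I.cocomplex.X i :=
  (((preCx L I).iCycles i).app (op U)).hom z

lemma zhom_injective : Function.Injective (zhom L I i U) := by
  have h1 : Mono (((preCx L I).iCycles i).app (op U)) := inferInstance
  exact (AddCommGrpCat.mono_iff_injective _).1 h1

lemma zhom_zero : zhom L I i U 0 = 0 := by
  unfold zhom
  exact map_zero _

lemma zhom_add (z w : ((preCx L I).cycles i).obj (op U)) :
    zhom L I i U (z + w) = zhom L I i U z + zhom L I i U w :=
  map_add _ z w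

lemma zhom_d (j : ℕ) (z : ((preCx L I).cycles i).obj (op U)) :
    zhom L I i U z ≫ I.cocomplex.d i j = 0 := by
  have h := (preCx L I).iCycles_d i j
  exact ConcreteCategory.congr_hom (NatTrans.congr_app h (op U)) z

/-- the class of a cycle. -/
def kfun (z : ((preCx L I).cycles i).obj (op U)) : Ext (L.obj U) F i :=
  I.extMk (zhom L I i U z) (i + 1) rfl (zhom_d L I i U (i + 1) z)

lemma kfun_add (z w : ((preCx L I).cycles i).obj (op U)) :
    kfun L I i U (z + w) = kfun L I i U z + kfun L I i U w := by
  unfold kfun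
  rw [InjectiveResolution.add_extMk]
  exact extMk_congr I (zhom_add L I i U z w) _ _ _ _

lemma zhom_map {U V : D} (f : V ⟶ U) (z : ((preCx L I).cycles i).obj (op U)) :
    zhom L I i V ((((preCx L I).cycles i).map f.op).hom z) = L.map f ≫ zhom L I i U z :=
  ConcreteCategory.congr_hom (((preCx L I).iCycles i).naturality f.op) z

lemma kfun_map {U V : D} (f : V ⟶ U) (z : ((preCx L I).cycles i).obj (op U)) :
    kfun L I i V ((((preCx L I).cycles i).map f.op).hom z) =
      (Ext.mk₀ (L.map f)).comp (kfun L I i U z) (zero_add i) := by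
  unfold kfun
  rw [InjectiveResolution.mk₀_comp_extMk]
  exact extMk_congr I (zhom_map L I i f z) _ _ _ _

/-- the class map as a morphism of presheaves. -/
def k : (preCx L I).cycles i ⟶ extPre L F i where
  app U := AddCommGrpCat.ofHom (AddMonoidHom.mk' (kfun L I i U.unop) (kfun_add L I i U.unop))
  naturality U V φ := by
    ext z
    exact kfun_map L I i φ.unop z

lemma zhom_toCycles (a : ℕ) (b : L.obj U ⟶ I.cocomplex.X a) :
    zhom L I i U ((((preCx L I).toCycles a i).app (op U)).hom b) = b ≫ I.cocomplex.d a i :=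
  ConcreteCategory.congr_hom (NatTrans.congr_app ((preCx L I).toCycles_i a i) (op U)) b

lemma kfun_toCycles (a : ℕ) (b : L.obj U ⟶ I.cocomplex.X a) :
    kfun L I i U ((((preCx L I).toCycles a i).app (op U)).hom b) = 0 := by
  unfold kfun
  by_cases h : a + 1 = i
  · subst h
    rw [InjectiveResolution.extMk_eq_zero_iff _ _ _ _ _ a rfl]
    exact ⟨b, (zhom_toCycles L I (a + 1) U a b).symm⟩
  · have h0 : zhom L I i U ((((preCx L I).toCycles a i).app (op U)).hom b) = 0 := by
      rw [zhom_toCycles, I.cocomplex.shape a i h, comp_zero]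
    rw [extMk_congr I h0 (i + 1) rfl _ (by simp), InjectiveResolution.extMk_zero]

lemma toCycles_k (a : ℕ) : (preCx L I).toCycles a i ≫ k L I i = 0 := by
  ext V b
  induction V using Opposite.rec with
  | _ V => exact kfun_toCycles L I i V a b

/-- the short complex `P^a ⟶ Z^i ⟶ Ext^i(L -, F)`. -/
def T (a : ℕ) : ShortComplex (Dᵒᵖ ⥤ AddCommGrpCat.{v}) :=
  ShortComplex.mk ((preCx L I).toCycles a i) (k L I i) (toCycles_k L I i a)

lemma exists_toCycles_eq (a : ℕ) (ha : (ComplexShape.up ℕ).prev i = a)
    (z : ((preCx L I).cycles i).obj (op U)) (hz : kfun L I i U z = 0) :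
    ∃ b : L.obj U ⟶ I.cocomplex.X a, (((preCx L I).toCycles a i).app (op U)).hom b = z := by
  cases i with
  | zero =>
    refine ⟨0, ?_⟩
    unfold kfun at hz
    rw [extMk_zero_eq_zero_iff] at hz
    apply zhom_injective
    rw [zhom_toCycles, hz, zero_comp]
  | succ j =>
    have haj : a = j := by
      rw [← ha]
      simp
    subst haj
    unfold kfun at hz
    rw [InjectiveResolution.extMk_eq_zero_iff _ _ _ _ _ a rfl] at hz
    obtain ⟨g, hg⟩ := hz
    refine ⟨g, ?_⟩
    apply zhom_injective
    rw [zhom_toCycles, hg]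

lemma T_exact (a : ℕ) (ha : (ComplexShape.up ℕ).prev i = a) : (T L I i a).Exact := by
  apply exact_of_evaluation
  intro V
  induction V using Opposite.rec with
  | _ V =>
    rw [ShortComplex.ab_exact_iff]
    intro z hz
    exact exists_toCycles_eq L I i V a ha z hz

lemma kfun_surjective : Function.Surjective (kfun L I i U) := by
  intro ξ
  obtain ⟨g, hg, hξ⟩ := I.extMk_surjective ξ (i + 1) rfl
  -- the representable presheaf-like object: use the presheaf `Hom(L -, L U)`
  let g' : (homPre L).obj (L.obj U) ⟶ (preCx L I).X i := (homPre L).map g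
  have hg' : g' ≫ (preCx L I).d i (i + 1) = 0 := by
    change (homPre L).map g ≫ (homPre L).map (I.cocomplex.d i (i + 1)) = 0
    rw [← Functor.map_comp, hg, Functor.map_zero]
  let l := (preCx L I).liftCycles g' (i + 1) (by simp) hg'
  refine ⟨(l.app (op U)).hom (𝟙 (L.obj U)), ?_⟩
  rw [← hξ]
  unfold kfun
  apply extMk_congr
  have h := ConcreteCategory.congr_hom
    (NatTrans.congr_app ((preCx L I).liftCycles_i g' (i + 1) (by simp) hg') (op U)) (𝟙 (L.obj U))
  refine h.trans ?_
  change 𝟙 (L.obj U) ≫ g = g
  rw [Category.id_comp]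

instance epi_k : Epi (k L I i) := by
  have : ∀ V : Dᵒᵖ, Epi ((k L I i).app V) := by
    intro V
    induction V using Opposite.rec with
    | _ V =>
      rw [AddCommGrpCat.epi_iff_surjective]
      exact kfun_surjective L I i V
  exact NatTrans.epi_of_epi_app _

/-- The presheaf cohomology of `Hom(L -, I^•)` is the `Ext` presheaf. -/
def homologyIso : (preCx L I).homology i ≅ extPre L F i :=
  have : Epi (T L I i ((ComplexShape.up ℕ).prev i)).g := epi_k L I i
  IsColimit.coconePointUniqueUpToIso
    ((preCx L I).homologyIsCokernel ((ComplexShape.up ℕ).prev i) i rfl)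
    ((T_exact L I i _ rfl).gIsCokernel)

/-- The right derived functors of the restricted Yoneda functor are the `Ext` presheaves. -/
def rightDerivedIso [HasInjectiveResolutions A] (F : A) (i : ℕ) :
    ((homPre L).rightDerived i).obj F ≅ extPre L F i :=
  (injectiveResolution F).isoRightDerivedObj (homPre L) i ≪≫
    homologyIso L (injectiveResolution F) i

end Groth.Agent.Lib.Helper13.ExtPresheaf
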