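import Mathlib

/-!
# Helper13: left Kan extension along a "discrete fibration up to isomorphism" is exact

Let `F : C ⥤ D` be a faithful functor such that for every `W : D` there is a set `α` of
objects `V φ : C` with isomorphisms `F (V φ) ≅ W` through which every map `W ⟶ F V'` factors
uniquely (`LocalData`).  (Examples: `Over.forget`, `Over.map`, the functor of small etale sites
`V ↦ (V → U → X)` for an etale `U → X`.)  Then the colimit computing the left Kan extension
along `F.op` at `W` is a coproduct indexed by `α`; so if coproducts of these sizes are exact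
in `E`, `F.op.lan` preserves finite limits and so does the pullback of sheaves.
-/

set_option autoImplicit false
open CategoryTheory CategoryTheory.Limits Opposite

namespace Groth.Agent.Lib.Helper13.DiscFibLan

universe v₁ v₂ v₃ u₁ u₂ u₃ w

variable {C : Type u₁} [Category.{v₁} C] {D : Type u₂} [Category.{v₂} D]

/-- Local decomposition data of `F` at `W`. -/
structure LocalData (F : C ⥤ D) (W : D) where
  α : Type w
  V : α → C
  e : ∀ φ, F.obj (V φ) ≅ W
  exists_lift : ∀ {V' : C} (g : W ⟶ F.obj V'),
    ∃ (φ : α) (m : V φ ⟶ V'), g = (e φ).inv ≫ F.map m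
  unique : ∀ {V' : C} (φ φ' : α) (m : V φ ⟶ V') (m' : V φ' ⟶ V'),
    (e φ).inv ≫ F.map m = (e φ').inv ≫ F.map m' → φ = φ'

namespace LocalData

variable {F : C ⥤ D} {W : D} (L : LocalData.{v₁, v₂, u₁, u₂, w} F W)

/-- The distinguished objects of the costructured arrow category. -/
def t (φ : L.α) : CostructuredArrow F.op (op W) :=
  CostructuredArrow.mk (Y := op (L.V φ)) (L.e φ).inv.op

/-- The discrete family of distinguished objects. -/
def ι : Discrete L.α ⥤ CostructuredArrow F.op (op W) := Discrete.functor L.t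

lemma hom_eq (k : CostructuredArrow F.op (op W)) (φ : L.α) (m : k ⟶ L.t φ) :
    k.hom.unop = (L.e φ).inv ≫ F.map m.left.unop := by
  have h := congrArg Quiver.Hom.unop (CostructuredArrow.w m)
  simpa [t] using h.symm

instance final_ι [F.Faithful] : L.ι.Final where
  out k := by
    obtain ⟨φ₀, m₀, h₀⟩ := L.exists_lift k.hom.unop
    have : Nonempty (StructuredArrow k L.ι) :=
      ⟨StructuredArrow.mk (Y := (⟨φ₀⟩ : Discrete L.α)) (show k ⟶ L.ι.obj ⟨φ₀⟩ from
        CostructuredArrow.homMk (show k.left ⟶ (L.t φ₀).left from m₀.op) (by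
          apply Quiver.Hom.unop_inj
          exact h₀.symm))⟩
    apply zigzag_isConnected
    intro a b
    obtain ⟨⟨⟨⟩⟩, ⟨φa⟩, ha⟩ := a
    obtain ⟨⟨⟨⟩⟩, ⟨φb⟩, hb⟩ := b
    have e1 := L.hom_eq k φa ha
    have e2 := L.hom_eq k φb hb
    obtain rfl : φa = φb := L.unique _ _ _ _ (e1.symm.trans e2)
    have : ha = hb := by
      apply CostructuredArrow.hom_ext
      apply Quiver.Hom.unop_inj
      apply F.map_injective
      exact (cancel_epi (L.e φa).inv).1 (e1.symm.trans e2)
    subst this
    exact Relation.ReflTransGen.refl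

/-- Colimits over the costructured arrow category are exact as soon as `α`-indexed coproducts are. -/
theorem hasExactColimitsOfShape [F.Faithful] (E : Type u₃) [Category.{v₃} E] [HasFiniteLimits E]
    [HasColimitsOfShape (CostructuredArrow F.op (op W)) E]
    [HasColimitsOfShape (Discrete L.α) E] [HasExactColimitsOfShape (Discrete L.α) E] :
    HasExactColimitsOfShape (CostructuredArrow F.op (op W)) E :=
  hasExactColimitsOfShape_of_final E L.ι

end LocalData

section Compatible

universe w'

/-- A faithful functor with local decomposition data is compatible-preserving. -/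
theorem compatiblePreserving (F : C ⥤ D) [F.Faithful] (K : GrothendieckTopology D)
    (L : ∀ W : D, LocalData.{v₁, v₂, u₁, u₂, w} F W) : CompatiblePreserving.{w'} K F := by
  constructor
  intro ℱ Z T x hx Y₁ Y₂ X f₁ f₂ g₁ g₂ hg₁ hg₂ he
  obtain ⟨φ₁, m₁, h₁⟩ := (L X).exists_lift f₁
  obtain ⟨φ₂, m₂, h₂⟩ := (L X).exists_lift f₂
  have he' : ((L X).e φ₁).inv ≫ F.map (m₁ ≫ g₁) = ((L X).e φ₂).inv ≫ F.map (m₂ ≫ g₂) := by
    rw [F.map_comp, F.map_comp, ← Category.assoc, ← h₁, ← Category.assoc, ← h₂]
    exact he
  have hφ : φ₁ = φ₂ := (L X).unique φ₁ φ₂ (m₁ ≫ g₁) (m₂ ≫ g₂) he'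
  subst hφ
  have hm : m₁ ≫ g₁ = m₂ ≫ g₂ := F.map_injective ((cancel_epi ((L X).e φ₁).inv).1 he')
  have h3 := hx m₁ m₂ hg₁ hg₂ hm
  rw [h₁, h₂, op_comp, op_comp, Functor.map_comp_apply, Functor.map_comp_apply]
  exact congrArg _ h3

end Compatible

section Lan

variable (E : Type u₃) [Category.{v₃} E]

set_option backward.defeqAttrib.useBackward true in
set_option backward.isDefEq.respectTransparency false in
/-- General-universe version of Mathlib's `lanEvaluationIsoColim`. -/
noncomputable def lanEvaluationIsoColim' (F : C ⥤ D) (X : D)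
    [∀ X : D, HasColimitsOfShape (CostructuredArrow F X) E] :
    F.lan ⋙ (evaluation D E).obj X ≅
      (Functor.whiskeringLeft _ _ E).obj (CostructuredArrow.proj F X) ⋙ colim :=
  NatIso.ofComponents (fun G =>
    IsColimit.coconePointUniqueUpToIso
    (Functor.isPointwiseLeftKanExtensionLeftKanExtensionUnit F G X)
    (colimit.isColimit _)) (fun {G₁ G₂} φ => by
      apply (Functor.isPointwiseLeftKanExtensionLeftKanExtensionUnit F G₁ X).hom_ext
      intro T
      have h₁ := fun (G : C ⥤ E) => IsColimit.comp_coconePointUniqueUpToIso_hom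
        (Functor.isPointwiseLeftKanExtensionLeftKanExtensionUnit F G X) (colimit.isColimit _) T
      have h₂ := congr_app (F.lanUnit.naturality φ) T.left
      dsimp at h₁ h₂ ⊢
      simp only [Category.assoc] at h₁ ⊢
      simp only [Functor.lan, Functor.lanUnit] at h₂ ⊢
      rw [reassoc_of% h₁, NatTrans.naturality_assoc, ← reassoc_of% h₂, h₁,
        ι_colimMap, Functor.whiskerLeft_app]
      rfl)

/-- Left Kan extension of presheaves is left exact when the colimits computing it are exact. -/
theorem lan_preservesFiniteLimits_of_exact (F : C ⥤ D) [HasFiniteLimits E]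
    [∀ X : Dᵒᵖ, HasColimitsOfShape (CostructuredArrow F.op X) E]
    (hE : ∀ X : Dᵒᵖ, PreservesFiniteLimits (colim : (CostructuredArrow F.op X ⥤ E) ⥤ E)) :
    PreservesFiniteLimits (F.op.lan : (Cᵒᵖ ⥤ E) ⥤ Dᵒᵖ ⥤ E) := by
  apply preservesFiniteLimits_of_preservesFiniteLimitsOfSize.{0}
  intro J _ _
  apply preservesLimitsOfShape_of_evaluation (F.op.lan : (Cᵒᵖ ⥤ E) ⥤ Dᵒᵖ ⥤ E) J
  intro K
  have := hE K
  exact preservesLimitsOfShape_of_natIso (lanEvaluationIsoColim' E F.op K).symm

/-- Left Kan extension along a functor with local decomposition data is left exact. -/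
theorem lan_preservesFiniteLimits (F : C ⥤ D) [F.Faithful] [HasFiniteLimits E]
    [∀ X : Dᵒᵖ, HasColimitsOfShape (CostructuredArrow F.op X) E]
    (L : ∀ W : D, LocalData.{v₁, v₂, u₁, u₂, w} F W)
    [∀ W, HasColimitsOfShape (Discrete (L W).α) E]
    [∀ W, HasExactColimitsOfShape (Discrete (L W).α) E] :
    PreservesFiniteLimits (F.op.lan : (Cᵒᵖ ⥤ E) ⥤ Dᵒᵖ ⥤ E) :=
  lan_preservesFiniteLimits_of_exact E F (fun X =>
    ((L X.unop).hasExactColimitsOfShape E).preservesFiniteLimits)

/-- The pullback of sheaves along a continuous functor whose presheaf-level left Kan extension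
is left exact is left exact. -/
theorem sheafPullback_preservesFiniteLimits (F : C ⥤ D) (J : GrothendieckTopology C)
    (K : GrothendieckTopology D) [F.IsContinuous J K]
    [∀ (P : Cᵒᵖ ⥤ E), F.op.HasLeftKanExtension P] [HasSheafify K E] [HasSheafify J E]
    [PreservesFiniteLimits (F.op.lan : (Cᵒᵖ ⥤ E) ⥤ Dᵒᵖ ⥤ E)] :
    PreservesFiniteLimits (F.sheafPullback E J K) := by
  have h2 : PreservesFiniteLimits (Functor.sheafPullbackConstruction.sheafPullback F E J K) := by
    have : PreservesFiniteLimits (F.op.lan ⋙ presheafToSheaf K E) :=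
      comp_preservesFiniteLimits _ _
    exact comp_preservesFiniteLimits _ _
  exact preservesFiniteLimits_of_natIso
    (Functor.sheafPullbackConstruction.sheafPullbackIso F E J K).symm

end Lan

section OverMap

variable {𝒞 : Type u₁} [Category.{v₁} 𝒞] {X Y : 𝒞} (f : X ⟶ Y)

/-- Local decomposition data for `Over.map f : Over X ⥤ Over Y` at `W`: the `Y`-morphisms `W → X`. -/
def localDataOverMap (W : Over Y) : LocalData.{v₁, v₁, max u₁ v₁, max u₁ v₁, v₁} (Over.map f) W where
  α := {φ : W.left ⟶ X // φ ≫ f = W.hom}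
  V φ := Over.mk φ.1
  e φ := Over.isoMk (Iso.refl _) (by simpa using φ.2.symm)
  exists_lift {V'} g := by
    refine ⟨⟨g.left ≫ V'.hom, by simpa using Over.w g⟩, Over.homMk g.left rfl, ?_⟩
    ext
    simp
  unique {V'} φ φ' m m' h := by
    have h1 : m.left = m'.left := by
      have h2 := congrArg (fun k => k.left) h
      simpa using h2
    apply Subtype.ext
    have e1 : m.left ≫ V'.hom = φ.1 := Over.w m
    have e2 : m'.left ≫ V'.hom = φ'.1 := Over.w m'
    exact e1.symm.trans ((congrArg (· ≫ V'.hom) h1).trans e2)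

instance faithful_overMap : (Over.map f).Faithful where
  map_injective {_ _} a b h := by
    ext
    exact congrArg (fun k => k.left) h

end OverMap

end Groth.Agent.Lib.Helper13.DiscFibLan
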