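import Mathlib

/-!
# Helper13: `Ext` and adjunctions

For an adjunction `L ⊣ R` between abelian categories with `R` exact and preserving injectives
(e.g. `L` exact) and enough injectives in the source of `R`:
`Ext^n (L X) Y ≃+ Ext^n X (R Y)` (`extAdjEquiv`).
Also `extIsoLeft`, `extIsoRight`: `Ext` of isomorphic objects.
-/

set_option autoImplicit false
open CategoryTheory CategoryTheory.Limits CategoryTheory.Abelian

namespace Groth.Agent.Lib.Helper13.ExtAdj

universe w w' v v' u u'

section Iso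

variable {C : Type u} [Category.{v} C] [Abelian C] [HasExt.{w} C]

/-- `Ext` only depends on the isomorphism class of the first variable. -/
noncomputable def extIsoLeft {X X' : C} (e : X ≅ X') (Y : C) (n : ℕ) :
    Ext.{w} X' Y n ≃+ Ext.{w} X Y n where
  toFun α := (Ext.mk₀ e.hom).comp α (zero_add n)
  invFun α := (Ext.mk₀ e.inv).comp α (zero_add n)
  left_inv α := by
    dsimp only
    rw [Ext.mk₀_comp_mk₀_assoc, e.inv_hom_id, Ext.mk₀_id_comp]
  right_inv α := by
    dsimp only
    rw [Ext.mk₀_comp_mk₀_assoc, e.hom_inv_id, Ext.mk₀_id_comp]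
  map_add' α β := Ext.comp_add _ _ _ _

/-- `Ext` only depends on the isomorphism class of the second variable. -/
noncomputable def extIsoRight (X : C) {Y Y' : C} (e : Y ≅ Y') (n : ℕ) :
    Ext.{w} X Y n ≃+ Ext.{w} X Y' n where
  toFun α := α.comp (Ext.mk₀ e.hom) (add_zero n)
  invFun α := α.comp (Ext.mk₀ e.inv) (add_zero n)
  left_inv α := by
    dsimp only
    rw [Ext.comp_assoc_of_third_deg_zero, Ext.mk₀_comp_mk₀, e.hom_inv_id, Ext.comp_mk₀_id]
  right_inv α := by
    dsimp only
    rw [Ext.comp_assoc_of_third_deg_zero, Ext.mk₀_comp_mk₀, e.inv_hom_id, Ext.comp_mk₀_id]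
  map_add' α β := Ext.add_comp _ _ _ _

end Iso

variable {C : Type u} [Category.{v} C] [Abelian C] [HasExt.{w} C]
  {D : Type u'} [Category.{v'} D] [Abelian D] [HasExt.{w'} D]
  {L : D ⥤ C} {R : C ⥤ D} (adj : L ⊣ R) [R.Additive] [PreservesFiniteLimits R]
  [PreservesFiniteColimits R]

/-- The comparison map `Ext^n (L X) Y → Ext^n X (R Y)`: apply `R` and precompose with the unit. -/
noncomputable def extAdjMap (X : D) (Y : C) (n : ℕ) :
    Ext.{w} (L.obj X) Y n →+ Ext.{w'} X (R.obj Y) n :=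
  ((Ext.mk₀ (adj.unit.app X : X ⟶ R.obj (L.obj X))).precomp (R.obj Y) (zero_add n)).comp
    (R.mapExtAddHom (L.obj X) Y n)

lemma extAdjMap_apply (X : D) (Y : C) (n : ℕ) (e : Ext.{w} (L.obj X) Y n) :
    extAdjMap adj X Y n e =
      (Ext.mk₀ (adj.unit.app X : X ⟶ R.obj (L.obj X))).comp (e.mapExactFunctor R) (zero_add n) :=
  rfl

lemma extAdjMap_comp (X : D) {Y Y' : C} {n m p : ℕ} (e : Ext.{w} (L.obj X) Y n)
    (β : Ext.{w} Y Y' m) (h : n + m = p) :
    extAdjMap adj X Y' p (e.comp β h) = (extAdjMap adj X Y n e).comp (β.mapExactFunctor R) h := by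
  rw [extAdjMap_apply, extAdjMap_apply, Ext.mapExactFunctor_comp]
  exact (Ext.comp_assoc _ _ _ (zero_add n) h (by omega)).symm

lemma extAdjMap_mk₀ (X : D) (Y : C) (g : L.obj X ⟶ Y) :
    extAdjMap adj X Y 0 (Ext.mk₀ g) = Ext.mk₀ (adj.homEquiv X Y g) := by
  rw [extAdjMap_apply, Ext.mapExactFunctor_mk₀, Ext.mk₀_comp_mk₀, Adjunction.homEquiv_unit]

lemma extAdjMap_bijective_zero (X : D) (Y : C) : Function.Bijective (extAdjMap adj X Y 0) := by
  constructor
  · intro e₁ e₂ h
    obtain ⟨g₁, rfl⟩ := (Ext.mk₀_bijective _ _).2 e₁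
    obtain ⟨g₂, rfl⟩ := (Ext.mk₀_bijective _ _).2 e₂
    rw [extAdjMap_mk₀, extAdjMap_mk₀] at h
    rw [(adj.homEquiv X Y).injective ((Ext.mk₀_bijective _ _).1 h)]
  · intro y
    obtain ⟨g, rfl⟩ := (Ext.mk₀_bijective _ _).2 y
    exact ⟨Ext.mk₀ ((adj.homEquiv X Y).symm g), by rw [extAdjMap_mk₀, Equiv.apply_symm_apply]⟩

lemma extAdjMap_bijective_succ (hR : ∀ I : C, Injective I → Injective (R.obj I)) (X : D) (n : ℕ)
    {S : ShortComplex C} (hS : S.ShortExact) [Injective S.X₂]
    (h₂ : Function.Bijective (extAdjMap adj X S.X₂ n))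
    (h₃ : Function.Bijective (extAdjMap adj X S.X₃ n)) :
    Function.Bijective (extAdjMap adj X S.X₁ (n + 1)) := by
  have hS' : (S.map R).ShortExact := hS.map_of_exact R
  have : Injective (S.map R).X₂ := hR _ inferInstance
  have hδ : ∀ z : Ext.{w} (L.obj X) S.X₃ n,
      extAdjMap adj X S.X₁ (n + 1) (z.comp hS.extClass rfl) =
        (extAdjMap adj X S.X₃ n z).comp hS'.extClass rfl := by
    intro z
    rw [extAdjMap_comp, Ext.mapExactFunctor_extClass]
    rfl
  have hg : ∀ z : Ext.{w} (L.obj X) S.X₂ n,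
      extAdjMap adj X S.X₃ n (z.comp (Ext.mk₀ S.g) (add_zero n)) =
        (extAdjMap adj X S.X₂ n z).comp (Ext.mk₀ (S.map R).g) (add_zero n) := by
    intro z
    rw [extAdjMap_comp, Ext.mapExactFunctor_mk₀]
    rfl
  constructor
  · rw [injective_iff_map_eq_zero]
    intro e he
    obtain ⟨z, rfl⟩ := Ext.covariant_sequence_exact₁ _ hS e (Ext.eq_zero_of_injective _) rfl
    rw [hδ] at he
    obtain ⟨y, hy⟩ := Ext.covariant_sequence_exact₃ _ hS' (extAdjMap adj X S.X₃ n z) rfl he
    obtain ⟨y', rfl⟩ := h₂.2 y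
    rw [← h₃.1 ((hg y').trans hy), Ext.comp_assoc_of_second_deg_zero, hS.comp_extClass,
      Ext.comp_zero]
  · intro y
    obtain ⟨z, rfl⟩ := Ext.covariant_sequence_exact₁ _ hS' y (Ext.eq_zero_of_injective _) rfl
    obtain ⟨z', rfl⟩ := h₃.2 z
    exact ⟨z'.comp hS.extClass rfl, hδ z'⟩

theorem extAdjMap_bijective [EnoughInjectives C]
    (hR : ∀ I : C, Injective I → Injective (R.obj I)) (X : D) :
    ∀ (n : ℕ) (Y : C), Function.Bijective (extAdjMap adj X Y n) := by
  intro n
  induction n with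
  | zero => exact fun Y => extAdjMap_bijective_zero adj X Y
  | succ n ih =>
    intro Y
    let S : ShortComplex C := ShortComplex.mk (Injective.ι Y) (cokernel.π (Injective.ι Y))
      (cokernel.condition _)
    have hS : S.ShortExact :=
      { exact := ShortComplex.exact_cokernel (Injective.ι Y)
        mono_f := inferInstanceAs (Mono (Injective.ι Y))
        epi_g := inferInstanceAs (Epi (cokernel.π (Injective.ι Y))) }
    have : Injective S.X₂ := inferInstanceAs (Injective (Injective.under Y))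
    exact extAdjMap_bijective_succ adj hR X n hS (ih S.X₂) (ih S.X₃)

/-- `Ext^n (L X) Y ≃+ Ext^n X (R Y)` for an adjunction `L ⊣ R` with `R` exact and preserving
injectives. -/
noncomputable def extAdjEquiv [EnoughInjectives C]
    (hR : ∀ I : C, Injective I → Injective (R.obj I)) (X : D) (Y : C) (n : ℕ) :
    Ext.{w} (L.obj X) Y n ≃+ Ext.{w'} X (R.obj Y) n :=
  AddEquiv.ofBijective (extAdjMap adj X Y n) (extAdjMap_bijective adj hR X n Y)

/-- Variant: `L` preserves monomorphisms, so `R` preserves injectives. -/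
noncomputable def extAdjEquiv' [EnoughInjectives C] [L.PreservesMonomorphisms]
    (X : D) (Y : C) (n : ℕ) :
    Ext.{w} (L.obj X) Y n ≃+ Ext.{w'} X (R.obj Y) n :=
  extAdjEquiv adj (fun I _ => Injective.injective_of_adjoint adj I) X Y n

end Groth.Agent.Lib.Helper13.ExtAdj
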