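import Mathlib
import Groth.Prelude.Def_CohCx
import Groth.Agent.Lib.Helper13.DiscFibLan
import Groth.Agent.Lib.Helper13.ExtAdj

/-!
# Localisation `C/X → C` of a small site: `j_!` is exact on abelian sheaves, cohomology of sheaves
of sets over `C/X`

* `localDataForget`, `shriekAb_preservesFiniteLimits`: `j_!` on abelian sheaves is exact.
* `restrAb` is exact; `shriekFreeIso : j_! ℤ[K'] ≅ ℤ[j_! K']`.
* `HKRestrEquiv : H^p(K', F|_X) ≃+ H^p(j_! K', F)`; `isTotallyAcyclic_restr`.
-/

set_option autoImplicit false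
universe u
open CategoryTheory CategoryTheory.Limits Opposite
open Groth.Agent.Lib.Helper13.DiscFibLan Groth.Agent.Lib.Helper13.ExtAdj

noncomputable section

namespace Groth.Agent.Lib.Helper13.OverRestrAcyclic

variable {C : Type u} [SmallCategory C] (J : GrothendieckTopology C) (X : C)

/-- Local decomposition data for `Over.forget X` at `W`: the morphisms `W ⟶ X`. -/
def localDataForget (W : C) : LocalData.{u, u, u, u, u} (Over.forget X) W where
  α := W ⟶ X
  V φ := Over.mk φ
  e φ := Iso.refl _
  exists_lift {V'} g := by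
    refine ⟨g ≫ V'.hom, Over.homMk g rfl, ?_⟩
    simp
  unique {V'} φ φ' m m' h := by
    have h1 : m.left = m'.left := by simpa using h
    have e1 : m.left ≫ V'.hom = φ := Over.w m
    have e2 : m'.left ≫ V'.hom = φ' := Over.w m'
    exact e1.symm.trans ((congrArg (· ≫ V'.hom) h1).trans e2)

instance lan_forget_preservesFiniteLimits :
    PreservesFiniteLimits ((Over.forget X).op.lan :
      ((Over X)ᵒᵖ ⥤ AddCommGrpCat.{u}) ⥤ Cᵒᵖ ⥤ AddCommGrpCat.{u}) := by
  have : ∀ W : C,
      HasExactColimitsOfShape (Discrete (localDataForget X W).α) AddCommGrpCat.{u} :=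
    fun W => inferInstance
  exact lan_preservesFiniteLimits AddCommGrpCat.{u} (Over.forget X) (localDataForget X)

/-- `j_!` on abelian sheaves. -/
abbrev shriekAb : Sheaf (J.over X) AddCommGrpCat.{u} ⥤ Sheaf J AddCommGrpCat.{u} :=
  (Over.forget X).sheafPullback AddCommGrpCat.{u} (J.over X) J

/-- `j^*` on abelian sheaves. -/
abbrev restrAb : Sheaf J AddCommGrpCat.{u} ⥤ Sheaf (J.over X) AddCommGrpCat.{u} :=
  (Over.forget X).sheafPushforwardContinuous AddCommGrpCat.{u} (J.over X) J

instance shriekAb_preservesFiniteLimits : PreservesFiniteLimits (shriekAb J X) :=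
  sheafPullback_preservesFiniteLimits AddCommGrpCat.{u} (Over.forget X) (J.over X) J

/-- `j_! ⊣ j^*`. -/
abbrev adjAb : shriekAb J X ⊣ restrAb J X :=
  (Over.forget X).sheafAdjunctionContinuous AddCommGrpCat.{u} (J.over X) J

instance restrAb_preservesLimits : PreservesLimitsOfSize.{u, u} (restrAb J X) :=
  (adjAb J X).rightAdjoint_preservesLimits

instance restrAb_preservesColimits : PreservesColimitsOfSize.{u, u} (restrAb J X) :=
  ((Over.forget X).sheafAdjunctionCocontinuous AddCommGrpCat.{u} (J.over X)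
    J).leftAdjoint_preservesColimits

instance restrAb_preservesFiniteLimits : PreservesFiniteLimits (restrAb J X) :=
  PreservesLimitsOfSize.preservesFiniteLimits.{u, u} _

instance restrAb_preservesFiniteColimits : PreservesFiniteColimits (restrAb J X) :=
  PreservesColimitsOfSize.preservesFiniteColimits.{u, u} _

instance restrAb_additive : (restrAb J X).Additive :=
  Functor.additive_of_preserves_binary_products _

/-- `j_!` on sheaves of sets. -/
abbrev shriekSet : Sheaf (J.over X) (Type u) ⥤ Sheaf J (Type u) :=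
  (Over.forget X).sheafPullback (Type u) (J.over X) J

/-- the free abelian sheaf functor. -/
abbrev freeAb {D : Type u} [SmallCategory D] (K : GrothendieckTopology D) :
    Sheaf K (Type u) ⥤ Sheaf K AddCommGrpCat.{u} :=
  Sheaf.composeAndSheafify K AddCommGrpCat.free.{u}

/-- `j_! ℤ[K'] ≅ ℤ[j_! K']`. -/
def shriekFreeIso : freeAb (J.over X) ⋙ shriekAb J X ≅ shriekSet J X ⋙ freeAb J :=
  Adjunction.leftAdjointUniq
    ((Sheaf.adjunction (J.over X) AddCommGrpCat.adj.{u}).comp (adjAb J X))
    ((((Over.forget X).sheafAdjunctionContinuous (Type u) (J.over X) J).comp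
      (Sheaf.adjunction J AddCommGrpCat.adj.{u})).ofNatIsoRight
      (NatIso.ofComponents (fun F => Iso.refl _)))

/-- `H^p(K', F|_X) ≃ H^p(j_! K', F)`. -/
def HKRestrEquiv (F : Sheaf J AddCommGrpCat.{u}) (K' : Sheaf (J.over X) (Type u)) (p : ℕ) :
    CohCx.HK K' ((restrAb J X).obj F) p ≃+ CohCx.HK ((shriekSet J X).obj K') F p :=
  (extAdjEquiv' (adjAb J X) ((freeAb (J.over X)).obj K') F p).symm.trans
    (extIsoLeft ((shriekFreeIso J X).app K') F p).symm

theorem isTotallyAcyclic_restr (F : Sheaf J AddCommGrpCat.{u}) (hF : CohCx.IsTotallyAcyclic F) :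
    CohCx.IsTotallyAcyclic ((restrAb J X).obj F) := by
  intro K' p
  have := hF ((shriekSet J X).obj K') p
  exact (HKRestrEquiv J X F K' (p + 1)).toEquiv.subsingleton

end Groth.Agent.Lib.Helper13.OverRestrAcyclic
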