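import Mathlib
import Groth.Prelude
import Groth.Agent.Lib.Helper13.CechBasic
import Groth.Agent.Lib.Helper13.OverRestrAcyclic

/-!
# Čech acyclicity of injective abelian sheaves (sites and spaces)
-/
set_option autoImplicit false
universe u
open CategoryTheory CategoryTheory.Limits Opposite
open Groth.Agent.Lib.Helper13

noncomputable section

namespace Groth.Agent.Lib.Helper13.CechInjective

variable {C : Type u} [SmallCategory C] (J : GrothendieckTopology C)

/-- the presheaf underlying an injective abelian sheaf is an injective presheaf. -/
lemma injective_presheaf (I : Sheaf J AddCommGrpCat.{u}) [Injective I] : Injective I.obj :=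
  Injective.injective_of_adjoint (sheafificationAdjunction J AddCommGrpCat.{u}) I

/-- the restriction to `C/U` of an injective abelian presheaf is an injective presheaf. -/
lemma injective_over (U : C) (P : Cᵒᵖ ⥤ AddCommGrpCat.{u}) [Injective P] :
    Injective ((Over.forget U).op ⋙ P) :=
  Injective.injective_of_adjoint ((Over.forget U).op.lanAdjunction AddCommGrpCat.{u}) P

/-- Čech acyclicity of injective abelian sheaves on a site with fibre products. -/
theorem isZero_cechH_site [HasPullbacks C] (I : Sheaf J AddCommGrpCat.{u}) [Injective I]
    {U : C} {ι : Type u} (Y : ι → Over U) (p : ℕ) : IsZero (CohCx.cechH I.obj Y (p + 1)) := by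
  have := injective_presheaf J I
  have := injective_over U I.obj
  exact CechBasic.isZero_homology_of_injective Y _ p

/-- Čech acyclicity of injective abelian sheaves on a topological space. -/
theorem isZero_cechH_top {X : TopCat.{u}} (I : CohTop.Ab X) [Injective I]
    {ι : Type u} (U : ι → TopologicalSpace.Opens X) (p : ℕ) :
    IsZero (CohTop.cechH I.obj U (p + 1)) := by
  have := injective_presheaf _ I
  exact CechBasic.isZero_homology_of_injective U _ p

end Groth.Agent.Lib.Helper13.CechInjective
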