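import Mathlib
import Groth.Agent.Lib.Helper13.CechLow

/-!
# The long exact sequence of Čech cohomology

For a short complex of presheaves which is short exact on all iterated products of the members of
the family, the Čech complexes form a short exact sequence of complexes.
-/
set_option autoImplicit false
universe w u'
open CategoryTheory CategoryTheory.Limits Opposite

noncomputable section

namespace Groth.Agent.Lib.Helper13.CechLES

open CechBasic CechLow

variable {D : Type u'} [Category.{w} D] [HasFiniteProducts D] {κ : Type w} (Y : κ → D)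

lemma map_proj_apply {P P' : Dᵒᵖ ⥤ AddCommGrpCat.{w}} (τ : P ⟶ P') (n : ℕ)
    (i : Fin (n + 1) → κ) (x : (cx Y P).X n) :
    (proj Y P' n i).hom ((((cechComplexFunctor Y).map τ).f n).hom x) =
      (τ.app (op (∏ᶜ (Y ∘ i)))).hom ((proj Y P n i).hom x) :=
  ConcreteCategory.congr_hom (map_proj Y τ n i) x

lemma at0_map {P P' : Dᵒᵖ ⥤ AddCommGrpCat.{w}} (τ : P ⟶ P') (x : (cx Y P).X 0) (j : κ) :
    at0 Y P' ((((cechComplexFunctor Y).map τ).f 0).hom x) j =
      (τ.app (op (Y j))).hom (at0 Y P x j) := by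
  change (P'.map (toSingle Y j).op).hom ((proj Y P' 0 (single j)).hom _) = _
  rw [map_proj_apply]
  exact (nat_apply τ (toSingle Y j) _).symm

lemma map_εfun {P P' : Dᵒᵖ ⥤ AddCommGrpCat.{w}} (τ : P ⟶ P') {B : D} (A : Aug Y B)
    (s : P.obj (op B)) :
    (((cechComplexFunctor Y).map τ).f 0).hom (εfun P A s) = εfun P' A ((τ.app (op B)).hom s) := by
  apply ext0
  intro j
  rw [at0_map, at0_εfun, at0_εfun]
  exact nat_apply τ (A.b j) s

lemma map_zero' (P P' : Dᵒᵖ ⥤ AddCommGrpCat.{w}) :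
    (cechComplexFunctor Y).map (0 : P ⟶ P') = 0 := by
  ext n : 1
  apply AddCommGrpCat.hom_ext
  ext x
  apply ext_elem
  intro i
  rw [map_proj_apply]
  simp

/-- the short complex of Čech complexes attached to a short complex of presheaves. -/
def cechSC (S : ShortComplex (Dᵒᵖ ⥤ AddCommGrpCat.{w})) :
    ShortComplex (CochainComplex AddCommGrpCat.{w} ℕ) :=
  ShortComplex.mk ((cechComplexFunctor Y).map S.f) ((cechComplexFunctor Y).map S.g) (by
    rw [← Functor.map_comp, S.zero, map_zero'])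

/-- sectionwise short exactness of a short complex of presheaves on the iterated products of the
members of the family. -/
structure SectionwiseExact (S : ShortComplex (Dᵒᵖ ⥤ AddCommGrpCat.{w})) : Prop where
  inj : ∀ (n : ℕ) (i : Fin (n + 1) → κ) (x : S.X₁.obj (op (∏ᶜ (Y ∘ i)))),
    (S.f.app _).hom x = 0 → x = 0
  ex : ∀ (n : ℕ) (i : Fin (n + 1) → κ) (x : S.X₂.obj (op (∏ᶜ (Y ∘ i)))),
    (S.g.app _).hom x = 0 → ∃ y, (S.f.app _).hom y = x
  surj : ∀ (n : ℕ) (i : Fin (n + 1) → κ) (z : S.X₃.obj (op (∏ᶜ (Y ∘ i)))),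
    ∃ x, (S.g.app _).hom x = z

variable {Y} {S : ShortComplex (Dᵒᵖ ⥤ AddCommGrpCat.{w})} (hS : SectionwiseExact Y S)
include hS

lemma cechSC_shortExact : (cechSC Y S).ShortExact := by
  apply HomologicalComplex.shortExact_of_degreewise_shortExact
  intro n
  have hmono : Mono (((cechComplexFunctor Y).map S.f).f n) := by
    rw [AddCommGrpCat.mono_iff_injective, injective_iff_map_eq_zero]
    intro x hx
    apply ext_elem
    intro i
    rw [map_zero]
    apply hS.inj n i
    rw [← map_proj_apply, hx, map_zero]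
  have hepi : Epi (((cechComplexFunctor Y).map S.g).f n) := by
    rw [AddCommGrpCat.epi_iff_surjective]
    intro z
    choose x hx using fun i => hS.surj n i ((proj Y S.X₃ n i).hom z)
    refine ⟨mk Y S.X₂ x, ?_⟩
    apply ext_elem
    intro i
    rw [map_proj_apply, proj_mk, hx]
  refine { exact := ?_, mono_f := hmono, epi_g := hepi }
  rw [ShortComplex.ab_exact_iff]
  intro x hx
  have h : ∀ i, ∃ y, (S.f.app _).hom y = (proj Y S.X₂ n i).hom x := by
    intro i
    apply hS.ex n i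
    have := map_proj_apply Y S.g n i x
    rw [← this]
    exact (congrArg _ hx).trans (map_zero _)
  choose y hy using h
  refine ⟨mk Y S.X₁ y, ?_⟩
  apply ext_elem
  intro i
  exact (map_proj_apply Y S.f n i _).trans (by rw [proj_mk, hy])

/-- `Ȟ^{n+1}(X₃) = 0` and `Ȟ^{n+2}(X₂) = 0` imply `Ȟ^{n+2}(X₁) = 0`. -/
lemma isZero_homology_X₁ (n : ℕ) (h₃ : IsZero ((cx Y S.X₃).homology (n + 1)))
    (h₂ : IsZero ((cx Y S.X₂).homology (n + 2))) : IsZero ((cx Y S.X₁).homology (n + 2)) :=
  ((cechSC_shortExact hS).homology_exact₁ (n + 1) (n + 2) rfl).isZero_of_both_zeros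
    (h₃.eq_of_src _ _) (h₂.eq_of_tgt _ _)

/-- `Ȟ^{n}(X₂) = 0` and `Ȟ^{n+1}(X₁) = 0` imply `Ȟ^{n}(X₃) = 0`. -/
lemma isZero_homology_X₃ (n : ℕ) (h₂ : IsZero ((cx Y S.X₂).homology n))
    (h₁ : IsZero ((cx Y S.X₁).homology (n + 1))) : IsZero ((cx Y S.X₃).homology n) :=
  ((cechSC_shortExact hS).homology_exact₃ n (n + 1) rfl).isZero_of_both_zeros
    (h₂.eq_of_src _ _) (h₁.eq_of_tgt _ _)

/-- degree one: if `Ȟ¹(X₂) = 0` and every `0`-cocycle of `X₃` lifts to a `0`-cocycle of `X₂`, then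
`Ȟ¹(X₁) = 0`. -/
lemma cechExact_zero_X₁ (h₂ : CechExact Y S.X₂ 0)
    (hlift : ∀ z : (cx Y S.X₃).X 0, ((cx Y S.X₃).d 0 1).hom z = 0 →
      ∃ x : (cx Y S.X₂).X 0, ((cx Y S.X₂).d 0 1).hom x = 0 ∧
        (((cechComplexFunctor Y).map S.g).f 0).hom x = z) : CechExact Y S.X₁ 0 := by
  have hSE := cechSC_shortExact hS
  have comm : ∀ {P P' : Dᵒᵖ ⥤ AddCommGrpCat.{w}} (τ : P ⟶ P') (n m : ℕ) (x : (cx Y P).X n),
      ((cx Y P').d n m).hom ((((cechComplexFunctor Y).map τ).f n).hom x) =
        (((cechComplexFunctor Y).map τ).f m).hom (((cx Y P).d n m).hom x) := fun τ n m x =>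
    ConcreteCategory.congr_hom (((cechComplexFunctor Y).map τ).comm n m) x
  intro c hc
  -- φ c = d a
  obtain ⟨a, ha⟩ := h₂ ((((cechComplexFunctor Y).map S.f).f 1).hom c) (by
    rw [comm, hc, map_zero])
  -- ψ a is a cocycle
  have hψa : ((cx Y S.X₃).d 0 1).hom ((((cechComplexFunctor Y).map S.g).f 0).hom a) = 0 := by
    rw [comm, ha]
    exact ConcreteCategory.congr_hom (congrArg (fun k => k.f 1) (cechSC Y S).zero) c
  obtain ⟨x, hx0, hx⟩ := hlift _ hψa
  -- a - x = φ b
  have hex0 := ((HomologicalComplex.exact_iff_degreewise_exact _).1 hSE.exact 0)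
  rw [ShortComplex.ab_exact_iff] at hex0
  obtain ⟨b, hb⟩ := hex0 (a - x) (by
    change (((cechComplexFunctor Y).map S.g).f 0).hom (a - x) = 0
    rw [map_sub, hx, sub_self])
  refine ⟨b, ?_⟩
  have hmono : Mono (((cechComplexFunctor Y).map S.f).f 1) := by
    have := hSE.mono_f
    exact inferInstanceAs (Mono ((HomologicalComplex.eval _ _ 1).map (cechSC Y S).f))
  rw [AddCommGrpCat.mono_iff_injective] at hmono
  apply hmono
  rw [← comm]
  change ((cx Y S.X₂).d 0 1).hom ((((cechComplexFunctor Y).map S.f).f 0).hom b) = _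
  have hb' : (((cechComplexFunctor Y).map S.f).f 0).hom b = a - x := hb
  rw [hb', map_sub, hx0, sub_zero, ha]

end Groth.Agent.Lib.Helper13.CechLES
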