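import Mathlib
import Groth.Prelude
import Groth.Agent.Lib.Helper13.CechLow

/-!
# Čech cohomology of abelian sheaves: sections of short exact sequences, gluing on spaces
-/
set_option autoImplicit false
universe u
open CategoryTheory CategoryTheory.Limits Opposite TopologicalSpace

noncomputable section

namespace Groth.Agent.Lib.Helper13.CechSheaf

open CechBasic CechLow

section Sections

variable {C : Type u} [SmallCategory C] {J : GrothendieckTopology C}

/-- the sections functor. -/
abbrev Γ (J : GrothendieckTopology C) (W : C) : Sheaf J AddCommGrpCat.{u} ⥤ AddCommGrpCat.{u} :=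
  sheafToPresheaf J AddCommGrpCat.{u} ⋙ (evaluation Cᵒᵖ AddCommGrpCat.{u}).obj (op W)

variable {S : ShortComplex (Sheaf J AddCommGrpCat.{u})} (hS : S.ShortExact)
include hS

lemma sections_injective (W : C) (x : S.X₁.obj.obj (op W))
    (hx : (S.f.hom.app (op W)).hom x = 0) : x = 0 := by
  have := hS.mono_f
  have h : Mono ((Γ J W).map S.f) := inferInstance
  rw [AddCommGrpCat.mono_iff_injective] at h
  exact h (hx.trans (map_zero _).symm)

lemma sections_exact (W : C) (x : S.X₂.obj.obj (op W))
    (hx : (S.g.hom.app (op W)).hom x = 0) : ∃ y : S.X₁.obj.obj (op W),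
      (S.f.hom.app (op W)).hom y = x := by
  have h := hS.exact.map_of_mono_of_preservesKernel (Γ J W) hS.mono_f inferInstance
  rw [ShortComplex.ab_exact_iff] at h
  exact h x hx

lemma sections_zero (W : C) (y : S.X₁.obj.obj (op W)) :
    (S.g.hom.app (op W)).hom ((S.f.hom.app (op W)).hom y) = 0 := by
  have h : (Γ J W).map S.f ≫ (Γ J W).map S.g = 0 := by
    rw [← Functor.map_comp, S.zero, Functor.map_zero]
  exact ConcreteCategory.congr_hom h y

end Sections

section Top

variable {X : TopCat.{u}} {κ : Type u} (W : κ → Opens X) (V : Opens X) (hV : iSup W = V)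

/-- the augmentation of a family of opens towards its union. -/
def topAug : Aug W V where
  b j := homOfLE (hV ▸ le_iSup W j)
  compat _ := Subsingleton.elim _ _

lemma isGluing_top (G : CohTop.Ab X) : IsGluing G.obj (topAug W V hV) where
  sep s s' h :=
    TopCat.Sheaf.eq_of_locally_eq' G W V (fun j => (topAug W V hV).b j) (hV ▸ le_rfl) s s' h
  glue t ht := by
    have hc : TopCat.Presheaf.IsCompatible G.1 W t := by
      intro j j'
      let i : Fin 2 → κ := ![j, j']
      let ρ : W j ⊓ W j' ⟶ ∏ᶜ (W ∘ i) := Pi.lift (fun a => homOfLE (by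
        fin_cases a
        · exact inf_le_left
        · exact inf_le_right))
      have h := congrArg (fun y => (G.obj.map ρ.op).hom y) (ht i)
      simp only [map_map_apply] at h
      have e0 : ρ ≫ Pi.π (W ∘ i) 0 = Opens.infLELeft (W j) (W j') := Subsingleton.elim _ _
      have e1 : ρ ≫ Pi.π (W ∘ i) 1 = Opens.infLERight (W j) (W j') := Subsingleton.elim _ _
      rw [e0, e1] at h
      exact h
    obtain ⟨s, hs, -⟩ := TopCat.Sheaf.existsUnique_gluing' G W V
      (fun j => (topAug W V hV).b j) (hV ▸ le_rfl) t hc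
    exact ⟨s, hs⟩

/-- **`Ȟ¹ = 0` on a cover implies lifting of sections** (topological spaces). -/
theorem exists_lift_top {S : ShortComplex (CohTop.Ab X)} (hS : S.ShortExact)
    (h₁ : IsZero (CohTop.cechH S.X₁.obj W 1))
    (s : S.X₃.obj.obj (op V)) (t : ∀ j, S.X₂.obj.obj (op (W j)))
    (ht : ∀ j, (S.g.hom.app (op (W j))).hom (t j) =
      (S.X₃.obj.map (homOfLE (hV ▸ le_iSup W j) : W j ⟶ V).op).hom s) :
    ∃ t' : S.X₂.obj.obj (op V), (S.g.hom.app (op V)).hom t' = s :=
  exists_lift_of_cechExact (topAug W V hV) S.f.hom S.g.hom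
    (fun U x hx => sections_injective hS U x hx)
    (fun U x hx => sections_exact hS U x hx)
    (fun U y => sections_zero hS U y)
    (isGluing_top W V hV S.X₂) (isGluing_top W V hV S.X₃)
    ((cechExact_iff W S.X₁.obj 0).2 h₁) s t ht

end Top

end Groth.Agent.Lib.Helper13.CechSheaf
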