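import Mathlib
import Groth.Prelude
import Groth.Agent.Lib.Helper13.CechSheaf
import Groth.Agent.Lib.Helper13.CechLES
import Groth.Agent.Lib.Helper13.CechInjective
import Groth.Agent.Lib.Helper1.FlasqueAcyclic

/-!
# Čech cohomology on topological spaces: flasque sheaves, Cartan's criterion
-/
set_option autoImplicit false
universe u
open CategoryTheory CategoryTheory.Limits Opposite TopologicalSpace CategoryTheory.Abelian

noncomputable section

namespace Groth.Agent.Lib.Helper13.CechTop

open CechBasic CechLow CechSheaf CechLES CechInjective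

variable {X : TopCat.{u}}

lemma prod_eq_iInf {κ : Type u} (W : κ → Opens X) {n : ℕ} (a : Fin (n + 1) → κ) :
    ∏ᶜ (W ∘ a) = ⨅ k, W (a k) :=
  le_antisymm (le_iInf fun k => (Pi.π (W ∘ a) k).le)
    (Pi.lift (fun k => homOfLE (iInf_le (fun k => W (a k)) k))).le

/-- the short complex of presheaves underlying a short complex of sheaves. -/
abbrev preSC (S : ShortComplex (CohTop.Ab X)) :
    ShortComplex ((Opens X)ᵒᵖ ⥤ AddCommGrpCat.{u}) :=
  S.map (sheafToPresheaf (Opens.grothendieckTopology X) AddCommGrpCat.{u})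

lemma sectionwiseExact {S : ShortComplex (CohTop.Ab X)} (hS : S.ShortExact) {κ : Type u}
    (W : κ → Opens X)
    (hsurj : ∀ (n : ℕ) (i : Fin (n + 1) → κ),
      Function.Surjective (S.g.hom.app (op (∏ᶜ (W ∘ i))))) :
    SectionwiseExact W (preSC S) where
  inj _ i x hx := sections_injective hS (∏ᶜ (W ∘ i)) x hx
  ex _ i x hx := sections_exact hS (∏ᶜ (W ∘ i)) x hx
  surj n i z := hsurj n i z

/-- `Ȟ¹ = 0` on refinements of all covers of `V` implies surjectivity on sections over `V`. -/
theorem sections_surjective {S : ShortComplex (CohTop.Ab X)} (hS : S.ShortExact) (U : Opens X)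
    (h : ∀ (ι : Type u) (V : ι → Opens X), iSup V = U →
      ∃ (κ : Type u) (W : κ → Opens X) (r : κ → ι), iSup W = U ∧ (∀ k, W k ≤ V (r k)) ∧
        IsZero (CohTop.cechH S.X₁.obj W 1)) :
    Function.Surjective (S.g.hom.app (op U)) := by
  intro s
  have hloc : Presheaf.IsLocallySurjective (Opens.grothendieckTopology X) S.g.hom :=
    (Sheaf.isLocallySurjective_iff_epi' AddCommGrpCat.{u} S.g).2 hS.epi_g
  have hx : ∀ x : U, ∃ (V : Opens X) (hVU : V ≤ U) (t : S.X₂.obj.obj (op V)), (x : X) ∈ V ∧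
      (S.g.hom.app (op V)).hom t = (S.X₃.obj.map (homOfLE hVU).op).hom s := by
    intro x
    obtain ⟨V, g, ⟨t, ht⟩, hxV⟩ := hloc.imageSieve_mem s x.1 x.2
    exact ⟨V, g.le, t, hxV, ht⟩
  choose V hVU t hxV ht using hx
  have hsup : iSup V = U :=
    le_antisymm (iSup_le hVU) (fun x hx => Opens.mem_iSup.2 ⟨⟨x, hx⟩, hxV ⟨x, hx⟩⟩)
  obtain ⟨κ, W, r, hW, hWV, hzero⟩ := h U V hsup
  apply exists_lift_top W U hW hS hzero s
    (fun k => (S.X₂.obj.map (homOfLE (hWV k)).op).hom (t (r k)))
  intro k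
  have h1 := ConcreteCategory.congr_hom (S.g.hom.naturality (homOfLE (hWV k)).op) (t (r k))
  refine h1.trans ?_
  change (S.X₃.obj.map (homOfLE (hWV k)).op).hom ((S.g.hom.app (op (V (r k)))).hom (t (r k))) = _
  rw [ht, map_map_apply]
  rfl

/-- lifting morphisms out of `ℤ_U` along an epimorphism which is surjective on sections over `U`. -/
lemma exists_lift_freeSheaf {S : ShortComplex (CohTop.Ab X)} (U : Opens X)
    (hsurj : Function.Surjective (S.g.hom.app (op U)))
    (φ : CohCx.freeSheaf (Opens.grothendieckTopology X) U ⟶ S.X₃) :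
    ∃ ψ : CohCx.freeSheaf (Opens.grothendieckTopology X) U ⟶ S.X₂, ψ ≫ S.g = φ := by
  let J := Opens.grothendieckTopology X
  obtain ⟨t, ht⟩ := hsurj (CohFree.evalGen J U S.X₃ φ)
  refine ⟨CohFree.ofSect J U S.X₂ t, ?_⟩
  apply (CohFree.homEquivSect J U S.X₃).injective
  rw [CohFree.homEquivSect_apply, CohFree.homEquivSect_apply, ← ht]
  change (S.g.hom.app (op U)).hom (CohFree.evalGen J U S.X₂ (CohFree.ofSect J U S.X₂ t)) = _
  rw [CohFree.evalGen_ofSect]

/-- **Cartan's criterion on a class of opens**: let `B` be a set of opens and `Cov` a class of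
families of opens whose iterated intersections lie in `B`, such that every cover of a member of `B`
is refined by a family in `Cov`; an abelian sheaf with vanishing higher Čech cohomology for the
families in `Cov` has vanishing higher cohomology on the members of `B`. -/
theorem subsingleton_HU_of_cech (B : Set (Opens X)) (Cov : ∀ (ι : Type u), (ι → Opens X) → Prop)
    (h1 : ∀ (ι : Type u) (V : ι → Opens X), Cov ι V →
      ∀ (p : ℕ) (a : Fin (p + 1) → ι), ∏ᶜ (V ∘ a) ∈ B)
    (h2 : ∀ U ∈ B, ∀ (κ : Type u) (W : κ → Opens X), iSup W = U →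
      ∃ (ι : Type u) (V : ι → Opens X), Cov ι V ∧ iSup V = U ∧ ∀ i, ∃ k, V i ≤ W k)
    (F : CohTop.Ab X)
    (h3 : ∀ (ι : Type u) (V : ι → Opens X), Cov ι V → ∀ p : ℕ,
      IsZero (CohTop.cechH F.obj V (p + 1)))
    (U : Opens X) (hU : U ∈ B) (p : ℕ) : Subsingleton (CohTop.HU F (p + 1) U) := by
  let Q : CohTop.Ab X → Prop := fun G => ∀ (ι : Type u) (V : ι → Opens X), Cov ι V → ∀ p : ℕ,
      IsZero (CohTop.cechH G.obj V (p + 1))
  have key : ∀ (S : ShortComplex (CohTop.Ab X)), S.ShortExact → Q S.X₁ → ∀ U ∈ B,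
      Function.Surjective (S.g.hom.app (op U)) := by
    intro S hS hQ U hU
    apply sections_surjective hS U
    intro κ W hW
    obtain ⟨ι, V, hV, hsup, href⟩ := h2 U hU κ W hW
    choose r hr using href
    exact ⟨ι, V, r, hsup, hr, hQ ι V hV 0⟩
  refine subsingleton_of_forall_eq 0 fun x => ?_
  refine Groth.Agent.Lib.Helper1.FlasqueAcyclic.ext_eq_zero_of_class
    (CohCx.freeSheaf (Opens.grothendieckTopology X) U) Q ?_ ?_ ?_ p F h3 x
  · intro I hI ι V _ p
    exact isZero_cechH_top I V p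
  · intro S hS hQ₁ hQ₂ ι V hV p
    have hSE : SectionwiseExact V (preSC S) :=
      sectionwiseExact hS V (fun n i => key S hS hQ₁ _ (h1 ι V hV n i))
    exact isZero_homology_X₃ hSE (p + 1) (hQ₂ ι V hV p) (hQ₁ ι V hV (p + 1))
  · intro S hS hQ₁ φ
    exact exists_lift_freeSheaf U (key S hS hQ₁ U hU) φ

/-- **Flasque sheaves are Čech acyclic.** -/
theorem isZero_cechH_of_flasque (p : ℕ) : ∀ (F : CohTop.Ab X) [TopCat.Sheaf.IsFlasque F]
    {ι : Type u} (U : ι → Opens X), IsZero (CohTop.cechH F.obj U (p + 1)) := by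
  induction p with
  | zero =>
    intro F _ ι U
    let S := ShortComplex.mk _ _ (cokernel.condition (Injective.ι F))
    have hS : S.ShortExact :=
      { exact := ShortComplex.exact_of_g_is_cokernel _ (cokernelIsCokernel S.f) }
    have : TopCat.Sheaf.IsFlasque S.X₁ := inferInstanceAs (TopCat.Sheaf.IsFlasque F)
    have hsurj : ∀ V : Opens X, Function.Surjective (S.g.hom.app (op V)) := fun V =>
      (AddCommGrpCat.epi_iff_surjective _).1 (TopCat.Sheaf.IsFlasque.epi_of_shortExact hS)
    have hSE : SectionwiseExact U (preSC S) := sectionwiseExact hS U (fun n i => hsurj _)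
    rw [← cechExact_iff]
    refine cechExact_zero_X₁ hSE ((cechExact_iff U _ 0).2 (isZero_cechH_top S.X₂ U 0)) ?_
    intro z hz
    obtain ⟨q, rfl⟩ := exists_εfun_eq _ (topAug U (iSup U) rfl)
      (isGluing_top U (iSup U) rfl S.X₃) z hz
    obtain ⟨i, rfl⟩ := hsurj (iSup U) q
    exact ⟨εfun _ (topAug U (iSup U) rfl) i, d_εfun _ _ _, map_εfun U _ _ _⟩
  | succ p ih =>
    intro F _ ι U
    let S := ShortComplex.mk _ _ (cokernel.condition (Injective.ι F))
    have hS : S.ShortExact :=
      { exact := ShortComplex.exact_of_g_is_cokernel _ (cokernelIsCokernel S.f) }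
    have : TopCat.Sheaf.IsFlasque S.X₁ := inferInstanceAs (TopCat.Sheaf.IsFlasque F)
    have : TopCat.Sheaf.IsFlasque S.X₂ :=
      Groth.Agent.Lib.Helper1.FlasqueAcyclic.isFlasque_of_injective _
    have : TopCat.Sheaf.IsFlasque S.X₃ := TopCat.Sheaf.IsFlasque.of_shortExact_of_isFlasque₁₂ hS
    have hsurj : ∀ V : Opens X, Function.Surjective (S.g.hom.app (op V)) := fun V =>
      (AddCommGrpCat.epi_iff_surjective _).1 (TopCat.Sheaf.IsFlasque.epi_of_shortExact hS)
    have hSE : SectionwiseExact U (preSC S) := sectionwiseExact hS U (fun n i => hsurj _)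
    exact isZero_homology_X₁ hSE p (ih S.X₃ U) (isZero_cechH_top S.X₂ U (p + 1))

end Groth.Agent.Lib.Helper13.CechTop
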