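import Mathlib
import Groth.Prelude.Def_CohCx
import Groth.Prelude.Def_CohSite
import Groth.Prelude.Def_CohTop
import Groth.Prelude.Def_FreeSh

/-!
# Cohomology classes of positive degree vanish locally

* `exists_cover_lift`: local lifting of sections in an exact sequence of abelian sheaves.
* `exists_cover_comp_eq_zero`, `exists_cover_res_eq_zero`, `top_exists_cover_res_eq_zero`.
-/
set_option autoImplicit false
universe u
open CategoryTheory CategoryTheory.Limits Opposite CategoryTheory.Abelian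

noncomputable section

namespace Groth.Agent.Lib.Helper13.ExtLocal

variable {C : Type u} [SmallCategory C] {J : GrothendieckTopology C}

lemma evalGen_comp {U : C} {M N : Sheaf J AddCommGrpCat.{u}} (h : CohCx.freeSheaf J U ⟶ M)
    (f : M ⟶ N) :
    CohFree.evalGen J U N (h ≫ f) = (f.hom.app (op U)).hom (CohFree.evalGen J U M h) := rfl

lemma evalGen_injective (U : C) (M : Sheaf J AddCommGrpCat.{u}) :
    Function.Injective (CohFree.evalGen J U M) :=
  (CohFree.homEquivSect J U M).injective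

/-- Local lifting of sections killed by `g` in an exact sequence of abelian sheaves. -/
theorem exists_cover_lift (S : ShortComplex (Sheaf J AddCommGrpCat.{u})) (hS : S.Exact) (U : C)
    (s : S.X₂.obj.obj (op U)) (hs : (S.g.hom.app (op U)).hom s = 0) :
    ∃ R ∈ J U, ∀ ⦃V : C⦄ (f : V ⟶ U), R f →
      ∃ t : S.X₁.obj.obj (op V), (S.f.hom.app (op V)).hom t = (S.X₂.obj.map f.op).hom s := by
  let x₂ : CohCx.freeSheaf J U ⟶ S.X₂ := CohFree.ofSect J U S.X₂ s
  have hx₂ : x₂ ≫ S.g = 0 := by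
    apply evalGen_injective
    rw [evalGen_comp, CohFree.evalGen_ofSect, hs]
    rfl
  obtain ⟨A', π, hπ, x₁, fac⟩ := hS.exact_up_to_refinements x₂ hx₂
  have hloc : Presheaf.IsLocallySurjective J π.hom := by
    have := (Sheaf.isLocallySurjective_iff_epi' AddCommGrpCat.{u} π).2 hπ
    exact this
  refine ⟨Presheaf.imageSieve π.hom (CohFree.gen J U), hloc.imageSieve_mem _, ?_⟩
  intro V f hf
  obtain ⟨a', ha'⟩ := hf
  refine ⟨(x₁.hom.app (op V)).hom a', ?_⟩
  have h1 : (S.f.hom.app (op V)).hom ((x₁.hom.app (op V)).hom a') =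
      ((x₁ ≫ S.f).hom.app (op V)).hom a' := rfl
  rw [h1, ← fac]
  change (x₂.hom.app (op V)).hom ((π.hom.app (op V)).hom a') = _
  rw [ha']
  have h2 := ConcreteCategory.congr_hom (x₂.hom.naturality f.op) (CohFree.gen J U)
  refine h2.trans ?_
  change (S.X₂.obj.map f.op).hom (CohFree.evalGen J U S.X₂ x₂) = _
  rw [CohFree.evalGen_ofSect]

lemma res_eq (F : Sheaf J AddCommGrpCat.{u}) (n : ℕ) {U V : C} (f : V ⟶ U)
    (ξ : Ext (CohCx.freeSheaf J U) F n) :
    CohSite.res F n f ξ = (Ext.mk₀ (CohCx.freeSheafMap J f)).comp ξ (zero_add n) := rfl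

/-- Every `Ext` class of positive degree out of `ℤ_U` dies on a covering sieve. -/
theorem exists_cover_comp_eq_zero (F : Sheaf J AddCommGrpCat.{u}) (U : C) (n : ℕ)
    (ξ : Ext (CohCx.freeSheaf J U) F (n + 1)) :
    ∃ R ∈ J U, ∀ ⦃V : C⦄ (f : V ⟶ U), R f →
      (Ext.mk₀ (CohCx.freeSheafMap J f)).comp ξ (zero_add (n + 1)) = 0 := by
  let I : InjectiveResolution F := InjectiveResolution.of F
  obtain ⟨g, hg, hξ⟩ := I.extMk_surjective ξ (n + 2) rfl
  let S : ShortComplex (Sheaf J AddCommGrpCat.{u}) :=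
    ShortComplex.mk _ _ (I.cocomplex.d_comp_d n (n + 1) (n + 2))
  have hS : S.Exact := I.exact_succ n
  have hs : (S.g.hom.app (op U)).hom (CohFree.evalGen J U _ g) = 0 := by
    rw [← evalGen_comp]
    change CohFree.evalGen J U _ (g ≫ I.cocomplex.d (n + 1) (n + 2)) = 0
    rw [hg]
    rfl
  obtain ⟨R, hR, hlift⟩ := exists_cover_lift S hS U (CohFree.evalGen J U _ g) hs
  refine ⟨R, hR, ?_⟩
  intro V f hf
  obtain ⟨t, ht⟩ := hlift f hf
  rw [← hξ, InjectiveResolution.mk₀_comp_extMk,
    InjectiveResolution.extMk_eq_zero_iff _ _ _ _ _ n rfl]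
  refine ⟨CohFree.ofSect J V _ t, ?_⟩
  apply evalGen_injective
  rw [evalGen_comp, CohFree.evalGen_ofSect, CohFree.evalGen_freeSheafMap_comp]
  exact ht

/-- Every cohomology class of positive degree dies on a covering sieve. -/
theorem exists_cover_res_eq_zero (F : Sheaf J AddCommGrpCat.{u}) (U : C) (n : ℕ)
    (ξ : CohSite.HU F (n + 1) U) :
    ∃ R ∈ J U, ∀ ⦃V : C⦄ (f : V ⟶ U), R f → CohSite.res F (n + 1) f ξ = 0 :=
  exists_cover_comp_eq_zero F U n ξ

/-- Topological version. -/
theorem top_exists_cover_res_eq_zero {X : TopCat.{u}} (F : CohTop.Ab X)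
    (U : TopologicalSpace.Opens X) (n : ℕ) (ξ : CohTop.HU F (n + 1) U) :
    ∃ (ι : Type u) (V : ι → TopologicalSpace.Opens X) (hV : ∀ i, V i ≤ U), iSup V = U ∧
      ∀ i, CohTop.res F (n + 1) (hV i) ξ = 0 := by
  obtain ⟨R, hR, hres⟩ := exists_cover_res_eq_zero F U n ξ
  refine ⟨{V : TopologicalSpace.Opens X // ∃ h : V ≤ U, R (homOfLE h)}, Subtype.val,
    fun i => i.2.choose, ?_, ?_⟩
  · apply le_antisymm
    · exact iSup_le fun i => i.2.choose
    · intro x hx
      obtain ⟨V, f, hf, hxV⟩ := hR x hx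
      have hle : V ≤ U := leOfHom f
      have hR' : R (homOfLE hle) := by
        have : f = homOfLE hle := Subsingleton.elim _ _
        rw [← this]
        exact hf
      exact TopologicalSpace.Opens.mem_iSup.2 ⟨⟨V, hle, hR'⟩, hxV⟩
  · intro i
    exact hres (homOfLE i.2.choose) i.2.choose_spec

end Groth.Agent.Lib.Helper13.ExtLocal
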