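import Mathlib
import Groth.Prelude.Def_CohCx
import Groth.Prelude.Def_CohSite
import Groth.Prelude.Def_FreeSh
import Groth.Agent.Lib.Helper13.OverRestrAcyclic

/-!
# Cohomology over an object of a site is the cohomology of the localised site

* `isoOfCorepr`: Yoneda for corepresenting objects.
* `shriekConstIso : j_! ℤ ≅ ℤ_U`.
* `HUEquivOver : H^n(U, F) ≃+ H^n(C/U, F|_U)`.
-/
set_option autoImplicit false
universe u
open CategoryTheory CategoryTheory.Limits Opposite CategoryTheory.Abelian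
open Groth.Agent.Lib.Helper13.OverRestrAcyclic Groth.Agent.Lib.Helper13.ExtAdj

noncomputable section

namespace Groth.Agent.Lib.Helper13.SiteCohLocal

section Yoneda

variable {A : Type*} [Category A] {X Y : A} {F : A → Type*}
  (Fmap : ∀ {M N : A}, (M ⟶ N) → F M → F N)
  (eX : ∀ M, (X ⟶ M) ≃ F M) (eY : ∀ M, (Y ⟶ M) ≃ F M)
  (hX : ∀ {M N : A} (h : X ⟶ M) (f : M ⟶ N), eX N (h ≫ f) = Fmap f (eX M h))
  (hY : ∀ {M N : A} (h : Y ⟶ M) (f : M ⟶ N), eY N (h ≫ f) = Fmap f (eY M h))

/-- Two objects corepresenting the same functor are isomorphic. -/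
def isoOfCorepr : X ≅ Y where
  hom := (eX Y).symm (eY Y (𝟙 Y))
  inv := (eY X).symm (eX X (𝟙 X))
  hom_inv_id := by
    apply (eX X).injective
    rw [hX, Equiv.apply_symm_apply, ← hY, Category.id_comp, Equiv.apply_symm_apply]
  inv_hom_id := by
    apply (eY Y).injective
    rw [hY, Equiv.apply_symm_apply, ← hX, Category.id_comp, Equiv.apply_symm_apply]

end Yoneda

/-- the constant sheaf `ℤ`. -/
abbrev constZ {D : Type u} [SmallCategory D] (K : GrothendieckTopology D) :
    Sheaf K AddCommGrpCat.{u} :=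
  (constantSheaf K AddCommGrpCat.{u}).obj (AddCommGrpCat.of (ULift ℤ))

variable {C : Type u} [SmallCategory C] (J : GrothendieckTopology C) (U : C)

/-- maps out of `j_! ℤ` are sections over `U`. -/
def shriekConstEquiv (M : Sheaf J AddCommGrpCat.{u}) :
    ((shriekAb J U).obj (constZ (J.over U)) ⟶ M) ≃ M.obj.obj (op U) :=
  ((adjAb J U).homEquiv _ M).trans
    (((constantSheafAdj (J.over U) AddCommGrpCat.{u} Over.mkIdTerminal).homEquiv _
      ((restrAb J U).obj M)).trans
      (AddCommGrpCat.uliftZMultiplesAddEquiv (M.obj.obj (op U))).toEquiv)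

lemma shriekConstEquiv_naturality {M N : Sheaf J AddCommGrpCat.{u}}
    (h : (shriekAb J U).obj (constZ (J.over U)) ⟶ M) (f : M ⟶ N) :
    shriekConstEquiv J U N (h ≫ f) = (f.hom.app (op U)).hom (shriekConstEquiv J U M h) := by
  unfold shriekConstEquiv
  simp only [Equiv.trans_apply]
  rw [Adjunction.homEquiv_naturality_right, Adjunction.homEquiv_naturality_right]
  rfl

/-- `j_! ℤ ≅ ℤ_U`. -/
def shriekConstIso : (shriekAb J U).obj (constZ (J.over U)) ≅ CohCx.freeSheaf J U :=
  isoOfCorepr (F := fun M : Sheaf J AddCommGrpCat.{u} => M.obj.obj (op U))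
    (fun f x => (f.hom.app (op U)).hom x)
    (shriekConstEquiv J U) (fun M => (CohFree.homEquivSect J U M).toEquiv)
    (fun h f => shriekConstEquiv_naturality J U h f)
    (fun _ _ => rfl)

/-- `H^n(U, F) ≃ H^n(C/U, F|_U)`. -/
def HUEquivOver (F : Sheaf J AddCommGrpCat.{u}) (n : ℕ) :
    CohSite.HU F n U ≃+ Sheaf.H.{u} (F.over U) n :=
  (extIsoLeft (shriekConstIso J U) F n).trans (extAdjEquiv' (adjAb J U) (constZ (J.over U)) F n)

end Groth.Agent.Lib.Helper13.SiteCohLocal
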