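import Mathlib
import Groth.Prelude.Def_CohCx
import Groth.Prelude.Def_CohSite
import Groth.Prelude.Def_CohTop
import Groth.Prelude.Def_FreeSh
import Groth.Agent.Lib.Helper13.ExtLocal
import Groth.Agent.Lib.Helper13.SiteCohLocal

/-!
# Cohomology of profinite spaces vanishes in positive degrees

* `constIso : ℤ ≅ ℤ_T`, `HEquivHU : H^n(F) ≃+ Ext^n(ℤ_T, F)` for a terminal object `T` of a site.
* `exists_disjoint_clopen_refinement`: finite disjoint clopen refinements in profinite spaces.
* `subsingleton_H`: `H^{p+1}(X, F) = 0` for profinite `X`.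
-/
set_option autoImplicit false
universe u
open CategoryTheory CategoryTheory.Limits Opposite CategoryTheory.Abelian TopologicalSpace
open Groth.Agent.Lib.Helper13.ExtAdj Groth.Agent.Lib.Helper13.SiteCohLocal
open Groth.Agent.Lib.Helper13.ExtLocal

noncomputable section

namespace Groth.Agent.Lib.Helper13.ProfiniteAcyclic

section Terminal

variable {C : Type u} [SmallCategory C] (J : GrothendieckTopology C) {T : C} (hT : IsTerminal T)

/-- maps out of the constant sheaf `ℤ` are sections over a terminal object. -/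
def constEquiv (M : Sheaf J AddCommGrpCat.{u}) : (constZ J ⟶ M) ≃ M.obj.obj (op T) :=
  ((constantSheafAdj J AddCommGrpCat.{u} hT).homEquiv _ M).trans
    (AddCommGrpCat.uliftZMultiplesAddEquiv (M.obj.obj (op T))).toEquiv

lemma constEquiv_naturality {M N : Sheaf J AddCommGrpCat.{u}} (h : constZ J ⟶ M) (f : M ⟶ N) :
    constEquiv J hT N (h ≫ f) = (f.hom.app (op T)).hom (constEquiv J hT M h) := by
  unfold constEquiv
  simp only [Equiv.trans_apply]
  rw [Adjunction.homEquiv_naturality_right]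
  rfl

/-- `ℤ ≅ ℤ_T` for a terminal object `T`. -/
def constIso : constZ J ≅ CohCx.freeSheaf J T :=
  isoOfCorepr (F := fun M : Sheaf J AddCommGrpCat.{u} => M.obj.obj (op T))
    (fun f x => (f.hom.app (op T)).hom x)
    (constEquiv J hT) (fun M => (CohFree.homEquivSect J T M).toEquiv)
    (fun h f => constEquiv_naturality J hT h f)
    (fun _ _ => rfl)

/-- `H^n(F) ≃ H^n(T, F)` for a terminal object `T`. -/
def HEquivHU (F : Sheaf J AddCommGrpCat.{u}) (n : ℕ) :
    Sheaf.H.{u} F n ≃+ Ext (CohCx.freeSheaf J T) F n :=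
  (extIsoLeft (constIso J hT) F n).symm

end Terminal

section Topology

variable {X : Type*} [TopologicalSpace X] [CompactSpace X] [T2Space X] [TotallyDisconnectedSpace X]

/-- In a profinite space every open cover which is closed under passing to open subsets has a
finite refinement by pairwise disjoint clopen subsets. -/
theorem exists_disjoint_clopen_refinement (P : Set X → Prop)
    (hP : ∀ s t : Set X, IsOpen s → IsOpen t → s ⊆ t → P t → P s)
    (hcov : ∀ x : X, ∃ V : Set X, IsOpen V ∧ x ∈ V ∧ P V) :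
    ∃ (m : ℕ) (W : Fin m → Set X), (∀ k, IsClopen (W k)) ∧ (∀ k, P (W k)) ∧
      Pairwise (Function.onFun Disjoint W) ∧ ⋃ k, W k = Set.univ := by
  choose V hVo hxV hPV using hcov
  have hC : ∀ x : X, ∃ Cx : Set X, IsClopen Cx ∧ x ∈ Cx ∧ Cx ⊆ V x := fun x =>
    compact_exists_isClopen_in_isOpen (hVo x) (hxV x)
  choose Cl hCl hxC hCV using hC
  obtain ⟨t, ht⟩ := isCompact_univ.elim_finite_subcover Cl (fun x => (hCl x).isOpen)
    (fun x _ => Set.mem_iUnion.2 ⟨x, hxC x⟩)
  let xs : Fin t.card → X := fun k => (t.equivFin.symm k).1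
  let f : Fin t.card → Set X := fun k => Cl (xs k)
  refine ⟨t.card, disjointed f, ?_, ?_, disjoint_disjointed f, ?_⟩
  · intro k
    exact disjointedRec (p := IsClopen) (fun s i hs => hs.diff (hCl (xs i))) (hCl (xs k))
  · intro k
    have hk : IsClopen (disjointed f k) :=
      disjointedRec (p := IsClopen) (fun s i hs => hs.diff (hCl (xs i))) (hCl (xs k))
    exact hP _ _ hk.isOpen (hVo (xs k)) ((disjointed_subset f k).trans (hCV (xs k))) (hPV (xs k))
  · rw [iUnion_disjointed]
    apply Set.eq_univ_of_univ_subset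
    intro y hy
    obtain ⟨x, hx⟩ := Set.mem_iUnion.1 (ht hy)
    obtain ⟨hxt, hyx⟩ := Set.mem_iUnion.1 hx
    refine Set.mem_iUnion.2 ⟨t.equivFin ⟨x, hxt⟩, ?_⟩
    change y ∈ Cl ((t.equivFin.symm (t.equivFin ⟨x, hxt⟩)).1)
    rw [Equiv.symm_apply_apply]
    exact hyx

end Topology

lemma subsingleton_of_isTerminal {T : AddCommGrpCat.{u}} (hT : IsTerminal T) : Subsingleton T := by
  have hz : IsZero T := by
    rw [IsZero.iff_id_eq_zero]
    exact hT.hom_ext _ _
  exact AddCommGrpCat.subsingleton_of_isZero hz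

variable {X : TopCat.{u}} [CompactSpace X] [T2Space X] [TotallyDisconnectedSpace X]

theorem ext_freeSheaf_top_eq_zero (F : CohTop.Ab X) (p : ℕ)
    (ξ : Ext (CohCx.freeSheaf (Opens.grothendieckTopology X) (⊤ : Opens X)) F (p + 1)) : ξ = 0 := by
  let I : InjectiveResolution F := InjectiveResolution.of F
  obtain ⟨g, hg, hξ⟩ := I.extMk_surjective ξ (p + 2) rfl
  let S : ShortComplex (CohTop.Ab X) :=
    ShortComplex.mk _ _ (I.cocomplex.d_comp_d p (p + 1) (p + 2))
  have hS : S.Exact := I.exact_succ p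
  let s := CohFree.evalGen (Opens.grothendieckTopology X) (⊤ : Opens X) _ g
  have hs : (S.g.hom.app (op ⊤)).hom s = 0 := by
    change (S.g.hom.app (op ⊤)).hom (CohFree.evalGen _ _ _ g) = 0
    rw [← evalGen_comp]
    change CohFree.evalGen _ _ _ (g ≫ I.cocomplex.d (p + 1) (p + 2)) = 0
    rw [hg]
    rfl
  obtain ⟨R, hR, hlift⟩ := exists_cover_lift S hS ⊤ s hs
  -- the refinement
  let P : Set X → Prop := fun A => ∀ hA : IsOpen A, R (homOfLE (le_top : (⟨A, hA⟩ : Opens X) ≤ ⊤))
  have hP : ∀ A B : Set X, IsOpen A → IsOpen B → A ⊆ B → P B → P A := by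
    intro A B hA hB hAB hPB hA'
    have h1 := R.downward_closed (hPB hB) (homOfLE (show (⟨A, hA'⟩ : Opens X) ≤ ⟨B, hB⟩ from hAB))
    have : homOfLE (show (⟨A, hA'⟩ : Opens X) ≤ ⟨B, hB⟩ from hAB) ≫ homOfLE le_top =
        homOfLE (le_top : (⟨A, hA'⟩ : Opens X) ≤ ⊤) := Subsingleton.elim _ _
    rw [this] at h1
    exact h1
  have hcov : ∀ x : X, ∃ A : Set X, IsOpen A ∧ x ∈ A ∧ P A := by
    intro x
    obtain ⟨A, f, hf, hxA⟩ := hR x (by trivial)
    refine ⟨A.1, A.2, hxA, ?_⟩
    intro hA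
    have : f = homOfLE (le_top : (⟨A.1, hA⟩ : Opens X) ≤ ⊤) := Subsingleton.elim _ _
    rw [← this]
    exact hf
  obtain ⟨m, W, hWc, hWP, hWd, hWu⟩ := exists_disjoint_clopen_refinement P hP hcov
  let Wo : Fin m → Opens X := fun k => ⟨W k, (hWc k).isOpen⟩
  have hWR : ∀ k, R (homOfLE (le_top : Wo k ≤ ⊤)) := fun k => hWP k (hWc k).isOpen
  choose t ht using fun k => hlift (homOfLE (le_top : Wo k ≤ ⊤)) (hWR k)
  -- gluing
  have hcompat : TopCat.Presheaf.IsCompatible (I.cocomplex.X p).obj Wo t := by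
    intro i j
    by_cases hij : i = j
    · subst hij
      rfl
    · have hbot : Wo i ⊓ Wo j = ⊥ := by
        ext x
        simp only [Opens.coe_inf, Opens.coe_bot, Set.mem_inter_iff, Set.mem_empty_iff_false,
          iff_false, not_and]
        intro hxi hxj
        exact Set.disjoint_left.1 (hWd hij) hxi hxj
      have := subsingleton_of_isTerminal
        (TopCat.Sheaf.isTerminalOfEqEmpty (I.cocomplex.X p) hbot)
      exact Subsingleton.elim _ _
  have hcover : (⊤ : Opens X) ≤ iSup Wo := by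
    intro x _
    have hx : x ∈ ⋃ k, W k := by rw [hWu]; trivial
    obtain ⟨k, hk⟩ := Set.mem_iUnion.1 hx
    exact Opens.mem_iSup.2 ⟨k, hk⟩
  obtain ⟨tt, htt, -⟩ := TopCat.Sheaf.existsUnique_gluing' (I.cocomplex.X p) Wo ⊤
    (fun k => homOfLE le_top) hcover t hcompat
  have hd : (S.f.hom.app (op ⊤)).hom tt = s := by
    apply TopCat.Sheaf.eq_of_locally_eq' (I.cocomplex.X (p + 1)) Wo ⊤ (fun k => homOfLE le_top)
      hcover
    intro k
    have h1 := ConcreteCategory.congr_hom (S.f.hom.naturality (homOfLE (le_top : Wo k ≤ ⊤)).op) tt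
    refine h1.symm.trans ?_
    change (S.f.hom.app (op (Wo k))).hom (((I.cocomplex.X p).obj.map (homOfLE le_top).op).hom tt) = _
    have h2 : ((I.cocomplex.X p).obj.map (homOfLE (le_top : Wo k ≤ ⊤)).op).hom tt = t k := htt k
    rw [h2]
    exact ht k
  rw [← hξ, InjectiveResolution.extMk_eq_zero_iff _ _ _ _ _ p rfl]
  refine ⟨CohFree.ofSect _ ⊤ _ tt, ?_⟩
  apply evalGen_injective
  rw [evalGen_comp, CohFree.evalGen_ofSect]
  exact hd

theorem subsingleton_H (F : CohTop.Ab X) (p : ℕ) : Subsingleton (CohTop.H F (p + 1)) := by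
  have hT : IsTerminal (⊤ : Opens X) := isTerminalTop
  refine (HEquivHU (Opens.grothendieckTopology X) hT F (p + 1)).toEquiv.subsingleton_congr.2 ?_
  exact ⟨fun a b => (ext_freeSheaf_top_eq_zero F p a).trans (ext_freeSheaf_top_eq_zero F p b).symm⟩

end Groth.Agent.Lib.Helper13.ProfiniteAcyclic
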