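import Mathlib
import Groth.Agent.Lib.Helper13.CechBasic

/-!
# Čech acyclicity from "localization" properties (abstract form of the standard affine computation)

`P` is a presheaf of abelian groups on a topological space, `V : ι → Opens X` a finite family and
for each `j` a family `φ j N` of endomorphisms of `P` (think: multiplication by `f_j ^ N`) such that
the restriction from `V_{i_0} ∩ ⋯ ∩ V_{i_n}` to `V_j ∩ V_{i_0} ∩ ⋯ ∩ V_{i_n}` is a "localization"
with respect to `φ j` (`IsLoc`), and such that suitable combinations `Σ_j a_j ∘ φ j (N j)` act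
bijectively on all sections over the finite intersections (a partition of unity).  Then the Čech
complex of `P` with respect to `V` is exact in positive degrees (`exists_primitive`,
`isZero_homology`).
-/
set_option autoImplicit false
universe u
open CategoryTheory CategoryTheory.Limits Opposite TopologicalSpace

noncomputable section

namespace Groth.Agent.Lib.Helper13.CechLocal

open CechBasic

variable {X : TopCat.{u}} (P : (Opens X)ᵒᵖ ⥤ AddCommGrpCat.{u}) {ι : Type u} (V : ι → Opens X)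

/-- restriction of sections. -/
def r {W W' : Opens X} (h : W' ≤ W) : P.obj (op W) →+ P.obj (op W') := (P.map (homOfLE h).op).hom

lemma r_r {W W' W'' : Opens X} (h : W' ≤ W) (h' : W'' ≤ W') (x : P.obj (op W)) :
    r P h' (r P h x) = r P (h'.trans h) x := by
  change (P.map (homOfLE h).op ≫ P.map (homOfLE h').op).hom x = _
  rw [← P.map_comp]
  rfl

lemma map_eq_r {W W' : Opens X} (f : W' ⟶ W) (x : P.obj (op W)) :
    (P.map f.op).hom x = r P f.le x := rfl

variable {P} in
lemma r_naturality {Q : (Opens X)ᵒᵖ ⥤ AddCommGrpCat.{u}} (τ : P ⟶ Q) {W W' : Opens X}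
    (h : W' ≤ W) (x : P.obj (op W)) :
    r Q h ((τ.app (op W)).hom x) = (τ.app (op W')).hom (r P h x) :=
  (ConcreteCategory.congr_hom (τ.naturality (homOfLE h).op) x).symm

lemma prod_eq_iInf {n : ℕ} (a : Fin (n + 1) → ι) : ∏ᶜ (V ∘ a) = ⨅ k, V (a k) :=
  le_antisymm (le_iInf fun k => (Pi.π (V ∘ a) k).le)
    (Pi.lift (fun k => homOfLE (iInf_le (fun k => V (a k)) k))).le

lemma le_cons (j : ι) {n : ℕ} (i : Fin (n + 1) → ι) :
    ∏ᶜ (V ∘ (Fin.cons j i : Fin (n + 2) → ι)) ≤ ∏ᶜ (V ∘ i) := by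
  rw [prod_eq_iInf, prod_eq_iInf]
  exact le_iInf fun k => iInf_le (fun k => V ((Fin.cons j i : Fin (n + 2) → ι) k)) k.succ

lemma r_proj_congr {n : ℕ} {a a' : Fin (n + 1) → ι} (h : a = a') {W' : Opens X}
    (le : W' ≤ ∏ᶜ (V ∘ a)) (le' : W' ≤ ∏ᶜ (V ∘ a')) (x : (cx V P).X n) :
    r P le ((proj V P n a).hom x) = r P le' ((proj V P n a').hom x) := by
  subst h
  rfl

/-- the action of a morphism of presheaves on Čech cochains. -/
def A {Q : (Opens X)ᵒᵖ ⥤ AddCommGrpCat.{u}} (τ : P ⟶ Q) (n : ℕ) : (cx V P).X n →+ (cx V Q).X n :=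
  (((cechComplexFunctor V).map τ).f n).hom

variable {P} in
lemma proj_A {Q : (Opens X)ᵒᵖ ⥤ AddCommGrpCat.{u}} (τ : P ⟶ Q) (n : ℕ) (i : Fin (n + 1) → ι)
    (x : (cx V P).X n) :
    (proj V Q n i).hom (A P V τ n x) = (τ.app (op (∏ᶜ (V ∘ i)))).hom ((proj V P n i).hom x) :=
  ConcreteCategory.congr_hom (map_proj V τ n i) x

variable {P} in
lemma d_A {Q : (Opens X)ᵒᵖ ⥤ AddCommGrpCat.{u}} (τ : P ⟶ Q) (n : ℕ) (x : (cx V P).X n) :
    ((cx V Q).d n (n + 1)).hom (A P V τ n x) = A P V τ (n + 1) (((cx V P).d n (n + 1)).hom x) :=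
  ConcreteCategory.congr_hom (((cechComplexFunctor V).map τ).comm n (n + 1)) x

/-- the restriction `P(W) → P(W')` is a localization with respect to the endomorphisms `φ N`. -/
structure IsLoc (φ : ℕ → (P ⟶ P)) {W W' : Opens X} (h : W' ≤ W) : Prop where
  surj : ∀ y : P.obj (op W'), ∃ (N : ℕ) (x : P.obj (op W)),
    r P h x = ((φ N).app (op W')).hom y
  inj : ∀ x : P.obj (op W), r P h x = 0 → ∃ N : ℕ, ((φ N).app (op W)).hom x = 0

section

variable {P} {φ : ℕ → (P ⟶ P)} (hφ : ∀ N K, φ (N + K) = φ N ≫ φ K)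
include hφ

lemma φ_add_apply (N K : ℕ) (W : (Opens X)ᵒᵖ) (x : P.obj W) :
    ((φ (N + K)).app W).hom x = ((φ K).app W).hom (((φ N).app W).hom x) := by
  rw [hφ]
  rfl

lemma IsLoc.surj_of_le {W W' : Opens X} {h : W' ≤ W}
    {y : P.obj (op W')} {N : ℕ} {x : P.obj (op W)}
    (hx : r P h x = ((φ N).app (op W')).hom y) {N' : ℕ} (hN : N ≤ N') :
    ∃ x' : P.obj (op W), r P h x' = ((φ N').app (op W')).hom y := by
  obtain ⟨K, rfl⟩ := Nat.exists_eq_add_of_le hN
  refine ⟨((φ K).app (op W)).hom x, ?_⟩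
  rw [r_naturality, hx, φ_add_apply hφ]

lemma IsLoc.inj_of_le {W : Opens X} {x : P.obj (op W)} {N : ℕ}
    (hx : ((φ N).app (op W)).hom x = 0) {N' : ℕ} (hN : N ≤ N') :
    ((φ N').app (op W)).hom x = 0 := by
  obtain ⟨K, rfl⟩ := Nat.exists_eq_add_of_le hN
  rw [φ_add_apply hφ, hx, map_zero]

end

variable {P V}

/-- the key step: a cocycle becomes a coboundary after applying `φ j M` for `M` large. -/
lemma exists_primitive_mul [Finite ι] {φ : ℕ → (P ⟶ P)} (hφ : ∀ N K, φ (N + K) = φ N ≫ φ K)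
    (j : ι) (hloc : ∀ (n : ℕ) (i : Fin (n + 1) → ι), IsLoc P φ (le_cons V j i))
    (n : ℕ) (c : (cx V P).X (n + 1)) (hc : ((cx V P).d (n + 1) (n + 2)).hom c = 0) :
    ∃ (M : ℕ) (b : (cx V P).X n), ((cx V P).d n (n + 1)).hom b = A P V (φ M) (n + 1) c := by
  -- Step 1
  choose N₀ x₀ hx₀ using fun i : Fin (n + 1) → ι =>
    (hloc n i).surj ((proj V P (n + 1) (Fin.cons j i)).hom c)
  obtain ⟨N, hN⟩ := Finite.exists_le N₀
  choose x hx using fun i : Fin (n + 1) → ι => IsLoc.surj_of_le hφ (hx₀ i) (hN i)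
  let b' : (cx V P).X n := mk V P x
  let e : (cx V P).X (n + 1) := A P V (φ N) (n + 1) c - ((cx V P).d n (n + 1)).hom b'
  -- Step 2
  have he : ∀ a : Fin (n + 2) → ι, r P (le_cons V j a) ((proj V P (n + 1) a).hom e) = 0 := by
    intro a
    have h0 : (Fin.cons j a : Fin (n + 3) → ι) ∘ (0 : Fin (n + 3)).succAbove = a := by
      funext k
      simp
    have hs : ∀ k : Fin (n + 2), (Fin.cons j a : Fin (n + 3) → ι) ∘ k.succ.succAbove =
        Fin.cons j (a ∘ k.succAbove) := by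
      intro k
      funext l
      refine Fin.cases ?_ (fun l' => ?_) l
      · simp
      · simp
    -- the cocycle condition at `cons j a`
    have hcoc := d_apply V P (n + 1) c (Fin.cons j a)
    rw [hc, map_zero, Fin.sum_univ_succ] at hcoc
    simp only [Fin.val_zero, pow_zero, one_smul, Fin.val_succ, pow_succ, mul_neg, mul_one,
      neg_smul, Finset.sum_neg_distrib] at hcoc
    have hcoc' := eq_of_sub_eq_zero ((sub_eq_add_neg _ _).trans hcoc.symm)
    -- rewrite both sides of `hcoc'`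
    have hL : (P.map (face V (Fin.cons j a) 0).op).hom
        ((proj V P (n + 1) ((Fin.cons j a : Fin (n + 3) → ι) ∘ (0 : Fin (n + 3)).succAbove)).hom c) =
        r P (le_cons V j a) ((proj V P (n + 1) a).hom c) := by
      rw [map_eq_r]
      exact r_proj_congr P V h0 _ _ c
    have hR : ∀ k : Fin (n + 2), (P.map (face V (Fin.cons j a) k.succ).op).hom
        ((proj V P (n + 1) ((Fin.cons j a : Fin (n + 3) → ι) ∘ k.succ.succAbove)).hom c) =
        r P ((face V (Fin.cons j a) k.succ).le.trans (le_of_eq (congrArg (fun t => ∏ᶜ (V ∘ t)) (hs k))))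
          ((proj V P (n + 1) (Fin.cons j (a ∘ k.succAbove))).hom c) := by
      intro k
      rw [map_eq_r]
      exact r_proj_congr P V (hs k) _ _ c
    rw [hL] at hcoc'
    simp only [hR] at hcoc'
    -- now compute
    change r P (le_cons V j a) ((proj V P (n + 1) a).hom
      (A P V (φ N) (n + 1) c - ((cx V P).d n (n + 1)).hom b')) = 0
    rw [map_sub, map_sub, proj_A, r_naturality, hcoc', d_apply, map_sum, map_sum, sub_eq_zero]
    refine Finset.sum_congr rfl (fun k _ => ?_)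
    try simp only [map_zsmul]
    congr 1
    have h1 : (proj V P n (a ∘ k.succAbove)).hom b' = x (a ∘ k.succAbove) := proj_mk V P x _
    have h2 := hx (a ∘ k.succAbove)
    rw [map_eq_r, r_r, h1, ← r_naturality, ← h2, r_r]
  -- Step 3
  choose N₁ hN₁ using fun a : Fin (n + 2) → ι => (hloc (n + 1) a).inj _ (he a)
  obtain ⟨N', hN'⟩ := Finite.exists_le N₁
  have he0 : A P V (φ N') (n + 1) e = 0 := by
    apply ext_elem
    intro a
    rw [proj_A, map_zero]
    exact IsLoc.inj_of_le hφ (hN₁ a) (hN' a)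
  refine ⟨N + N', A P V (φ N') n b', ?_⟩
  rw [d_A]
  have h3 : A P V (φ N') (n + 1) (((cx V P).d n (n + 1)).hom b') =
      A P V (φ N') (n + 1) (A P V (φ N) (n + 1) c) := by
    have h4 : A P V (φ N') (n + 1) (A P V (φ N) (n + 1) c - ((cx V P).d n (n + 1)).hom b') = 0 := he0
    rw [map_sub, sub_eq_zero] at h4
    exact h4.symm
  rw [h3]
  apply ext_elem
  intro a
  rw [proj_A, proj_A, proj_A, φ_add_apply hφ]

/-- **Čech acyclicity from localization properties and a partition of unity.** -/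
theorem exists_primitive [Fintype ι] (φ : ι → ℕ → (P ⟶ P))
    (hφ : ∀ j N K, φ j (N + K) = φ j N ≫ φ j K)
    (hloc : ∀ (j : ι) (n : ℕ) (i : Fin (n + 1) → ι), IsLoc P (φ j) (le_cons V j i))
    (hu : ∀ N : ι → ℕ, ∃ (ψ : P ⟶ P) (a : ι → (P ⟶ P)),
      (∀ (W : (Opens X)ᵒᵖ) (x : P.obj W),
        ∑ j, ((a j).app W).hom (((φ j (N j)).app W).hom x) = (ψ.app W).hom x) ∧
      ∀ (n : ℕ) (i : Fin (n + 1) → ι), Function.Bijective ((ψ.app (op (∏ᶜ (V ∘ i)))).hom))
    (n : ℕ) (c : (cx V P).X (n + 1)) (hc : ((cx V P).d (n + 1) (n + 2)).hom c = 0) :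
    ∃ b : (cx V P).X n, ((cx V P).d n (n + 1)).hom b = c := by
  choose M b hb using fun j : ι => exists_primitive_mul (hφ j) j (hloc j) n c hc
  obtain ⟨ψ, a, hsum, hbij⟩ := hu M
  let c' : (cx V P).X n := ∑ j, A P V (a j) n (b j)
  have hc' : ((cx V P).d n (n + 1)).hom c' = A P V ψ (n + 1) c := by
    change ((cx V P).d n (n + 1)).hom (∑ j, A P V (a j) n (b j)) = _
    rw [map_sum]
    apply ext_elem
    intro i
    rw [map_sum, proj_A, ← hsum]
    refine Finset.sum_congr rfl (fun j _ => ?_)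
    rw [d_A, hb j, proj_A, proj_A]
  let x : (cx V P).X n := mk V P (fun i =>
    (Equiv.ofBijective _ (hbij n i)).symm ((proj V P n i).hom c'))
  have hx : A P V ψ n x = c' := by
    apply ext_elem
    intro i
    rw [proj_A]
    have h1 : (proj V P n i).hom x =
        (Equiv.ofBijective _ (hbij n i)).symm ((proj V P n i).hom c') := proj_mk V P _ _
    rw [h1]
    exact (Equiv.ofBijective _ (hbij n i)).apply_symm_apply _
  refine ⟨x, ?_⟩
  have h2 : A P V ψ (n + 1) (((cx V P).d n (n + 1)).hom x) = A P V ψ (n + 1) c := by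
    rw [← d_A, hx, hc']
  apply ext_elem
  intro i
  apply (hbij (n + 1) i).1
  rw [← proj_A, ← proj_A, h2]

theorem isZero_homology [Fintype ι] (φ : ι → ℕ → (P ⟶ P))
    (hφ : ∀ j N K, φ j (N + K) = φ j N ≫ φ j K)
    (hloc : ∀ (j : ι) (n : ℕ) (i : Fin (n + 1) → ι), IsLoc P (φ j) (le_cons V j i))
    (hu : ∀ N : ι → ℕ, ∃ (ψ : P ⟶ P) (a : ι → (P ⟶ P)),
      (∀ (W : (Opens X)ᵒᵖ) (x : P.obj W),
        ∑ j, ((a j).app W).hom (((φ j (N j)).app W).hom x) = (ψ.app W).hom x) ∧
      ∀ (n : ℕ) (i : Fin (n + 1) → ι), Function.Bijective ((ψ.app (op (∏ᶜ (V ∘ i)))).hom))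
    (n : ℕ) : IsZero ((cx V P).homology (n + 1)) := by
  rw [← HomologicalComplex.exactAt_iff_isZero_homology,
    HomologicalComplex.exactAt_iff' _ n (n + 1) (n + 2) (by simp) (by simp),
    ShortComplex.ab_exact_iff]
  intro c hc
  exact exists_primitive φ hφ hloc hu n c hc

end Groth.Agent.Lib.Helper13.CechLocal
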