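import Mathlib
import Groth.Agent.Lib.Helper13.CechLocal

/-!
# Čech acyclicity of quasi-coherent modules on `Spec R` for standard coverings

For an `𝒪_{Spec R}`-module `M` which is "localizing" (`AlgebraicGeometry.IsLocalizing`, e.g. `M^~`
or any quasi-coherent module), `g : R` and a finite family `f : ι → R` with
`D(g) = ⋃ D(f j)`, the Čech complex of `M` with respect to the family `D(f j)` is exact in positive
degrees (`isZero_cechH_of_isLocalizing`).
-/
set_option autoImplicit false
universe u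
open CategoryTheory CategoryTheory.Limits Opposite TopologicalSpace AlgebraicGeometry
open PrimeSpectrum
open Groth.Agent.Lib.Helper13 Groth.Agent.Lib.Helper13.CechLocal CechBasic

noncomputable section

namespace Groth.Agent.Lib.Helper13.TildeCech

variable {R : CommRingCat.{u}} (M : (Spec R).Modules)

/-- multiplication by `r : R` as an endomorphism of the underlying presheaf. -/
def sm (r : R) : M.presheaf ⟶ M.presheaf where
  app U := AddCommGrpCat.ofHom (DistribSMul.toAddMonoidHom Γ(M, U.unop) r)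
  naturality U V i := by
    ext x
    exact (Scheme.Modules.map_smul_Spec (M := M) (U := V.unop) (V := U.unop) i r x).symm

lemma sm_app (r : R) (U : (Spec R).Opens) (x : Γ(M, U)) :
    ((sm M r).app (op U)).hom x = r • x := rfl

lemma sm_mul (r s : R) : sm M (r * s) = sm M r ≫ sm M s := by
  ext U x
  change (r * s) • x = s • (r • x)
  rw [mul_comm, mul_smul]

/-- the `R`-linear restriction maps. -/
def res {W W' : (Spec R).Opens} (le : W' ≤ W) : Γ(M, W) →ₗ[R] Γ(M, W') :=
  ((modulesSpecToSheaf.obj M).obj.map (homOfLE le).op).hom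

lemma res_apply {W W' : (Spec R).Opens} (le : W' ≤ W) (x : Γ(M, W)) :
    res M le x = r M.presheaf le x := rfl

lemma res_res {W W' W'' : (Spec R).Opens} (le : W' ≤ W) (le' : W'' ≤ W') (x : Γ(M, W)) :
    res M le' (res M le x) = res M (le'.trans le) x :=
  r_r M.presheaf le le' x

/-- restriction from the global sections. -/
def ρ (U : (Spec R).Opens) : Γ(M, (⊤ : (Spec R).Opens)) →ₗ[R] Γ(M, U) := res M le_top

lemma res_ρ {W W' : (Spec R).Opens} (le : W' ≤ W) (m : Γ(M, (⊤ : (Spec R).Opens))) :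
    res M le (ρ M W m) = ρ M W' m := res_res M _ _ m

lemma exists_pow_smul_eq {W : (Spec R).Opens} {h : R} (hW : W ≤ basicOpen h) (N : ℕ)
    (u : Γ(M, W)) : ∃ x : Γ(M, W), h ^ N • x = u := by
  have hu := (Scheme.Modules.isUnit_algebraMap_end_of_le_basicOpen (M := M) h hW).pow N
  rw [← map_pow, Module.End.isUnit_iff] at hu
  obtain ⟨x, hx⟩ := hu.2 u
  exact ⟨x, hx⟩

lemma isLoc_aux (h f : R) (W W' : (Spec R).Opens) (le : W' ≤ W)
    (L1 : IsLocalizedModule (.powers h) (ρ M W))
    (L2 : IsLocalizedModule (.powers (h * f)) (ρ M W'))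
    (hW : W ≤ basicOpen h) :
    IsLoc M.presheaf (fun N => sm M (f ^ N)) le := by
  have reg : ∀ N : ℕ, IsSMulRegular Γ(M, W) (h ^ N) := fun N =>
    (Scheme.Modules.isSMulRegular_of_le_basicOpen (M := M) hW).pow N
  have reg' : ∀ N : ℕ, IsSMulRegular Γ(M, W') (h ^ N) := fun N =>
    (Scheme.Modules.isSMulRegular_of_le_basicOpen (M := M) (le.trans hW)).pow N
  constructor
  · intro y
    obtain ⟨⟨m, s⟩, hm⟩ := IsLocalizedModule.surj (.powers (h * f)) (ρ M W') y
    obtain ⟨N, hN⟩ := s.2
    have hN' : (h * f) ^ N = (s : R) := hN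
    have hm' : (h * f) ^ N • y = ρ M W' m := by
      rw [hN']
      exact hm
    obtain ⟨x, hx⟩ := exists_pow_smul_eq M hW N (ρ M W m)
    refine ⟨N, x, ?_⟩
    change res M le x = f ^ N • y
    apply reg' N
    change h ^ N • res M le x = h ^ N • f ^ N • y
    rw [← map_smul, hx, res_ρ, ← hm', mul_pow, mul_smul]
  · intro x hx
    have hx' : res M le x = 0 := hx
    obtain ⟨⟨m, s⟩, hm⟩ := IsLocalizedModule.surj (.powers h) (ρ M W) x
    obtain ⟨K, hK⟩ := s.2
    have hK' : h ^ K = (s : R) := hK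
    have hm' : h ^ K • x = ρ M W m := by
      rw [hK']
      exact hm
    have h0 : ρ M W' m = 0 := by
      rw [← res_ρ M le, ← hm', map_smul, hx', smul_zero]
    obtain ⟨s', hs'⟩ := (IsLocalizedModule.eq_zero_iff (.powers (h * f)) (ρ M W')).1 h0
    obtain ⟨N, hN⟩ := s'.2
    have hN' : (h * f) ^ N = (s' : R) := hN
    have h1 : (h * f) ^ N • m = 0 := by
      rw [hN']
      exact hs'
    refine ⟨N, ?_⟩
    change f ^ N • x = 0
    apply reg (N + K)
    change h ^ (N + K) • f ^ N • x = h ^ (N + K) • (0 : Γ(M, W))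
    rw [smul_zero]
    calc h ^ (N + K) • f ^ N • x = (h * f) ^ N • (h ^ K • x) := by
          rw [← mul_smul, ← mul_smul, mul_pow, pow_add]
          congr 1
          ring
      _ = 0 := by rw [hm', ← map_smul, h1, map_zero]

variable {M}

lemma isLoc (hM : IsLocalizing (modulesSpecToSheaf.obj M)) (h f : R) {W W' : (Spec R).Opens}
    (hW : W = basicOpen h) (hW' : W' = basicOpen (h * f)) (le : W' ≤ W) :
    IsLoc M.presheaf (fun N => sm M (f ^ N)) le :=
  isLoc_aux M h f W W' le (by subst hW; exact hM h) (by subst hW'; exact hM (h * f))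
    (le_of_eq hW)

lemma prod_basicOpen {ι : Type u} (V : ι → (Spec R).Opens) (f : ι → R)
    (hV : ∀ j, V j = basicOpen (f j)) {n : ℕ} (a : Fin (n + 1) → ι) :
    ∏ᶜ (V ∘ a) = basicOpen (∏ k, f (a k)) := by
  rw [CechLocal.prod_eq_iInf]
  apply le_antisymm
  · intro x hx
    have hx' : ∀ k, f (a k) ∉ (show PrimeSpectrum R from x).asIdeal := by
      intro k
      have h1 : x ∈ V (a k) := (iInf_le (fun k => V (a k)) k) hx
      rw [hV] at h1
      exact h1
    change (∏ k, f (a k)) ∉ (show PrimeSpectrum R from x).asIdeal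
    rw [Ideal.IsPrime.prod_mem_iff]
    rintro ⟨k, -, hk⟩
    exact hx' k hk
  · refine le_iInf fun k => ?_
    rw [hV]
    intro x hx
    change f (a k) ∉ (show PrimeSpectrum R from x).asIdeal
    intro hk
    apply (show (∏ k, f (a k)) ∉ (show PrimeSpectrum R from x).asIdeal from hx)
    exact Ideal.mem_of_dvd _ (Finset.dvd_prod_of_mem _ (Finset.mem_univ k)) hk

lemma prod_le_basicOpen {ι : Type u} (V : ι → (Spec R).Opens) (g : R)
    (hle : ∀ j, V j ≤ basicOpen g) {n : ℕ} (a : Fin (n + 1) → ι) :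
    ∏ᶜ (V ∘ a) ≤ basicOpen g :=
  (Pi.π (V ∘ a) 0).le.trans (hle (a 0))

/-- partition of unity: a power of `g` is a combination of the `f j ^ N j`. -/
lemma exists_pow_eq_sum {ι : Type u} [Fintype ι] (V : ι → (Spec R).Opens) (f : ι → R)
    (hV : ∀ j, V j = basicOpen (f j)) (g : R)
    (hcov : (basicOpen g : (Spec R).Opens) ≤ ⨆ j, V j) (N : ι → ℕ) :
    ∃ (K : ℕ) (b : ι → R), ∑ j, b j * f j ^ N j = g ^ K := by
  have hg : g ∈ (Ideal.span (Set.range fun j => f j ^ N j)).radical := by
    rw [← PrimeSpectrum.vanishingIdeal_zeroLocus_eq_radical, PrimeSpectrum.mem_vanishingIdeal]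
    intro x hx
    by_contra hgx
    have hx1 : x ∈ (basicOpen g : (Spec R).Opens) := hgx
    have hx2 := hcov hx1
    obtain ⟨j, hj⟩ := Opens.mem_iSup.1 hx2
    rw [hV j] at hj
    apply hj
    have hx3 : f j ^ N j ∈ x.asIdeal := by
      apply hx
      exact Ideal.subset_span ⟨j, rfl⟩
    exact Ideal.IsPrime.mem_of_pow_mem inferInstance _ hx3
  obtain ⟨K, hK⟩ := hg
  obtain ⟨b, hb⟩ := Ideal.mem_span_range_iff_exists_fun.1 hK
  exact ⟨K, b, hb⟩

/-- **Čech acyclicity of localizing modules for standard coverings of basic opens.** -/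
theorem isZero_cechH_of_isLocalizing (hM : IsLocalizing (modulesSpecToSheaf.obj M))
    {ι : Type u} [Fintype ι] (V : ι → (Spec R).Opens) (f : ι → R)
    (hV : ∀ j, V j = basicOpen (f j)) (g : R)
    (hle : ∀ j, V j ≤ basicOpen g)
    (hcov : (basicOpen g : (Spec R).Opens) ≤ ⨆ j, V j) (n : ℕ) :
    IsZero ((cx V M.presheaf).homology (n + 1)) := by
  refine CechLocal.isZero_homology (fun j N => sm M (f j ^ N)) ?_ ?_ ?_ n
  · intro j N K
    rw [pow_add, sm_mul]
  · intro j n i
    refine isLoc hM (∏ k, f (i k)) (f j) (prod_basicOpen V f hV i) ?_ _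
    rw [prod_basicOpen V f hV, Fin.prod_univ_succ, mul_comm]
    rfl
  · intro N
    obtain ⟨K, b, hb⟩ := exists_pow_eq_sum V f hV g hcov N
    refine ⟨sm M (g ^ K), fun j => sm M (b j), ?_, ?_⟩
    · intro W x
      induction W using Opposite.rec with | op W => ?_
      change ∑ j, b j • (f j ^ N j • x) = g ^ K • x
      rw [← hb, Finset.sum_smul]
      exact Finset.sum_congr rfl (fun j _ => (mul_smul _ _ _).symm)
    · intro n i
      have hu := (Scheme.Modules.isUnit_algebraMap_end_of_le_basicOpen (M := M) g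
        (prod_le_basicOpen V g hle i)).pow K
      rw [← map_pow, Module.End.isUnit_iff] at hu
      exact hu

end Groth.Agent.Lib.Helper13.TildeCech
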