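import Mathlib
import Groth.Prelude.Def_CohTop
import Groth.Agent.Lib.Helper13.SiteCohLocal

/-!
# Cohomology over an open subset of a topological space

* `constCongrIso`, `HEquivCongr`: cohomology is invariant under an equivalence of sites.
* `HUEquivRestr : H^n(U, F) ≃+ H^n(U, F|_U)`.
-/
set_option autoImplicit false
universe u
open CategoryTheory CategoryTheory.Limits Opposite CategoryTheory.Abelian TopologicalSpace
open Groth.Agent.Lib.Helper13.OverRestrAcyclic Groth.Agent.Lib.Helper13.ExtAdj
open Groth.Agent.Lib.Helper13.SiteCohLocal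

noncomputable section

namespace Groth.Agent.Lib.Helper13.TopCohLocal

section Congr

variable {D D' : Type u} [SmallCategory D] [SmallCategory D'] (J : GrothendieckTopology D)
  (K : GrothendieckTopology D') (e : D ≌ D') [e.inverse.IsDenseSubsite K J]
  {T : D} (hT : IsTerminal T)

/-- The constant sheaf functor commutes with an equivalence of sites. -/
def constCongrIso : constantSheaf J AddCommGrpCat.{u} ⋙ (e.sheafCongr J K AddCommGrpCat.{u}).functor ≅
    constantSheaf K AddCommGrpCat.{u} :=
  ((constantSheafAdj J AddCommGrpCat.{u} hT).comp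
    (e.sheafCongr J K AddCommGrpCat.{u}).toAdjunction).leftAdjointUniq
    ((constantSheafAdj K AddCommGrpCat.{u} (IsTerminal.isTerminalObj e.functor T hT)).ofNatIsoRight
      (NatIso.ofComponents (fun _ => Iso.refl _)))

/-- Cohomology is invariant under an equivalence of sites. -/
def HEquivCongr (G : Sheaf J AddCommGrpCat.{u}) (n : ℕ) :
    Sheaf.H.{u} G n ≃+ Sheaf.H.{u} ((e.sheafCongr J K AddCommGrpCat.{u}).functor.obj G) n :=
  have : (e.sheafCongr J K AddCommGrpCat.{u}).symm.inverse.Additive :=
    Functor.additive_of_preserves_binary_products _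
  (extIsoLeft (((e.sheafCongr J K AddCommGrpCat.{u}).inverse.mapIso
      ((constCongrIso J K e hT).app (AddCommGrpCat.of (ULift ℤ)))).symm ≪≫
      ((e.sheafCongr J K AddCommGrpCat.{u}).unitIso.app (constZ J)).symm) G n).trans
    (extAdjEquiv' (e.sheafCongr J K AddCommGrpCat.{u}).symm.toAdjunction (constZ K) G n)

end Congr

variable {X : TopCat.{u}}

/-- `H^n(U, F) ≃ H^n(U, F|_U)` for an open `U` of a topological space. -/
def HUEquivRestr (F : CohTop.Ab X) (U : Opens X) (n : ℕ) :
    CohTop.HU F n U ≃+ CohTop.H (CohTop.restr F U) n :=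
  (HUEquivOver (Opens.grothendieckTopology X) U F n).trans
    (HEquivCongr ((Opens.grothendieckTopology X).over U) (Opens.grothendieckTopology U)
      U.overEquivalence Over.mkIdTerminal (F.over U) n)

end Groth.Agent.Lib.Helper13.TopCohLocal
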