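import Mathlib
import Groth.Prelude
import Groth.Agent.Lib.Helper13.TildeCech
import Groth.Agent.Lib.Helper13.CechTop
import Groth.Agent.Lib.Helper13.TopCohLocal
import Groth.Agent.Lib.Helper13.ProfiniteAcyclic

/-!
# Serre's vanishing theorem: quasi-coherent modules on affine schemes are acyclic

* `subsingleton_HU_spec`: `H^{p+1}(D(g), M) = 0` for a localizing module on `Spec R`.
* `subsingleton_HH_of_isAffine`: `H^{p+1}(Z, N) = 0` for `Z` affine and `N` quasi-coherent.
* `subsingleton_HU_of_isAffineOpen`: `H^{p+1}(W, M) = 0` for an affine open `W` of a scheme `X` and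
  a quasi-coherent module `M` on `X`.
-/
set_option autoImplicit false
universe u
open CategoryTheory CategoryTheory.Limits Opposite TopologicalSpace AlgebraicGeometry
open PrimeSpectrum
open Groth.Agent.Lib.Helper13

noncomputable section

namespace Groth.Agent.Lib.Helper13.AffineVanish

section Spec

variable {R : CommRingCat.{u}}

/-- the standard coverings of basic opens of `Spec R` by finitely many basic opens. -/
def Cov (R : CommRingCat.{u}) (ι : Type u) (V : ι → (Spec R).Opens) : Prop :=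
  Finite ι ∧ ∃ (f : ι → R) (g : R), (∀ j, V j = basicOpen (f j)) ∧ (∀ j, V j ≤ basicOpen g) ∧
    (basicOpen g : (Spec R).Opens) ≤ ⨆ j, V j

/-- the basic opens. -/
def B (R : CommRingCat.{u}) : Set (Spec R).Opens := {U | ∃ g : R, U = basicOpen g}

/-- basic opens of `Spec R` with the type `(Spec R).Opens`. -/
def bO (g : R) : (Spec R).Opens := basicOpen g

lemma exists_refinement (g : R) {κ : Type u} (W : κ → (Spec R).Opens)
    (hW : iSup W = (basicOpen g : (Spec R).Opens)) :
    ∃ (ι : Type u) (V : ι → (Spec R).Opens), Cov R ι V ∧ iSup V = (basicOpen g : (Spec R).Opens) ∧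
      ∀ i, ∃ k, V i ≤ W k := by
  let S : Set R := {f | ∃ k, bO f ≤ W k}
  have hcov : (bO g : Set (Spec R)) ⊆ ⋃ f : S, (bO f.1 : Set (Spec R)) := by
    intro x hx
    have hx' : x ∈ iSup W := by rw [hW]; exact hx
    obtain ⟨k, hk⟩ := Opens.mem_iSup.1 hx'
    obtain ⟨a, ⟨_, ⟨f, rfl⟩, rfl⟩, hxf, hfW⟩ :=
      PrimeSpectrum.isBasis_basic_opens.exists_subset_of_mem_open hk (W k).2
    exact Set.mem_iUnion.2 ⟨⟨f, k, hfW⟩, hxf⟩
  obtain ⟨t, ht⟩ := IsCompact.elim_finite_subcover (PrimeSpectrum.isCompact_basicOpen g)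
    (fun f : S => (bO f.1 : Set (Spec R))) (fun f => (bO f.1).2) hcov
  let V : t → (Spec R).Opens := fun i => bO (g * i.1.1)
  have hVle : ∀ i, V i ≤ bO g := fun i => by
    change (basicOpen (g * i.1.1) : (Spec R).Opens) ≤ basicOpen g
    rw [PrimeSpectrum.basicOpen_mul]
    exact inf_le_left
  have hle : bO g ≤ ⨆ i, V i := by
    intro x hx
    obtain ⟨f, hf, hxf⟩ := Set.mem_iUnion₂.1 (ht hx)
    refine Opens.mem_iSup.2 ⟨⟨f, hf⟩, ?_⟩
    change x ∈ (basicOpen (g * f.1) : (Spec R).Opens)
    rw [PrimeSpectrum.basicOpen_mul]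
    exact ⟨hx, hxf⟩
  refine ⟨t, V, ⟨inferInstance, fun i => g * i.1.1, g, fun _ => rfl, hVle, hle⟩,
    le_antisymm (iSup_le hVle) hle, ?_⟩
  intro i
  obtain ⟨k, hk⟩ := i.1.2
  refine ⟨k, le_trans ?_ hk⟩
  change (basicOpen (g * i.1.1) : (Spec R).Opens) ≤ basicOpen i.1.1
  rw [PrimeSpectrum.basicOpen_mul]
  exact inf_le_right

/-- vanishing of the higher cohomology of a localizing module on the basic opens of `Spec R`. -/
theorem subsingleton_HU_spec (M : (Spec R).Modules)
    (hM : IsLocalizing (modulesSpecToSheaf.obj M)) (g : R) (p : ℕ) :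
    Subsingleton (CohTop.HU (Coh.toAb M) (p + 1) (basicOpen g : (Spec R).Opens)) := by
  refine CechTop.subsingleton_HU_of_cech (B R) (Cov R) ?_ ?_ (Coh.toAb M) ?_ _ ⟨g, rfl⟩ p
  · rintro ι V ⟨_, f, g, hV, -, -⟩ p a
    exact ⟨∏ k, f (a k), TildeCech.prod_basicOpen V f hV a⟩
  · rintro U ⟨g, rfl⟩ κ W hW
    exact exists_refinement g W hW
  · rintro ι V ⟨hfin, f, g, hV, hle, hcov⟩ p
    have := Fintype.ofFinite ι
    exact TildeCech.isZero_cechH_of_isLocalizing hM V f hV g hle hcov p

theorem subsingleton_HH_spec (M : (Spec R).Modules) [M.IsQuasicoherent] (p : ℕ) :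
    Subsingleton (Coh.HH (Spec R) M (p + 1)) := by
  have hM : IsLocalizing (modulesSpecToSheaf.obj M) :=
    (isIso_fromTildeΓ_iff_isLocalizing M).1 inferInstance
  have h := subsingleton_HU_spec M hM 1 p
  have hT : IsTerminal (⊤ : (Spec R).Opens) := isTerminalTop
  have e := ProfiniteAcyclic.HEquivHU (Opens.grothendieckTopology (Spec R)) hT (Coh.toAb M) (p + 1)
  rw [PrimeSpectrum.basicOpen_one] at h
  exact e.toEquiv.subsingleton_congr.2 h

end Spec

section Homeo

variable {Z S : TopCat.{u}} (φ : Z ≅ S)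

instance isDenseSubsite_map : (Opens.map φ.hom).IsDenseSubsite
    (Opens.grothendieckTopology S) (Opens.grothendieckTopology Z) := by
  have : (Opens.map φ.hom).IsEquivalence :=
    inferInstanceAs ((Opens.mapMapIso φ).functor.IsEquivalence)
  refine { functorPushforward_mem_iff := ?_ }
  intro W T
  constructor
  · intro h s hs
    have hz : φ.inv s ∈ (Opens.map φ.hom).obj W := by
      change φ.hom (φ.inv s) ∈ W
      have : φ.hom (φ.inv s) = s := ConcreteCategory.congr_hom φ.inv_hom_id s
      rw [this]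
      exact hs
    obtain ⟨V, f, ⟨W', g, k, hg, -⟩, hzV⟩ := h (φ.inv s) hz
    refine ⟨W', g, hg, ?_⟩
    have h1 : φ.inv s ∈ (Opens.map φ.hom).obj W' := k.le hzV
    have h2 : φ.hom (φ.inv s) ∈ W' := h1
    have : φ.hom (φ.inv s) = s := ConcreteCategory.congr_hom φ.inv_hom_id s
    rw [this] at h2
    exact h2
  · intro h z hz
    obtain ⟨W', g, hg, hs⟩ := h (φ.hom z) hz
    exact ⟨(Opens.map φ.hom).obj W', (Opens.map φ.hom).map g,
      ⟨W', g, 𝟙 _, hg, (Category.id_comp _).symm⟩, hs⟩

/-- cohomology is invariant under homeomorphisms. -/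
def HEquivPushIso (G : CohTop.Ab Z) (n : ℕ) :
    CohTop.H G n ≃+ CohTop.H ((CohTop.push φ.hom).obj G) n :=
  haveI : (Opens.mapMapIso φ).symm.inverse.IsDenseSubsite
      (Opens.grothendieckTopology S) (Opens.grothendieckTopology Z) := isDenseSubsite_map φ
  TopCohLocal.HEquivCongr (Opens.grothendieckTopology Z) (Opens.grothendieckTopology S)
    (Opens.mapMapIso φ).symm (isTerminalTop : IsTerminal (⊤ : Opens Z)) G n

end Homeo

section SchemeIso

variable {Z S : Scheme.{u}} (φ : Z ≅ S)

/-- pushforward of modules along an isomorphism of schemes is an equivalence. -/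
def pushEquivalence : Z.Modules ≌ S.Modules :=
  CategoryTheory.Equivalence.mk (Scheme.Modules.pushforward φ.hom) (Scheme.Modules.pushforward φ.inv)
    ((Scheme.Modules.pushforwardId Z).symm ≪≫ Scheme.Modules.pushforwardCongr φ.hom_inv_id.symm ≪≫
      (Scheme.Modules.pushforwardComp φ.hom φ.inv).symm)
    (Scheme.Modules.pushforwardComp φ.inv φ.hom ≪≫ Scheme.Modules.pushforwardCongr φ.inv_hom_id ≪≫
      Scheme.Modules.pushforwardId S)

/-- restriction along the inverse of an isomorphism is the pushforward. -/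
def restrictIsoPush : Scheme.Modules.restrictFunctor φ.inv ≅ Scheme.Modules.pushforward φ.hom :=
  (Scheme.Modules.restrictAdjunction φ.inv).leftAdjointUniq (pushEquivalence φ).toAdjunction

lemma isQuasicoherent_pushforward_iso (N : Z.Modules) [N.IsQuasicoherent] :
    ((Scheme.Modules.pushforward φ.hom).obj N).IsQuasicoherent :=
  (SheafOfModules.isQuasicoherent S.ringCatSheaf).prop_of_iso ((restrictIsoPush φ).app N)
    (inferInstanceAs ((Scheme.Modules.restrictFunctor φ.inv).obj N).IsQuasicoherent)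

end SchemeIso

/-- **Serre vanishing**: quasi-coherent modules on affine schemes have no higher cohomology. -/
theorem subsingleton_HH_of_isAffine (Z : Scheme.{u}) [IsAffine Z] (N : Z.Modules)
    [N.IsQuasicoherent] (p : ℕ) : Subsingleton (Coh.HH Z N (p + 1)) := by
  have := isQuasicoherent_pushforward_iso Z.isoSpec N
  have h := subsingleton_HH_spec ((Scheme.Modules.pushforward Z.isoSpec.hom).obj N) p
  exact (HEquivPushIso (Scheme.forgetToTop.mapIso Z.isoSpec) (Coh.toAb N)
    (p + 1)).toEquiv.subsingleton_congr.2 h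

/-- `H^n(W, M) ≃ H^n(W, M|_W)`. -/
def HUEquivHHon {X : Scheme.{u}} (M : X.Modules) (W : X.Opens) (n : ℕ) :
    CohTop.HU (Coh.toAb M) n W ≃+ Coh.HHon X M W n :=
  TopCohLocal.HUEquivRestr (Coh.toAb M) W n

/-- quasi-coherent modules have no higher cohomology on affine opens. -/
theorem subsingleton_HU_of_isAffineOpen {X : Scheme.{u}} (M : X.Modules) [M.IsQuasicoherent]
    {W : X.Opens} (hW : IsAffineOpen W) (p : ℕ) :
    Subsingleton (CohTop.HU (Coh.toAb M) (p + 1) W) := by
  have : IsAffine (W : Scheme.{u}) := hW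
  have h := subsingleton_HH_of_isAffine (W : Scheme.{u}) (M.restrict W.ι) p
  exact (HUEquivHHon M W (p + 1)).toEquiv.subsingleton_congr.2 h

end Groth.Agent.Lib.Helper13.AffineVanish
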