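import Mathlib
import Groth.Prelude
import Groth.Agent.Lib.Helper13.AffineVanish

/-!
# Mayer–Vietoris vanishing and cohomological dimension of schemes covered by `t` affines

* `subsingleton_HU_sup`: `H^{n+1}(U ∪ V) = 0` if `H^{n+1}(U) = H^{n+1}(V) = 0` and `H^n(U ∩ V) = 0`.
* `subsingleton_HU_iSup_of_affine`: on a scheme with affine diagonal, a union of `t + 1` affine
  opens has no quasi-coherent cohomology in degrees `> t`.
-/
set_option autoImplicit false
universe u
open CategoryTheory CategoryTheory.Limits Opposite TopologicalSpace AlgebraicGeometry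
open Groth.Agent.Lib.Helper13

noncomputable section

namespace Groth.Agent.Lib.Helper13.AffineCover

lemma subsingleton_HU_sup {T : TopCat.{u}} (F : CohTop.Ab T) (U V : Opens T) (n : ℕ)
    (h1 : Subsingleton (CohTop.HU F (n + 1) U)) (h2 : Subsingleton (CohTop.HU F (n + 1) V))
    (h3 : Subsingleton (CohTop.HU F n (U ⊓ V))) :
    Subsingleton (CohTop.HU F (n + 1) (U ⊔ V)) := by
  let S := Opens.mayerVietorisSquare U V
  have hex := (S.sequence_exact F n (n + 1) rfl).exact 2
  rw [ShortComplex.ab_exact_iff] at hex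
  refine subsingleton_of_forall_eq 0 fun x => ?_
  have hx : S.toBiprod F (n + 1) x = 0 := by
    refine (GrothendieckTopology.MayerVietorisSquare.toBiprod_apply S F x).trans ?_
    have e1 : ((F.cohomologyPresheaf (n + 1)).map S.f₂₄.op) x = 0 := @Subsingleton.elim _ h1 _ _
    have e2 : ((F.cohomologyPresheaf (n + 1)).map S.f₃₄.op) x = 0 := @Subsingleton.elim _ h2 _ _
    have e3 : ((⟨((F.cohomologyPresheaf (n + 1)).map S.f₂₄.op) x,
        ((F.cohomologyPresheaf (n + 1)).map S.f₃₄.op) x⟩ :
        (F.H' (n + 1) S.X₂) × (F.H' (n + 1) S.X₃))) = 0 := Prod.ext e1 e2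
    rw [e3]
    exact map_zero _
  obtain ⟨y, hy⟩ := hex x hx
  have hy0 : y = 0 := @Subsingleton.elim _ h3 _ _
  rw [← hy, hy0]
  exact map_zero _

lemma iSup_fin_succ {α : Type*} [CompleteLattice α] {t : ℕ} (V : Fin (t + 1) → α) :
    (⨆ i, V i) = V 0 ⊔ ⨆ i : Fin t, V i.succ := by
  apply le_antisymm
  · refine iSup_le fun i => ?_
    refine Fin.cases ?_ (fun j => ?_) i
    · exact le_sup_left
    · exact le_sup_of_le_right (le_iSup (fun j : Fin t => V j.succ) j)
  · exact sup_le (le_iSup V 0) (iSup_le fun j => le_iSup V j.succ)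

/-- on a scheme with affine diagonal, a union of `t + 1` affine opens has no quasi-coherent
cohomology in degrees `> t`. -/
theorem subsingleton_HU_iSup_of_affine {X : Scheme.{u}} (M : X.Modules) [M.IsQuasicoherent]
    (hd : ∀ V W : X.Opens, IsAffineOpen V → IsAffineOpen W → IsAffineOpen (V ⊓ W)) :
    ∀ (t : ℕ) (V : Fin (t + 1) → X.Opens), (∀ i, IsAffineOpen (V i)) → ∀ n, t + 1 ≤ n →
      Subsingleton (CohTop.HU (Coh.toAb M) n (⨆ i, V i)) := by
  intro t
  induction t with
  | zero =>
    intro V hV n hn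
    obtain ⟨m, rfl⟩ := Nat.exists_eq_succ_of_ne_zero (Nat.pos_iff_ne_zero.1 hn)
    have h0 : (⨆ i, V i) = V 0 := by
      apply le_antisymm
      · refine iSup_le fun i => ?_
        have hi : i = 0 := Fin.ext (by omega)
        rw [hi]
      · exact le_iSup V 0
    rw [h0]
    exact AffineVanish.subsingleton_HU_of_isAffineOpen M (hV 0) m
  | succ t ih =>
    intro V hV n hn
    obtain ⟨m, rfl⟩ := Nat.exists_eq_succ_of_ne_zero (Nat.pos_iff_ne_zero.1 (by omega : 0 < n))
    have hm : t + 1 ≤ m := by omega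
    rw [iSup_fin_succ V]
    refine subsingleton_HU_sup (Coh.toAb M) (V 0) (⨆ i : Fin (t + 1), V i.succ) m ?_ ?_ ?_
    · exact AffineVanish.subsingleton_HU_of_isAffineOpen M (hV 0) m
    · exact ih (fun i => V i.succ) (fun i => hV i.succ) (m + 1) (by omega)
    · rw [inf_iSup_eq]
      exact ih (fun i => V 0 ⊓ V i.succ) (fun i => hd _ _ (hV 0) (hV i.succ)) m hm

end Groth.Agent.Lib.Helper13.AffineCover
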