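import Mathlib

/-!
# Helper13: right derived functors commute with exact functors

* `mapHomologyObjIso`: an exact functor commutes with the homology of a complex.
* `rightDerivedCompExactObjIso`: `R^n (F ⋙ G) X ≅ G (R^n F X)` for `G` exact.
* `mapInjectiveResolution`: an exact functor preserving injectives maps injective resolutions
  to injective resolutions.
* `rightDerivedExactCompObjIso`: `R^n (G' ⋙ F) X ≅ R^n F (G' X)` for `G'` exact and preserving injectives.
* `rightDerivedObjIsoOfNatIso`: `F ≅ F'` gives `R^n F X ≅ R^n F' X`.
* `rightDerivedBaseChangeObjIso`: `F ⋙ G ≅ G' ⋙ F'` gives `G (R^n F X) ≅ R^n F' (G' X)`.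
-/

set_option autoImplicit false
open CategoryTheory CategoryTheory.Limits

namespace Groth.Agent.Lib.Helper13.DerivedCommute

universe v v' v'' v''' u u' u'' u'''

section Homology

variable {D : Type u'} [Category.{v'} D] [Abelian D]
  {E : Type u''} [Category.{v''} E] [Abelian E]

/-- An exact functor commutes with the homology of a complex. -/
noncomputable def mapHomologyObjIso {ι : Type*} {c : ComplexShape ι} (G : D ⥤ E) [G.Additive]
    [PreservesFiniteLimits G] [PreservesFiniteColimits G] (L : HomologicalComplex D c) (n : ι) :
    ((G.mapHomologicalComplex c).obj L).homology n ≅ G.obj (L.homology n) :=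
  (L.sc n).mapHomologyIso G

end Homology

section Derived

variable {C : Type u} [Category.{v} C] [Abelian C] [HasInjectiveResolutions C]
  {D : Type u'} [Category.{v'} D] [Abelian D]
  {E : Type u''} [Category.{v''} E] [Abelian E]

/-- `R^n (F ⋙ G) X ≅ G (R^n F X)` for an exact functor `G`. -/
noncomputable def rightDerivedCompExactObjIso (F : C ⥤ D) [F.Additive] (G : D ⥤ E) [G.Additive]
    [PreservesFiniteLimits G] [PreservesFiniteColimits G] (n : ℕ) (X : C) :
    ((F ⋙ G).rightDerived n).obj X ≅ G.obj ((F.rightDerived n).obj X) :=
  ((injectiveResolution X).isoRightDerivedObj (F ⋙ G) n) ≪≫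
    mapHomologyObjIso G ((F.mapHomologicalComplex _).obj (injectiveResolution X).cocomplex) n ≪≫
    G.mapIso ((injectiveResolution X).isoRightDerivedObj F n).symm

/-- A natural isomorphism of additive functors induces isomorphisms of right derived functors. -/
noncomputable def rightDerivedObjIsoOfNatIso {F F' : C ⥤ D} [F.Additive] [F'.Additive]
    (e : F ≅ F') (n : ℕ) (X : C) :
    (F.rightDerived n).obj X ≅ (F'.rightDerived n).obj X where
  hom := (NatTrans.rightDerived e.hom n).app X
  inv := (NatTrans.rightDerived e.inv n).app X
  hom_inv_id := by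
    rw [← NatTrans.comp_app, ← NatTrans.rightDerived_comp, e.hom_inv_id,
      NatTrans.rightDerived_id, NatTrans.id_app]
  inv_hom_id := by
    rw [← NatTrans.comp_app, ← NatTrans.rightDerived_comp, e.inv_hom_id,
      NatTrans.rightDerived_id, NatTrans.id_app]

end Derived

section Resolution

variable {C' : Type u'''} [Category.{v'''} C'] [Abelian C']
  {C : Type u} [Category.{v} C] [Abelian C]

/-- An exact functor which preserves injective objects maps an injective resolution to an
injective resolution. -/
noncomputable def mapInjectiveResolution (G : C' ⥤ C) [G.Additive]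
    [PreservesFiniteLimits G] [PreservesFiniteColimits G]
    (hG : ∀ (Y : C'), Injective Y → Injective (G.obj Y)) {X : C'} (I : InjectiveResolution X) :
    InjectiveResolution (G.obj X) where
  cocomplex := (G.mapHomologicalComplex _).obj I.cocomplex
  injective n := hG _ (I.injective n)
  ι := (HomologicalComplex.singleMapHomologicalComplex G (ComplexShape.up ℕ) 0).inv.app X ≫
    (G.mapHomologicalComplex _).map I.ι
  quasiIso := by
    have : QuasiIso ((G.mapHomologicalComplex (ComplexShape.up ℕ)).map I.ι) := inferInstance
    infer_instance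

end Resolution

section Derived2

variable {C' : Type u'''} [Category.{v'''} C'] [Abelian C'] [HasInjectiveResolutions C']
  {C : Type u} [Category.{v} C] [Abelian C] [HasInjectiveResolutions C]
  {D : Type u'} [Category.{v'} D] [Abelian D]
  {E : Type u''} [Category.{v''} E] [Abelian E]

/-- `R^n (G' ⋙ F) X ≅ R^n F (G' X)` for an exact functor `G'` preserving injectives. -/
noncomputable def rightDerivedExactCompObjIso (G' : C' ⥤ C) [G'.Additive]
    [PreservesFiniteLimits G'] [PreservesFiniteColimits G']
    (hG : ∀ (Y : C'), Injective Y → Injective (G'.obj Y))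
    (F : C ⥤ D) [F.Additive] (n : ℕ) (X : C') :
    ((G' ⋙ F).rightDerived n).obj X ≅ (F.rightDerived n).obj (G'.obj X) :=
  ((injectiveResolution X).isoRightDerivedObj (G' ⋙ F) n) ≪≫
    ((mapInjectiveResolution G' hG (injectiveResolution X)).isoRightDerivedObj F n).symm

/-- Base change for derived functors: if `F ⋙ G ≅ G' ⋙ F'` with `G` exact and `G'` exact and
preserving injectives, then `G (R^n F X) ≅ R^n F' (G' X)`. -/
noncomputable def rightDerivedBaseChangeObjIso
    (F : C' ⥤ D) [F.Additive] (G : D ⥤ E) [G.Additive]
    [PreservesFiniteLimits G] [PreservesFiniteColimits G]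
    (G' : C' ⥤ C) [G'.Additive] [PreservesFiniteLimits G'] [PreservesFiniteColimits G']
    (hG : ∀ (Y : C'), Injective Y → Injective (G'.obj Y))
    (F' : C ⥤ E) [F'.Additive] (e : F ⋙ G ≅ G' ⋙ F') (n : ℕ) (X : C') :
    G.obj ((F.rightDerived n).obj X) ≅ (F'.rightDerived n).obj (G'.obj X) :=
  (rightDerivedCompExactObjIso F G n X).symm ≪≫ rightDerivedObjIsoOfNatIso e n X ≪≫
    rightDerivedExactCompObjIso G' hG F' n X

end Derived2

end Groth.Agent.Lib.Helper13.DerivedCommute
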