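import Mathlib
import Groth.Prelude.Def_CohCx
import Groth.Prelude.Def_CohSite
import Groth.Prelude.Def_CohTop
import Groth.Prelude.Def_FreeSh
import Groth.Agent.Lib.Helper13.ExtPresheaf
import Groth.Agent.Lib.Helper13.DerivedCommute

/-!
# Higher direct images are the sheafified cohomology presheaves

* `homPreIso : Hom(ℤ_-, M) ≅ M` as presheaves, naturally in `M`.
* `rightDerivedSheafToPresheafIso : R^i(sheafToPresheaf) F ≅ F.cohomologyPresheaf i`.
* `RpushIso : R^i f_* F ≅ a (V ↦ H^i(w V, F))` for a continuous functor `w` between small sites.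
-/
set_option autoImplicit false
universe u
open CategoryTheory CategoryTheory.Limits Opposite CategoryTheory.Abelian
open Groth.Agent.Lib.Helper13.ExtPresheaf Groth.Agent.Lib.Helper13.DerivedCommute

noncomputable section

namespace Groth.Agent.Lib.Helper13.DerivedPush

variable {C : Type u} [SmallCategory C] (J : GrothendieckTopology C)

/-- the functor `U ↦ ℤ_U`. -/
abbrev freeL : C ⥤ Sheaf J AddCommGrpCat.{u} :=
  yoneda ⋙ (Functor.whiskeringRight _ _ _).obj AddCommGrpCat.free ⋙ presheafToSheaf J _

/-- `Hom(ℤ_U, M) = M(U)`, naturally. -/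
def homPreIso : homPre (freeL J) ≅ sheafToPresheaf J AddCommGrpCat.{u} :=
  NatIso.ofComponents (fun M => NatIso.ofComponents
    (fun U => (CohFree.homEquivSect J U.unop M).toAddCommGrpIso)
    (by
      intro U V φ
      ext g
      exact CohFree.evalGen_freeSheafMap_comp J φ.unop M g))
    (by
      intro M N f
      ext U g
      rfl)

/-- The derived functors of the inclusion of sheaves into presheaves are the cohomology
presheaves. -/
def rightDerivedSheafToPresheafIso (F : Sheaf J AddCommGrpCat.{u}) (i : ℕ) :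
    ((sheafToPresheaf J AddCommGrpCat.{u}).rightDerived i).obj F ≅ F.cohomologyPresheaf i :=
  rightDerivedObjIsoOfNatIso (homPreIso J).symm i F ≪≫ ExtPresheaf.rightDerivedIso (freeL J) F i

variable {D : Type u} [SmallCategory D] (K : GrothendieckTopology D) (w : D ⥤ C)
  [w.IsContinuous K J]

/-- `R^i f_* F` is the sheafification of `V ↦ H^i(w V, F)`. -/
def RpushIso (F : Sheaf J AddCommGrpCat.{u}) (i : ℕ) :
    (CohSite.Rpush J K w i).obj F ≅
      (presheafToSheaf K AddCommGrpCat.{u}).obj (w.op ⋙ F.cohomologyPresheaf i) :=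
  let push := CohSite.push J K w
  let ΨD := sheafToPresheaf K AddCommGrpCat.{u}
  let ΨC := sheafToPresheaf J AddCommGrpCat.{u}
  let a := presheafToSheaf K AddCommGrpCat.{u}
  let W := (Functor.whiskeringLeft Dᵒᵖ Cᵒᵖ AddCommGrpCat.{u}).obj w.op
  let e1 : push ≅ (push ⋙ ΨD) ⋙ a :=
    (Functor.rightUnitor push).symm ≪≫
      Functor.isoWhiskerLeft push (asIso (sheafificationAdjunction K AddCommGrpCat.{u}).counit).symm
      ≪≫ (Functor.associator _ _ _).symm
  let e2 : push ⋙ ΨD ≅ ΨC ⋙ W := NatIso.ofComponents (fun _ => Iso.refl _)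
  rightDerivedObjIsoOfNatIso e1 i F ≪≫
    rightDerivedCompExactObjIso (push ⋙ ΨD) a i F ≪≫
    a.mapIso (rightDerivedObjIsoOfNatIso e2 i F ≪≫
      rightDerivedCompExactObjIso ΨC W i F ≪≫
      W.mapIso (rightDerivedSheafToPresheafIso J F i))

end Groth.Agent.Lib.Helper13.DerivedPush
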