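import Mathlib
import Groth.Prelude
import Groth.Agent.Lib.Helper13.DerivedPush

/-!
# Locally zero presheaves sheafify to zero; vanishing of higher direct images

* `isZero_sheafify_of_locally_zero`
* `isZero_Rpush_of_basis`: `R^i f_* F = 0` if `H^i(f⁻¹ V, F) = 0` for `V` in a basis.
-/
set_option autoImplicit false
universe u
open CategoryTheory CategoryTheory.Limits Opposite TopologicalSpace

noncomputable section

namespace Groth.Agent.Lib.Helper13.LocallyZero

variable {C : Type u} [SmallCategory C] (J : GrothendieckTopology C)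

theorem isZero_sheafify_of_locally_zero (P : Cᵒᵖ ⥤ AddCommGrpCat.{u})
    (h : ∀ (V : C) (s : P.obj (op V)), ∃ R ∈ J V,
      ∀ ⦃W : C⦄ (g : W ⟶ V), R g → (P.map g.op).hom s = 0) :
    IsZero ((presheafToSheaf J AddCommGrpCat.{u}).obj P) := by
  let G := (presheafToSheaf J AddCommGrpCat.{u}).obj P
  have hG : Presieve.IsSheaf J (G.obj ⋙ forget AddCommGrpCat.{u}) :=
    (isSheaf_iff_isSheaf_of_type J _).1
      ((Presheaf.isSheaf_iff_isSheaf_forget J G.obj (forget AddCommGrpCat.{u})).1 G.property)
  have h0 : toSheafify J P = 0 := by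
    ext V s
    induction V using Opposite.rec with | op V => ?_
    obtain ⟨R, hR, hs⟩ := h V s
    apply (hG R hR).isSeparatedFor.ext
    intro W g hg
    change (G.obj.map g.op).hom (((toSheafify J P).app (op V)).hom s) =
      (G.obj.map g.op).hom (0 : G.obj.obj (op V))
    rw [map_zero]
    have h1 := ConcreteCategory.congr_hom ((toSheafify J P).naturality g.op) s
    refine h1.symm.trans ?_
    change ((toSheafify J P).app (op W)).hom ((P.map g.op).hom s) = 0
    rw [hs g hg, map_zero]
  rw [IsZero.iff_id_eq_zero]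
  apply ((sheafificationAdjunction J AddCommGrpCat.{u}).homEquiv P G).injective
  rw [Adjunction.homEquiv_unit, Adjunction.homEquiv_unit]
  change toSheafify J P ≫ _ = toSheafify J P ≫ _
  rw [h0, zero_comp, zero_comp]

theorem isZero_Rpush_of_basis {X Y : TopCat.{u}} (f : X ⟶ Y) (F : CohTop.Ab X) (i : ℕ)
    (B : Set (Opens Y)) (hB : Opens.IsBasis B)
    (h : ∀ V ∈ B, Subsingleton (CohTop.HU F i ((Opens.map f).obj V))) :
    IsZero ((CohTop.Rpush f i).obj F) := by
  refine IsZero.of_iso ?_ (DerivedPush.RpushIso (Opens.grothendieckTopology X)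
    (Opens.grothendieckTopology Y) (Opens.map f) F i)
  apply isZero_sheafify_of_locally_zero
  intro V s
  let R : Sieve V :=
    { arrows := fun W _ => ∃ W' ∈ B, W ≤ W' ∧ W' ≤ V
      downward_closed := by
        rintro W₁ W₂ g ⟨W', hW', h1, h2⟩ k
        exact ⟨W', hW', k.le.trans h1, h2⟩ }
  refine ⟨R, ?_, ?_⟩
  · intro x hx
    obtain ⟨W', hW', hxW', hW'V⟩ := Opens.isBasis_iff_nbhd.1 hB hx
    exact ⟨W', homOfLE hW'V, ⟨W', hW', le_rfl, hW'V⟩, hxW'⟩
  · rintro W g ⟨W', hW', h1, h2⟩
    have hg : g = homOfLE h1 ≫ homOfLE h2 := Subsingleton.elim _ _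
    rw [hg, op_comp, Functor.map_comp]
    have := h W' hW'
    have h3 : ((((Opens.map f).op ⋙ F.cohomologyPresheaf i).map (homOfLE h2).op).hom s) = 0 :=
      Subsingleton.elim _ _
    change ((((Opens.map f).op ⋙ F.cohomologyPresheaf i).map (homOfLE h1).op).hom
      ((((Opens.map f).op ⋙ F.cohomologyPresheaf i).map (homOfLE h2).op).hom s)) = 0
    rw [h3, map_zero]

end Groth.Agent.Lib.Helper13.LocallyZero
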