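import Mathlib
import Groth.Prelude
import Groth.Agent.Lib.Helper13.AffineCover
import Groth.Agent.Lib.Helper13.LocallyZero

/-!
# Cohomological dimension of quasi-compact quasi-separated schemes

`QC d W` is an inductive certificate that the open `W` of a scheme is built from affine opens by
finitely many unions, in such a way that Mayer–Vietoris gives the vanishing of quasi-coherent
cohomology on `W` in degrees `≥ d`.

* `QC.vanish`: `QC d W → H^p(W, M) = 0` for quasi-coherent `M` and `p ≥ d`.
* `QC.inf`: the certificate is stable under intersecting with an open `D` such that `A ⊓ D` is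
  affine for all affine `A`.
* `QC.finset_sup`: finite unions of opens from a class of affine opens closed under `⊓`.
* `QC.exists_of_isCompact`: quasi-compact opens of a quasi-separated scheme have a certificate.
-/
set_option autoImplicit false
universe u
open CategoryTheory CategoryTheory.Limits Opposite TopologicalSpace AlgebraicGeometry
open Groth.Agent.Lib.Helper13

noncomputable section

namespace Groth.Agent.Lib.Helper13.QCDim

/-- certificate of cohomological dimension `< d` by Mayer–Vietoris. -/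
inductive QC {X : Scheme.{u}} : ℕ → X.Opens → Prop
  | affine (W : X.Opens) (h : IsAffineOpen W) : QC 1 W
  | union (d : ℕ) (U V : X.Opens) (hU : QC (d + 1) U) (hV : QC (d + 1) V)
      (hUV : QC d (U ⊓ V)) : QC (d + 1) (U ⊔ V)
  | mono (d d' : ℕ) (W : X.Opens) (h : d ≤ d') (hW : QC d W) : QC d' W

variable {X : Scheme.{u}}

theorem QC.vanish {d : ℕ} {W : X.Opens} (h : QC d W) (M : X.Modules) [M.IsQuasicoherent] :
    ∀ p, d ≤ p → Subsingleton (CohTop.HU (Coh.toAb M) p W) := by
  induction h with
  | affine W h =>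
    intro p hp
    obtain ⟨m, rfl⟩ := Nat.exists_eq_succ_of_ne_zero (Nat.pos_iff_ne_zero.1 hp)
    exact AffineVanish.subsingleton_HU_of_isAffineOpen M h m
  | union d U V hU hV hUV ihU ihV ihUV =>
    intro p hp
    obtain ⟨m, rfl⟩ := Nat.exists_eq_succ_of_ne_zero (Nat.pos_iff_ne_zero.1 (by omega : 0 < p))
    exact AffineCover.subsingleton_HU_sup (Coh.toAb M) U V m (ihU (m + 1) (by omega))
      (ihV (m + 1) (by omega)) (ihUV m (by omega))
  | mono d d' W h hW ih =>
    intro p hp
    exact ih p (h.trans hp)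

theorem QC.le_of_affine_le {d : ℕ} {W : X.Opens} (h : QC d W) (D : X.Opens)
    (hD : ∀ A : X.Opens, A ≤ W → IsAffineOpen A → IsAffineOpen (A ⊓ D)) : QC d (W ⊓ D) := by
  induction h with
  | affine W h => exact QC.affine _ (hD W le_rfl h)
  | union d U V hU hV hUV ihU ihV ihUV =>
    have e1 : (U ⊔ V) ⊓ D = (U ⊓ D) ⊔ (V ⊓ D) := inf_sup_right _ _ _
    have e2 : (U ⊓ D) ⊓ (V ⊓ D) = (U ⊓ V) ⊓ D := (inf_inf_distrib_right U V D).symm
    rw [e1]
    refine QC.union d _ _ (ihU fun A hA => hD A (hA.trans le_sup_left))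
      (ihV fun A hA => hD A (hA.trans le_sup_right)) ?_
    rw [e2]
    exact ihUV fun A hA => hD A (hA.trans (inf_le_left.trans le_sup_left))
  | mono d d' W h hW ih => exact QC.mono d d' _ h (ih hD)

theorem QC.inf {d : ℕ} {W : X.Opens} (h : QC d W) (D : X.Opens)
    (hD : ∀ A : X.Opens, IsAffineOpen A → IsAffineOpen (A ⊓ D)) : QC d (W ⊓ D) :=
  h.le_of_affine_le D fun A _ hA => hD A hA

/-- finite unions of opens from a class `P` of affine opens closed under `⊓`. -/
theorem QC.finset_sup (P : X.Opens → Prop) (hP : ∀ V, P V → IsAffineOpen V)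
    (hd : ∀ V W, P V → P W → P (V ⊓ W)) :
    ∀ (n : ℕ) (S : Finset X.Opens), S.card ≤ n + 1 → (∀ V ∈ S, P V) →
      QC (n + 1) (S.sup id) := by
  classical
  intro n
  induction n with
  | zero =>
    intro S hS hSP
    rcases Finset.eq_empty_or_nonempty S with rfl | ⟨V, hV⟩
    · rw [Finset.sup_empty]
      exact QC.affine _ (isAffineOpen_bot X)
    · have hSV : S = {V} :=
        Finset.eq_singleton_iff_unique_mem.2
          ⟨hV, fun W hW => Finset.card_le_one.1 (by omega) W hW V hV⟩
      rw [hSV, Finset.sup_singleton]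
      exact QC.affine _ (hP V (hSP V hV))
  | succ n ih =>
    intro S hS hSP
    rcases Finset.eq_empty_or_nonempty S with rfl | ⟨V, hV⟩
    · rw [Finset.sup_empty]
      exact QC.mono 1 _ _ (by omega) (QC.affine _ (isAffineOpen_bot X))
    · have hS' : (S.erase V).card ≤ n + 1 := by
        rw [Finset.card_erase_of_mem hV]
        omega
      have e : S.sup id = V ⊔ (S.erase V).sup id := by
        conv_lhs => rw [← Finset.insert_erase hV]
        rw [Finset.sup_insert]
        rfl
      rw [e]
      refine QC.union (n + 1) _ _ ?_ ?_ ?_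
      · exact QC.mono 1 _ _ (by omega) (QC.affine _ (hP V (hSP V hV)))
      · exact QC.mono (n + 1) _ _ (by omega)
          (ih _ hS' (fun W hW => hSP W (Finset.mem_of_mem_erase hW)))
      · have e2 : V ⊓ (S.erase V).sup id = ((S.erase V).image (fun W => V ⊓ W)).sup id := by
          rw [Finset.sup_image, Finset.sup_inf_distrib_left]
          rfl
        rw [e2]
        refine ih _ (Finset.card_image_le.trans hS') ?_
        intro W hW
        obtain ⟨W', hW', rfl⟩ := Finset.mem_image.1 hW
        exact hd _ _ (hSP V hV) (hSP W' (Finset.mem_of_mem_erase hW'))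

/-- two affine opens inside a common affine open have affine intersection. -/
lemma isAffineOpen_inf_of_le {A V W : X.Opens} (hA : IsAffineOpen A) (hV : IsAffineOpen V)
    (hW : IsAffineOpen W) (hVA : V ≤ A) (hWA : W ≤ A) : IsAffineOpen (V ⊓ W) := by
  have h : IsAffineHom (pullback.diagonal (𝟙 X)) := inferInstance
  exact isAffineHom_diagonal_iff.mp h A hA V (by simpa using hVA) W (by simpa using hWA) hV hW

lemma exists_finset_affine (U : X.Opens) (hU : IsCompact (U : Set X)) :
    ∃ T : Finset X.Opens, (∀ V ∈ T, IsAffineOpen V) ∧ T.sup id = U := by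
  classical
  obtain ⟨s, hs, e⟩ := isCompact_iff_finite_and_eq_biUnion_affineOpens.mp hU
  refine ⟨hs.toFinset.image (Subtype.val : X.affineOpens → X.Opens), ?_, ?_⟩
  · intro V hV
    obtain ⟨i, _, rfl⟩ := Finset.mem_image.1 hV
    exact i.2
  · rw [Finset.sup_image, e]
    apply le_antisymm
    · refine Finset.sup_le fun i hi => ?_
      exact le_iSup₂_of_le i ((Set.Finite.mem_toFinset hs).1 hi) le_rfl
    · refine iSup₂_le fun i hi => ?_
      exact Finset.le_sup (f := id ∘ (Subtype.val : X.affineOpens → X.Opens))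
        ((Set.Finite.mem_toFinset hs).2 hi)

lemma isCompact_finset_sup (S : Finset X.Opens) (hS : ∀ V ∈ S, IsCompact (V : Set X)) :
    IsCompact ((S.sup id : X.Opens) : Set X) := by
  classical
  induction S using Finset.induction_on with
  | empty =>
    rw [Finset.sup_empty, Opens.coe_bot]
    exact isCompact_empty
  | insert V S hVS ih =>
    rw [Finset.sup_insert, Opens.coe_sup]
    exact (hS V (Finset.mem_insert_self V S)).union
      (ih fun W hW => hS W (Finset.mem_insert_of_mem hW))

theorem QC.exists_of_finset_of_le (W₀ : X.Opens) (hq : IsQuasiSeparated (W₀ : Set X))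
    (S : Finset X.Opens) (hS : ∀ V ∈ S, IsAffineOpen V) (hle : ∀ V ∈ S, V ≤ W₀) :
    ∃ d, QC d (S.sup id) := by
  classical
  induction S using Finset.induction_on with
  | empty =>
    exact ⟨1, by rw [Finset.sup_empty]; exact QC.affine _ (isAffineOpen_bot X)⟩
  | insert V S hVS ih =>
    obtain ⟨d1, h1⟩ := ih (fun W hW => hS W (Finset.mem_insert_of_mem hW))
      (fun W hW => hle W (Finset.mem_insert_of_mem hW))
    have hV : IsAffineOpen V := hS V (Finset.mem_insert_self V S)
    have hsup : S.sup id ≤ W₀ := Finset.sup_le fun W hW => hle W (Finset.mem_insert_of_mem hW)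
    have hc : IsCompact ((V ⊓ S.sup id : X.Opens) : Set X) := by
      rw [Opens.coe_inf]
      exact hq _ _ (hle V (Finset.mem_insert_self V S)) V.2 hV.isCompact hsup (S.sup id).2
        (isCompact_finset_sup S fun W hW => (hS W (Finset.mem_insert_of_mem hW)).isCompact)
    obtain ⟨T, hT, eT⟩ := exists_finset_affine _ hc
    have h2 : QC (T.card + 1) (T.sup id) :=
      QC.finset_sup (fun W => IsAffineOpen W ∧ W ≤ V) (fun W h => h.1)
        (fun W W' h h' => ⟨isAffineOpen_inf_of_le hV h.1 h'.1 h.2 h'.2, inf_le_left.trans h.2⟩)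
        T.card T (by omega)
        (fun W hW => ⟨hT W hW, by
          have h3 : W ≤ T.sup id := Finset.le_sup (f := id) hW
          rw [eT] at h3
          exact h3.trans inf_le_left⟩)
    rw [eT] at h2
    rw [Finset.sup_insert]
    refine ⟨max d1 (T.card + 1) + 1, QC.union _ _ _ (QC.mono 1 _ _ (by omega) (QC.affine _ hV))
      (QC.mono d1 _ _ (by omega) h1) (QC.mono _ _ _ (by omega) h2)⟩

/-- quasi-compact quasi-separated opens have a certificate. -/
theorem QC.exists_of_isCompact_of_isQuasiSeparated (W : X.Opens)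
    (hW : IsCompact (W : Set X)) (hq : IsQuasiSeparated (W : Set X)) : ∃ d, QC d W := by
  obtain ⟨T, hT, eT⟩ := exists_finset_affine W hW
  obtain ⟨d, hd⟩ := QC.exists_of_finset_of_le W hq T hT
    (fun V hV => eT ▸ Finset.le_sup (f := id) hV)
  exact ⟨d, eT ▸ hd⟩

theorem QC.exists_of_isCompact [QuasiSeparatedSpace X] (W : X.Opens)
    (hW : IsCompact (W : Set X)) : ∃ d, QC d W :=
  QC.exists_of_isCompact_of_isQuasiSeparated W hW
    ((isQuasiSeparated_univ (α := X)).of_subset (Set.subset_univ _))

theorem QC.exists_top [CompactSpace X] [QuasiSeparatedSpace X] : ∃ d, QC d (⊤ : X.Opens) :=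
  QC.exists_of_isCompact ⊤ (by rw [Opens.coe_top]; exact isCompact_univ)

/-- the certificate restricts to basic opens. -/
theorem QC.basicOpen {d : ℕ} {W : X.Opens} (h : QC d W) (s : Γ(X, W)) :
    QC d (X.basicOpen s) := by
  have e : X.basicOpen s = W ⊓ X.basicOpen s := (inf_eq_right.2 (X.basicOpen_le s)).symm
  rw [e]
  refine h.le_of_affine_le _ fun A hA hA' => ?_
  rw [← X.basicOpen_res s (homOfLE hA).op]
  exact hA'.basicOpen _

/-- uniform bound for the preimages of finitely many affine opens under a qcqs morphism. -/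
theorem QC.exists_preimage {S : Scheme.{u}} (f : X ⟶ S) [QuasiCompact f] [QuasiSeparated f]
    (T : Finset S.Opens) (hT : ∀ V ∈ T, IsAffineOpen V) :
    ∃ n, ∀ V ∈ T, QC n (f ⁻¹ᵁ V) := by
  classical
  induction T using Finset.induction_on with
  | empty => exact ⟨0, fun V hV => absurd hV (Finset.notMem_empty V)⟩
  | insert V T hVT ih =>
    obtain ⟨n, hn⟩ := ih fun W hW => hT W (Finset.mem_insert_of_mem hW)
    have hV := hT V (Finset.mem_insert_self V T)
    obtain ⟨d, hd⟩ := QC.exists_of_isCompact_of_isQuasiSeparated (f ⁻¹ᵁ V)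
      (QuasiCompact.isCompact_preimage (f := f) V V.isOpen hV.isCompact)
      (f.isQuasiSeparated_preimage hV.isQuasiSeparated)
    refine ⟨max n d, fun W hW => ?_⟩
    rcases Finset.mem_insert.1 hW with rfl | hW
    · exact QC.mono d _ _ (le_max_right _ _) hd
    · exact QC.mono n _ _ (le_max_left _ _) (hn W hW)

/-- uniform vanishing of higher direct images for a qcqs morphism to a quasi-compact base. -/
theorem exists_isZero_Rpush {S : Scheme.{u}} (f : X ⟶ S) [QuasiCompact f] [QuasiSeparated f]
    [CompactSpace S] :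
    ∃ n : ℕ, ∀ (M : X.Modules), M.IsQuasicoherent → ∀ p : ℕ, n ≤ p →
      IsZero ((CohTop.Rpush f.base p).obj (Coh.toAb M)) := by
  obtain ⟨T, hT, eT⟩ := exists_finset_affine (⊤ : S.Opens)
    (by rw [Opens.coe_top]; exact isCompact_univ)
  obtain ⟨n, hn⟩ := QC.exists_preimage f T hT
  refine ⟨n, fun M hM p hp => ?_⟩
  haveI : M.IsQuasicoherent := hM
  let B : Set S.Opens := {V | ∃ W ∈ T, ∃ g : Γ(S, W), V = S.basicOpen g}
  have hB : Opens.IsBasis B := by
    rw [Opens.isBasis_iff_nbhd]
    intro U x hxU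
    have hx : x ∈ T.sup id := by rw [eT]; trivial
    have hx' : ∃ W ∈ T, x ∈ W := by
      have h1 : T.sup id = ⨆ W ∈ T, W := by rw [Finset.sup_eq_iSup]; rfl
      rw [h1] at hx
      obtain ⟨W, hW⟩ := Opens.mem_iSup.1 hx
      obtain ⟨hWT, hxW⟩ := Opens.mem_iSup.1 hW
      exact ⟨W, hWT, hxW⟩
    obtain ⟨W, hWT, hxW⟩ := hx'
    obtain ⟨g, hg1, hg2⟩ := (hT W hWT).exists_basicOpen_le (V := U) ⟨x, hxU⟩ hxW
    exact ⟨S.basicOpen g, ⟨W, hWT, g, rfl⟩, hg2, hg1⟩
  refine LocallyZero.isZero_Rpush_of_basis f.base (Coh.toAb M) p B hB ?_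
  rintro V ⟨W, hWT, g, rfl⟩
  have h1 : f ⁻¹ᵁ S.basicOpen g = X.basicOpen (f.app W g) := Scheme.preimage_basicOpen f g
  have h2 : QC n (f ⁻¹ᵁ S.basicOpen g) := by
    rw [h1]
    exact (hn W hWT).basicOpen _
  exact h2.vanish M p hp

end Groth.Agent.Lib.Helper13.QCDim
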