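import Mathlib

/-!
# Helper13: higher right derived functors of an exact functor vanish
-/

set_option autoImplicit false
open CategoryTheory CategoryTheory.Limits

namespace Groth.Agent.Lib.Helper13.DerivedExact

universe v v' u u'

variable {C : Type u} [Category.{v} C] [Abelian C] [EnoughInjectives C]
  {D : Type u'} [Category.{v'} D] [Abelian D]

/-- The higher right derived functors of an exact functor vanish. -/
theorem isZero_rightDerived_succ_of_exact (F : C ⥤ D) [F.Additive] [PreservesFiniteLimits F]
    [PreservesFiniteColimits F] (n : ℕ) (X : C) :
    IsZero ((F.rightDerived (n + 1)).obj X) := by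
  let I : InjectiveResolution X := InjectiveResolution.of X
  refine IsZero.of_iso ?_ (I.isoRightDerivedObj F (n + 1))
  erw [← HomologicalComplex.exactAt_iff_isZero_homology]
  have h : I.cocomplex.ExactAt (n + 1) := I.cocomplex_exactAt_succ n
  exact ShortComplex.Exact.map h F

end Groth.Agent.Lib.Helper13.DerivedExact
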