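import Mathlib
import Groth.Prelude.Def_CohCx
import Groth.Agent.Lib.Helper13.OverRestrAcyclic

/-!
# Sections of totally acyclic (flasque) abelian sheaves extend along monomorphisms of sheaves of sets
-/

set_option autoImplicit false
universe u
open CategoryTheory CategoryTheory.Limits Opposite CategoryTheory.Abelian

noncomputable section

namespace Groth.Agent.Lib.Helper13.FlasqueMono

section Abelian

universe w v u'
variable {A : Type u'} [Category.{v} A] [Abelian A]

/-- In an abelian category, for a pushout square `B → A`, `B → P` with a retraction-like map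
`ε : A → P` over `B`, the cokernel of `B → A` is a retract of the pushout. -/
lemma exists_retract_of_isPushout {B A' P Z : A} {i : B ⟶ A'} {p : B ⟶ P} {a' : A' ⟶ Z} {p' : P ⟶ Z}
    (h : IsPushout i p a' p') (ε : A' ⟶ P) (hε : i ≫ ε = p) :
    ∃ (s : cokernel i ⟶ Z) (r : Z ⟶ cokernel i), s ≫ r = 𝟙 _ := by
  have h1 : i ≫ (a' - ε ≫ p') = 0 := by
    rw [Preadditive.comp_sub, h.w, ← Category.assoc, hε, sub_self]
  have h2 : i ≫ cokernel.π i = p ≫ (0 : P ⟶ cokernel i) := by
    rw [cokernel.condition, comp_zero]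
  refine ⟨cokernel.desc i (a' - ε ≫ p') h1, h.desc (cokernel.π i) 0 h2, ?_⟩
  rw [← cancel_epi (cokernel.π i), cokernel.π_desc_assoc, Preadditive.sub_comp, h.inl_desc,
    Category.assoc, h.inr_desc, comp_zero, sub_zero, Category.comp_id]

variable [HasExt.{w} A]

/-- Extension of morphisms along a monomorphism whose cokernel is a retract of an object with
vanishing `Ext^1`. -/
lemma exists_extension {B A' Z F : A} (i : B ⟶ A') [Mono i] (s : cokernel i ⟶ Z)
    (r : Z ⟶ cokernel i) (hsr : s ≫ r = 𝟙 _) (hZ : Subsingleton (Ext.{w} Z F 1)) (g : B ⟶ F) :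
    ∃ h : A' ⟶ F, i ≫ h = g := by
  let S : ShortComplex A := ShortComplex.mk i (cokernel.π i) (cokernel.condition i)
  have hS : S.ShortExact :=
    { exact := ShortComplex.exact_cokernel i
      mono_f := inferInstanceAs (Mono i)
      epi_g := inferInstanceAs (Epi (cokernel.π i)) }
  have hQ : ∀ e : Ext.{w} (cokernel i) F 1, e = 0 := by
    intro e
    have h1 : (Ext.mk₀ r).comp e (zero_add 1) = 0 := Subsingleton.elim _ _
    have h2 : e = (Ext.mk₀ s).comp ((Ext.mk₀ r).comp e (zero_add 1)) (zero_add 1) := by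
      rw [Ext.mk₀_comp_mk₀_assoc, hsr, Ext.mk₀_id_comp]
    rw [h2, h1, Ext.comp_zero]
  obtain ⟨x₂, hx₂⟩ := Ext.contravariant_sequence_exact₁ hS F (Ext.mk₀ g) (zero_add 1)
    (hQ _)
  obtain ⟨h, rfl⟩ := (Ext.mk₀_bijective _ _).2 x₂
  refine ⟨h, ?_⟩
  rw [Ext.mk₀_comp_mk₀] at hx₂
  exact (Ext.mk₀_bijective _ _).1 hx₂

end Abelian

open Groth.Agent.Lib.Helper13.OverRestrAcyclic

variable {C : Type u} [SmallCategory C] {J : GrothendieckTopology C}

instance freeAb_preservesColimits : PreservesColimitsOfSize.{u, u} (freeAb J) :=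
  (Sheaf.adjunction J AddCommGrpCat.adj.{u}).leftAdjoint_preservesColimits

/-- The free abelian sheaf functor preserves monomorphisms. -/
lemma mono_freeAb_map {Y X : Sheaf J (Type u)} (ι : Y ⟶ X) [Mono ι] : Mono ((freeAb J).map ι) := by
  have h1 : Mono ((sheafToPresheaf J (Type u)).map ι) := inferInstance
  have h2 : ∀ U, Mono (((sheafToPresheaf J (Type u)).map ι).app U) := fun U => inferInstance
  have h3 : Mono (((Functor.whiskeringRight Cᵒᵖ _ _).obj AddCommGrpCat.free.{u}).map
      ((sheafToPresheaf J (Type u)).map ι)) := by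
    have : ∀ U, Mono ((((Functor.whiskeringRight Cᵒᵖ _ _).obj AddCommGrpCat.free.{u}).map
        ((sheafToPresheaf J (Type u)).map ι)).app U) := fun U => by
      have := h2 U
      exact inferInstanceAs (Mono (AddCommGrpCat.free.{u}.map
        (((sheafToPresheaf J (Type u)).map ι).app U)))
    exact NatTrans.mono_of_mono_app _
  exact inferInstanceAs (Mono ((presheafToSheaf J AddCommGrpCat.{u}).map
    (((Functor.whiskeringRight Cᵒᵖ _ _).obj AddCommGrpCat.free.{u}).map
      ((sheafToPresheaf J (Type u)).map ι))))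

/-- Sections of a totally acyclic sheaf extend along monomorphisms of sheaves of sets. -/
theorem exists_extension_of_totallyAcyclic (F : Sheaf J AddCommGrpCat.{u})
    (hF : CohCx.IsTotallyAcyclic F) {Y X : Sheaf J (Type u)} (ι : Y ⟶ X) [Mono ι]
    (g : (freeAb J).obj Y ⟶ F) : ∃ h : (freeAb J).obj X ⟶ F, (freeAb J).map ι ≫ h = g := by
  have hm := mono_freeAb_map ι
  have hp : IsPushout ((freeAb J).map ι) ((freeAb J).map (terminal.from Y))
      ((freeAb J).map (pushout.inl ι (terminal.from Y)))
      ((freeAb J).map (pushout.inr ι (terminal.from Y))) :=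
    (IsPushout.of_hasPushout ι (terminal.from Y)).map (freeAb J)
  obtain ⟨s, r, hsr⟩ := exists_retract_of_isPushout hp ((freeAb J).map (terminal.from X)) (by
    rw [← Functor.map_comp]
    congr 1
    exact Subsingleton.elim _ _)
  exact exists_extension ((freeAb J).map ι) s r hsr (hF (pushout ι (terminal.from Y)) 0) g

end Groth.Agent.Lib.Helper13.FlasqueMono
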