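import Mathlib

/-!
# Helper13: a right adjoint of an exact functor preserves K-injective complexes
-/

set_option autoImplicit false
open CategoryTheory CategoryTheory.Limits

namespace Groth.Agent.Lib.Helper13.KInjAdj

universe v v' u u'

variable {C : Type u} [Category.{v} C] [Abelian C] {D : Type u'} [Category.{v'} D] [Abelian D]

/-- If `G ⊣ F` with `G` exact, then `F` (applied termwise) preserves K-injective complexes. -/
theorem isKInjective_map_of_adjoint {G : D ⥤ C} {F : C ⥤ D} (adj : G ⊣ F) [G.Additive] [F.Additive]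
    [PreservesFiniteLimits G] [PreservesFiniteColimits G]
    (I : CochainComplex C ℤ) [I.IsKInjective] :
    CochainComplex.IsKInjective ((F.mapHomologicalComplex (ComplexShape.up ℤ)).obj I) := by
  have key : ∀ {X : D} {Y : C} (g : X ⟶ F.obj Y),
      g = adj.unit.app X ≫ F.map (G.map g ≫ adj.counit.app Y) := by
    intro X Y g
    have h1 := (adj.homEquiv X Y).apply_symm_apply g
    rw [Adjunction.homEquiv_counit, Adjunction.homEquiv_unit] at h1
    exact h1.symm
  constructor
  intro K φ hK
  let ε : (G.mapHomologicalComplex (ComplexShape.up ℤ)).obj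
      ((F.mapHomologicalComplex (ComplexShape.up ℤ)).obj I) ⟶ I :=
    { f := fun n => adj.counit.app (I.X n)
      comm' := fun i j _ => (adj.counit.naturality (I.d i j)).symm }
  let η : K ⟶ (F.mapHomologicalComplex (ComplexShape.up ℤ)).obj
      ((G.mapHomologicalComplex (ComplexShape.up ℤ)).obj K) :=
    { f := fun n => adj.unit.app (K.X n)
      comm' := fun i j _ => (adj.unit.naturality (K.d i j)).symm }
  let ψ : (G.mapHomologicalComplex (ComplexShape.up ℤ)).obj K ⟶ I :=
    (G.mapHomologicalComplex (ComplexShape.up ℤ)).map φ ≫ ε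
  have hGK : ((G.mapHomologicalComplex (ComplexShape.up ℤ)).obj K).Acyclic :=
    fun n => ShortComplex.Exact.map (hK n) G
  have h : Homotopy ψ 0 := CochainComplex.IsKInjective.homotopyZero ψ hGK
  have hφ : φ = η ≫ (F.mapHomologicalComplex (ComplexShape.up ℤ)).map ψ := by
    ext n
    change φ.f n = adj.unit.app (K.X n) ≫ F.map (G.map (φ.f n) ≫ adj.counit.app (I.X n))
    exact key (φ.f n)
  have h2 : Homotopy ((F.mapHomologicalComplex (ComplexShape.up ℤ)).map ψ)
      ((F.mapHomologicalComplex (ComplexShape.up ℤ)).map 0) := F.mapHomotopy h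
  exact ⟨(Homotopy.ofEq hφ).trans ((h2.compLeft η).trans (Homotopy.ofEq (by simp)))⟩

end Groth.Agent.Lib.Helper13.KInjAdj
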