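import Mathlib
import Groth.Prelude.Def_CohCx
import Groth.Prelude.Def_CohSite
import Groth.Agent.Lib.Helper13.FlasqueMono
import Groth.Agent.Lib.Helper13.KInjAdj

/-!
# Basic facts on totally acyclic abelian sheaves, localisation and direct images

* `freeSheafifyIso : ℤ[a P] ≅ a ℤ[P]`, `freeSheafIso`.
* `subsingleton_HU_of_totallyAcyclic`.
* `isKInjective_restr`: restriction to `C/X` preserves K-injective complexes.
* `epi_iff_epi_forget`, `push_preservesFiniteColimits`.
-/

set_option autoImplicit false
universe u
open CategoryTheory CategoryTheory.Limits Opposite CategoryTheory.Abelian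
open Groth.Agent.Lib.Helper13.OverRestrAcyclic Groth.Agent.Lib.Helper13.ExtAdj

noncomputable section

namespace Groth.Agent.Lib.Helper13.FlasqueBasic

variable {C : Type u} [SmallCategory C] (J : GrothendieckTopology C)

/-- `ℤ[a P] ≅ a ℤ[P]` for presheaves of sets `P`. -/
def freeSheafifyIso : presheafToSheaf J (Type u) ⋙ freeAb J ≅
    (Functor.whiskeringRight Cᵒᵖ _ _).obj AddCommGrpCat.free.{u} ⋙
      presheafToSheaf J AddCommGrpCat.{u} :=
  Adjunction.leftAdjointUniq
    ((sheafificationAdjunction J (Type u)).comp (Sheaf.adjunction J AddCommGrpCat.adj.{u}))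
    (((Adjunction.whiskerRight Cᵒᵖ AddCommGrpCat.adj.{u}).comp
      (sheafificationAdjunction J AddCommGrpCat.{u})).ofNatIsoRight
      (NatIso.ofComponents (fun F => Iso.refl _)))

/-- The free abelian sheaf on the sheafified representable is `freeSheaf`. -/
def freeSheafIso (U : C) :
    (freeAb J).obj ((presheafToSheaf J (Type u)).obj (yoneda.obj U)) ≅ CohCx.freeSheaf J U :=
  (freeSheafifyIso J).app (yoneda.obj U)

variable {J}

theorem subsingleton_HU_of_totallyAcyclic (F : Sheaf J AddCommGrpCat.{u})
    (hF : CohCx.IsTotallyAcyclic F) (U : C) (p : ℕ) : Subsingleton (CohSite.HU F (p + 1) U) := by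
  have h : Subsingleton (Abelian.Ext ((freeAb J).obj
      ((presheafToSheaf J (Type u)).obj (yoneda.obj U))) F (p + 1)) :=
    hF ((presheafToSheaf J (Type u)).obj (yoneda.obj U)) p
  exact (extIsoLeft (freeSheafIso J U) F (p + 1)).toEquiv.subsingleton

variable (J) in
instance shriekAb_preservesFiniteColimits (X : C) : PreservesFiniteColimits (shriekAb J X) := by
  have : PreservesColimitsOfSize.{u, u} (shriekAb J X) :=
    (adjAb J X).leftAdjoint_preservesColimits
  exact PreservesColimitsOfSize.preservesFiniteColimits.{u, u} _

variable (J) in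
instance shriekAb_additive (X : C) : (shriekAb J X).Additive :=
  Functor.additive_of_preserves_binary_products _

variable (J) in
/-- Restriction to `C/X` preserves K-injective complexes. -/
theorem isKInjective_restr (X : C) (I : CochainComplex (Sheaf J AddCommGrpCat.{u}) ℤ)
    (hI : I.IsKInjective) :
    CochainComplex.IsKInjective (((restrAb J X).mapHomologicalComplex
      (ComplexShape.up ℤ)).obj I) :=
  KInjAdj.isKInjective_map_of_adjoint (adjAb J X) I

section PushEpi

/-- A left exact functor between abelian categories which preserves epimorphisms is exact. -/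
lemma preservesFiniteColimits_of_preservesEpi {A B : Type*} [Category A] [Category B]
    [Abelian A] [Abelian B] (F : A ⥤ B) [PreservesFiniteLimits F]
    (h : ∀ {X Y : A} (f : X ⟶ Y), Epi f → Epi (F.map f)) : PreservesFiniteColimits F := by
  have : F.Additive := Functor.additive_of_preserves_binary_products _
  rw [Functor.preservesFiniteColimits_iff_forall_exact_map_and_epi]
  intro S hS
  have := hS.epi_g
  exact ⟨((Functor.preservesFiniteLimits_iff_forall_exact_map_and_mono F).1 inferInstance S hS).1,
    h S.g inferInstance⟩

/-- A morphism of abelian sheaves is an epimorphism iff the underlying morphism of sheaves of sets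
is. -/
lemma epi_iff_epi_forget {F G : Sheaf J AddCommGrpCat.{u}} (φ : F ⟶ G) :
    Epi φ ↔ Epi ((sheafCompose J (forget AddCommGrpCat.{u})).map φ) := by
  rw [← Sheaf.isLocallySurjective_iff_epi', ← Sheaf.isLocallySurjective_iff_epi]
  exact Presheaf.isLocallySurjective_iff_whisker_forget J φ.hom

theorem push_preservesFiniteColimits {D : Type u} [SmallCategory D] (K : GrothendieckTopology D)
    (w : D ⥤ C) [w.IsContinuous K J]
    [(w.sheafPushforwardContinuous (Type u) K J).PreservesEpimorphisms] :
    PreservesFiniteColimits (w.sheafPushforwardContinuous AddCommGrpCat.{u} K J) := by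
  have : PreservesLimitsOfSize.{0, 0} (w.sheafPushforwardContinuous AddCommGrpCat.{u} K J) :=
    (w.sheafAdjunctionContinuous AddCommGrpCat.{u} K J).rightAdjoint_preservesLimits
  have : PreservesFiniteLimits (w.sheafPushforwardContinuous AddCommGrpCat.{u} K J) :=
    PreservesLimitsOfSize.preservesFiniteLimits.{0, 0} _
  apply preservesFiniteColimits_of_preservesEpi
  intro F G φ hφ
  rw [epi_iff_epi_forget] at hφ ⊢
  exact inferInstanceAs (Epi ((w.sheafPushforwardContinuous (Type u) K J).map
    ((sheafCompose J (forget AddCommGrpCat.{u})).map φ)))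

end PushEpi

end Groth.Agent.Lib.Helper13.FlasqueBasic
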