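import Mathlib
import Groth.Prelude.Def_CohTop
import Groth.Agent.Lib.Helper13.ProfiniteAcyclic
import Groth.Agent.Lib.Helper13.FlasqueBasic
import Groth.Agent.Lib.Helper13.DerivedExact

/-!
# Direct image along a closed embedding of topological spaces is exact

* `push_preservesFiniteColimits`, `isZero_Rpush`.
* `pullConstIso : f⁻¹ ℤ ≅ ℤ`.
* `HEquivPush : H^p(X, F) ≃+ H^p(Y, f_* F)` for a closed embedding `f`.
-/
set_option autoImplicit false
universe u
open CategoryTheory CategoryTheory.Limits Opposite CategoryTheory.Abelian TopologicalSpace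
open Groth.Agent.Lib.Helper13.ExtAdj Groth.Agent.Lib.Helper13.SiteCohLocal
open Groth.Agent.Lib.Helper13.FlasqueBasic Groth.Agent.Lib.Helper13.ProfiniteAcyclic

noncomputable section

namespace Groth.Agent.Lib.Helper13.ClosedEmbPush

variable {X Y : TopCat.{u}} (f : X ⟶ Y)

instance pull_preservesFiniteLimits : PreservesFiniteLimits (CohTop.pull f) :=
  Functor.SmallCategories.instPreservesFiniteLimitsSheafSheafPullbackOfRepresentablyFlat
    (TopologicalSpace.Opens.map f) AddCommGrpCat.{u} (Opens.grothendieckTopology Y)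
    (Opens.grothendieckTopology X)

instance pull_preservesMonomorphisms : (CohTop.pull f).PreservesMonomorphisms :=
  CategoryTheory.preservesMonomorphisms_of_preservesLimitsOfShape _

/-- the adjunction `f⁻¹ ⊣ f_*`. -/
abbrev adj : CohTop.pull f ⊣ CohTop.push f := TopCat.Sheaf.pullbackPushforwardAdjunction _ f

instance push_preservesFiniteLimits : PreservesFiniteLimits (CohTop.push f) := by
  have : PreservesLimitsOfSize.{0, 0} (CohTop.push f) := (adj f).rightAdjoint_preservesLimits
  exact PreservesLimitsOfSize.preservesFiniteLimits.{0, 0} _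

variable {f}

theorem push_map_epi (hf : Topology.IsClosedEmbedding f) {G H : CohTop.Ab X} (φ : G ⟶ H)
    (hφ : Epi φ) : Epi ((CohTop.push f).map φ) := by
  rw [← Sheaf.isLocallySurjective_iff_epi' AddCommGrpCat.{u}]
  have hloc : Presheaf.IsLocallySurjective (Opens.grothendieckTopology X) φ.hom :=
    (Sheaf.isLocallySurjective_iff_epi' AddCommGrpCat.{u} φ).2 hφ
  constructor
  intro V s
  intro y hyV
  by_cases hy : y ∈ Set.range f
  · obtain ⟨x, rfl⟩ := hy
    have hxV : x ∈ (Opens.map f).obj V := hyV
    obtain ⟨U', g, ⟨t, ht⟩, hxU'⟩ := hloc.imageSieve_mem s x hxV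
    obtain ⟨V'', hV''o, hV''⟩ := hf.isInducing.isOpen_iff.1 U'.2
    let V' : Opens Y := V ⊓ ⟨V'', hV''o⟩
    have hle : (Opens.map f).obj V' ≤ U' := by
      intro z hz
      have hz2 : f z ∈ V'' := hz.2
      have : z ∈ f ⁻¹' V'' := hz2
      rw [hV''] at this
      exact this
    have hxV' : f x ∈ V' := by
      refine ⟨hyV, ?_⟩
      have : x ∈ f ⁻¹' V'' := by rw [hV'']; exact hxU'
      exact this
    refine ⟨V', homOfLE inf_le_left, ?_, hxV'⟩
    refine ⟨(G.obj.map (homOfLE hle).op).hom t, ?_⟩
    have h1 := ConcreteCategory.congr_hom (φ.hom.naturality (homOfLE hle).op) t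
    refine h1.trans ?_
    change (H.obj.map (homOfLE hle).op).hom ((φ.hom.app (op U')).hom t) = _
    rw [ht]
    change (H.obj.map (homOfLE hle).op).hom ((H.obj.map g.op).hom s) = _
    rw [← ConcreteCategory.comp_apply, ← H.obj.map_comp]
    rfl
  · let V' : Opens Y := V ⊓ ⟨(Set.range f)ᶜ, hf.isClosed_range.isOpen_compl⟩
    have hbot : (Opens.map f).obj V' = ⊥ := by
      ext z
      simp only [Opens.coe_bot, Set.mem_empty_iff_false, iff_false]
      intro hz
      exact hz.2 ⟨z, rfl⟩
    refine ⟨V', homOfLE inf_le_left, ?_, ⟨hyV, hy⟩⟩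
    have hsub : Subsingleton (((CohTop.push f).obj H).obj.obj (op V')) :=
      subsingleton_of_isTerminal (TopCat.Sheaf.isTerminalOfEqEmpty H hbot)
    exact ⟨0, Subsingleton.elim _ _⟩

theorem push_preservesFiniteColimits (hf : Topology.IsClosedEmbedding f) :
    PreservesFiniteColimits (CohTop.push f) :=
  preservesFiniteColimits_of_preservesEpi _ (fun φ hφ => push_map_epi hf φ hφ)

theorem isZero_Rpush (hf : Topology.IsClosedEmbedding f) (F : CohTop.Ab X) (q : ℕ) :
    IsZero ((CohTop.Rpush f (q + 1)).obj F) := by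
  have := push_preservesFiniteColimits hf
  exact Groth.Agent.Lib.Helper13.DerivedExact.isZero_rightDerived_succ_of_exact _ q F

variable (f) in
/-- the pullback of the constant sheaf `ℤ` is the constant sheaf `ℤ`. -/
def pullConstIso : (CohTop.pull f).obj (constZ (Opens.grothendieckTopology Y)) ≅
    constZ (Opens.grothendieckTopology X) :=
  (((constantSheafAdj (Opens.grothendieckTopology Y) AddCommGrpCat.{u} isTerminalTop).comp
    (adj f)).leftAdjointUniq
    ((constantSheafAdj (Opens.grothendieckTopology X) AddCommGrpCat.{u}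
      (show IsTerminal ((Opens.map f).obj ⊤) from isTerminalTop)).ofNatIsoRight
      (NatIso.ofComponents (fun _ => Iso.refl _)))).app (AddCommGrpCat.of (ULift ℤ))

/-- `H^p(X, F) ≃ H^p(Y, f_* F)` for a closed embedding `f`. -/
def HEquivPush (hf : Topology.IsClosedEmbedding f) (F : CohTop.Ab X) (p : ℕ) :
    CohTop.H F p ≃+ CohTop.H ((CohTop.push f).obj F) p :=
  have := push_preservesFiniteColimits hf
  (extIsoLeft (pullConstIso f) F p).trans
    (extAdjEquiv' (adj f) (constZ (Opens.grothendieckTopology Y)) F p)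

end Groth.Agent.Lib.Helper13.ClosedEmbPush
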