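import Mathlib
import Groth.Agent.Lib.Helper13.ExtPresheaf

set_option autoImplicit false
universe w w' v v' u u'
open CategoryTheory CategoryTheory.Limits Opposite CategoryTheory.Abelian
open Groth.Agent.Lib.Helper13.ExtPresheaf

noncomputable section

namespace Groth.Agent.Lib.Helper13.ExtTransfer

section Transfer

variable {𝒜 : Type u} [Category.{v} 𝒜] [Abelian 𝒜] [HasExt.{w} 𝒜]
  {ℬ : Type u'} [Category.{v'} ℬ] [Abelian ℬ] [HasExt.{w'} ℬ]
  {A F : 𝒜} {B G : ℬ} (I : InjectiveResolution F) (I' : InjectiveResolution G)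

/-- An isomorphism of `Hom` complexes `Hom(A, I^•) ≃ Hom(B, I'^•)`. -/
structure HomCxEquiv where
  /-- the additive equivalences -/
  e : ∀ n : ℕ, (A ⟶ I.cocomplex.X n) ≃+ (B ⟶ I'.cocomplex.X n)
  /-- compatibility with the differentials -/
  he : ∀ (n : ℕ) (g : A ⟶ I.cocomplex.X n),
    e (n + 1) (g ≫ I.cocomplex.d n (n + 1)) = e n g ≫ I'.cocomplex.d n (n + 1)

variable {I I'}

/-- the inverse isomorphism of `Hom` complexes. -/
def HomCxEquiv.symm (E : HomCxEquiv (A := A) (B := B) I I') :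
    HomCxEquiv (A := B) (B := A) I' I where
  e n := (E.e n).symm
  he n g := by
    apply (E.e (n + 1)).injective
    rw [AddEquiv.apply_symm_apply, E.he, AddEquiv.apply_symm_apply]

variable (E : HomCxEquiv (A := A) (B := B) I I')

omit [HasExt.{w} 𝒜] [HasExt.{w'} ℬ] in
lemma HomCxEquiv.cocycle {n : ℕ} {g : A ⟶ I.cocomplex.X n}
    (hg : g ≫ I.cocomplex.d n (n + 1) = 0) : E.e n g ≫ I'.cocomplex.d n (n + 1) = 0 := by
  rw [← E.he, hg, map_zero]

/-- well-definedness of the transfer on classes. -/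
lemma HomCxEquiv.extMk_eq {n : ℕ} {g g' : A ⟶ I.cocomplex.X n}
    (hg : g ≫ I.cocomplex.d n (n + 1) = 0) (hg' : g' ≫ I.cocomplex.d n (n + 1) = 0)
    (h : I.extMk g (n + 1) rfl hg = I.extMk g' (n + 1) rfl hg') :
    I'.extMk (E.e n g) (n + 1) rfl (E.cocycle hg) =
      I'.extMk (E.e n g') (n + 1) rfl (E.cocycle hg') := by
  have h0 : I.extMk (g - g') (n + 1) rfl (by simp [hg, hg']) = 0 := by
    rw [← InjectiveResolution.sub_extMk _ _ _ _ _ hg hg', h, sub_self]
  rw [← sub_eq_zero, InjectiveResolution.sub_extMk]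
  cases n with
  | zero =>
    rw [extMk_zero_eq_zero_iff'] at h0
    have : E.e 0 g - E.e 0 g' = 0 := by rw [← map_sub, h0, map_zero]
    rw [extMk_congr I' this (0 + 1) rfl _ (by simp), InjectiveResolution.extMk_zero]
  | succ m =>
    rw [InjectiveResolution.extMk_eq_zero_iff _ _ _ _ _ m rfl] at h0 ⊢
    obtain ⟨k, hk⟩ := h0
    refine ⟨E.e m k, ?_⟩
    rw [← E.he, hk, map_sub]

/-- the transfer map on `Ext` groups. -/
def HomCxEquiv.fwd (n : ℕ) (ξ : Ext A F n) : Ext B G n :=
  I'.extMk (E.e n (I.extMk_surjective ξ (n + 1) rfl).choose) (n + 1) rfl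
    (E.cocycle (I.extMk_surjective ξ (n + 1) rfl).choose_spec.choose)

lemma HomCxEquiv.fwd_extMk {n : ℕ} (g : A ⟶ I.cocomplex.X n)
    (hg : g ≫ I.cocomplex.d n (n + 1) = 0) :
    E.fwd n (I.extMk g (n + 1) rfl hg) = I'.extMk (E.e n g) (n + 1) rfl (E.cocycle hg) := by
  unfold HomCxEquiv.fwd
  apply E.extMk_eq
  exact (I.extMk_surjective (I.extMk g (n + 1) rfl hg) (n + 1) rfl).choose_spec.choose_spec

lemma HomCxEquiv.fwd_add (n : ℕ) (ξ ξ' : Ext A F n) :
    E.fwd n (ξ + ξ') = E.fwd n ξ + E.fwd n ξ' := by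
  obtain ⟨g, hg, rfl⟩ := I.extMk_surjective ξ (n + 1) rfl
  obtain ⟨g', hg', rfl⟩ := I.extMk_surjective ξ' (n + 1) rfl
  rw [InjectiveResolution.add_extMk, E.fwd_extMk, E.fwd_extMk, E.fwd_extMk,
    InjectiveResolution.add_extMk]
  exact extMk_congr I' (map_add _ _ _) _ _ _ _

lemma HomCxEquiv.symm_fwd_fwd (n : ℕ) (ξ : Ext A F n) : E.symm.fwd n (E.fwd n ξ) = ξ := by
  obtain ⟨g, hg, rfl⟩ := I.extMk_surjective ξ (n + 1) rfl
  rw [E.fwd_extMk, E.symm.fwd_extMk]
  exact extMk_congr I ((E.e n).symm_apply_apply g) _ _ _ _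

/-- An isomorphism of `Hom` complexes of injective resolutions induces an isomorphism of `Ext`
groups. -/
def HomCxEquiv.extEquiv (n : ℕ) : Ext A F n ≃+ Ext B G n where
  toFun := E.fwd n
  invFun := E.symm.fwd n
  left_inv := E.symm_fwd_fwd n
  right_inv := E.symm.symm_fwd_fwd n
  map_add' := E.fwd_add n

end Transfer

section MapRes

variable {𝒜 : Type u} [Category.{v} 𝒜] [Abelian 𝒜] [HasInjectiveResolutions 𝒜]
  {ℬ : Type u'} [Category.{v'} ℬ] [Abelian ℬ]
  (Φ : 𝒜 ⥤ ℬ) [Φ.Additive] [PreservesFiniteLimits Φ] {F : 𝒜} (I : InjectiveResolution F)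

/-- A left exact functor maps an injective resolution of an object `F` with vanishing higher
derived functors to an injective resolution, provided the terms stay injective. -/
def mapRes (hinj : ∀ n, Injective (Φ.obj (I.cocomplex.X n)))
    (hvan : ∀ n, IsZero ((Φ.rightDerived (n + 1)).obj F)) : InjectiveResolution (Φ.obj F) where
  cocomplex := (Φ.mapHomologicalComplex _).obj I.cocomplex
  injective := hinj
  ι := (HomologicalComplex.singleMapHomologicalComplex Φ (ComplexShape.up ℕ) 0).inv.app F ≫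
    (Φ.mapHomologicalComplex _).map I.ι
  quasiIso := ⟨fun n => by
    cases n with
    | zero =>
      rw [CochainComplex.quasiIsoAt₀_iff]
      refine (ShortComplex.quasiIso_iff_of_zeros _ rfl rfl ?_).2 ?_
      · change Φ.map (I.cocomplex.d 0 0) = 0
        rw [I.cocomplex.shape 0 0 (by simp), Φ.map_zero]
      · let S₀ : ShortComplex 𝒜 := ShortComplex.mk _ _ I.ι_f_zero_comp_complex_d
        have hS₀ : S₀.Exact := I.exact₀
        have hm : Mono S₀.f := inferInstanceAs (Mono (I.ι.f 0))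
        have h1 : (S₀.map Φ).Exact := hS₀.map_of_mono_of_preservesKernel Φ hm inferInstance
        have h2 : Mono (S₀.map Φ).f := inferInstanceAs (Mono (Φ.map (I.ι.f 0)))
        refine (ShortComplex.exact_and_mono_f_iff_of_iso ?_).2 ⟨h1, h2⟩
        refine ShortComplex.isoMk
          ((HomologicalComplex.eval _ _ 0).mapIso
            ((HomologicalComplex.singleMapHomologicalComplex Φ (ComplexShape.up ℕ) 0).symm.app F))
          (Iso.refl _) (Iso.refl _) ?_ ?_
        · simp [S₀]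
          exact congrArg (fun t => 𝟙 (Φ.obj F) ≫ t) (Category.comp_id (Φ.map (I.ι.f 0))).symm
        · simp [S₀]
          exact (Category.id_comp (Φ.map (I.cocomplex.d 0 1))).trans
            (Category.comp_id (Φ.map (I.cocomplex.d 0 1))).symm
    | succ n =>
      rw [quasiIsoAt_iff_exactAt]
      · rw [HomologicalComplex.exactAt_iff_isZero_homology]
        exact IsZero.of_iso (hvan n) (I.isoRightDerivedObj Φ (n + 1)).symm
      · apply CochainComplex.exactAt_succ_single_obj⟩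

end MapRes

section Adj

variable {𝒜 : Type u} [Category.{v} 𝒜] [Abelian 𝒜] [HasExt.{w} 𝒜] [HasInjectiveResolutions 𝒜]
  {ℬ : Type u'} [Category.{v'} ℬ] [Abelian ℬ] [HasExt.{w'} ℬ]
  {L : ℬ ⥤ 𝒜} {Φ : 𝒜 ⥤ ℬ} (adj : L ⊣ Φ) [Φ.Additive] [L.Additive] [PreservesFiniteLimits Φ]

/-- `Ext^n(L B, F) ≃ Ext^n(B, Φ F)` for an adjunction `L ⊣ Φ` when the higher derived functors of `Φ`
vanish on `F` and `Φ` preserves the injectivity of the terms of an injective resolution of `F`. -/
def extEquivOfAdj (B : ℬ) (F : 𝒜)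
    (hinj : ∀ n, Injective (Φ.obj ((injectiveResolution F).cocomplex.X n)))
    (hvan : ∀ n, IsZero ((Φ.rightDerived (n + 1)).obj F)) (n : ℕ) :
    Ext.{w} (L.obj B) F n ≃+ Ext.{w'} B (Φ.obj F) n :=
  HomCxEquiv.extEquiv (I := injectiveResolution F)
    (I' := mapRes Φ (injectiveResolution F) hinj hvan)
    { e := fun m => adj.homAddEquiv B ((injectiveResolution F).cocomplex.X m)
      he := fun m g => by
        change adj.homEquiv _ _ (g ≫ _) = adj.homEquiv _ _ g ≫ Φ.map _
        rw [Adjunction.homEquiv_naturality_right] } n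

end Adj

end Groth.Agent.Lib.Helper13.ExtTransfer
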