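import Mathlib
import Groth.Prelude
import Groth.Agent.Lib.Helper13.ClosedEmbPush
import Groth.Agent.Lib.Helper13.ExtTransfer

/-!
# Degenerate Leray: `R^q f_* F = 0` for `q > 0` implies `H^p(X, F) ≃ H^p(Y, f_* F)`
-/
set_option autoImplicit false
universe u
open CategoryTheory CategoryTheory.Limits Opposite CategoryTheory.Abelian TopologicalSpace
open Groth.Agent.Lib.Helper13.ExtAdj Groth.Agent.Lib.Helper13.SiteCohLocal
open Groth.Agent.Lib.Helper13.ClosedEmbPush Groth.Agent.Lib.Helper13.ExtTransfer

noncomputable section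

namespace Groth.Agent.Lib.Helper13.PushAcyclic

variable {X Y : TopCat.{u}} (f : X ⟶ Y)

instance : (CohTop.pull f).Additive := (adj f).left_adjoint_additive

instance : (CohTop.push f).Additive := (adj f).right_adjoint_additive

lemma push_injective (I : CohTop.Ab X) [Injective I] : Injective ((CohTop.push f).obj I) :=
  Injective.injective_of_adjoint (adj f) I

/-- `H^p(X, F) ≃ H^p(Y, f_* F)` when `R^q f_* F = 0` for all `q > 0`. -/
def HEquivPushOfVanish (F : CohTop.Ab X)
    (h : ∀ q : ℕ, IsZero ((CohTop.Rpush f (q + 1)).obj F)) (p : ℕ) :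
    CohTop.H F p ≃+ CohTop.H ((CohTop.push f).obj F) p :=
  (extIsoLeft (pullConstIso f) F p).trans
    (extEquivOfAdj (adj f) (constZ (Opens.grothendieckTopology Y)) F
      (fun _ => push_injective f _) h p)

end Groth.Agent.Lib.Helper13.PushAcyclic
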