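import Mathlib
import Groth.Prelude
import Groth.Agent.Lib.Helper13.AffineVanish
import Groth.Agent.Lib.Helper13.QCDim
import Groth.Agent.Lib.Helper3.QCPush
import Groth.Agent.Lib.Helper3.QCLim
import Groth.Agent.S0012

/-!
# Embedding a quasi-coherent module into an acyclic quasi-coherent module

On a quasi-compact scheme in which affine opens have affine intersections, `M` embeds into the
finite product of the modules `j_* j^* M` for `j` running over a finite affine open cover.
(uses helper3's `isQuasicoherent_pushforward`, `isQuasicoherent_biprod`, `mono_iff_app_injective`.)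
-/
set_option autoImplicit false
universe w u
open CategoryTheory CategoryTheory.Limits Opposite TopologicalSpace AlgebraicGeometry
open Groth.Agent.Lib.Helper13 Groth.Agent.Lib.Helper3

noncomputable section

namespace Groth.Agent.Lib.Helper13.AcyclicEmbed

lemma subsingleton_ext_of_decomp {D : Type*} [Category D] [Abelian D] [HasExt.{w} D]
    {Z F A B : D} (p₁ : F ⟶ A) (i₁ : A ⟶ F) (p₂ : F ⟶ B) (i₂ : B ⟶ F)
    (h : p₁ ≫ i₁ + p₂ ≫ i₂ = 𝟙 F) (n : ℕ)
    (hA : Subsingleton (Abelian.Ext.{w} Z A n)) (hB : Subsingleton (Abelian.Ext.{w} Z B n)) :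
    Subsingleton (Abelian.Ext.{w} Z F n) := by
  refine subsingleton_of_forall_eq 0 fun x => ?_
  have h1 : x.comp (Abelian.Ext.mk₀ (𝟙 F)) (add_zero n) = x := Abelian.Ext.comp_mk₀_id x
  have hA0 : x.comp (Abelian.Ext.mk₀ p₁) (add_zero n) = 0 := @Subsingleton.elim _ hA _ _
  have hB0 : x.comp (Abelian.Ext.mk₀ p₂) (add_zero n) = 0 := @Subsingleton.elim _ hB _ _
  rw [← h1, ← h, Abelian.Ext.mk₀_add, Abelian.Ext.comp_add, ← Abelian.Ext.mk₀_comp_mk₀,
    ← Abelian.Ext.mk₀_comp_mk₀, ← Abelian.Ext.comp_assoc_of_third_deg_zero,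
    ← Abelian.Ext.comp_assoc_of_third_deg_zero, hA0, hB0, Abelian.Ext.zero_comp,
    Abelian.Ext.zero_comp, add_zero]

variable {X : Scheme.{u}}

/-- `j_* j^* M` for the inclusion `j` of an open `U`. -/
def E (U : X.Opens) (M : X.Modules) : X.Modules :=
  (Scheme.Modules.pushforward U.ι).obj (M.restrict U.ι)

/-- the unit `M ⟶ j_* j^* M`. -/
def η (U : X.Opens) (M : X.Modules) : M ⟶ E U M :=
  (Scheme.Modules.restrictAdjunction U.ι).unit.app M

lemma isAffineHom_ι
    (hd : ∀ V W : X.Opens, IsAffineOpen V → IsAffineOpen W → IsAffineOpen (V ⊓ W))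
    {U : X.Opens} (hU : IsAffineOpen U) : IsAffineHom U.ι :=
  ⟨fun V hV => by
    apply (U.ι.isAffineOpen_iff_of_isOpenImmersion).mp
    rw [Scheme.Hom.image_preimage_eq_opensRange_inf, Scheme.Opens.opensRange_ι]
    exact hd _ _ hU hV⟩

lemma isQuasicoherent_E
    (hd : ∀ V W : X.Opens, IsAffineOpen V → IsAffineOpen W → IsAffineOpen (V ⊓ W))
    {U : X.Opens} (hU : IsAffineOpen U) (M : X.Modules) [M.IsQuasicoherent] :
    (E U M).IsQuasicoherent := by
  haveI := isAffineHom_ι hd hU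
  exact QCSec.isQuasicoherent_pushforward U.ι (M.restrict U.ι)

lemma subsingleton_HH_E
    (hd : ∀ V W : X.Opens, IsAffineOpen V → IsAffineOpen W → IsAffineOpen (V ⊓ W))
    {U : X.Opens} (hU : IsAffineOpen U) (M : X.Modules) [M.IsQuasicoherent] (p : ℕ) :
    Subsingleton (Coh.HH X (E U M) (p + 1)) := by
  haveI := isAffineHom_ι hd hU
  haveI : IsAffine (U : Scheme.{u}) := hU
  obtain ⟨e⟩ := Groth.Agent.S0012.result U.ι (M.restrict U.ι) (p + 1)
  exact e.toEquiv.subsingleton_congr.1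
    (AffineVanish.subsingleton_HH_of_isAffine (U : Scheme.{u}) (M.restrict U.ι) p)

lemma η_app_eq_zero (U : X.Opens) (M : X.Modules) (V : X.Opens) (s : Γ(M, V))
    (h : (η U M).app V s = 0) (W : X.Opens) (hWV : W ≤ V) (hWU : W ≤ U) :
    M.presheaf.map (homOfLE hWV).op s = 0 := by
  have h1 : (η U M).app V = M.presheaf.map (homOfLE (U.ι.image_preimage_le V)).op :=
    Scheme.Modules.restrictAdjunction_unit_app_app U.ι M V
  have h' : (M.presheaf.map (homOfLE (U.ι.image_preimage_le V)).op) s = 0 := h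
  have hW' : W ≤ U.ι ''ᵁ (U.ι ⁻¹ᵁ V) := by
    rw [Scheme.Hom.image_preimage_eq_opensRange_inf, Scheme.Opens.opensRange_ι]
    exact le_inf hWU hWV
  have h2 : M.presheaf.map (homOfLE hWV).op =
      M.presheaf.map (homOfLE (U.ι.image_preimage_le V)).op ≫
        M.presheaf.map (homOfLE hW').op := by
    rw [← Functor.map_comp]
    rfl
  rw [h2, ConcreteCategory.comp_apply, h']
  exact _root_.map_zero _

lemma map_biprod_total {C D : Type*} [Category C] [Category D] [Preadditive C] [Preadditive D]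
    (F : C ⥤ D) [F.Additive] (A B : C) [HasBinaryBiproduct A B] :
    F.map (biprod.fst : A ⊞ B ⟶ A) ≫ F.map biprod.inl + F.map (biprod.snd : A ⊞ B ⟶ B) ≫
      F.map biprod.inr = 𝟙 (F.obj (A ⊞ B)) := by
  rw [← F.map_comp, ← F.map_comp, ← F.map_add, biprod.total, F.map_id]

theorem exists_embed_aux
    (hd : ∀ V W : X.Opens, IsAffineOpen V → IsAffineOpen W → IsAffineOpen (V ⊓ W))
    (M : X.Modules) [M.IsQuasicoherent] (S : Finset X.Opens) (hS : ∀ U ∈ S, IsAffineOpen U) :
    ∃ (M' : X.Modules) (i : M ⟶ M'), M'.IsQuasicoherent ∧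
      (∀ p : ℕ, Subsingleton (Coh.HH X M' (p + 1))) ∧
      ∀ (V : X.Opens) (s : Γ(M, V)), i.app V s = 0 → ∀ U ∈ S, ∀ (W : X.Opens) (hWV : W ≤ V),
        W ≤ U → M.presheaf.map (homOfLE hWV).op s = 0 := by
  classical
  induction S using Finset.induction_on with
  | empty =>
    exact ⟨E ⊥ M, η ⊥ M, isQuasicoherent_E hd (isAffineOpen_bot X) M,
      subsingleton_HH_E hd (isAffineOpen_bot X) M,
      fun V s _ U hU => absurd hU (Finset.notMem_empty U)⟩
  | insert U₀ S hU₀ ih =>
    obtain ⟨M', i, hq, hac, hz⟩ := ih fun U hU => hS U (Finset.mem_insert_of_mem hU)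
    have hU₀a := hS U₀ (Finset.mem_insert_self U₀ S)
    have := hq
    have := isQuasicoherent_E hd hU₀a M
    refine ⟨M' ⊞ E U₀ M, biprod.lift i (η U₀ M), QCLim.isQuasicoherent_biprod M' (E U₀ M),
      fun p => ?_, ?_⟩
    · refine subsingleton_ext_of_decomp
        ((SheafOfModules.toSheaf X.ringCatSheaf).map (biprod.fst : M' ⊞ E U₀ M ⟶ M'))
        ((SheafOfModules.toSheaf X.ringCatSheaf).map (biprod.inl : M' ⟶ M' ⊞ E U₀ M))
        ((SheafOfModules.toSheaf X.ringCatSheaf).map (biprod.snd : M' ⊞ E U₀ M ⟶ E U₀ M))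
        ((SheafOfModules.toSheaf X.ringCatSheaf).map (biprod.inr : E U₀ M ⟶ M' ⊞ E U₀ M))
        (map_biprod_total (SheafOfModules.toSheaf X.ringCatSheaf) M' (E U₀ M))
        (p + 1) (hac p) (subsingleton_HH_E hd hU₀a M p)
    · intro V s h U hU W hWV hWU
      rcases Finset.mem_insert.1 hU with rfl | hU
      · refine η_app_eq_zero U M V s ?_ W hWV hWU
        have h3 : (biprod.lift i (η U M) ≫ (biprod.snd : M' ⊞ E U M ⟶ E U M)).app V s = 0 := by
          rw [Scheme.Modules.Hom.comp_app, ConcreteCategory.comp_apply, h]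
          exact _root_.map_zero _
        rwa [biprod.lift_snd] at h3
      · refine hz V s ?_ U hU W hWV hWU
        have h3 : (biprod.lift i (η U₀ M) ≫ (biprod.fst : M' ⊞ E U₀ M ⟶ M')).app V s = 0 := by
          rw [Scheme.Modules.Hom.comp_app, ConcreteCategory.comp_apply, h]
          exact _root_.map_zero _
        rwa [biprod.lift_fst] at h3

theorem exists_embed [CompactSpace X]
    (hd : ∀ V W : X.Opens, IsAffineOpen V → IsAffineOpen W → IsAffineOpen (V ⊓ W))
    (M : X.Modules) [M.IsQuasicoherent] :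
    ∃ (M' : X.Modules) (i : M ⟶ M'), Mono i ∧ M'.IsQuasicoherent ∧
      ∀ p : ℕ, Subsingleton (Coh.HH X M' (p + 1)) := by
  obtain ⟨T, hT, eT⟩ := QCDim.exists_finset_affine (⊤ : X.Opens)
    (by rw [Opens.coe_top]; exact isCompact_univ)
  obtain ⟨M', i, hq, hac, hz⟩ := exists_embed_aux hd M T hT
  refine ⟨M', i, ?_, hq, hac⟩
  rw [QCProps.mono_iff_app_injective]
  intro V a b hab
  have h0 : i.app V (a - b) = 0 := by
    rw [_root_.map_sub, hab, sub_self]
  have hz' := hz V (a - b) h0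
  have hs : a - b = 0 := by
    refine TopCat.Sheaf.eq_of_locally_eq' (Coh.toAb M) (fun U : {U // U ∈ T} => V ⊓ U.1) V
      (fun U => homOfLE inf_le_left) ?_ (a - b) 0 ?_
    · intro x hx
      have hx' : x ∈ T.sup id := by rw [eT]; trivial
      have h1 : T.sup id = ⨆ W ∈ T, W := by rw [Finset.sup_eq_iSup]; rfl
      rw [h1] at hx'
      obtain ⟨W, hW⟩ := Opens.mem_iSup.1 hx'
      obtain ⟨hWT, hxW⟩ := Opens.mem_iSup.1 hW
      exact Opens.mem_iSup.2 ⟨⟨W, hWT⟩, hx, hxW⟩
    · intro U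
      refine (hz' U.1 U.2 (V ⊓ U.1) inf_le_left inf_le_right).trans ?_
      exact (_root_.map_zero _).symm
  exact sub_eq_zero.1 hs

end Groth.Agent.Lib.Helper13.AcyclicEmbed
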