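import Mathlib
import Groth.Prelude
import Groth.Agent.Lib.Helper13.AcyclicEmbed
import Groth.Agent.Lib.Helper13.CechLocal

/-!
# Finite products of quasi-coherent modules, and terms of the Čech complex of sheaves
-/
set_option autoImplicit false
universe u
open CategoryTheory CategoryTheory.Limits Opposite TopologicalSpace AlgebraicGeometry
open Groth.Agent.Lib.Helper13 Groth.Agent.Lib.Helper3

noncomputable section

namespace Groth.Agent.Lib.Helper13.QCFinProd

variable {X : Scheme.{u}}

/-- a product of quasi-coherent modules over a finite type is quasi-coherent. -/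
theorem isQuasicoherent_piObj {α : Type u} [Finite α] (f : α → X.Modules)
    (h : ∀ a, (f a).IsQuasicoherent) :
    SheafOfModules.IsQuasicoherent (R := X.ringCatSheaf) (∏ᶜ f : X.Modules) := by
  obtain ⟨n, ⟨e⟩⟩ := Finite.exists_equiv_fin α
  have h1 : SheafOfModules.IsQuasicoherent (R := X.ringCatSheaf)
      (limit (Discrete.functor (f ∘ e.symm)) : X.Modules) :=
    QCLim.isQuasicoherent_limit (Discrete.functor (f ∘ e.symm)) (fun k => h (e.symm k.as))
  exact (SheafOfModules.isQuasicoherent X.ringCatSheaf).prop_of_iso (Pi.reindex e.symm f) h1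

/-- the terms of the Čech complex of sheaves of a quasi-coherent module for a finite family of
affine opens in a separated scheme are quasi-coherent. -/
theorem isQuasicoherent_cechSh_X [X.IsSeparated] {ι : Type u} [Finite ι] (𝒰 : ι → X.Opens)
    (h𝒰 : ∀ i, IsAffineOpen (𝒰 i)) (F : X.Modules) [F.IsQuasicoherent] (p : ℕ) :
    SheafOfModules.IsQuasicoherent (R := X.ringCatSheaf) (((CechOX.cechSh 𝒰).obj F).X p) := by
  have hd : ∀ V W : X.Opens, IsAffineOpen V → IsAffineOpen W → IsAffineOpen (V ⊓ W) :=
    fun V W hV hW => hV.inf hW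
  change SheafOfModules.IsQuasicoherent (R := X.ringCatSheaf)
    (∏ᶜ fun i : Fin (p + 1) → ι => AcyclicEmbed.E (∏ᶜ (𝒰 ∘ i)) F)
  refine isQuasicoherent_piObj _ fun i => ?_
  refine AcyclicEmbed.isQuasicoherent_E hd ?_ F
  rw [CechLocal.prod_eq_iInf]
  exact IsAffineOpen.iInf fun k => h𝒰 (i k)

end Groth.Agent.Lib.Helper13.QCFinProd
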