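import Mathlib
import Groth.Prelude
import Groth.Agent.Lib.Helper13.SerreCrit1
import Groth.Agent.Lib.Helper13.QCFinProd

/-!
# Serre's criterion for affineness

* `GammaExact X`: global sections are exact on short exact sequences of quasi-coherent modules
  whose first term embeds into a finite power of `O_X`.
* `isAffine_of_gammaExact`: a quasi-compact scheme with `GammaExact X` is affine.
* `gammaExact_of_H1`: if `H^1(X, I) = 0` for all quasi-coherent ideals, then `GammaExact X`.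
(uses helper3's quasi-coherent library: kernels, pushforwards, epimorphism criteria.)
-/
set_option autoImplicit false
universe u
open CategoryTheory CategoryTheory.Limits Opposite TopologicalSpace AlgebraicGeometry
open Groth.Agent.Lib.Helper13 Groth.Agent.Lib.Helper3

noncomputable section

namespace Groth.Agent.Lib.Helper13.SerreCrit2

variable {X : Scheme.{u}}

/-- the compatible family of sections defined by a global section. -/
def globalSec (M : X.Modules) (m : Γ(M, ⊤)) : M.sections :=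
  PresheafOfModules.sectionsMk (fun V => (show Γ(M, V.unop) from QCSec.res M le_top m))
    (fun _ _ f => QCSec.res_res M (leOfHom f.unop) le_top m)

/-- multiplication by a global function, as an endomorphism of `O_X`. -/
def mulBy (f : Γ(X, ⊤)) : Coh.structureModule X ⟶ Coh.structureModule X :=
  (Coh.structureModule X).unitHomEquiv.symm (globalSec (Coh.structureModule X) f)

lemma mulBy_app_top_one (f : Γ(X, ⊤)) : (mulBy f).app ⊤ (1 : Γ(X, ⊤)) = f := by
  have h := (Coh.structureModule X).unitHomEquiv.apply_symm_apply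
    (globalSec (Coh.structureModule X) f)
  have h2 := congrArg (fun σ => σ.val (op ⊤)) h
  refine h2.trans ?_
  exact QCSec.res_self (Coh.structureModule X) le_rfl f

/-- a function viewed as a section of the structure module. -/
abbrev ofFun (W : X.Opens) (r : Γ(X, W)) : Γ(Coh.structureModule X, W) := r

/-- a section of the structure module viewed as a function. -/
def toFunHom (W : X.Opens) : Γ(Coh.structureModule X, W) →+ Γ(X, W) where
  toFun a := a
  map_zero' := rfl
  map_add' _ _ := rfl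

lemma toFunHom_ofFun (W : X.Opens) (r : Γ(X, W)) : toFunHom W (ofFun W r) = r := rfl

lemma mulBy_app (f : Γ(X, ⊤)) (W : X.Opens) (r : Γ(X, W)) :
    (mulBy f).app W (ofFun W r) = ofFun W (r * QCSec.rres X le_top f) := by
  rw [ModBasic.unit_hom_app_apply (mulBy f) W r, mulBy_app_top_one]
  rfl

/-- evaluation of morphisms of modules on a section, as an additive map. -/
def appHom {M N : X.Modules} (U : X.Opens) (t : Γ(M, U)) : (M ⟶ N) →+ Γ(N, U) where
  toFun φ := φ.app U t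
  map_zero' := rfl
  map_add' _ _ := rfl

lemma sum_app {M N : X.Modules} {ι : Type*} (s : Finset ι) (φ : ι → (M ⟶ N)) (U : X.Opens)
    (t : Γ(M, U)) : (∑ k ∈ s, φ k).app U t = ∑ k ∈ s, (φ k).app U t :=
  map_sum (appHom U t) φ s

/-- `O_X^n`. -/
abbrev P (X : Scheme.{u}) (n : ℕ) : X.Modules := ∏ᶜ (fun _ : Fin n => Coh.structureModule X)

/-- the map `O_X^n ⟶ O_X`, `(a_k) ↦ ∑ a_k f_k`. -/
def σ {n : ℕ} (fs : Fin n → Γ(X, ⊤)) : P X n ⟶ Coh.structureModule X :=
  ∑ k, Pi.π (fun _ : Fin n => Coh.structureModule X) k ≫ mulBy (fs k)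

lemma σ_app {n : ℕ} (fs : Fin n → Γ(X, ⊤)) (W : X.Opens) (t : Γ(P X n, W)) :
    toFunHom W ((σ fs).app W t) = ∑ k : Fin n,
      toFunHom W ((Pi.π (fun _ : Fin n => Coh.structureModule X) k).app W t) *
        QCSec.rres X le_top (fs k) := by
  rw [σ, sum_app, map_sum]
  refine Finset.sum_congr rfl fun k _ => ?_
  rw [Scheme.Modules.Hom.comp_app, ConcreteCategory.comp_apply]
  exact congrArg (toFunHom W) (mulBy_app (fs k) W
    (toFunHom W ((Pi.π (fun _ : Fin n => Coh.structureModule X) k).app W t)))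

lemma σ_app_top_mem {n : ℕ} (fs : Fin n → Γ(X, ⊤)) (t : Γ(P X n, ⊤)) :
    toFunHom ⊤ ((σ fs).app ⊤ t) ∈ Ideal.span (Set.range fs) := by
  rw [σ_app]
  refine Ideal.sum_mem _ fun k _ => Ideal.mul_mem_left _ _ ?_
  have h : QCSec.rres X (le_top : (⊤ : X.Opens) ≤ ⊤) (fs k) = fs k := QCSec.rres_self _ _
  rw [h]
  exact Ideal.subset_span (Set.mem_range_self k)

/-- the `k`-th inclusion `O_X ⟶ O_X^n`. -/
def inc (X : Scheme.{u}) {n : ℕ} (k : Fin n) : Coh.structureModule X ⟶ P X n :=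
  Pi.lift (fun k' => if k' = k then 𝟙 _ else 0)

lemma inc_σ {n : ℕ} (fs : Fin n → Γ(X, ⊤)) (k : Fin n) : inc X k ≫ σ fs = mulBy (fs k) := by
  rw [σ, Preadditive.comp_sum]
  rw [Finset.sum_eq_single k]
  · rw [inc, Limits.Pi.lift_π_assoc, if_pos rfl, Category.id_comp]
  · intro k' _ hk'
    rw [inc, Limits.Pi.lift_π_assoc, if_neg hk', zero_comp]
  · intro h
    exact absurd (Finset.mem_univ k) h

lemma epi_σ {n : ℕ} (fs : Fin n → Γ(X, ⊤)) (hcov : ∀ x : X, ∃ k, x ∈ X.basicOpen (fs k)) :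
    Epi (σ fs) := by
  apply QCExact.epi_of_locally_surjective
  intro W s x hxW
  obtain ⟨k, hk⟩ := hcov x
  have hW' : W ⊓ X.basicOpen (fs k) ≤ W := inf_le_left
  refine ⟨W ⊓ X.basicOpen (fs k), hW', ⟨hxW, hk⟩, ?_⟩
  have hu0 : IsUnit (QCSec.rres X (le_top : X.basicOpen (fs k) ≤ ⊤) (fs k)) :=
    RingedSpace.isUnit_res_basicOpen _ (fs k)
  have hu : IsUnit (QCSec.rres X (le_top : W ⊓ X.basicOpen (fs k) ≤ ⊤) (fs k)) := by
    rw [← QCSec.rres_rres (inf_le_right : W ⊓ X.basicOpen (fs k) ≤ X.basicOpen (fs k)) le_top]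
    exact hu0.map (X.presheaf.map (homOfLE _).op).hom
  obtain ⟨v, hv⟩ := hu.exists_left_inv
  let a : Γ(X, W ⊓ X.basicOpen (fs k)) :=
    toFunHom _ (QCSec.res (Coh.structureModule X) hW' s)
  refine ⟨(inc X k).app _ (ofFun _ (a * v)), ?_⟩
  have h1 : (σ fs).app _ ((inc X k).app _ (ofFun _ (a * v))) =
      (inc X k ≫ σ fs).app _ (ofFun _ (a * v)) := rfl
  rw [h1, inc_σ, mulBy_app, mul_assoc, hv, mul_one]
  rfl

/-- existence of a global function equal to `1` near `V₁` and `0` near `V₂` for a clopen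
decomposition. -/
lemma exists_idempotent_of_disjoint_cover (Y : Scheme.{u}) (V₁ V₂ : Y.Opens)
    (hcover : (⊤ : Y.Opens) ≤ V₁ ⊔ V₂) (hdisj : V₁ ⊓ V₂ = ⊥) :
    ∃ e : Γ(Y, ⊤), Y.presheaf.map (homOfLE (le_top : V₁ ≤ ⊤)).op e = 1 ∧
      Y.presheaf.map (homOfLE (le_top : V₂ ≤ ⊤)).op e = 0 := by
  let Uf : Bool → Y.Opens := fun b => bif b then V₁ else V₂
  let sf : ∀ b, Γ(Y, Uf b) := fun b =>
    match b with
    | true => (1 : Γ(Y, V₁))
    | false => (0 : Γ(Y, V₂))
  have hsub : ∀ W : Y.Opens, W = ⊥ → Subsingleton Γ(Y, W) := by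
    rintro W rfl
    infer_instance
  have hcompat : TopCat.Presheaf.IsCompatible Y.sheaf.1 Uf sf := by
    intro b b'
    cases b <;> cases b'
    · exact (map_zero (Y.presheaf.map _).hom).trans (map_zero (Y.presheaf.map _).hom).symm
    · have h0 : Subsingleton Γ(Y, Uf false ⊓ Uf true) := hsub _ (by rw [inf_comm]; exact hdisj)
      exact @Subsingleton.elim _ h0 _ _
    · have h0 : Subsingleton Γ(Y, Uf true ⊓ Uf false) := hsub _ hdisj
      exact @Subsingleton.elim _ h0 _ _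
    · exact (map_one (Y.presheaf.map _).hom).trans (map_one (Y.presheaf.map _).hom).symm
  obtain ⟨e, he, -⟩ := Y.sheaf.existsUnique_gluing' Uf ⊤ (fun b => homOfLE le_top)
    (hcover.trans (sup_le (le_iSup Uf true) (le_iSup Uf false))) sf hcompat
  exact ⟨e, he true, he false⟩


/-- exactness of global sections on short exact sequences of quasi-coherent modules whose first term
embeds in a finite power of `O_X`. -/
def GammaExact (X : Scheme.{u}) : Prop :=
  ∀ (S : ShortComplex X.Modules) (n : ℕ)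
    (j : S.X₁ ⟶ ∏ᶜ (fun _ : Fin n => Coh.structureModule X)),
    S.ShortExact → Mono j → S.X₁.IsQuasicoherent → S.X₂.IsQuasicoherent → S.X₃.IsQuasicoherent →
      Function.Surjective (S.g.app ⊤)

/-- the canonical map `O_X ⟶ i_* O_Y`. -/
def toPush {Y : Scheme.{u}} (i : Y ⟶ X) :
    Coh.structureModule X ⟶ (Scheme.Modules.pushforward i).obj (Coh.structureModule Y) :=
  SheafOfModules.unitToPushforwardObjUnit i.toRingCatSheafHom

lemma toPush_app {Y : Scheme.{u}} (i : Y ⟶ X) (U : X.Opens) (r : Γ(X, U)) :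
    (toPush i).app U (ofFun U r) = ofFun (i ⁻¹ᵁ U) (i.app U r) := rfl

lemma epi_toPush {Y : Scheme.{u}} (i : Y ⟶ X) [IsClosedImmersion i] : Epi (toPush i) := by
  haveI : ((Scheme.Modules.pushforward i).obj (Coh.structureModule Y)).IsQuasicoherent :=
    QCSec.isQuasicoherent_pushforward i _
  rw [QCExact.epi_iff_surjective_on_affines]
  intro U hU y
  obtain ⟨r, hr⟩ := i.app_surjective U hU (toFunHom (i ⁻¹ᵁ U) y)
  exact ⟨ofFun U r, hr⟩

theorem exists_affine_basicOpen (hΓ : GammaExact X) (x : X) (hx : IsClosed ({x} : Set X)) :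
    ∃ f : Γ(X, ⊤), x ∈ X.basicOpen f ∧ IsAffineOpen (X.basicOpen f) := by
  obtain ⟨U, hU, hxU⟩ := QCProps.exists_affine_nbhd x
  let Z' : Closeds X := ⟨(U : Set X)ᶜ ∪ {x}, U.isOpen.isClosed_compl.union hx⟩
  let 𝓘 := Scheme.IdealSheafData.vanishingIdeal Z'
  let Y : Scheme.{u} := 𝓘.subscheme
  let i : Y ⟶ X := 𝓘.subschemeι
  have hrange : Set.range i = (U : Set X)ᶜ ∪ {x} := by
    rw [Scheme.IdealSheafData.range_subschemeι]
    exact Scheme.IdealSheafData.coe_support_vanishingIdeal Z'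
  let V₁ : Y.Opens := i ⁻¹ᵁ U
  let V₂ : Y.Opens := i ⁻¹ᵁ ⟨{x}ᶜ, hx.isOpen_compl⟩
  have hiy : ∀ y : Y, i y ∈ (U : Set X)ᶜ ∪ {x} := fun y => hrange ▸ Set.mem_range_self y
  have hcover : (⊤ : Y.Opens) ≤ V₁ ⊔ V₂ := by
    intro y _
    by_cases hy : i y = x
    · exact Or.inl (show i y ∈ U from hy ▸ hxU)
    · exact Or.inr hy
  have hdisj : V₁ ⊓ V₂ = ⊥ := by
    refine le_bot_iff.1 fun y hy => ?_
    obtain ⟨h1, h2⟩ := hy
    rcases hiy y with h | h
    · exact h h1
    · exact h2 h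
  obtain ⟨e, he1, he2⟩ := exists_idempotent_of_disjoint_cover Y V₁ V₂ hcover hdisj
  haveI : Epi (toPush i) := epi_toPush i
  have hq : ((Scheme.Modules.pushforward i).obj (Coh.structureModule Y)).IsQuasicoherent :=
    QCSec.isQuasicoherent_pushforward i _
  let S : ShortComplex X.Modules :=
    ShortComplex.mk (kernel.ι (toPush i)) (toPush i) (kernel.condition _)
  have hS : S.ShortExact :=
    { exact := ShortComplex.exact_kernel _
      mono_f := inferInstanceAs (Mono (kernel.ι (toPush i)))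
      epi_g := inferInstanceAs (Epi (toPush i)) }
  have hK : (kernel (toPush i) : X.Modules).IsQuasicoherent := QCProps.isQuasicoherent_kernel _
  let j : kernel (toPush i) ⟶ ∏ᶜ (fun _ : Fin 1 => Coh.structureModule X) :=
    kernel.ι (toPush i) ≫ Pi.lift (fun _ => 𝟙 _)
  have hj : Mono j := by
    haveI : Mono (Pi.lift (fun _ : Fin 1 => 𝟙 (Coh.structureModule X))) := by
      have h0 : Pi.lift (fun _ : Fin 1 => 𝟙 (Coh.structureModule X)) ≫
          Pi.π (fun _ : Fin 1 => Coh.structureModule X) 0 = 𝟙 _ := Limits.Pi.lift_π _ _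
      exact mono_of_mono_fac h0
    exact mono_comp _ _
  obtain ⟨f', hf'⟩ := hΓ S 1 j hS hj hK inferInstance hq (ofFun (i ⁻¹ᵁ ⊤) e)
  let f : Γ(X, ⊤) := toFunHom ⊤ f'
  have hfe : i.app ⊤ f = e := hf'
  have hpre : i ⁻¹ᵁ X.basicOpen f = Y.basicOpen e :=
    (Scheme.preimage_basicOpen i f).trans (congrArg (fun t => Y.basicOpen t) hfe)
  have hY1 : V₁ ≤ Y.basicOpen e := by
    have h0 := Y.basicOpen_res e (homOfLE (le_top : V₁ ≤ ⊤)).op
    rw [he1, Scheme.basicOpen_one] at h0
    exact inf_eq_left.1 h0.symm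
  have hY2 : V₂ ⊓ Y.basicOpen e = ⊥ := by
    have h0 := Y.basicOpen_res e (homOfLE (le_top : V₂ ≤ ⊤)).op
    rw [he2, Scheme.basicOpen_zero] at h0
    exact h0.symm
  have hxf : x ∈ X.basicOpen f := by
    have hxr : x ∈ Set.range i := hrange ▸ Or.inr rfl
    obtain ⟨y, hy⟩ := hxr
    have h0 : y ∈ i ⁻¹ᵁ X.basicOpen f := hpre ▸ hY1 (show i y ∈ U from hy ▸ hxU)
    exact hy ▸ h0
  have hfU : X.basicOpen f ≤ U := by
    intro z hz
    by_contra hzU
    have hzr : z ∈ Set.range i := hrange ▸ Or.inl hzU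
    obtain ⟨y, rfl⟩ := hzr
    have h1 : y ∈ V₂ := fun h => hzU (h ▸ hxU)
    have h2 : y ∈ Y.basicOpen e := hpre ▸ hz
    have h3 : y ∈ (⊥ : Y.Opens) := hY2 ▸ ⟨h1, h2⟩
    exact h3
  refine ⟨f, hxf, ?_⟩
  have h0 : X.basicOpen f = X.basicOpen (X.presheaf.map (homOfLE (le_top : U ≤ ⊤)).op f) := by
    rw [Scheme.basicOpen_res]
    exact (inf_eq_right.2 hfU).symm
  rw [h0]
  exact hU.basicOpen _

theorem span_eq_top (hΓ : GammaExact X) {n : ℕ} (fs : Fin n → Γ(X, ⊤))
    (hcov : ∀ x : X, ∃ k, x ∈ X.basicOpen (fs k)) : Ideal.span (Set.range fs) = ⊤ := by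
  haveI := epi_σ fs hcov
  let S : ShortComplex X.Modules :=
    ShortComplex.mk (kernel.ι (σ fs)) (σ fs) (kernel.condition _)
  have hS : S.ShortExact :=
    { exact := ShortComplex.exact_kernel _
      mono_f := inferInstanceAs (Mono (kernel.ι (σ fs)))
      epi_g := inferInstanceAs (Epi (σ fs)) }
  have hP : (P X n).IsQuasicoherent :=
    QCLim.isQuasicoherent_limit (Discrete.functor fun _ : Fin n => Coh.structureModule X)
      (fun _ => QCOpen.isQuasicoherent_structureModule X)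
  have hK : (kernel (σ fs) : X.Modules).IsQuasicoherent := QCProps.isQuasicoherent_kernel _
  obtain ⟨t, ht⟩ := hΓ S n (kernel.ι (σ fs)) hS inferInstance hK hP inferInstance (ofFun ⊤ 1)
  rw [Ideal.eq_top_iff_one]
  have h0 := σ_app_top_mem fs t
  have h1 : (σ fs).app ⊤ t = ofFun ⊤ 1 := ht
  rw [h1] at h0
  exact h0

theorem isAffine_of_gammaExact [CompactSpace X] (hΓ : GammaExact X) : IsAffine X := by
  let G : Set Γ(X, ⊤) := {f | IsAffineOpen (X.basicOpen f)}
  have hall : ∀ x : X, ∃ f ∈ G, x ∈ X.basicOpen f := by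
    by_contra hcon
    push Not at hcon
    obtain ⟨x₀, hx₀⟩ := hcon
    let W : X.Opens := ⨆ f : G, X.basicOpen f.1
    have hC : IsClosed ((W : Set X)ᶜ) := W.isOpen.isClosed_compl
    have hne : ((W : Set X)ᶜ).Nonempty := ⟨x₀, fun h => by
      obtain ⟨f, hf⟩ := Opens.mem_iSup.1 h
      exact hx₀ f.1 f.2 hf⟩
    obtain ⟨x, hxC, hxcl⟩ := hC.exists_closed_singleton hne
    obtain ⟨f, hxf, hfa⟩ := exists_affine_basicOpen hΓ x hxcl
    exact hxC (Opens.mem_iSup.2 ⟨⟨f, hfa⟩, hxf⟩)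
  choose! g hgG hg using hall
  obtain ⟨t, ht⟩ := isCompact_univ.elim_finite_subcover
    (fun x : X => (X.basicOpen (g x) : Set X)) (fun x => (X.basicOpen (g x)).isOpen)
    (fun x _ => Set.mem_iUnion.2 ⟨x, hg x⟩)
  let e := t.equivFin
  let fs : Fin t.card → Γ(X, ⊤) := fun k => g (e.symm k).1
  have hcov : ∀ x : X, ∃ k, x ∈ X.basicOpen (fs k) := by
    intro x
    obtain ⟨y, hy⟩ := Set.mem_iUnion.1 (ht (Set.mem_univ x))
    obtain ⟨hyt, hxy⟩ := Set.mem_iUnion.1 hy
    refine ⟨e ⟨y, hyt⟩, ?_⟩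
    have h1 : fs (e ⟨y, hyt⟩) = g y := by
      change g (e.symm (e ⟨y, hyt⟩)).1 = g y
      rw [Equiv.symm_apply_apply]
    rw [h1]
    exact hxy
  have hspan := span_eq_top hΓ fs hcov
  refine isAffine_of_isAffineOpen_basicOpen (Set.range fs) hspan ?_
  rintro _ ⟨k, rfl⟩
  exact hgG _

theorem gammaExact_of_H1
    (h : ∀ (I : X.Modules) (i : I ⟶ Coh.structureModule X), Mono i →
      I.IsQuasicoherent → Subsingleton (Coh.HH X I 1)) : GammaExact X := by
  intro S n j hS hj h1 _ _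
  refine SerreCrit1.surjective_app_top_of_H1 S hS ?_
  refine SerreCrit1.subsingleton_H1_of_jointly_mono h n S.X₁
    (fun k => j ≫ Pi.π (fun _ : Fin n => Coh.structureModule X) k) h1 ?_
  intro T t ht
  have h0 : t ≫ j = 0 := by
    refine Limits.Pi.hom_ext _ _ fun k => ?_
    rw [Category.assoc, zero_comp]
    exact ht k
  exact (cancel_mono j).1 (h0.trans zero_comp.symm)

end Groth.Agent.Lib.Helper13.SerreCrit2
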