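import Mathlib
import Groth.Prelude
import Groth.Agent.Lib.Helper1.FFFinal
import Groth.Agent.Lib.Helper13.SerreCrit2
import Groth.Agent.Lib.Helper15.NoethTop
import Groth.Agent.Lib.Helper23.T2L

/-!
# Lifting idempotents along the theorem on formal functions

For `X` proper over a Noetherian `I`-adically complete ring `A`, a decomposition of the closed
subset `V(I O_X)` into two disjoint closed pieces lifts to a global idempotent of `O_X`, hence to a
clopen decomposition of `X`.  Consequence: `π₀(X₀) → π₀(X)` is bijective.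
-/
set_option autoImplicit false
universe u
open CategoryTheory CategoryTheory.Limits Opposite TopologicalSpace AlgebraicGeometry
open Groth.Agent.Lib.Helper13 Groth.Agent.Lib.Helper3 Groth.Agent.Lib.Helper1.FFIM
open Groth.Agent.Lib.Helper13.SerreCrit2
open Formal

noncomputable section

namespace Groth.Agent.Lib.Helper13.FormalIdem

variable {A : Type u} [CommRing A] {X : Scheme.{u}} [X.Over (Spec (CommRingCat.of A))]

lemma rres_resA {U V : X.Opens} (h : U ≤ V) (a : A) :
    QCSec.rres X h (resA (A := A) V a) = resA U a :=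
  Coh.resTop_comp (op V) (op U) (homOfLE h).op _

lemma resA_pow (U : X.Opens) (a : A) (n : ℕ) : resA (X := X) U (a ^ n) = resA U a ^ n :=
  map_pow _ _ _

variable (I : Ideal A)

/-- the zero locus of `I O_X`. -/
def Z₀ : Set X := {x | ∀ a ∈ I, x ∉ X.basicOpen (resA (A := A) ⊤ a)}

variable {I}

lemma isUnit_resA {a : A} {V : X.Opens} (hV : V ≤ X.basicOpen (resA (A := A) ⊤ a)) :
    IsUnit (resA (A := A) V a) := by
  have hu0 : IsUnit (QCSec.rres X (le_top : X.basicOpen (resA (A := A) ⊤ a) ≤ ⊤) (resA ⊤ a)) :=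
    RingedSpace.isUnit_res_basicOpen _ (resA (A := A) ⊤ a)
  rw [← rres_resA (le_top : V ≤ ⊤) a, ← QCSec.rres_rres hV le_top]
  exact hu0.map (X.presheaf.map (homOfLE hV).op).hom

/-- sections of a module killed by `I^n` vanish where some `a ∈ I` is invertible. -/
lemma eq_zero_of_le_basicOpen (N : X.Modules) (n : ℕ) (hN : ∀ b ∈ I ^ n, smulMod A N b = 0)
    {a : A} (ha : a ∈ I) {V : X.Opens} (hV : V ≤ X.basicOpen (resA (A := A) ⊤ a))
    (t : Γ(N, V)) : t = 0 := by
  have hu : IsUnit (resA (A := A) V (a ^ n)) := by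
    rw [resA_pow]; exact (isUnit_resA hV).pow n
  have h0 : (resA (A := A) V (a ^ n) : Γ(X, V)) • t = 0 := by
    rw [← smulMod_app, hN (a ^ n) (Ideal.pow_mem_pow ha n)]
    rfl
  exact (hu.smul_eq_zero).1 h0

/-- sections of a module killed by `I^n` vanish away from `V(I O_X)`. -/
lemma eq_zero_of_disjoint (N : X.Modules) (n : ℕ) (hN : ∀ b ∈ I ^ n, smulMod A N b = 0)
    (W : X.Opens) (hW : ∀ x ∈ W, x ∉ Z₀ (X := X) I) (t : Γ(N, W)) : t = 0 := by
  let Uf : {a : A // a ∈ I} → X.Opens := fun a => W ⊓ X.basicOpen (resA (A := A) ⊤ a.1)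
  have hcover : W ≤ iSup Uf := by
    intro x hx
    have h1 := hW x hx
    simp only [Z₀, Set.mem_setOf_eq, not_forall, not_not] at h1
    obtain ⟨a, ha, hxa⟩ := h1
    exact Opens.mem_iSup.mpr ⟨⟨a, ha⟩, hx, hxa⟩
  apply TopCat.Sheaf.eq_of_locally_eq' (Coh.toAb N) Uf W (fun a => homOfLE inf_le_left) hcover
  intro a
  exact (eq_zero_of_le_basicOpen N n hN a.2 (inf_le_right : Uf a ≤ _) _).trans
    (eq_zero_of_le_basicOpen N n hN a.2 (inf_le_right : Uf a ≤ _) _).symm


variable (I) in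
/-- a decomposition of `V(I O_X)` into two disjoint closed subsets. -/
structure Decomp where
  /-- first piece -/
  C₁ : Set X
  /-- second piece -/
  C₂ : Set X
  h₁ : IsClosed C₁
  h₂ : IsClosed C₂
  hdisj : Disjoint C₁ C₂
  hunion : C₁ ∪ C₂ = Z₀ (X := X) I

namespace Decomp

variable (D : Decomp (X := X) I)

/-- the open complement of the second piece. -/
def W₁ : X.Opens := ⟨D.C₂ᶜ, D.h₂.isOpen_compl⟩
/-- the open complement of the first piece. -/
def W₂ : X.Opens := ⟨D.C₁ᶜ, D.h₁.isOpen_compl⟩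

lemma cover : (⊤ : X.Opens) ≤ D.W₁ ⊔ D.W₂ := by
  intro x _
  by_cases hx : x ∈ D.C₂
  · right
    intro hx1
    exact Set.disjoint_left.1 D.hdisj hx1 hx
  · left
    exact hx

lemma notMem_Z₀ {x : X} (hx : x ∈ D.W₁ ⊓ D.W₂) : x ∉ Z₀ (X := X) I := by
  intro hx0
  rw [← D.hunion] at hx0
  rcases hx0 with h | h
  · exact hx.2 h
  · exact hx.1 h

lemma C₁_le_W₁ : D.C₁ ⊆ D.W₁ := fun _ hx hx2 => Set.disjoint_left.1 D.hdisj hx hx2
lemma C₂_le_W₂ : D.C₂ ⊆ D.W₂ := fun _ hx hx1 => Set.disjoint_left.1 D.hdisj hx1 hx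

variable (N : X.Modules) (n : ℕ) (hN : ∀ b ∈ I ^ n, smulMod A N b = 0)

include hN in
/-- gluing `m` on `W₁` with `0` on `W₂`. -/
lemma exists_glue (m : Γ(N, ⊤)) :
    ∃ e : Γ(N, ⊤), QCSec.res N (le_top : D.W₁ ≤ ⊤) e = QCSec.res N le_top m ∧
      QCSec.res N (le_top : D.W₂ ≤ ⊤) e = 0 := by
  let Uf : Bool → X.Opens := fun b => bif b then D.W₁ else D.W₂
  let sf : ∀ b, ToType ((Coh.toAb N).1.obj (op (Uf b))) := fun b =>
    match b with
    | true => QCSec.res N (le_top : D.W₁ ≤ ⊤) m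
    | false => (0 : Γ(N, D.W₂))
  have hcompat : TopCat.Presheaf.IsCompatible (Coh.toAb N).1 Uf sf := by
    intro b b'
    cases b <;> cases b'
    · rfl
    · exact (eq_zero_of_disjoint N n hN (D.W₂ ⊓ D.W₁)
        (fun x hx => D.notMem_Z₀ ⟨hx.2, hx.1⟩) _).trans
        (eq_zero_of_disjoint N n hN (D.W₂ ⊓ D.W₁) (fun x hx => D.notMem_Z₀ ⟨hx.2, hx.1⟩) _).symm
    · exact (eq_zero_of_disjoint N n hN (D.W₁ ⊓ D.W₂)
        (fun x hx => D.notMem_Z₀ hx) _).trans
        (eq_zero_of_disjoint N n hN (D.W₁ ⊓ D.W₂) (fun x hx => D.notMem_Z₀ hx) _).symm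
    · rfl
  obtain ⟨e, he, -⟩ := TopCat.Sheaf.existsUnique_gluing' (Coh.toAb N) Uf ⊤ (fun b => homOfLE le_top)
    (D.cover.trans (sup_le (le_iSup Uf true) (le_iSup Uf false))) sf hcompat
  exact ⟨e, he true, he false⟩

lemma glue_unique (e e' : Γ(N, ⊤))
    (h₁ : QCSec.res N (le_top : D.W₁ ≤ ⊤) e = QCSec.res N (le_top : D.W₁ ≤ ⊤) e')
    (h₂ : QCSec.res N (le_top : D.W₂ ≤ ⊤) e = QCSec.res N (le_top : D.W₂ ≤ ⊤) e') : e = e' :=
  TopCat.Sheaf.eq_of_locally_eq₂ (Coh.toAb N) (homOfLE le_top) (homOfLE le_top) D.cover e e' h₁ h₂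

/-- the glued section. -/
def glue (m : Γ(N, ⊤)) : Γ(N, ⊤) := (D.exists_glue N n hN m).choose

lemma glue_res₁ (m : Γ(N, ⊤)) :
    QCSec.res N (le_top : D.W₁ ≤ ⊤) (D.glue N n hN m) = QCSec.res N le_top m :=
  (D.exists_glue N n hN m).choose_spec.1

lemma glue_res₂ (m : Γ(N, ⊤)) : QCSec.res N (le_top : D.W₂ ≤ ⊤) (D.glue N n hN m) = 0 :=
  (D.exists_glue N n hN m).choose_spec.2

lemma eq_glue (m e : Γ(N, ⊤)) (h₁ : QCSec.res N (le_top : D.W₁ ≤ ⊤) e = QCSec.res N le_top m)
    (h₂ : QCSec.res N (le_top : D.W₂ ≤ ⊤) e = 0) : e = D.glue N n hN m :=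
  D.glue_unique N e _ (h₁.trans (D.glue_res₁ N n hN m).symm) (h₂.trans (D.glue_res₂ N n hN m).symm)

lemma map_glue {N' : X.Modules} (n' : ℕ) (hN' : ∀ b ∈ I ^ n', smulMod A N' b = 0) (ψ : N ⟶ N')
    (m : Γ(N, ⊤)) : ψ.app ⊤ (D.glue N n hN m) = D.glue N' n' hN' (ψ.app ⊤ m) := by
  apply D.eq_glue
  · rw [← QCExact.app_res', ← QCExact.app_res', D.glue_res₁]
  · rw [← QCExact.app_res', D.glue_res₂, map_zero]

lemma smul_glue (r : Γ(X, ⊤)) (m : Γ(N, ⊤)) (hr : r • m = D.glue N n hN m) :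
    r • D.glue N n hN m = D.glue N n hN m := by
  apply D.eq_glue
  · rw [QCSec.res_smul, D.glue_res₁, ← QCSec.res_smul, hr, D.glue_res₁]
  · rw [QCSec.res_smul, D.glue_res₂, smul_zero]

end Decomp


section NV

variable (x : X)

/-- functions from `I` vanish on any reduced scheme mapping into `V(I O_X)`. -/
lemma app_resA_eq_zero {T : Scheme.{u}} [IsReduced T] (i : T ⟶ X)
    (hi : ∀ t : T, i t ∈ Z₀ (X := X) I) {a : A} (ha : a ∈ I) (U : X.Opens) :
    i.app U (resA (A := A) U a) = 0 := by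
  rw [← basicOpen_eq_bot_iff, ← Scheme.preimage_basicOpen, ← rres_resA (le_top : U ≤ ⊤) a]
  ext t
  simp only [Opens.coe_bot, Set.mem_empty_iff_false, iff_false]
  intro ht
  have h1 : i t ∈ X.basicOpen (QCSec.rres X (le_top : U ≤ ⊤) (resA (A := A) ⊤ a)) := ht
  rw [Scheme.basicOpen_res] at h1
  exact hi t a ha h1.2

/-- the module `i_* O_T` is killed by `I` when `T` is reduced and maps into `V(I O_X)`. -/
lemma smulMod_push_eq_zero {T : Scheme.{u}} [IsReduced T] (i : T ⟶ X)
    (hi : ∀ t : T, i t ∈ Z₀ (X := X) I) {a : A} (ha : a ∈ I) :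
    smulMod A ((Scheme.Modules.pushforward i).obj (Coh.structureModule T)) a = 0 := by
  apply Scheme.Modules.hom_ext
  intro U
  ext m
  change (smulMod A _ a).app U m = 0
  rw [smulMod_app]
  have h0 := app_resA_eq_zero i hi ha U
  change (i.app U (resA (A := A) U a)) • (show Γ(T, i ⁻¹ᵁ U) from m) = 0
  rw [h0, zero_smul]

/-- the factorization of `O_X ⟶ i_* O_T` through `O_X / I O_X`. -/
lemma exists_factor {T : Scheme.{u}} [IsReduced T] (i : T ⟶ X)
    (hi : ∀ t : T, i t ∈ Z₀ (X := X) I) :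
    ∃ ηb : modPow I 1 (Coh.structureModule X) ⟶
        (Scheme.Modules.pushforward i).obj (Coh.structureModule T),
      modPowπ I 1 (Coh.structureModule X) ≫ ηb = toPush i := by
  have hfac : smulFamily (I ^ 1) (Coh.structureModule X) ≫ toPush i = 0 := by
    apply Sigma.hom_ext
    intro b
    have hb : (b : A) ∈ I := by simpa using b.2
    rw [comp_zero, ← Category.assoc]
    have h1 : Sigma.ι (fun _ : ↥(I ^ 1) => Coh.structureModule X) b ≫
        smulFamily (I ^ 1) (Coh.structureModule X) = smulMod A (Coh.structureModule X) (b : A) := by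
      simp [smulFamily]
    rw [h1, ← smulMod_naturality, smulMod_push_eq_zero i hi hb, comp_zero]
  exact ⟨cokernel.desc _ _ hfac, cokernel.π_desc _ _ _⟩

/-- **non-vanishing**: a function whose class in `O_X / I O_X` vanishes on `W` vanishes at all
points of `W ∩ V(I O_X)`. -/
theorem notMem_basicOpen_of_π_eq_zero (hx : x ∈ Z₀ (X := X) I) (W : X.Opens) (u : Γ(X, W))
    (hu : (modPowπ I 1 (Coh.structureModule X)).app W (ofFun W u) = 0) :
    x ∉ X.basicOpen u := by
  let i := X.fromSpecResidueField x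
  have hi : ∀ t : (Spec (X.residueField x) : Scheme.{u}), i t ∈ Z₀ (X := X) I := by
    intro t
    rw [Scheme.fromSpecResidueField_apply]
    exact hx
  obtain ⟨ηb, hηb⟩ := exists_factor (I := I) i hi
  have h1 : (toPush i).app W (ofFun W u) = 0 := by
    rw [← hηb]
    change ηb.app W ((modPowπ I 1 (Coh.structureModule X)).app W (ofFun W u)) = 0
    rw [hu, map_zero]
  rw [toPush_app] at h1
  have h2 : i.app W u = 0 := h1
  intro hxu
  have h3 : i ⁻¹ᵁ (X.basicOpen u) = ⊥ := by
    rw [Scheme.preimage_basicOpen, h2, Scheme.basicOpen_zero]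
  obtain ⟨t⟩ : Nonempty (Spec (X.residueField x) : Scheme.{u}) := inferInstance
  have h4 : t ∈ i ⁻¹ᵁ (X.basicOpen u) := by
    change i t ∈ X.basicOpen u
    rw [Scheme.fromSpecResidueField_apply]
    exact hxu
  rw [h3] at h4
  exact h4

end NV


section Main

variable (I)
variable [IsNoetherianRing A] [IsAdicComplete I A] [IsProper (X ↘ Spec (CommRingCat.of A))]

local notation "𝒪" => Coh.structureModule X

/-- the quotient map `O_X → O_X / I^{n+1} O_X` on global sections, on functions. -/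
def πn (n : ℕ) (r : Γ(X, ⊤)) : Γ(modPow I (n + 1) 𝒪, ⊤) :=
  (modPowπ I (n + 1) 𝒪).app ⊤ (ofFun ⊤ r)

lemma πn_mul (n : ℕ) (r r' : Γ(X, ⊤)) : πn I n (r * r') = r • πn I n r' := by
  have h : ofFun (X := X) ⊤ (r * r') = r • ofFun ⊤ r' := rfl
  rw [πn, h, Scheme.Modules.Hom.app_smul]
  rfl

lemma trans_πn (n : ℕ) (r : Γ(X, ⊤)) :
    (modPowTrans I (n + 1) 𝒪).app ⊤ (πn I (n + 1) r) = πn I n r := by
  have h := modPowπ_trans I (n + 1) 𝒪
  change (modPowπ I (n + 1 + 1) 𝒪 ≫ modPowTrans I (n + 1) 𝒪).app ⊤ (ofFun ⊤ r) = _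
  rw [h]
  rfl

variable {I}

/-- **lifting idempotents**: a decomposition of `V(I O_X)` gives a global idempotent. -/
theorem exists_idempotent (D : Decomp (X := X) I) :
    ∃ s : Γ(X, ⊤), s * s = s ∧
      QCSec.res _ (le_top : D.W₁ ≤ ⊤) (πn I 0 s) = QCSec.res _ le_top (πn I 0 1) ∧
      QCSec.res _ (le_top : D.W₂ ≤ ⊤) (πn I 0 s) = 0 := by
  have hT : IsTerminal (⊤ : X.Opens) := isTerminalTop
  have hM : Coh.IsCoh 𝒪 := Groth.Agent.Lib.Helper23.T2.isCoh_structureModule X
  have hbij := Groth.Agent.Lib.Helper1.FFFinal.s0003 A I 𝒪 0 hM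
  have hN : ∀ n : ℕ, ∀ b ∈ I ^ (n + 1), smulMod A (modPow I (n + 1) 𝒪) b = 0 :=
    fun n => smulMod_modPow I 𝒪 (n + 1)
  let e : ∀ n : ℕ, Γ(modPow I (n + 1) 𝒪, ⊤) := fun n =>
    D.glue (modPow I (n + 1) 𝒪) (n + 1) (hN n) (πn I n 1)
  have he : ∀ n, (modPowTrans I (n + 1) 𝒪).app ⊤ (e (n + 1)) = e n := by
    intro n
    rw [D.map_glue _ _ (hN (n + 1)) _ (hN n), trans_πn]
  let y : ∀ n, HHmodPow I 𝒪 0 n := fun n =>
    (Sheaf.H.equiv₀ (Coh.toAb (modPow I (n + 1) 𝒪)) hT).symm (e n)
  have hy : ∀ n, HHmodPowTrans I 𝒪 0 n (y (n + 1)) = y n := by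
    intro n
    change Sheaf.H.map ((SheafOfModules.toSheaf _).map (modPowTrans I (n + 1) 𝒪)) 0 _ = _
    rw [Sheaf.H.equiv₀_symm_naturality hT]
    exact congrArg _ (he n)
  -- a section mapping to `e n` for all `n` is determined by the `e n`
  have key : ∀ s : Γ(X, ⊤), (∀ n, πn I n s = e n) →
      toHHlim I 𝒪 0 ((Sheaf.H.equiv₀ (Coh.toAb 𝒪) hT).symm (ofFun ⊤ s)) = ⟨y, hy⟩ := by
    intro s hs
    apply Subtype.ext
    funext n
    change Sheaf.H.map ((SheafOfModules.toSheaf _).map (modPowπ I (n + 1) 𝒪)) 0 _ = y n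
    rw [Sheaf.H.equiv₀_symm_naturality hT]
    exact congrArg _ (hs n)
  obtain ⟨x, hx⟩ := hbij.2 ⟨y, hy⟩
  let s : Γ(X, ⊤) := toFunHom ⊤ (Sheaf.H.equiv₀ (Coh.toAb 𝒪) hT x)
  have hs : ∀ n, πn I n s = e n := by
    intro n
    have h1 := Sheaf.H.equiv₀_naturality hT
      ((SheafOfModules.toSheaf _).map (modPowπ I (n + 1) 𝒪)) x
    have h2 : Sheaf.H.map ((SheafOfModules.toSheaf _).map (modPowπ I (n + 1) 𝒪)) 0 x = y n :=
      congrFun (congrArg Subtype.val hx) n
    rw [h2] at h1
    refine h1.trans ?_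
    exact (Sheaf.H.equiv₀ (Coh.toAb (modPow I (n + 1) 𝒪)) hT).apply_symm_apply (e n)
  have hss : ∀ n, πn I n (s * s) = e n := by
    intro n
    rw [πn_mul, hs n]
    exact D.smul_glue _ _ (hN n) s (πn I n 1) (by rw [← πn_mul, mul_one, hs n])
  have hidem : s * s = s := by
    have h1 := (key (s * s) hss).trans (key s hs).symm
    have h2 := (Sheaf.H.equiv₀ (Coh.toAb 𝒪) hT).symm.injective (hbij.1 h1)
    exact h2
  refine ⟨s, hidem, ?_, ?_⟩
  · rw [hs 0]; exact D.glue_res₁ _ _ (hN 0) _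
  · rw [hs 0]; exact D.glue_res₂ _ _ (hN 0) _


lemma πn_sub (n : ℕ) (r r' : Γ(X, ⊤)) : πn I n (r - r') = πn I n r - πn I n r' :=
  map_sub ((modPowπ I (n + 1) 𝒪).app ⊤).hom (ofFun ⊤ r) (ofFun ⊤ r')

lemma π_res_eq_zero {W : X.Opens} (r : Γ(X, ⊤))
    (h : QCSec.res _ (le_top : W ≤ ⊤) (πn I 0 r) = 0) :
    (modPowπ I 1 𝒪).app W (ofFun W (QCSec.rres X le_top r)) = 0 := by
  have h1 := QCExact.app_res' (modPowπ I (0 + 1) 𝒪) (le_top : W ≤ ⊤) (ofFun ⊤ r)
  exact h1.trans h

/-- **idempotent separation**: a decomposition of `V(I O_X)` into disjoint closed pieces is cut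
out by a global idempotent. -/
theorem exists_idem_sep (D : Decomp (X := X) I) :
    ∃ s : Γ(X, ⊤), s * s = s ∧ D.C₁ ⊆ (X.basicOpen s : Set X) ∧
      Disjoint D.C₂ (X.basicOpen s : Set X) := by
  obtain ⟨s, hidem, h₁, h₂⟩ := exists_idempotent D
  have hsum : (⊤ : X.Opens) ≤ X.basicOpen s ⊔ X.basicOpen (1 - s) := by
    have h := X.basicOpen_add_le s (1 - s)
    rwa [add_sub_cancel, Scheme.basicOpen_one] at h
  have h₁' : QCSec.res _ (le_top : D.W₁ ≤ ⊤) (πn I 0 (1 - s)) = 0 := by
    rw [πn_sub, QCSec.res_sub, h₁, sub_self]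
  refine ⟨s, hidem, ?_, ?_⟩
  · intro x hx
    have hx0 : x ∈ Z₀ (X := X) I := by rw [← D.hunion]; exact Or.inl hx
    have hnv := notMem_basicOpen_of_π_eq_zero (I := I) x hx0 D.W₁ _ (π_res_eq_zero (1 - s) h₁')
    rw [Scheme.basicOpen_res] at hnv
    have hx1 : x ∉ X.basicOpen (1 - s) := fun h => hnv ⟨D.C₁_le_W₁ hx, h⟩
    rcases hsum (show x ∈ (⊤ : X.Opens) from trivial) with h | h
    · exact h
    · exact absurd h hx1
  · rw [Set.disjoint_left]
    intro x hx hxs
    have hx0 : x ∈ Z₀ (X := X) I := by rw [← D.hunion]; exact Or.inr hx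
    have hnv := notMem_basicOpen_of_π_eq_zero (I := I) x hx0 D.W₂ _ (π_res_eq_zero s h₂)
    rw [Scheme.basicOpen_res] at hnv
    exact hnv ⟨D.C₂_le_W₂ hx, hxs⟩

omit [X.Over (Spec (CommRingCat.of A))] in
/-- the non-vanishing locus of an idempotent function is clopen. -/
lemma isClopen_basicOpen_of_idem (s : Γ(X, ⊤)) (hidem : s * s = s) :
    IsClopen (X.basicOpen s : Set X) := by
  have hsum : (⊤ : X.Opens) ≤ X.basicOpen s ⊔ X.basicOpen (1 - s) := by
    have h := X.basicOpen_add_le s (1 - s)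
    rwa [add_sub_cancel, Scheme.basicOpen_one] at h
  have hprod : X.basicOpen s ⊓ X.basicOpen (1 - s) = ⊥ := by
    rw [← Scheme.basicOpen_mul, mul_sub, mul_one, hidem, sub_self, Scheme.basicOpen_zero]
  have hcompl : ((X.basicOpen s : X.Opens) : Set X)ᶜ = (X.basicOpen (1 - s) : X.Opens) := by
    ext x
    constructor
    · intro hx
      rcases hsum (show x ∈ (⊤ : X.Opens) from trivial) with h | h
      · exact absurd h hx
      · exact h
    · intro hx hx'
      have : x ∈ X.basicOpen s ⊓ X.basicOpen (1 - s) := ⟨hx', hx⟩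
      rw [hprod] at this
      exact this
  refine ⟨?_, (X.basicOpen s).2⟩
  rw [← isOpen_compl_iff, hcompl]
  exact (X.basicOpen (1 - s)).2

/-- **clopen separation**: a decomposition of `V(I O_X)` into disjoint closed pieces extends to a
clopen decomposition of `X`. -/
theorem exists_clopen (D : Decomp (X := X) I) :
    ∃ S : Set X, IsClopen S ∧ D.C₁ ⊆ S ∧ Disjoint D.C₂ S := by
  obtain ⟨s, hidem, h₁, h₂⟩ := exists_idem_sep D
  exact ⟨_, isClopen_basicOpen_of_idem s hidem, h₁, h₂⟩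

end Main

section Top

/-- a closed embedding of a Noetherian space whose clopen decompositions extend, and whose image
meets every connected component, induces a bijection on connected components. -/
theorem bijective_connectedComponentsMap {T Y : Type*} [TopologicalSpace T] [TopologicalSpace Y]
    [NoetherianSpace T] {j : T → Y} (hj : Topology.IsClosedEmbedding j)
    (hsep : ∀ C₁ C₂ : Set Y, IsClosed C₁ → IsClosed C₂ → Disjoint C₁ C₂ → C₁ ∪ C₂ = Set.range j →
      ∃ S : Set Y, IsClopen S ∧ C₁ ⊆ S ∧ Disjoint C₂ S)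
    (hmeet : ∀ y : Y, ∃ t : T, j t ∈ connectedComponent y) :
    Function.Bijective hj.continuous.connectedComponentsMap := by
  constructor
  · intro c c' hcc
    obtain ⟨t, rfl⟩ := ConnectedComponents.surjective_coe c
    obtain ⟨t', rfl⟩ := ConnectedComponents.surjective_coe c'
    rw [Continuous.connectedComponentsMap_mk, Continuous.connectedComponentsMap_mk,
      ConnectedComponents.coe_eq_coe] at hcc
    rw [ConnectedComponents.coe_eq_coe']
    by_contra hne
    have hC : IsClopen (connectedComponent t') :=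
      ⟨isClosed_connectedComponent,
        Groth.Agent.Lib.Helper15.NT.isOpen_connectedComponent_of_noetherianSpace t'⟩
    obtain ⟨S, hS, h1, h2⟩ := hsep (j '' (connectedComponent t')) (j '' (connectedComponent t')ᶜ)
      (hj.isClosedMap _ hC.1) (hj.isClosedMap _ hC.2.isClosed_compl)
      ((Set.disjoint_image_iff hj.injective).2 disjoint_compl_right)
      (by rw [← Set.image_union, Set.union_compl_self, Set.image_univ])
    have ht'S : j t' ∈ S := h1 ⟨t', mem_connectedComponent, rfl⟩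
    have hsub : connectedComponent (j t') ⊆ S := hS.connectedComponent_subset ht'S
    have htS : j t ∈ S := hsub (hcc ▸ mem_connectedComponent)
    exact Set.disjoint_left.1 h2 ⟨t, hne, rfl⟩ htS
  · intro c
    obtain ⟨y, rfl⟩ := ConnectedComponents.surjective_coe c
    obtain ⟨t, ht⟩ := hmeet y
    refine ⟨(t : ConnectedComponents T), ?_⟩
    rw [Continuous.connectedComponentsMap_mk, ConnectedComponents.coe_eq_coe']
    exact ht

end Top


section Final

omit [X.Over (Spec (CommRingCat.of A))] in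
/-- membership in `V(I O_X)` in terms of the structure morphism. -/
lemma mem_Z₀_iff (f : X ⟶ Spec (CommRingCat.of A)) (x : X) :
    letI : X.Over (Spec (CommRingCat.of A)) := ⟨f⟩
    x ∈ Z₀ (X := X) I ↔ f x ∈ PrimeSpectrum.zeroLocus (I : Set A) := by
  letI : X.Over (Spec (CommRingCat.of A)) := ⟨f⟩
  have key : ∀ a : A, x ∈ X.basicOpen (resA (A := A) ⊤ a) ↔ a ∉ (f x).asIdeal := by
    intro a
    have h1 : resA (A := A) (X := X) ⊤ a =
        f.appTop ((Scheme.ΓSpecIso (CommRingCat.of A)).inv a) := by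
      change (X.presheaf.map (homOfLE (le_top : (⊤ : X.Opens) ≤ ⊤)).op).hom _ = _
      have : (homOfLE (le_top : (⊤ : X.Opens) ≤ ⊤)).op = 𝟙 _ := rfl
      rw [this, X.presheaf.map_id]
      rfl
    rw [h1, ← Scheme.preimage_basicOpen_top, basicOpen_eq_of_affine]
    rfl
  constructor
  · intro hx a ha
    by_contra hna
    exact hx a ha ((key a).2 hna)
  · intro hx a ha hxa
    exact (key a).1 hxa (hx ha)

omit [X.Over (Spec (CommRingCat.of A))] in
variable (I) in
/-- `π₀(X₀) → π₀(X)` is bijective for `X` proper over a Noetherian `I`-adically complete ring. -/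
theorem main13506 [IsNoetherianRing A] [IsAdicComplete I A]
    (f : X ⟶ Spec (CommRingCat.of A)) [IsProper f] :
    Function.Bijective (Continuous.connectedComponentsMap
      (pullback.fst f (Spec.map (CommRingCat.ofHom (Ideal.Quotient.mk I)))).continuous) := by
  letI : X.Over (Spec (CommRingCat.of A)) := ⟨f⟩
  haveI : IsProper (X ↘ Spec (CommRingCat.of A)) := ‹IsProper f›
  let g := Spec.map (CommRingCat.ofHom (Ideal.Quotient.mk I))
  haveI : IsClosedImmersion g :=
    IsClosedImmersion.spec_of_surjective _ Ideal.Quotient.mk_surjective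
  have hrange : Set.range (pullback.fst f g) = Z₀ (X := X) I := by
    rw [Scheme.Pullback.range_fst]
    ext x
    rw [Set.mem_preimage, mem_Z₀_iff f x]
    have h2 : Set.range g = PrimeSpectrum.zeroLocus (I : Set A) := by
      have := range_comap_of_surjective _ (Ideal.Quotient.mk I)
        Ideal.Quotient.mk_surjective
      rw [Ideal.mk_ker] at this
      exact this
    rw [h2]
    exact Iff.rfl
  haveI : IsLocallyNoetherian (pullback f g : Scheme.{u}) :=
    LocallyOfFiniteType.isLocallyNoetherian (pullback.snd f g)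
  haveI : CompactSpace (pullback f g : Scheme.{u}) :=
    QuasiCompact.compactSpace_of_compactSpace (pullback.snd f g)
  haveI : IsNoetherian (pullback f g : Scheme.{u}) := ⟨⟩
  have hj : Topology.IsClosedEmbedding (pullback.fst f g) := (pullback.fst f g).isClosedEmbedding
  refine bijective_connectedComponentsMap hj ?_ ?_
  · intro C₁ C₂ h₁ h₂ hd hu
    exact exists_clopen (I := I) ⟨C₁, C₂, h₁, h₂, hd, hu.trans hrange⟩
  · intro y
    -- the connected component of `y` meets `V(I O_X)`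
    have hcl : IsClosed (f '' connectedComponent y) :=
      f.isClosedMap _ isClosed_connectedComponent
    obtain ⟨J, hJ⟩ := (PrimeSpectrum.isClosed_iff_zeroLocus_ideal _).1 hcl
    have hJne : J ≠ ⊤ := by
      rintro rfl
      have : f y ∈ f '' connectedComponent y := ⟨y, mem_connectedComponent, rfl⟩
      rw [hJ] at this
      simp at this
      exact this
    obtain ⟨m, hm, hJm⟩ := Ideal.exists_le_maximal J hJne
    have hIm : I ≤ m := by
      exact (IsAdicComplete.le_jacobson_bot I).trans (sInf_le ⟨bot_le, hm⟩)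
    have hmem : (⟨m, hm.isPrime⟩ : PrimeSpectrum A) ∈ f '' connectedComponent y := by
      rw [hJ]
      exact hJm
    obtain ⟨z, hz, hfz⟩ := hmem
    have hz0 : z ∈ Set.range (pullback.fst f g) := by
      rw [hrange, mem_Z₀_iff f z, hfz]
      exact hIm
    obtain ⟨t, rfl⟩ := hz0
    exact ⟨t, hz⟩


omit [X.Over (Spec (CommRingCat.of A))] in
variable (I) in
/-- every connected component of `X` meets `V(I O_X)` when `I` is in the Jacobson radical. -/
lemma exists_mem_Z₀ (hI : I ≤ Ideal.jacobson ⊥) (f : X ⟶ Spec (CommRingCat.of A))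
    [UniversallyClosed f] (y : X) :
    letI : X.Over (Spec (CommRingCat.of A)) := ⟨f⟩
    ∃ z ∈ connectedComponent y, z ∈ Z₀ (X := X) I := by
  letI : X.Over (Spec (CommRingCat.of A)) := ⟨f⟩
  have hcl : IsClosed (f '' connectedComponent y) :=
    f.isClosedMap _ isClosed_connectedComponent
  obtain ⟨J, hJ⟩ := (PrimeSpectrum.isClosed_iff_zeroLocus_ideal _).1 hcl
  have hJne : J ≠ ⊤ := by
    rintro rfl
    have : f y ∈ f '' connectedComponent y := ⟨y, mem_connectedComponent, rfl⟩
    rw [hJ] at this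
    simp at this
    exact this
  obtain ⟨m, hm, hJm⟩ := Ideal.exists_le_maximal J hJne
  have hIm : I ≤ m := hI.trans (sInf_le ⟨bot_le, hm⟩)
  have hmem : (⟨m, hm.isPrime⟩ : PrimeSpectrum A) ∈ f '' connectedComponent y := by
    rw [hJ]
    exact hJm
  obtain ⟨z, hz, hfz⟩ := hmem
  refine ⟨z, hz, ?_⟩
  rw [mem_Z₀_iff f z, hfz]
  exact hIm

/-- the closed point of the spectrum of a local ring, as a point of the scheme. -/
def clPt (A : Type u) [CommRing A] [IsLocalRing A] : ↥(Spec (CommRingCat.of A)) :=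
  (IsLocalRing.closedPoint A : PrimeSpectrum A)

omit [X.Over (Spec (CommRingCat.of A))] in
/-- **connectedness of the closed fibre**: for `X` proper over a complete Noetherian local ring
with only trivial idempotents in `Γ(X, O_X)`, the closed fibre is connected. -/
theorem isConnected_closedFibre [IsNoetherianRing A] [IsLocalRing A]
    [IsAdicComplete (IsLocalRing.maximalIdeal A) A]
    (f : X ⟶ Spec (CommRingCat.of A)) [IsProper f]
    (hidem : ∀ s : Γ(X, ⊤), s * s = s → s = 0 ∨ s = 1) [Nonempty X] :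
    _root_.IsConnected (f ⁻¹' {clPt A}) := by
  letI : X.Over (Spec (CommRingCat.of A)) := ⟨f⟩
  haveI : IsProper (X ↘ Spec (CommRingCat.of A)) := ‹IsProper f›
  have hZ : f ⁻¹' {clPt A} = Z₀ (X := X) (IsLocalRing.maximalIdeal A) := by
    ext x
    rw [mem_Z₀_iff f x, Set.mem_preimage, Set.mem_singleton_iff]
    constructor
    · intro h
      rw [h]
      exact le_refl (IsLocalRing.maximalIdeal A)
    · intro h
      apply PrimeSpectrum.ext
      exact ((IsLocalRing.maximalIdeal.isMaximal A).eq_of_le (f x).2.ne_top h).symm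
  have hclosed : IsClosed (Z₀ (X := X) (IsLocalRing.maximalIdeal A)) := by
    rw [← hZ]
    exact (IsLocalRing.isClosed_singleton_closedPoint A).preimage f.continuous
  rw [hZ]
  constructor
  · obtain ⟨y⟩ := ‹Nonempty X›
    obtain ⟨z, -, hz⟩ := exists_mem_Z₀ (IsLocalRing.maximalIdeal A)
      (IsAdicComplete.le_jacobson_bot _) f y
    exact ⟨z, hz⟩
  · rw [isPreconnected_closed_iff]
    intro t t' ht ht' hsub hne hne'
    by_contra hcon
    rw [Set.not_nonempty_iff_eq_empty] at hcon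
    let D : Decomp (X := X) (IsLocalRing.maximalIdeal A) :=
      ⟨Z₀ (X := X) (IsLocalRing.maximalIdeal A) ∩ t, Z₀ (X := X) (IsLocalRing.maximalIdeal A) ∩ t',
        hclosed.inter ht, hclosed.inter ht', by
          rw [Set.disjoint_iff_inter_eq_empty, ← hcon]
          ext x
          simp only [Set.mem_inter_iff]
          tauto, by
          rw [← Set.inter_union_distrib_left]
          exact Set.inter_eq_left.2 hsub⟩
    obtain ⟨s, hs, h₁, h₂⟩ := exists_idem_sep D
    rcases hidem s hs with rfl | rfl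
    · obtain ⟨x, hx⟩ := hne
      have := h₁ hx
      rw [Scheme.basicOpen_zero] at this
      exact this
    · obtain ⟨x, hx⟩ := hne'
      have h3 : x ∈ (X.basicOpen (1 : Γ(X, ⊤)) : Set X) := by
        rw [Scheme.basicOpen_one]; trivial
      exact Set.disjoint_left.1 h₂ hx h3

end Final

end Groth.Agent.Lib.Helper13.FormalIdem
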