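import Mathlib
import Groth.Prelude
import Groth.Agent.Lib.Helper13.FormalIdem
import Groth.Agent.S0542
import Groth.Agent.S1355

/-!
# Zariski's connectedness theorem (locally Noetherian base)

For `f : X ⟶ Y` proper, `Y` locally Noetherian, with `O_Y(V) → O_X(f⁻¹V)` bijective for an affine
neighbourhood `V` of `y`, the fibre over `y` is connected; if this holds for all `V` the morphism is
geometrically connected.
-/
set_option autoImplicit false
universe u
open CategoryTheory CategoryTheory.Limits Opposite TopologicalSpace AlgebraicGeometry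

noncomputable section

namespace Groth.Agent.Lib.Helper13.ZariskiConn

/-- flat base change for "`O_Y(V) → O_X(f⁻¹ V)` is an isomorphism". -/
theorem isIso_app_of_flat_baseChange {X Y X' Y' : Scheme.{u}} {f : X ⟶ Y} {g : Y' ⟶ Y}
    {g' : X' ⟶ X} {f' : X' ⟶ Y'} (H : IsPullback g' f' f g) [Flat g] [QuasiCompact f]
    [QuasiSeparated f] {V : Y.Opens} (hV : IsAffineOpen V) {V' : Y'.Opens}
    (hV' : IsAffineOpen V') (hVV' : V' ≤ g ⁻¹ᵁ V) (hiso : IsIso (f.app V)) :
    IsIso (f'.app V') := by
  have hUX : IsCompact ((f ⁻¹ᵁ V : X.Opens) : Set X) := f.isCompact_preimage hV.isCompact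
  have hUX' : IsQuasiSeparated ((f ⁻¹ᵁ V : X.Opens) : Set X) :=
    f.isQuasiSeparated_preimage hV.isQuasiSeparated
  have key := isIso_pushoutSection_of_isQuasiSeparated_of_flat_right H hVV'
    (le_refl (f ⁻¹ᵁ V)) (rfl : g' ⁻¹ᵁ (f ⁻¹ᵁ V) ⊓ f' ⁻¹ᵁ V' = _) hV hV' hUX hUX'
  rw [isIso_pushoutSection_iff] at key
  have h1 : f.appLE V (f ⁻¹ᵁ V) (le_refl _) = f.app V := by
    rw [Scheme.Hom.app_eq_appLE]
  haveI : IsIso (f.appLE V (f ⁻¹ᵁ V) (le_refl _)) := by rw [h1]; exact hiso
  have h2 := key.isIso_inr_of_isIso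
  have heq : g' ⁻¹ᵁ (f ⁻¹ᵁ V) ⊓ f' ⁻¹ᵁ V' = f' ⁻¹ᵁ V' := by
    apply inf_eq_right.2
    intro x hx
    have hx1 : f' x ∈ g ⁻¹ᵁ V := hVV' hx
    change f (g' x) ∈ V
    have hw : f (g' x) = g (f' x) := by
      have := congrArg (fun φ : X' ⟶ Y => φ x) H.w
      simpa using this
    rw [hw]
    exact hx1
  have h3 : f'.app V' = f'.appLE V' (g' ⁻¹ᵁ (f ⁻¹ᵁ V) ⊓ f' ⁻¹ᵁ V') (by rw [heq]) ≫
      X'.presheaf.map (eqToHom heq.symm).op := by
    rw [Scheme.Hom.appLE_map, Scheme.Hom.app_eq_appLE]
  rw [h3]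
  infer_instance


open FormalIdem in
/-- **Zariski connectedness, local form**: if `O_Y(V) → O_X(f⁻¹ V)` is an isomorphism for an affine
open neighbourhood `V` of `y`, then the fibre of the proper morphism `f` over `y` is connected. -/
theorem isConnected_preimage_singleton {X Y : Scheme.{u}} (f : X ⟶ Y) [IsProper f]
    [IsLocallyNoetherian Y] (y : Y) {V : Y.Opens} (hV : IsAffineOpen V) (hy : y ∈ V)
    (hiso : IsIso (f.app V)) : _root_.IsConnected (f ⁻¹' {y}) := by
  haveI : IsNoetherianRing Γ(Y, V) := IsLocallyNoetherian.component_noetherian ⟨V, hV⟩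
  let P : PrimeSpectrum Γ(Y, V) := hV.primeIdealOf ⟨y, hy⟩
  let B := Localization.AtPrime P.asIdeal
  let Ah := AdicCompletion (IsLocalRing.maximalIdeal B) B
  haveI : IsNoetherianRing Ah :=
    Groth.Agent.S0542.result B (IsLocalRing.maximalIdeal B) (Ideal.fg_of_isNoetherianRing _)
  let φ : Γ(Y, V) →+* Ah := (algebraMap B Ah).comp (algebraMap Γ(Y, V) B)
  have hφ : φ.Flat :=
    RingHom.Flat.comp (RingHom.flat_algebraMap_iff.2 inferInstance)
      (RingHom.flat_algebraMap_iff.2 inferInstance)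
  let g : Spec (CommRingCat.of Ah) ⟶ Y := Spec.map (CommRingCat.ofHom φ) ≫ hV.fromSpec
  haveI : Flat (Spec.map (CommRingCat.ofHom φ)) := HasRingHomProperty.Spec_iff.2 hφ
  haveI : Flat g := inferInstanceAs (Flat (Spec.map (CommRingCat.ofHom φ) ≫ hV.fromSpec))
  -- the closed point maps to `y`
  have hcl : g (clPt Ah) = y := by
    have h1 : (Spec.map (CommRingCat.ofHom φ)) (clPt Ah) = P := by
      apply PrimeSpectrum.ext
      change ((IsLocalRing.maximalIdeal Ah).comap (algebraMap B Ah)).comap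
        (algebraMap Γ(Y, V) B) = P.asIdeal
      rw [IsLocalRing.maximalIdeal_comap]
      exact Localization.AtPrime.under_maximalIdeal
    change hV.fromSpec ((Spec.map (CommRingCat.ofHom φ)) (clPt Ah)) = y
    rw [h1]
    exact hV.fromSpec_primeIdealOf ⟨y, hy⟩
  have hVV' : (⊤ : (Spec (CommRingCat.of Ah)).Opens) ≤ g ⁻¹ᵁ V := by
    intro t _
    change hV.fromSpec ((Spec.map (CommRingCat.ofHom φ)) t) ∈ V
    have : hV.fromSpec ((Spec.map (CommRingCat.ofHom φ)) t) ∈ Set.range hV.fromSpec := ⟨_, rfl⟩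
    rw [hV.range_fromSpec] at this
    exact this
  have H := IsPullback.of_hasPullback f g
  have hiso' : IsIso ((pullback.snd f g).app ⊤) :=
    isIso_app_of_flat_baseChange H hV (isAffineOpen_top _) hVV' hiso
  -- the ring map `Â → Γ(X', ⊤)` is bijective
  let ψ : Ah →+* Γ(pullback f g, ⊤) :=
    ((pullback.snd f g).app ⊤).hom.comp (Scheme.ΓSpecIso (CommRingCat.of Ah)).inv.hom
  have hψ : Function.Bijective ψ := by
    have h1 : Function.Bijective ((pullback.snd f g).app ⊤).hom :=
      ConcreteCategory.bijective_of_isIso ((pullback.snd f g).app ⊤)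
    have h2 : Function.Bijective (Scheme.ΓSpecIso (CommRingCat.of Ah)).inv.hom :=
      ConcreteCategory.bijective_of_isIso (Scheme.ΓSpecIso (CommRingCat.of Ah)).inv
    exact h1.comp h2
  have hidem : ∀ s : Γ(pullback f g, ⊤), s * s = s → s = 0 ∨ s = 1 := by
    intro s hs
    obtain ⟨a, rfl⟩ := hψ.2 s
    have ha : a * a = a := hψ.1 (by rw [map_mul, hs])
    rcases IsLocalRing.isUnit_or_isUnit_one_sub_self a with hu | hu
    · right
      have : a * (1 - a) = 0 := by rw [mul_sub, mul_one, ha, sub_self]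
      have h1 : 1 - a = 0 := (hu.mul_right_eq_zero).1 this
      rw [← sub_eq_zero.1 h1, map_one]
    · left
      have : (1 - a) * a = 0 := by rw [sub_mul, one_mul, ha, sub_self]
      have h1 : a = 0 := (hu.mul_right_eq_zero).1 this
      rw [h1, map_zero]
  haveI : Nonempty ↥(pullback f g) := by
    by_contra hne
    rw [not_nonempty_iff] at hne
    have htop : (⊤ : (pullback f g).Opens) = ⊥ := by
      ext x
      exact (hne.false x).elim
    have hsub : Subsingleton Γ(pullback f g, ⊤) := by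
      rw [htop]; infer_instance
    have h01 : ψ 0 = ψ 1 := Subsingleton.elim _ _
    exact zero_ne_one (hψ.1 h01)
  have hconn := isConnected_closedFibre (A := Ah) (pullback.snd f g) hidem
  have himg : f ⁻¹' {y} = (pullback.fst f g) '' ((pullback.snd f g) ⁻¹' {clPt Ah}) := by
    ext x
    constructor
    · intro hx
      have hx' : f x = g (clPt Ah) := by rw [hcl]; exact hx
      obtain ⟨z, hz1, hz2⟩ := Scheme.Pullback.exists_preimage_pullback x (clPt Ah) hx'
      exact ⟨z, hz2, hz1⟩
    · rintro ⟨z, hz, rfl⟩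
      have hw : f (pullback.fst f g z) = g (pullback.snd f g z) := by
        have := congrArg (fun φ : pullback f g ⟶ Y => φ z) (pullback.condition (f := f) (g := g))
        simpa using this
      change f (pullback.fst f g z) = y
      rw [hw, hz, hcl]
  rw [himg]
  exact hconn.image _ (pullback.fst f g).continuous.continuousOn


/-- the fibre is connected as soon as the preimage of the point is. -/
lemma connectedSpace_fiber_of_isConnected {X Y : Scheme.{u}} (f : X ⟶ Y) (y : Y)
    (h : _root_.IsConnected (f ⁻¹' {y})) : ConnectedSpace ↥(f.fiber y) := by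
  haveI : ConnectedSpace ↥(f ⁻¹' {y}) := isConnected_iff_connectedSpace.1 h
  exact (f.fiberHomeo y).symm.surjective.connectedSpace (f.fiberHomeo y).symm.continuous

/-- connected fibres from `O_Y(V) ≅ O_X(f⁻¹ V)` near the point. -/
theorem connectedSpace_fiber {X Y : Scheme.{u}} (f : X ⟶ Y) [IsProper f]
    [IsLocallyNoetherian Y] (y : Y) {V : Y.Opens} (hV : IsAffineOpen V) (hy : y ∈ V)
    (hiso : IsIso (f.app V)) : ConnectedSpace ↥(f.fiber y) :=
  connectedSpace_fiber_of_isConnected f y (isConnected_preimage_singleton f y hV hy hiso)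

/-- **Zariski's connectedness theorem**. -/
theorem main2431 {X Y : Scheme.{u}} (f : X ⟶ Y) [IsProper f] [IsLocallyNoetherian Y]
    (hf : ∀ U : Y.Opens, IsIso (f.app U)) :
    (∀ y : Y, ConnectedSpace ↥(f.fiber y)) ∧ GeometricallyConnected f := by
  constructor
  · intro y
    obtain ⟨_, ⟨V, hV, rfl⟩, hyV, -⟩ := Y.isBasis_affineOpens.exists_subset_of_mem_open
      (Set.mem_univ y) isOpen_univ
    exact connectedSpace_fiber f y hV hyV (hf V)
  · rw [GeometricallyConnected.iff_geometricallyConnected_fiber]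
    intro s
    rw [Groth.Agent.S1355.result f s]
    intro U g u hg hgu
    haveI : Etale g := hg
    haveI : IsLocallyNoetherian U := LocallyOfFiniteType.isLocallyNoetherian g
    obtain ⟨_, ⟨V, hV, rfl⟩, hyV, -⟩ := Y.isBasis_affineOpens.exists_subset_of_mem_open
      (Set.mem_univ (g u)) isOpen_univ
    obtain ⟨_, ⟨V', hV', rfl⟩, huV', hV'V⟩ := U.isBasis_affineOpens.exists_subset_of_mem_open
      (show u ∈ ((g ⁻¹ᵁ V : U.Opens) : Set U) from hyV) (g ⁻¹ᵁ V).2
    have hiso' : IsIso ((pullback.snd f g).app V') :=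
      isIso_app_of_flat_baseChange (IsPullback.of_hasPullback f g) hV hV' hV'V (hf V)
    exact connectedSpace_fiber (pullback.snd f g) u hV' huV' hiso'

end Groth.Agent.Lib.Helper13.ZariskiConn
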