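import Mathlib
import Groth.Prelude.Def_Pi1
import Groth.Prelude.Def_ega3
import Groth.Agent.Lib.Helper22.NormalSections

/-!
# `O_Y ≅ f_* O_X` for a universally closed dominant morphism to a normal integral scheme with
function field algebraically closed in that of the source (helper13)
-/

set_option autoImplicit false
set_option linter.style.haveILetI false
universe u
open CategoryTheory AlgebraicGeometry TopologicalSpace Opposite

namespace Groth.Agent.Lib.Helper13.ZariskiNormal

open Groth.Agent.Lib.Helper22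

variable {X Y : Scheme.{u}} (f : X ⟶ Y)

theorem isIntegral_app [UniversallyClosed f] (U : Y.Opens) (hU : IsAffineOpen U) :
    (f.app U).hom.IsIntegral := by
  haveI : IsAffine (U : Scheme.{u}) := hU
  have h := isIntegral_appTop_of_universallyClosed (f ∣_ U)
  have e := arrowResLEAppIso f U (f ⁻¹ᵁ U) le_rfl
  rw [Scheme.Hom.resLE_eq_morphismRestrict, Scheme.Hom.appLE_eq_app] at e
  exact (RingHom.isIntegral_respectsIso.arrow_mk_iso_iff e).mp h

variable [IsIntegral X] [IsIntegral Y]

theorem map_genericPoint (hdom : f.base (genericPoint X) ⤳ genericPoint Y) :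
    f.base (genericPoint X) = genericPoint Y :=
  (hdom.antisymm ((genericPoint_spec Y).specializes trivial)).eq

theorem genericPoint_mem_preimage (hdom : f.base (genericPoint X) ⤳ genericPoint Y)
    (V : Y.Opens) [hV : Nonempty V] : genericPoint X ∈ f ⁻¹ᵁ V := by
  change f.base (genericPoint X) ∈ V
  rw [map_genericPoint f hdom]
  exact ((genericPoint_spec Y).mem_open_set_iff V.isOpen).mpr (by simpa using hV)

theorem nonempty_preimage (hdom : f.base (genericPoint X) ⤳ genericPoint Y)
    (V : Y.Opens) [Nonempty V] : Nonempty (f ⁻¹ᵁ V : X.Opens) :=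
  ⟨⟨genericPoint X, genericPoint_mem_preimage f hdom V⟩⟩

/-- compatibility of germs at the generic points -/
theorem germ_app (hdom : f.base (genericPoint X) ⤳ genericPoint Y) (V : Y.Opens) [Nonempty V]
    [Nonempty (f ⁻¹ᵁ V : X.Opens)] (b : Γ(Y, V)) :
    X.germToFunctionField (f ⁻¹ᵁ V) (f.app V b) =
      CohIII.stalkToFunctionField f (genericPoint Y) hdom (Y.germToFunctionField V b) := by
  dsimp only [CohIII.stalkToFunctionField, Scheme.germToFunctionField]
  rw [RingHom.comp_apply]
  have h1 := ConcreteCategory.congr_hom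
    (Y.presheaf.germ_stalkSpecializes (U := V) (y := genericPoint Y)
      (((genericPoint_spec Y).mem_open_set_iff V.isOpen).mpr (by simpa using ‹Nonempty V›)) hdom) b
  rw [ConcreteCategory.comp_apply] at h1
  erw [h1]
  exact (Scheme.Hom.germ_stalkMap_apply f V (genericPoint X) _ b).symm

section Main

variable [UniversallyClosed f] (hdom : f.base (genericPoint X) ⤳ genericPoint Y)

theorem φ_injective :
    Function.Injective (CohIII.stalkToFunctionField f (genericPoint Y) hdom) :=
  RingHom.injective (CohIII.stalkToFunctionField f (genericPoint Y) hdom :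
    Y.functionField →+* X.functionField)

theorem comp_germ_eq (V : Y.Opens) [Nonempty V] [Nonempty (f ⁻¹ᵁ V : X.Opens)] :
    (X.germToFunctionField (f ⁻¹ᵁ V)).hom.comp (f.app V).hom =
      (CohIII.stalkToFunctionField f (genericPoint Y) hdom).comp
        (Y.germToFunctionField V).hom := by
  ext b
  exact germ_app f hdom V b

/-- a monic equation for the germ of a section over `f⁻¹ V`, with coefficients from an affine
open `V₀ ≤ V` -/
theorem exists_monic (V : Y.Opens) [Nonempty (f ⁻¹ᵁ V : X.Opens)] (s : Γ(X, f ⁻¹ᵁ V))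
    (V₀ : Y.Opens) (hV₀ : IsAffineOpen V₀) (hle : V₀ ≤ V) [Nonempty V₀]
    [Nonempty (f ⁻¹ᵁ V₀ : X.Opens)] :
    ∃ p : Polynomial Γ(Y, V₀), p.Monic ∧
      Polynomial.eval₂ ((CohIII.stalkToFunctionField f (genericPoint Y) hdom).comp
        (Y.germToFunctionField V₀).hom) (X.germToFunctionField (f ⁻¹ᵁ V) s) p = 0 := by
  have hle' : f ⁻¹ᵁ V₀ ≤ f ⁻¹ᵁ V := fun x hx => hle hx
  let s₀ : Γ(X, f ⁻¹ᵁ V₀) := X.presheaf.map (homOfLE hle').op s
  obtain ⟨p, hp, hps⟩ := isIntegral_app f V₀ hV₀ s₀
  refine ⟨p, hp, ?_⟩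
  have h1 := congrArg (X.germToFunctionField (f ⁻¹ᵁ V₀)).hom hps
  rw [Polynomial.hom_eval₂, map_zero, comp_germ_eq f hdom V₀] at h1
  have h2 : (X.germToFunctionField (f ⁻¹ᵁ V₀)).hom s₀ = X.germToFunctionField (f ⁻¹ᵁ V) s :=
    TopCat.Presheaf.germ_res_apply X.presheaf (homOfLE hle') _ _ s
  rw [h2] at h1
  exact h1

variable (hY : Pi1.IsNormalScheme Y)
  (halg : ∀ x : X.functionField,
    (∃ p : Polynomial Y.functionField, p ≠ 0 ∧
      Polynomial.eval₂ (CohIII.stalkToFunctionField f (genericPoint Y) hdom) x p = 0) →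
    x ∈ Set.range (CohIII.stalkToFunctionField f (genericPoint Y) hdom))

include hY halg in
theorem bijective_app (V : Y.Opens) : Function.Bijective (f.app V) := by
  by_cases hV : Nonempty V
  swap
  · have hVbot : V = ⊥ := by
      ext x
      simp only [Opens.coe_bot, Set.mem_empty_iff_false, iff_false]
      exact fun hx => hV ⟨x, hx⟩
    subst hVbot
    haveI : Subsingleton Γ(X, f ⁻¹ᵁ ⊥) := by
      have : f ⁻¹ᵁ (⊥ : Y.Opens) = ⊥ := rfl
      rw [this]
      infer_instance
    exact ⟨fun a b _ => Subsingleton.elim _ _, fun s => ⟨0, Subsingleton.elim _ _⟩⟩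
  haveI := nonempty_preimage f hdom V
  constructor
  · rw [injective_iff_map_eq_zero]
    intro b hb
    apply Y.germToFunctionField_injective V
    apply φ_injective f hdom
    rw [← germ_app f hdom V b, hb, map_zero, map_zero, map_zero]
  · intro s
    -- affine neighbourhoods
    have haff : ∀ y ∈ V, ∃ V₀ : Y.Opens, IsAffineOpen V₀ ∧ y ∈ V₀ ∧ V₀ ≤ V := by
      intro y hy
      obtain ⟨V₀, hV₀, hyV₀, hle⟩ := Opens.isBasis_iff_nbhd.mp Y.isBasis_affineOpens hy
      exact ⟨V₀, hV₀, hyV₀, hle⟩
    obtain ⟨⟨y₀, hy₀⟩⟩ := hV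
    obtain ⟨V₀, hV₀, hyV₀, hle⟩ := haff y₀ hy₀
    haveI : Nonempty V₀ := ⟨⟨y₀, hyV₀⟩⟩
    haveI := nonempty_preimage f hdom V₀
    obtain ⟨p, hp, hps⟩ := exists_monic f hdom V s V₀ hV₀ hle
    have hq0 : p.map (Y.germToFunctionField V₀).hom ≠ 0 := (hp.map _).ne_zero
    have hq : Polynomial.eval₂ (CohIII.stalkToFunctionField f (genericPoint Y) hdom)
        (X.germToFunctionField (f ⁻¹ᵁ V) s) (p.map (Y.germToFunctionField V₀).hom) = 0 := by
      rw [Polynomial.eval₂_map]
      exact hps
    obtain ⟨β, hβ⟩ := halg _ ⟨_, hq0, hq⟩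
    have hmem : ∀ y ∈ V, β ∈ Set.range (algebraMap (Y.presheaf.stalk y) Y.functionField) := by
      intro y hy
      obtain ⟨Vy, hVy, hyVy, hley⟩ := haff y hy
      haveI : Nonempty Vy := ⟨⟨y, hyVy⟩⟩
      haveI := nonempty_preimage f hdom Vy
      obtain ⟨py, hpy, hpys⟩ := exists_monic f hdom V s Vy hVy hley
      have hint : IsIntegral Γ(Y, Vy) β := by
        refine ⟨py, hpy, ?_⟩
        apply φ_injective f hdom
        rw [map_zero]
        have h3 := Polynomial.hom_eval₂ py (algebraMap Γ(Y, Vy) Y.functionField)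
          (CohIII.stalkToFunctionField f (genericPoint Y) hdom) β
        rw [hβ] at h3
        exact h3.trans hpys
      haveI := (hY y).2
      let y' : (Vy : Scheme.{u}) := ⟨y, hyVy⟩
      letI := TopCat.Presheaf.algebra_section_stalk Y.presheaf y'
      haveI : IsScalarTower Γ(Y, Vy) (Y.presheaf.stalk y) Y.functionField :=
        functionField_isScalarTower Y Vy y'
      have h1 : IsIntegral (Y.presheaf.stalk y) β := hint.tower_top
      exact IsIntegrallyClosed.isIntegral_iff.mp h1
    haveI : Nonempty V := ⟨⟨y₀, hy₀⟩⟩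
    obtain ⟨t, ht⟩ := NormalSections.exists_section_of_forall_mem_range V β hmem
    refine ⟨t, ?_⟩
    apply X.germToFunctionField_injective (f ⁻¹ᵁ V)
    rw [germ_app f hdom V t, ht, hβ]

include hY halg in
theorem isIso_app (V : Y.Opens) : IsIso (f.app V) :=
  (ConcreteCategory.isIso_iff_bijective (f.app V)).mpr (bijective_app f hdom hY halg V)

end Main

end Groth.Agent.Lib.Helper13.ZariskiNormal
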