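import Mathlib
import Groth.Prelude.Def_ega3
import Groth.Agent.Lib.Helper13.ZariskiConn
import Groth.Agent.Lib.Helper13.ZariskiNormal
import Groth.Agent.Lib.Helper23.T2L

/-!
# Stein factorisation: fibres

For `f : X ⟶ Y` proper with `Y` locally Noetherian, the relative normalization `Y' = f.normalization`
is finite over `Y`, `X ⟶ Y'` is proper with connected fibres, and hence the connected components of
the fibre `X_y` are in bijection with the points of `Y'_y`.
-/

set_option autoImplicit false
set_option maxHeartbeats 400000
set_option linter.style.haveILetI false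
universe u

namespace Groth.Agent.Lib.Helper13.SteinFibre

open CategoryTheory Limits AlgebraicGeometry

variable {X Y : Scheme.{u}} (f : X ⟶ Y)

section

variable [IsProper f] [IsLocallyNoetherian Y]

/-- For a proper morphism over a locally Noetherian base, sections of `O_X` over the preimage of an
affine open form a finite module, so the integral closure is everything. -/
theorem integralClosure_eq_top {U : Y.Opens} (hU : IsAffineOpen U) :
    letI := (f.app U).hom.toAlgebra
    integralClosure Γ(Y, U) Γ(X, f ⁻¹ᵁ U) = ⊤ := by
  letI := (f.app U).hom.toAlgebra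
  have h := Groth.Agent.Lib.Helper13.ZariskiNormal.isIntegral_app f U hU
  rw [eq_top_iff]
  intro s _
  exact h s

/-- `f.fromNormalization` is finite. -/
theorem isFinite_fromNormalization : IsFinite f.fromNormalization := by
  refine ⟨fun U hU => ?_⟩
  letI := (f.app U).hom.toAlgebra
  haveI : IsNoetherianRing Γ(Y, U) := IsLocallyNoetherian.component_noetherian ⟨U, hU⟩
  have hfin : Module.Finite Γ(Y, U) Γ(X, f ⁻¹ᵁ U) :=
    Groth.Agent.Lib.Helper23.T2.finite_app_of_isProper f U hU
  rw [f.fromNormalization_app hU, CommRingCat.hom_comp]
  refine RingHom.Finite.comp (RingHom.Finite.of_surjective _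
    (ConcreteCategory.bijective_of_isIso (f.normalizationObjIso hU).inv).2) ?_
  rw [CommRingCat.hom_ofHom, RingHom.finite_algebraMap]
  haveI : IsNoetherian Γ(Y, U) Γ(X, f ⁻¹ᵁ U) := isNoetherian_of_isNoetherianRing_of_finite _ _
  exact Module.Finite.of_injective
    (integralClosure Γ(Y, U) Γ(X, f ⁻¹ᵁ U)).val.toLinearMap Subtype.val_injective

/-- `O_{Y'}(h⁻¹ U) ⟶ O_X(f⁻¹ U)` is an isomorphism for affine `U`. -/
theorem isIso_toNormalization_app {U : Y.Opens} (hU : IsAffineOpen U) :
    IsIso (f.toNormalization.app (f.fromNormalization ⁻¹ᵁ U)) := by
  letI := (f.app U).hom.toAlgebra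
  have h1 := f.toNormalization_app_preimage ⟨U, hU⟩
  dsimp only at h1
  rw [h1]
  have hbij : Function.Bijective
      (CommRingCat.ofHom (integralClosure Γ(Y, U) Γ(X, f ⁻¹ᵁ U)).val.toRingHom) := by
    constructor
    · exact Subtype.val_injective
    · intro s
      exact ⟨⟨s, by rw [integralClosure_eq_top f hU]; trivial⟩, rfl⟩
  have hiso : IsIso (CommRingCat.ofHom (integralClosure Γ(Y, U) Γ(X, f ⁻¹ᵁ U)).val.toRingHom) :=
    (ConcreteCategory.isIso_iff_bijective _).mpr hbij
  have key : ∀ {R S T W : CommRingCat.{u}} (a : R ⟶ S) (m : S ⟶ T) (b : T ⟶ W),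
      IsIso a → IsIso m → IsIso b → IsIso (a ≫ m ≫ b) := by
    intro R S T W a m b _ _ _
    infer_instance
  exact key _ _ _ inferInstance hiso inferInstance

instance isProper_toNormalization : IsProper f.toNormalization := by
  haveI : IsProper (f.toNormalization ≫ f.fromNormalization) := by
    rw [f.toNormalization_fromNormalization]; infer_instance
  exact IsProper.of_comp _ f.fromNormalization

theorem isLocallyNoetherian_normalization : IsLocallyNoetherian f.normalization := by
  haveI := isFinite_fromNormalization f
  exact LocallyOfFiniteType.isLocallyNoetherian f.fromNormalization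

/-- The fibres of `X ⟶ Y'` are connected (and nonempty). -/
theorem isConnected_toNormalization_preimage (y' : f.normalization) :
    _root_.IsConnected (f.toNormalization ⁻¹' {y'}) := by
  haveI := isLocallyNoetherian_normalization f
  obtain ⟨_, ⟨U, hU, rfl⟩, hyU, -⟩ := Y.isBasis_affineOpens.exists_subset_of_mem_open
    (Set.mem_univ (f.fromNormalization y')) isOpen_univ
  have hU' : IsAffineOpen (f.fromNormalization ⁻¹ᵁ U) := hU.preimage f.fromNormalization
  exact Groth.Agent.Lib.Helper13.ZariskiConn.isConnected_preimage_singleton f.toNormalization y'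
    hU' hyU (isIso_toNormalization_app f hU)

/-- The induced map on fibres `X_y ⟶ Y'_y`. -/
noncomputable abbrev fibMap (y : Y) : f.fiber y ⟶ f.fromNormalization.fiber y :=
  CohIII.fiberMapOver f.toNormalization f f.fromNormalization f.toNormalization_fromNormalization y

lemma fibMap_fiberι (y : Y) :
    fibMap f y ≫ f.fromNormalization.fiberι y = f.fiberι y ≫ f.toNormalization := by
  simp only [fibMap, CohIII.fiberMapOver, Scheme.Hom.fiberι]
  exact pullback.lift_fst _ _ _

lemma fibMap_fiberι_apply (y : Y) (x : f.fiber y) :
    f.fromNormalization.fiberι y ((fibMap f y) x) = f.toNormalization (f.fiberι y x) := by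
  have := congrArg (fun ψ : f.fiber y ⟶ f.normalization => ψ x) (fibMap_fiberι f y)
  simpa using this

/-- S4463. -/
theorem main4463 (y : Y) :
    Finite ↥(f.fromNormalization.fiber y) ∧
    Function.Surjective (CohIII.fiberMapOver f.toNormalization f f.fromNormalization
        f.toNormalization_fromNormalization y).base ∧
    ∀ x x' : ↥(f.fiber y),
      (CohIII.fiberMapOver f.toNormalization f f.fromNormalization
        f.toNormalization_fromNormalization y).base x =
        (CohIII.fiberMapOver f.toNormalization f f.fromNormalization
          f.toNormalization_fromNormalization y).base x' ↔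
      connectedComponent x = connectedComponent x' := by
  haveI := isFinite_fromNormalization f
  have hinj : Function.Injective (f.fromNormalization.fiberι y) :=
    (f.fromNormalization.fiberι y).isEmbedding.injective
  have hmem : ∀ x : f.fiber y, f (f.fiberι y x) = y := by
    intro x
    have : f.fiberι y x ∈ Set.range (f.fiberι y) := ⟨x, rfl⟩
    rw [f.range_fiberι] at this
    exact this
  have hw : ∀ x : X, f.fromNormalization (f.toNormalization x) = f x := by
    intro x
    have := congrArg (fun ψ : X ⟶ Y => ψ x) f.toNormalization_fromNormalization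
    exact this
  refine ⟨?_, ?_, ?_⟩
  · haveI : IsArtinianScheme (f.fromNormalization.fiber y) := {}
    infer_instance
  · intro y₀
    obtain ⟨x, hx⟩ := (isConnected_toNormalization_preimage f
      (f.fromNormalization.fiberι y y₀)).nonempty
    have hx' : f.toNormalization x = f.fromNormalization.fiberι y y₀ := hx
    have hfx : f x = y := by
      rw [← hw, hx']
      have : f.fromNormalization.fiberι y y₀ ∈ Set.range (f.fromNormalization.fiberι y) :=
        ⟨y₀, rfl⟩
      rw [f.fromNormalization.range_fiberι] at this
      exact this
    have hxr : x ∈ Set.range (f.fiberι y) := by rw [f.range_fiberι]; exact hfx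
    obtain ⟨x₀, rfl⟩ := hxr
    refine ⟨x₀, hinj ?_⟩
    exact (fibMap_fiberι_apply f y x₀).trans hx'
  · intro x x'
    constructor
    · intro hxx
      have h1 : f.toNormalization (f.fiberι y x) = f.toNormalization (f.fiberι y x') := by
        rw [← fibMap_fiberι_apply, ← fibMap_fiberι_apply]
        exact congrArg _ hxx
      -- the fibre of `toNormalization` through `x'` is connected and lies in `X_y`
      have hconn := isConnected_toNormalization_preimage f (f.toNormalization (f.fiberι y x'))
      have hsub : f.toNormalization ⁻¹' {f.toNormalization (f.fiberι y x')} ⊆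
          Set.range (f.fiberι y) := by
        intro z hz
        rw [f.range_fiberι]
        change f z = y
        rw [← hw z, hz, hw, hmem]
      have hpre : _root_.IsPreconnected ((f.fiberι y) ⁻¹'
          (f.toNormalization ⁻¹' {f.toNormalization (f.fiberι y x')})) := by
        rw [← (f.fiberι y).isEmbedding.toIsInducing.isPreconnected_image,
          Set.image_preimage_eq_of_subset hsub]
        exact hconn.isPreconnected
      have hx'mem : x' ∈ (f.fiberι y) ⁻¹'
          (f.toNormalization ⁻¹' {f.toNormalization (f.fiberι y x')}) := rfl
      have hxmem : x ∈ (f.fiberι y) ⁻¹'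
          (f.toNormalization ⁻¹' {f.toNormalization (f.fiberι y x')}) := h1
      exact connectedComponent_eq (hpre.subset_connectedComponent hx'mem hxmem) |>.symm
    · intro hcc
      have hx : x' ∈ connectedComponent x := by rw [hcc]; exact mem_connectedComponent
      have himg : (fibMap f y) '' connectedComponent x ⊆ {(fibMap f y) x} := by
        have hpc : _root_.IsPreconnected ((fibMap f y) '' connectedComponent x) :=
          isPreconnected_connectedComponent.image _ (fibMap f y).continuous.continuousOn
        have hsub := hpc.subsingleton
        intro z hz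
        exact hsub hz ⟨x, mem_connectedComponent, rfl⟩
      exact (himg ⟨x', hx, rfl⟩).symm

end

end Groth.Agent.Lib.Helper13.SteinFibre
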