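import Mathlib

/-!
# Extended equational criterion for vanishing of tensors, and a semilinear transport lemma

* `exists_relations_of_sum_tmul_eq_zero`: if `∑ mᵢ ⊗ nᵢ = 0` in `M ⊗[R] N` then after adding
  finitely many extra elements `m'_q` of `M` the sum vanishes trivially.
* `semilinear_sum_tmul_eq_zero`: a semilinear transport of trivially vanishing data.
-/

set_option autoImplicit false

namespace Groth.Agent.Lib.Helper13.TensorVanish

open TensorProduct

section V

variable {R M N : Type*} [CommRing R] [AddCommGroup M] [Module R M] [AddCommGroup N] [Module R N]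

/-- Extended vanishing criterion: if `∑ mᵢ ⊗ nᵢ = 0`, then there are finitely many extra elements
`m'_q` of `M`, elements `y_j` of `N` and coefficients with `nᵢ = ∑ⱼ aᵢⱼ yⱼ`, `0 = ∑ⱼ a'_qj yⱼ`
and `∑ᵢ aᵢⱼ mᵢ + ∑_q a'_qj m'_q = 0` for all `j`. -/
theorem exists_relations_of_sum_tmul_eq_zero {ι : Type*} [Fintype ι] (m : ι → M) (n : ι → N)
    (h : ∑ i, m i ⊗ₜ[R] n i = 0) :
    ∃ (l k : ℕ) (m' : Fin l → M) (a : ι → Fin k → R) (a' : Fin l → Fin k → R) (y : Fin k → N),
      (∀ i, n i = ∑ j, a i j • y j) ∧ (∀ q, ∑ j, a' q j • y j = 0) ∧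
      (∀ j, ∑ i, a i j • m i + ∑ q, a' q j • m' q = 0) := by
  classical
  set N₀ : Submodule R M := Submodule.span R (Set.range m) with hN₀def
  have hN₀ : N₀.FG := Submodule.fg_span (Set.finite_range m)
  have hmem₀ : ∀ i, m i ∈ N₀ := fun i => Submodule.subset_span ⟨i, rfl⟩
  let x : N₀ ⊗[R] N := ∑ i, (⟨m i, hmem₀ i⟩ : N₀) ⊗ₜ[R] n i
  have hx : N₀.subtype.rTensor N x = N₀.subtype.rTensor N 0 := by
    simp only [x, map_sum, LinearMap.rTensor_tmul, Submodule.subtype_apply, map_zero]
    exact h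
  obtain ⟨N', hN', hle, heq⟩ := hN₀.exists_rTensor_fg_inclusion_eq hx
  obtain ⟨l, g, hg⟩ := Submodule.fg_iff_exists_fin_generating_family.mp hN'
  have hgmem : ∀ q, g q ∈ N' := fun q => hg ▸ Submodule.subset_span ⟨q, rfl⟩
  have hmmem : ∀ i, m i ∈ N' := fun i => hle (hmem₀ i)
  let mm : ι ⊕ Fin l → N' := Sum.elim (fun i => ⟨m i, hmmem i⟩) (fun q => ⟨g q, hgmem q⟩)
  let nn : ι ⊕ Fin l → N := Sum.elim n (fun _ => 0)
  have hspan : Submodule.span R (Set.range mm) = ⊤ := by
    apply Submodule.map_injective_of_injective (Submodule.injective_subtype N')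
    rw [Submodule.map_span, Submodule.map_top, Submodule.range_subtype, ← Set.range_comp]
    apply le_antisymm
    · rw [Submodule.span_le]
      rintro _ ⟨j, rfl⟩
      exact (mm j).2
    · conv_lhs => rw [← hg]
      apply Submodule.span_mono
      rintro _ ⟨q, rfl⟩
      exact ⟨Sum.inr q, rfl⟩
  have hsum : ∑ j, mm j ⊗ₜ[R] nn j = (0 : N' ⊗[R] N) := by
    rw [Fintype.sum_sum_type]
    simp only [mm, nn, Sum.elim_inl, Sum.elim_inr, tmul_zero, Finset.sum_const_zero, add_zero]
    have h2 : (Submodule.inclusion hle).rTensor N x = 0 := by rw [heq, map_zero]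
    simpa only [x, map_sum, LinearMap.rTensor_tmul, Submodule.inclusion_apply] using h2
  obtain ⟨k, a, y, h1, h2⟩ := TensorProduct.vanishesTrivially_of_sum_tmul_eq_zero R hspan hsum
  refine ⟨l, k, g, fun i => a (Sum.inl i), fun q => a (Sum.inr q), y, fun i => ?_, fun q => ?_,
    fun j => ?_⟩
  · simpa [nn] using h1 (Sum.inl i)
  · simpa [nn] using (h1 (Sum.inr q)).symm
  · have h3 := congrArg N'.subtype (h2 j)
    rw [Fintype.sum_sum_type] at h3
    simpa [mm, map_sum] using h3

end V

section Semilinear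

variable {A B : Type*} [CommRing A] [CommRing B] (ρ : A →+* B)
  {PA NA : Type*} [AddCommGroup PA] [Module A PA] [AddCommGroup NA] [Module A NA]
  {PB NB : Type*} [AddCommGroup PB] [Module B PB] [AddCommGroup NB] [Module B NB]
  (σP : PA →ₛₗ[ρ] PB) (σN : NA →ₛₗ[ρ] NB)

/-- Semilinear transport: if the relations hold after transport, the transported sum vanishes. -/
theorem semilinear_sum_tmul_eq_zero {ι : Type*} [Fintype ι] {l k : ℕ}
    (p : ι → PA) (n : ι → NA) (a : ι → Fin k → A) (a' : Fin l → Fin k → A) (y : Fin k → NA)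
    (q : Fin l → PB)
    (hn : ∀ i, n i = ∑ j, a i j • y j) (hy : ∀ r, ∑ j, a' r j • y j = 0)
    (hrel : ∀ j, ∑ i, ρ (a i j) • σP (p i) + ∑ r, ρ (a' r j) • q r = 0) :
    ∑ i, σP (p i) ⊗ₜ[B] σN (n i) = 0 := by
  have hvt : TensorProduct.VanishesTrivially B (Sum.elim (fun i => σP (p i)) q)
      (Sum.elim (fun i => σN (n i)) (fun _ => (0 : NB))) := by
    refine ⟨k, Sum.elim (fun i j => ρ (a i j)) (fun r j => ρ (a' r j)), fun j => σN (y j), ?_, ?_⟩
    · rintro (i | r)
      · simp only [Sum.elim_inl]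
        rw [hn i, map_sum]
        exact Finset.sum_congr rfl fun j _ => by rw [map_smulₛₗ]
      · simp only [Sum.elim_inr]
        have := congrArg σN (hy r)
        rw [map_sum, map_zero] at this
        rw [← this]
        exact Finset.sum_congr rfl fun j _ => by rw [map_smulₛₗ]
    · intro j
      rw [Fintype.sum_sum_type]
      simpa using hrel j
  have := TensorProduct.sum_tmul_eq_zero_of_vanishesTrivially B hvt
  rw [Fintype.sum_sum_type] at this
  simpa using this

end Semilinear

end Groth.Agent.Lib.Helper13.TensorVanish
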