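import Mathlib
import Groth.Agent.Lib.Helper13.TensorVanish

/-!
# Tensoring presheaves of modules preserves locally bijective morphisms

* `LocSurj J f`, `LocInj J f`: elementwise local surjectivity / injectivity of a morphism of
  presheaves of modules, with comparison to Mathlib's `Presheaf.IsLocallySurjective/Injective`.
* `locSurj_whiskerRight`, `locInj_whiskerRight`: `f ▷ N` is locally bijective if `f` is.
* `isIso_sheafification_map`: sheafification inverts locally bijective morphisms.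
-/

set_option autoImplicit false
universe v v₁ u₁ u

open CategoryTheory Opposite MonoidalCategory

namespace Groth.Agent.Lib.Helper13.TensorLocal

variable {C : Type u₁} [Category.{v₁} C] (J : GrothendieckTopology C)

section General

variable {R₀ : Cᵒᵖ ⥤ RingCat.{u}} {P P' : PresheafOfModules.{v} R₀}

/-- Elementwise local surjectivity. -/
def LocSurj (f : P ⟶ P') : Prop :=
  ∀ (U : C) (s : P'.obj (op U)), ∃ S ∈ J U, ∀ ⦃V : C⦄ (g : V ⟶ U), S g →
    ∃ t : P.obj (op V), f.app (op V) t = P'.map g.op s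

/-- Elementwise local injectivity. -/
def LocInj (f : P ⟶ P') : Prop :=
  ∀ (U : C) (s : P.obj (op U)), f.app (op U) s = 0 → ∃ S ∈ J U, ∀ ⦃V : C⦄ (g : V ⟶ U), S g →
    P.map g.op s = 0

variable {J}

lemma isLocallySurjective_of_locSurj {f : P ⟶ P'} (hf : LocSurj J f) :
    Presheaf.IsLocallySurjective J ((PresheafOfModules.toPresheaf R₀).map f) where
  imageSieve_mem {U} s := by
    obtain ⟨S, hS, h⟩ := hf U s
    refine J.superset_covering ?_ hS
    intro V g hg
    obtain ⟨t, ht⟩ := h g hg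
    exact ⟨t, ht⟩

lemma locSurj_of_isLocallySurjective {f : P ⟶ P'}
    (hf : Presheaf.IsLocallySurjective J ((PresheafOfModules.toPresheaf R₀).map f)) :
    LocSurj J f := by
  intro U s
  refine ⟨_, Presheaf.imageSieve_mem J ((PresheafOfModules.toPresheaf R₀).map f) (U := op U) s, ?_⟩
  intro V g hg
  obtain ⟨t, ht⟩ := hg
  exact ⟨t, ht⟩

lemma locInj_aux {f : P ⟶ P'} (hf : LocInj J f) (X : Cᵒᵖ) (x y : P.obj X)
    (h : f.app X x = f.app X y) :
    ∃ S ∈ J X.unop, ∀ ⦃V : C⦄ (g : V ⟶ X.unop), S g → P.map g.op x = P.map g.op y := by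
  have hxy : f.app (op X.unop) (x - y) = 0 := by
    change f.app X (x - y) = 0
    rw [map_sub, h, sub_self]
  obtain ⟨S, hS, hS'⟩ := hf X.unop _ hxy
  refine ⟨S, hS, fun V g hg => ?_⟩
  have h1 : P.map g.op (x - y) = 0 := hS' g hg
  rw [map_sub, sub_eq_zero] at h1
  exact h1

lemma isLocallyInjective_of_locInj {f : P ⟶ P'} (hf : LocInj J f) :
    Presheaf.IsLocallyInjective J ((PresheafOfModules.toPresheaf R₀).map f) where
  equalizerSieve_mem {X} x y h := by
    obtain ⟨S, hS, hS'⟩ := locInj_aux hf X x y h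
    exact J.superset_covering (fun V g hg => hS' g hg) hS

lemma locInj_of_isLocallyInjective {f : P ⟶ P'}
    (hf : Presheaf.IsLocallyInjective J ((PresheafOfModules.toPresheaf R₀).map f)) :
    LocInj J f := by
  intro U s hs
  have h : ((PresheafOfModules.toPresheaf R₀).map f).app (op U) s =
      ((PresheafOfModules.toPresheaf R₀).map f).app (op U) (0 : P.obj (op U)) := by
    change f.app (op U) s = f.app (op U) 0
    rw [hs, map_zero]
  refine ⟨_, Presheaf.equalizerSieve_mem J ((PresheafOfModules.toPresheaf R₀).map f)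
    (X := op U) s (0 : P.obj (op U)) h, ?_⟩
  intro V g hg
  have h1 : P.map g.op s = P.map g.op (0 : P.obj (op U)) := hg
  rw [h1, map_zero]

/-- Finite intersections of covering sieves. -/
lemma exists_covering_forall_fin {U : C} (l : ℕ) (Q : Fin l → ∀ ⦃V : C⦄, (V ⟶ U) → Prop)
    (h : ∀ q, ∃ S ∈ J U, ∀ ⦃V : C⦄ (g : V ⟶ U), S g → Q q g) :
    ∃ S ∈ J U, ∀ ⦃V : C⦄ (g : V ⟶ U), S g → ∀ q, Q q g := by
  induction l with
  | zero => exact ⟨⊤, J.top_mem U, fun V g _ q => q.elim0⟩
  | succ l ih =>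
    obtain ⟨S₀, hS₀, h₀⟩ := h 0
    obtain ⟨S', hS', h'⟩ := ih (fun q => Q q.succ) (fun q => h q.succ)
    exact ⟨S₀ ⊓ S', J.intersection_covering hS₀ hS',
      fun V g hg => Fin.forall_fin_succ.mpr ⟨h₀ g hg.1, h' g hg.2⟩⟩

end General

section Sheafification

variable {J}
variable {R₀ : Cᵒᵖ ⥤ RingCat.{u}} {R : Sheaf J RingCat.{u}} (α : R₀ ⟶ R.obj)
  [Presheaf.IsLocallyInjective J α] [Presheaf.IsLocallySurjective J α]
  [J.WEqualsLocallyBijective AddCommGrpCat.{v}] [HasWeakSheafify J AddCommGrpCat.{v}]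

/-- Sheafification of presheaves of modules inverts locally bijective morphisms. -/
theorem isIso_sheafification_map {P P' : PresheafOfModules.{v} R₀} (g : P ⟶ P')
    (hs : LocSurj J g) (hi : LocInj J g) :
    IsIso ((PresheafOfModules.sheafification α).map g) := by
  have h1 := isLocallySurjective_of_locSurj hs
  have h2 := isLocallyInjective_of_locInj hi
  have hW : J.W ((PresheafOfModules.toPresheaf R₀).map g) :=
    (J.W_iff_isLocallyBijective _).mpr ⟨h2, h1⟩
  have h3 : IsIso ((presheafToSheaf J AddCommGrpCat.{v}).map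
      ((PresheafOfModules.toPresheaf R₀).map g)) := (J.W_iff _).mp hW
  have h4 : IsIso ((SheafOfModules.toSheaf R).map ((PresheafOfModules.sheafification α).map g)) :=
    (NatIso.isIso_map_iff (PresheafOfModules.sheafificationCompToSheaf α) g).2 h3
  exact isIso_of_reflects_iso _ (SheafOfModules.toSheaf R)

/-- The unit of the sheafification adjunction is locally surjective. -/
theorem locSurj_unit (P : PresheafOfModules.{v} R₀) :
    LocSurj J ((PresheafOfModules.sheafificationAdjunction α).unit.app P) := by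
  apply locSurj_of_isLocallySurjective
  rw [PresheafOfModules.toPresheaf_map_sheafificationAdjunction_unit_app]
  exact ((J.W_iff_isLocallyBijective _).mp (J.W_toSheafify _)).2

/-- The unit of the sheafification adjunction is locally injective. -/
theorem locInj_unit (P : PresheafOfModules.{v} R₀) :
    LocInj J ((PresheafOfModules.sheafificationAdjunction α).unit.app P) := by
  apply locInj_of_isLocallyInjective
  rw [PresheafOfModules.toPresheaf_map_sheafificationAdjunction_unit_app]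
  exact ((J.W_iff_isLocallyBijective _).mp (J.W_toSheafify _)).1

end Sheafification

section Tensor

open TensorProduct

variable {J}
variable {R : Cᵒᵖ ⥤ CommRingCat.{u}}

theorem locSurj_whiskerRight {P P' : PresheafOfModules.{u} (R ⋙ forget₂ _ _)} (f : P ⟶ P')
    (hf : LocSurj J f) (N : PresheafOfModules.{u} (R ⋙ forget₂ _ _)) :
    LocSurj J (f ▷ N) := by
  intro U t
  change ↑(P'.obj (op U)) ⊗[R.obj (op U)] ↑(N.obj (op U)) at t
  induction t using TensorProduct.induction_on with
  | zero =>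
    exact ⟨⊤, J.top_mem U, fun V g _ => ⟨0,
      ((f ▷ N).app (op V)).hom.map_zero.trans ((P' ⊗ N).map g.op).hom.map_zero.symm⟩⟩
  | tmul p' n =>
    obtain ⟨S, hS, h⟩ := hf U p'
    refine ⟨S, hS, fun V g hg => ?_⟩
    obtain ⟨p, hp⟩ := h g hg
    refine ⟨p ⊗ₜ[R.obj (op V)] N.map g.op n, ?_⟩
    show f.app (op V) p ⊗ₜ[R.obj (op V)] N.map g.op n =
      P'.map g.op p' ⊗ₜ[R.obj (op V)] N.map g.op n
    rw [hp]
    rfl
  | add x y hx hy =>
    obtain ⟨S₁, hS₁, h₁⟩ := hx
    obtain ⟨S₂, hS₂, h₂⟩ := hy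
    refine ⟨S₁ ⊓ S₂, J.intersection_covering hS₁ hS₂, fun V g hg => ?_⟩
    obtain ⟨t₁, ht₁⟩ := h₁ g hg.1
    obtain ⟨t₂, ht₂⟩ := h₂ g hg.2
    exact ⟨t₁ + t₂, (((f ▷ N).app (op V)).hom.map_add t₁ t₂).trans
      ((congrArg₂ (· + ·) ht₁ ht₂).trans (((P' ⊗ N).map g.op).hom.map_add x y).symm)⟩

lemma map_sum_tmul_eq_zero {P N : PresheafOfModules.{u} (R ⋙ forget₂ _ _)} {X Y : Cᵒᵖ} (φ : X ⟶ Y)
    {ι : Type*} [Fintype ι] {l k : ℕ} (p : ι → P.obj X) (n : ι → N.obj X)
    (a : ι → Fin k → R.obj X) (a' : Fin l → Fin k → R.obj X) (y : Fin k → N.obj X)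
    (q : Fin l → P.obj Y)
    (hn : ∀ i, n i = ∑ j, a i j • y j) (hy : ∀ r, ∑ j, a' r j • y j = 0)
    (hrel : ∀ j, ∑ i, (R.map φ).hom (a i j) • P.restrictₛₗ φ (p i) +
      ∑ r, (R.map φ).hom (a' r j) • q r = 0) :
    (P ⊗ N).map φ (∑ i, p i ⊗ₜ[R.obj X] n i) = 0 := by
  have h1 : (P ⊗ N).map φ (∑ i, p i ⊗ₜ[R.obj X] n i) =
      ∑ i, P.restrictₛₗ φ (p i) ⊗ₜ[R.obj Y] N.restrictₛₗ φ (n i) :=
    (map_sum ((P ⊗ N).map φ).hom _ _).trans (Finset.sum_congr rfl fun i _ => rfl)
  rw [h1]
  exact TensorVanish.semilinear_sum_tmul_eq_zero (R.map φ).hom (P.restrictₛₗ φ) (N.restrictₛₗ φ)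
    p n a a' y q hn hy hrel

theorem locInj_whiskerRight {P P' : PresheafOfModules.{u} (R ⋙ forget₂ _ _)} (f : P ⟶ P')
    (hs : LocSurj J f) (hi : LocInj J f) (N : PresheafOfModules.{u} (R ⋙ forget₂ _ _)) :
    LocInj J (f ▷ N) := by
  intro U t ht
  let K : Sieve U :=
    { arrows := fun V g => (P ⊗ N).map g.op t = 0
      downward_closed := by
        intro V W g hg h
        show (P ⊗ N).map (h ≫ g).op t = 0
        have e1 := PresheafOfModules.map_comp_apply (P ⊗ N) g.op h.op t
        rw [op_comp, e1]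
        exact (congrArg ((P ⊗ N).map h.op).hom hg).trans (map_zero ((P ⊗ N).map h.op).hom) }
  refine ⟨K, ?_, fun V g hg => hg⟩
  obtain ⟨k, p, n, hpn⟩ := TensorProduct.exists_sum_tmul_eq (R := R.obj (op U))
    (M := P.obj (op U)) (N := N.obj (op U)) t
  have h0 : ∑ i, (f.app (op U)).hom (p i) ⊗ₜ[R.obj (op U)] n i = 0 := by
    have h1 : (f ▷ N).app (op U) (∑ i, p i ⊗ₜ[R.obj (op U)] n i) =
        ∑ i, (f.app (op U)).hom (p i) ⊗ₜ[R.obj (op U)] n i :=
      (map_sum ((f ▷ N).app (op U)).hom _ _).trans (Finset.sum_congr rfl fun i _ => rfl)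
    have ht' := ht
    rw [hpn] at ht'
    exact h1.symm.trans ht'
  obtain ⟨l, κ, m', a, a', y, hn, hy, hrel⟩ :=
    TensorVanish.exists_relations_of_sum_tmul_eq_zero _ _ h0
  obtain ⟨S₁, hS₁, hlift⟩ := exists_covering_forall_fin (J := J) l
    (fun q V g => ∃ t' : P.obj (op V), f.app (op V) t' = P'.map g.op (m' q))
    (fun q => hs U (m' q))
  refine J.transitive hS₁ K (fun V g hg => ?_)
  choose tq htq using hlift g hg
  let e : Fin κ → P.obj (op V) := fun j =>
    ∑ i, (R.map g.op).hom (a i j) • P.restrictₛₗ g.op (p i) +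
      ∑ q, (R.map g.op).hom (a' q j) • tq q
  have he : ∀ j, f.app (op V) (e j) = 0 := by
    intro j
    have h1 : (f.app (op V)).hom (e j) = P'.restrictₛₗ g.op
        (∑ i, a i j • (f.app (op U)).hom (p i) + ∑ q, a' q j • m' q) := by
      simp only [e, map_add, map_sum, map_smul, map_smulₛₗ]
      congr 1
      · refine Finset.sum_congr rfl fun i _ => ?_
        congr 1
        exact PresheafOfModules.naturality_apply f g.op (p i)
      · refine Finset.sum_congr rfl fun q _ => ?_
        congr 1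
        exact htq q
    change (f.app (op V)).hom (e j) = 0
    rw [h1, hrel j, map_zero]
  obtain ⟨S₂, hS₂, hkill⟩ := exists_covering_forall_fin (J := J) κ
    (fun j W h => P.map h.op (e j) = 0) (fun j => hi V (e j) (he j))
  refine J.superset_covering ?_ hS₂
  intro W h hh
  show (P ⊗ N).map (h ≫ g).op t = 0
  rw [hpn]
  refine map_sum_tmul_eq_zero (h ≫ g).op p n a a' y (fun q => P.restrictₛₗ h.op (tq q)) hn hy
    (fun j => ?_)
  have h2 : P.restrictₛₗ h.op (e j) = 0 := hkill h hh j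
  simp only [e, map_add, map_sum, map_smulₛₗ] at h2
  rw [← h2]
  congr 1
  · refine Finset.sum_congr rfl fun i _ => ?_
    congr 1
    · rw [op_comp, R.map_comp]
      rfl
    · rw [op_comp]
      exact PresheafOfModules.map_comp_apply P g.op h.op (p i)
  · refine Finset.sum_congr rfl fun q _ => ?_
    congr 1
    rw [op_comp, R.map_comp]
    rfl

/-- `f ▷ N` is inverted by sheafification when `f` is locally bijective. -/
theorem locBij_whiskerRight {P P' : PresheafOfModules.{u} (R ⋙ forget₂ _ _)} (f : P ⟶ P')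
    (hs : LocSurj J f) (hi : LocInj J f) (N : PresheafOfModules.{u} (R ⋙ forget₂ _ _)) :
    LocSurj J (f ▷ N) ∧ LocInj J (f ▷ N) :=
  ⟨locSurj_whiskerRight f hs N, locInj_whiskerRight f hs hi N⟩

end Tensor

end Groth.Agent.Lib.Helper13.TensorLocal
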