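import Mathlib
import Groth.Prelude.Def_ModSite
import Groth.Agent.Lib.Helper13.TensorLocal
import Groth.Agent.Lib.Helper13.ModSheafBasic

/-!
# Tensor products of sheaves of modules on a small ringed site: foundations

For `O : Sheaf J CommRingCat` on a small site:
* `PMod O`, `fgt O`, `shf O`, `shfAdj O`: presheaves of modules, forgetful functor, sheafification.
* `flipObjIso O N : (tensorBi O).flip.obj N ≅ fgt O ⋙ tensorRight (fgt N) ⋙ shf O`.
* `isIso_shf_map_unit_whiskerRight`: sheafification inverts `η_P ▷ N`.
* `preservesColimitsOfShape_flip`: `- ⊗_O N` preserves colimits.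
* `sepProp O`, `sepProp_isSeparating`, `wellPowered_mod`: a small separating family in `Mod O`.
* `hasSheafHom`: `- ⊗_O N` has a right adjoint (special adjoint functor theorem).
-/

set_option autoImplicit false
universe u

open CategoryTheory CategoryTheory.Limits Opposite MonoidalCategory
open Groth.Agent.Lib.Helper13 Groth.Agent.Lib.Helper13.TensorLocal

namespace Groth.Agent.Lib.Helper13.ModSiteTensor

variable {C : Type u} [SmallCategory C] {J : GrothendieckTopology C} (O : Sheaf J CommRingCat.{u})

/-- The presheaf-of-modules category over the underlying presheaf of rings. -/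
abbrev PMod : Type (u + 1) := PresheafOfModules.{u} (O.obj ⋙ forget₂ CommRingCat.{u} RingCat.{u})

/-- forgetful functor to presheaves of modules: the right adjoint of sheafification. -/
noncomputable abbrev fgt : ModSite.Mod O ⥤ PMod O :=
  SheafOfModules.forget (ModSite.ringSh O) ⋙
    PresheafOfModules.restrictScalars (𝟙 (ModSite.ringSh O).obj)

/-- sheafification, with the same ascription. -/
noncomputable abbrev shf : PMod O ⥤ ModSite.Mod O := ModSite.sheafify O

/-- The adjunction `shf ⊣ fgt`. -/
noncomputable abbrev shfAdj : shf O ⊣ fgt O :=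
  PresheafOfModules.sheafificationAdjunction.{u} (𝟙 (ModSite.ringSh O).obj)

/-- `- ⊗ N` unfolded. -/
noncomputable def flipObjIso (N : ModSite.Mod O) :
    (ModSite.tensorBi O).flip.obj N ≅ fgt O ⋙ tensorRight ((fgt O).obj N) ⋙ shf O :=
  NatIso.ofComponents (fun _ => Iso.refl _)

theorem isIso_shf_map_unit_whiskerRight (P N : PMod O) :
    IsIso ((shf O).map ((shfAdj O).unit.app P ▷ N)) := by
  have hs := locSurj_unit (𝟙 (ModSite.ringSh O).obj) P
  have hi := locInj_unit (𝟙 (ModSite.ringSh O).obj) P
  obtain ⟨h1, h2⟩ := locBij_whiskerRight (R := O.obj) ((shfAdj O).unit.app P) hs hi N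
  exact isIso_sheafification_map (𝟙 (ModSite.ringSh O).obj) _ h1 h2

instance preservesColimitsOfShape_flip (N : ModSite.Mod O) (K : Type u) [Category.{u} K] :
    PreservesColimitsOfShape K ((ModSite.tensorBi O).flip.obj N) := by
  suffices PreservesColimitsOfShape K (fgt O ⋙ tensorRight ((fgt O).obj N) ⋙ shf O) from
    preservesColimitsOfShape_of_natIso (flipObjIso O N).symm
  have h1 : PreservesColimitsOfShape K (shf O ⋙ fgt O ⋙ tensorRight ((fgt O).obj N) ⋙ shf O) := by
    let τ : 𝟭 _ ⋙ (tensorRight ((fgt O).obj N) ⋙ shf O) ⟶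
        (shf O ⋙ fgt O) ⋙ (tensorRight ((fgt O).obj N) ⋙ shf O) :=
      Functor.whiskerRight (shfAdj O).unit (tensorRight ((fgt O).obj N) ⋙ shf O)
    have hτ : IsIso τ := by
      apply (config := { allowSynthFailures := true }) NatIso.isIso_of_isIso_app
      intro P
      exact isIso_shf_map_unit_whiskerRight O P ((fgt O).obj N)
    have h0 : PreservesColimitsOfShape K (tensorRight ((fgt O).obj N) ⋙ shf O) := by
      have : PreservesColimitsOfSize.{u, u} (shf O) := (shfAdj O).leftAdjoint_preservesColimits
      infer_instance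
    exact preservesColimitsOfShape_of_natIso
      ((Functor.leftUnitor _).symm ≪≫ asIso τ ≪≫ Functor.associator _ _ _)
  have hc : IsIso (shfAdj O).counit :=
    inferInstanceAs (IsIso (PresheafOfModules.sheafificationAdjunction.{u}
      (𝟙 (ModSite.ringSh O).obj)).counit)
  exact ModSheafBasic.preservesColimitsOfShape_of_reflective (shfAdj O) K _


/-- A small separating family in `Mod O`: sheafified free modules on representables. -/
def sepProp : ObjectProperty (ModSite.Mod O) :=
  .ofObj (fun X : C => (shf O).obj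
    ((PresheafOfModules.free (O.obj ⋙ forget₂ CommRingCat.{u} RingCat.{u})).obj (yoneda.obj X)))

instance : ObjectProperty.Small.{u} (sepProp O) := by
  dsimp [sepProp]
  infer_instance

lemma sepProp_isSeparating : (sepProp O).IsSeparating := by
  intro M N f₁ f₂ h
  have hfaith : (fgt O).Faithful :=
    inferInstanceAs ((SheafOfModules.forget (ModSite.ringSh O) ⋙
      PresheafOfModules.restrictScalars (𝟙 (ModSite.ringSh O).obj)).Faithful)
  apply (fgt O).map_injective
  apply PresheafOfModules.freeYoneda.isSeparating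
  rintro _ ⟨X⟩ a
  apply ((shfAdj O).homEquiv _ _).symm.injective
  have h1 := h _ (ObjectProperty.ofObj_apply _ X) (((shfAdj O).homEquiv _ _).symm a)
  simp only [← Adjunction.homEquiv_naturality_right_symm] at h1
  exact h1

instance wellPowered_mod : WellPowered.{u} (ModSite.Mod O) :=
  wellPowered_of_isDetecting (sepProp_isSeparating O).isDetecting

/-- `- ⊗ N` has a right adjoint. -/
theorem hasSheafHom (N : ModSite.Mod O) : ModSite.HasSheafHom N := by
  have : PreservesColimitsOfSize.{u, u} ((ModSite.tensorBi O).flip.obj N) := ⟨inferInstance⟩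
  exact isLeftAdjoint_of_preservesColimits_of_isSeparating (sepProp_isSeparating O) _


section Inverts

variable {O}

theorem isIso_shf_map_whiskerRight {P P' : PMod O} (f : P ⟶ P') (hs : LocSurj J f)
    (hi : LocInj J f) (N : PMod O) : IsIso ((shf O).map (f ▷ N)) := by
  obtain ⟨h1, h2⟩ := locBij_whiskerRight (R := O.obj) f hs hi N
  exact isIso_sheafification_map (𝟙 (ModSite.ringSh O).obj) _ h1 h2

theorem isIso_shf_map_whiskerLeft (N : PMod O) {P P' : PMod O} (f : P ⟶ P') (hs : LocSurj J f)
    (hi : LocInj J f) : IsIso ((shf O).map (N ◁ f)) := by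
  have h : N ◁ f = (β_ N P).hom ≫ (f ▷ N) ≫ (β_ N P').inv := by
    rw [← Category.assoc, ← BraidedCategory.braiding_naturality_right, Category.assoc,
      Iso.hom_inv_id, Category.comp_id]
  rw [h, Functor.map_comp, Functor.map_comp]
  have := isIso_shf_map_whiskerRight f hs hi N
  infer_instance

theorem isIso_shf_map_tensorHom {P P' Q Q' : PMod O} (f : P ⟶ P') (g : Q ⟶ Q')
    (hfs : LocSurj J f) (hfi : LocInj J f) (hgs : LocSurj J g) (hgi : LocInj J g) :
    IsIso ((shf O).map (f ⊗ₘ g)) := by
  rw [MonoidalCategory.tensorHom_def, Functor.map_comp]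
  have := isIso_shf_map_whiskerRight f hfs hfi Q
  have := isIso_shf_map_whiskerLeft P' g hgs hgi
  infer_instance

variable (O)

theorem isIso_shf_map_tensorHom_units (M N : PMod O) :
    IsIso ((shf O).map ((shfAdj O).unit.app M ⊗ₘ (shfAdj O).unit.app N)) :=
  isIso_shf_map_tensorHom _ _
    (locSurj_unit (𝟙 (ModSite.ringSh O).obj) M) (locInj_unit (𝟙 (ModSite.ringSh O).obj) M)
    (locSurj_unit (𝟙 (ModSite.ringSh O).obj) N) (locInj_unit (𝟙 (ModSite.ringSh O).obj) N)

/-- `a(M' ⊗ₚ N') ≅ aM' ⊗ aN'`. -/
noncomputable def sheafifyTensorIso (M' N' : PMod O) :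
    (shf O).obj (M' ⊗ N') ≅
      ((ModSite.tensorBi O).obj ((shf O).obj M')).obj ((shf O).obj N') :=
  @asIso _ _ _ _ ((shf O).map ((shfAdj O).unit.app M' ⊗ₘ (shfAdj O).unit.app N'))
    (isIso_shf_map_tensorHom_units O M' N')

end Inverts

end Groth.Agent.Lib.Helper13.ModSiteTensor
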