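import Mathlib
import Groth.Prelude.Def_ega3

/-!
# `tensorAFunctor A F` depends functorially on `F` (isomorphisms)
-/

set_option autoImplicit false
universe u
open CategoryTheory CategoryTheory.Limits AlgebraicGeometry MonoidalCategory

namespace Groth.Agent.Lib.Helper13.CBCCongr

variable {X : Scheme.{u}}

/-- `- ⊗ M ≅ - ⊗ M'` for `M ≅ M'`. -/
noncomputable def tensorRightModCongr {M M' : X.Modules} (e : M ≅ M') :
    DCoh.tensorRightMod M ≅ DCoh.tensorRightMod M' :=
  Functor.isoWhiskerLeft DCoh.toP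
    (Functor.isoWhiskerRight ((tensoringRight (CohB1.PMod X)).mapIso (DCoh.toP.mapIso e)) DCoh.shP)

variable (A : Type u) [CommRing A] [X.Over (Spec (CommRingCat.of A))]

/-- `tensorAFunctor A F ≅ tensorAFunctor A F'` for `F ≅ F'`. -/
noncomputable def tensorAFunctorCongr {F F' : X.Modules} (e : F ≅ F') :
    CohIII.tensorAFunctor A F ≅ CohIII.tensorAFunctor A F' :=
  Functor.isoWhiskerLeft (tilde.functor (CommRingCat.of A))
    (Functor.isoWhiskerLeft (Scheme.Modules.pullback (X ↘ Spec (CommRingCat.of A)))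
      (tensorRightModCongr e))

/-- the induced isomorphism on `H^p`. -/
noncomputable def HAbCongr {F F' : X.Modules} (e : F ≅ F') (p : ℕ) :
    CohIII.tensorAFunctor A F ⋙ CohIII.HAb X p ≅ CohIII.tensorAFunctor A F' ⋙ CohIII.HAb X p :=
  Functor.isoWhiskerRight (tensorAFunctorCongr A e) (CohIII.HAb X p)

end Groth.Agent.Lib.Helper13.CBCCongr
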