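import Mathlib
import Groth.Agent.Lib.Helper13.CechBasic

/-!
# The Čech complex commutes with additive functors preserving the relevant products

`cechMapIso : G(Č(Y, P)) ≅ Č(Y, P ⋙ G)`, natural in `P` and in `G`.
-/

set_option autoImplicit false
universe w v v' u' u'' u'''
open CategoryTheory CategoryTheory.Limits Opposite

namespace Groth.Agent.Lib.Helper13.CBCCechMap

open Groth.Agent.Lib.Helper13.CechBasic

variable {D : Type u'} [Category.{w} D] [HasFiniteProducts D] {ι : Type w} (Y : ι → D)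
variable {A : Type u''} [Category.{v} A] [Preadditive A] [HasProducts.{w} A]

section API

variable (P : Dᵒᵖ ⥤ A)

/-- The Čech complex of the presheaf `P` with respect to the family `Y`. -/
noncomputable abbrev cxA : CochainComplex A ℕ := (cechComplexFunctor Y).obj P

/-- the projection of the degree `n` term of the Čech complex to the component of index `i`. -/
noncomputable def projA (n : ℕ) (i : Fin (n + 1) → ι) : (cxA Y P).X n ⟶ P.obj (op (∏ᶜ (Y ∘ i))) :=
  Pi.π (fun i : Fin (n + 1) → ι => P.obj (op (∏ᶜ (Y ∘ i)))) i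

/-- the coface maps of the Čech complex. -/
noncomputable def cofaceA (n : ℕ) (k : Fin (n + 2)) : (cxA Y P).X n ⟶ (cxA Y P).X (n + 1) :=
  ((FormalCoproduct.cosimplicialObjectFunctor (FormalCoproduct.mk _ Y).cech).obj P).δ k

lemma dA_eq (n : ℕ) : (cxA Y P).d n (n + 1) =
    ∑ k : Fin (n + 2), (-1 : ℤ) ^ (k : ℕ) • cofaceA Y P n k :=
  CochainComplex.of_d (fun n => ((FormalCoproduct.cosimplicialObjectFunctor
      (FormalCoproduct.mk _ Y).cech).obj P).obj (SimplexCategory.mk n))
    (AlgebraicTopology.AlternatingCofaceMapComplex.objD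
      ((FormalCoproduct.cosimplicialObjectFunctor (FormalCoproduct.mk _ Y).cech).obj P)) n

lemma cofaceA_projA (n : ℕ) (k : Fin (n + 2)) (i : Fin (n + 2) → ι) :
    cofaceA Y P n k ≫ projA Y P (n + 1) i =
      projA Y P n (i ∘ k.succAbove) ≫ P.map (face Y i k).op :=
  Pi.lift_π _ _

lemma hom_ext_projA {Z : A} {n : ℕ} (f g : Z ⟶ (cxA Y P).X n)
    (h : ∀ i, f ≫ projA Y P n i = g ≫ projA Y P n i) : f = g :=
  Pi.hom_ext _ _ h

variable {P} in
lemma map_projA {P' : Dᵒᵖ ⥤ A} (τ : P ⟶ P') (n : ℕ) (i : Fin (n + 1) → ι) :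
    ((cechComplexFunctor Y).map τ).f n ≫ projA Y P' n i =
      projA Y P n i ≫ τ.app (op (∏ᶜ (Y ∘ i))) := by
  have : ((cechComplexFunctor Y).map τ).f n =
      Limits.Pi.map (fun i : Fin (n + 1) → ι => τ.app (op (∏ᶜ (Y ∘ i)))) := rfl
  rw [this]
  exact Pi.map_π _ _

end API

section Map

variable {B : Type u'''} [Category.{v'} B] [Preadditive B] [HasProducts.{w} B]
variable (P : Dᵒᵖ ⥤ A) (G : A ⥤ B) [G.Additive]
  [∀ n : ℕ, PreservesLimitsOfShape (Discrete (Fin (n + 1) → ι)) G]

/-- the termwise comparison. -/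
noncomputable def XIso (n : ℕ) : G.obj ((cxA Y P).X n) ≅ (cxA Y (P ⋙ G)).X n :=
  PreservesProduct.iso G (fun i : Fin (n + 1) → ι => P.obj (op (∏ᶜ (Y ∘ i))))

lemma XIso_hom_projA (n : ℕ) (i : Fin (n + 1) → ι) :
    (XIso Y P G n).hom ≫ projA Y (P ⋙ G) n i = G.map (projA Y P n i) :=
  piComparison_comp_π G _ i

lemma XIso_coface (n : ℕ) (k : Fin (n + 2)) :
    (XIso Y P G n).hom ≫ cofaceA Y (P ⋙ G) n k =
      G.map (cofaceA Y P n k) ≫ (XIso Y P G (n + 1)).hom := by
  apply hom_ext_projA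
  intro i
  rw [Category.assoc, Category.assoc, cofaceA_projA, XIso_hom_projA, ← G.map_comp,
    cofaceA_projA, G.map_comp, ← Category.assoc, XIso_hom_projA]
  rfl

/-- `G(Č(Y, P)) ≅ Č(Y, P ⋙ G)`. -/
noncomputable def cechMapIso :
    (G.mapHomologicalComplex (ComplexShape.up ℕ)).obj (cxA Y P) ≅ cxA Y (P ⋙ G) :=
  HomologicalComplex.Hom.isoOfComponents (fun n => XIso Y P G n) (by
    rintro n _ rfl
    show (XIso Y P G n).hom ≫ (cxA Y (P ⋙ G)).d n (n + 1) =
      G.map ((cxA Y P).d n (n + 1)) ≫ (XIso Y P G (n + 1)).hom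
    rw [dA_eq, dA_eq, G.map_sum, Preadditive.comp_sum, Preadditive.sum_comp]
    refine Finset.sum_congr rfl (fun k _ => ?_)
    rw [G.map_zsmul, Preadditive.comp_zsmul, Preadditive.zsmul_comp, XIso_coface])

lemma cechMapIso_hom_f (n : ℕ) : (cechMapIso Y P G).hom.f n = (XIso Y P G n).hom := rfl

variable {P} in
/-- naturality in the presheaf. -/
lemma cechMapIso_nat_presheaf {P' : Dᵒᵖ ⥤ A} (τ : P ⟶ P') :
    (G.mapHomologicalComplex (ComplexShape.up ℕ)).map ((cechComplexFunctor Y).map τ) ≫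
        (cechMapIso Y P' G).hom =
      (cechMapIso Y P G).hom ≫ (cechComplexFunctor Y).map (Functor.whiskerRight τ G) := by
  ext n : 1
  show G.map (((cechComplexFunctor Y).map τ).f n) ≫ (XIso Y P' G n).hom =
    (XIso Y P G n).hom ≫ ((cechComplexFunctor Y).map (Functor.whiskerRight τ G)).f n
  apply hom_ext_projA
  intro i
  rw [Category.assoc, Category.assoc, XIso_hom_projA, ← G.map_comp, map_projA, map_projA,
    ← Category.assoc, XIso_hom_projA, G.map_comp]
  rfl

variable {G} in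
/-- naturality in the functor. -/
lemma cechMapIso_nat_functor {G' : A ⥤ B} [G'.Additive]
    [∀ n : ℕ, PreservesLimitsOfShape (Discrete (Fin (n + 1) → ι)) G'] (α : G ⟶ G') :
    (NatTrans.mapHomologicalComplex α (ComplexShape.up ℕ)).app (cxA Y P) ≫
        (cechMapIso Y P G').hom =
      (cechMapIso Y P G).hom ≫ (cechComplexFunctor Y).map (Functor.whiskerLeft P α) := by
  ext n : 1
  show α.app ((cxA Y P).X n) ≫ (XIso Y P G' n).hom =
    (XIso Y P G n).hom ≫ ((cechComplexFunctor Y).map (Functor.whiskerLeft P α)).f n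
  apply hom_ext_projA
  intro i
  rw [Category.assoc, Category.assoc, XIso_hom_projA, map_projA, ← Category.assoc,
    XIso_hom_projA]
  exact (α.naturality _).symm

end Map

end Groth.Agent.Lib.Helper13.CBCCechMap
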