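import Mathlib
import Groth.Prelude.Def_ega3
import Groth.Agent.Lib.Helper17.TensorSec
import Groth.Agent.Lib.Helper17.UnitBC
import Groth.Agent.Lib.Helper17.FlatBC
import Groth.Agent.Lib.Helper17.PbStalk

/-!
# Sections of `f^*(M~) ⊗ F` over affine opens, for `X` over `Spec A`

`θ : Γ(W, F) ⊗_A M → Γ(W, f^*(M~) ⊗ F)`, natural in `W` and `M`, bijective for affine `W`
(`F` quasi-coherent).
-/

set_option autoImplicit false
universe u
open CategoryTheory CategoryTheory.Limits AlgebraicGeometry TopologicalSpace Opposite TensorProduct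
open Scheme.Modules

namespace Groth.Agent.Lib.Helper13.CBCSec

open Groth.Agent.Lib.Helper3 Groth.Agent.Lib.Helper3.QCSec Groth.Agent.Lib.Helper3.PbBasic
  Groth.Agent.Lib.Helper3.InvGen Groth.Agent.Lib.Helper3.InvTensor
  Groth.Agent.Lib.Helper3.InvMonoidal
open Groth.Agent.Lib.Helper17.UnitBC Groth.Agent.Lib.Helper17.TensorSec

section RingChange

variable {A R : Type u} [CommRing A] [CommRing R] (ψ : A ≃+* R)
  {N M M' : Type u} [AddCommGroup N] [AddCommGroup M] [AddCommGroup M'] [Module A N] [Module R N]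
  [Module A M] [Module R M'] (hN : ∀ (a : A) (n : N), a • n = ψ a • n)
  (e : M ≃+ M') (hM : ∀ (a : A) (m : M), e (a • m) = ψ a • e m)

/-- the tensor product does not change along a ring isomorphism (forward map). -/
noncomputable def rcHom : N ⊗[A] M →+ N ⊗[R] M' :=
  TensorProduct.liftAddHom
    (AddMonoidHom.mk' (fun n => ((TensorProduct.mk R N M') n).toAddMonoidHom.comp e.toAddMonoidHom)
      (fun a b => by ext m; simp [add_tmul]))
    (fun a n m => by
      show (a • n) ⊗ₜ[R] e m = n ⊗ₜ[R] e (a • m)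
      rw [hN, hM, smul_tmul])

include hN hM in
lemma rcHom_tmul (n : N) (m : M) : rcHom ψ hN e hM (n ⊗ₜ[A] m) = n ⊗ₜ[R] e m := rfl

/-- backward map. -/
noncomputable def rcInv : N ⊗[R] M' →+ N ⊗[A] M :=
  TensorProduct.liftAddHom
    (AddMonoidHom.mk' (fun n => ((TensorProduct.mk A N M) n).toAddMonoidHom.comp
        e.symm.toAddMonoidHom)
      (fun a b => by ext m; simp [add_tmul]))
    (fun r n m => by
      show (r • n) ⊗ₜ[A] e.symm m = n ⊗ₜ[A] e.symm (r • m)
      have h1 : r • n = ψ.symm r • n := by rw [hN, ψ.apply_symm_apply]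
      have h2 : e.symm (r • m) = ψ.symm r • e.symm m := by
        apply e.injective
        rw [hM, ψ.apply_symm_apply, e.apply_symm_apply, e.apply_symm_apply]
      rw [h1, h2, smul_tmul])

include hN hM in
lemma rcInv_tmul (n : N) (m : M') : rcInv ψ hN e hM (n ⊗ₜ[R] m) = n ⊗ₜ[A] e.symm m := rfl

include hN hM in
lemma rcHom_bijective : Function.Bijective (rcHom ψ hN e hM) := by
  refine Function.bijective_iff_has_inverse.mpr ⟨rcInv ψ hN e hM, ?_, ?_⟩
  · intro x
    induction x using TensorProduct.induction_on with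
    | zero => simp
    | tmul n m =>
      rw [rcHom_tmul, rcInv_tmul, e.symm_apply_apply]
    | add a b ha hb => rw [map_add, map_add, ha, hb]
  · intro x
    induction x using TensorProduct.induction_on with
    | zero => simp
    | tmul n m =>
      rw [rcInv_tmul, rcHom_tmul, e.apply_symm_apply]
    | add a b ha hb => rw [map_add, map_add, ha, hb]

end RingChange

/-- sections of `F` over `W` as an `A`-module (type synonym). -/
def SecA (_A : Type u) {X : Scheme.{u}} (F : X.Modules) (W : X.Opens) : Type u := Γ(F, W)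

variable (A : Type u) [CommRing A]

section Defs

variable (X : Scheme.{u}) [X.Over (Spec (CommRingCat.of A))]

/-- the structure morphism. -/
noncomputable abbrev sm : X ⟶ Spec (CommRingCat.of A) := X ↘ Spec (CommRingCat.of A)

variable {X}

/-- the ring map `A → Γ(X, W)`. -/
noncomputable def φ (W : X.Opens) : A →+* Γ(X, W) :=
  ((sm A X).appLE ⊤ W le_top).hom.comp (Scheme.ΓSpecIso (CommRingCat.of A)).inv.hom

lemma φ_apply (W : X.Opens) (a : A) :
    φ A W a = ((sm A X).appLE ⊤ W le_top).hom ((Scheme.ΓSpecIso (CommRingCat.of A)).inv.hom a) :=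
  rfl

lemma rres_φ {W W' : X.Opens} (h : W' ≤ W) (a : A) : rres X h (φ A W a) = φ A W' a :=
  congr($((sm A X).appLE_map (le_top : W ≤ (sm A X) ⁻¹ᵁ ⊤) (homOfLE h).op)
    ((Scheme.ΓSpecIso (CommRingCat.of A)).inv.hom a))

noncomputable instance (F : X.Modules) (W : X.Opens) : AddCommGroup (SecA A F W) :=
  inferInstanceAs (AddCommGroup Γ(F, W))

noncomputable instance (F : X.Modules) (W : X.Opens) : Module A (SecA A F W) :=
  Module.compHom Γ(F, W) (φ A W)

lemma smul_def (F : X.Modules) (W : X.Opens) (a : A) (s : SecA A F W) :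
    a • s = (φ A W a) • (show Γ(F, W) from s) := rfl

/-- restriction as an `A`-linear map. -/
noncomputable def resA (F : X.Modules) {W W' : X.Opens} (h : W' ≤ W) :
    SecA A F W →ₗ[A] SecA A F W' where
  toFun s := res F h (show Γ(F, W) from s)
  map_add' a b := map_add _ _ _
  map_smul' a s := by
    show res F h (φ A W a • (show Γ(F, W) from s)) = φ A W' a • res F h (show Γ(F, W) from s)
    rw [res_smul, rres_φ]

lemma resA_apply (F : X.Modules) {W W' : X.Opens} (h : W' ≤ W) (s : SecA A F W) :
    resA A F h s = res F h (show Γ(F, W) from s) := rfl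

lemma resA_refl (F : X.Modules) (W : X.Opens) : resA A F (le_refl W) = LinearMap.id := by
  ext s
  exact res_self F _ _

lemma resA_comp (F : X.Modules) {W W' W'' : X.Opens} (h : W' ≤ W) (h' : W'' ≤ W') :
    resA A F h' ∘ₗ resA A F h = resA A F (h'.trans h) := by
  ext s
  exact res_res F h' h _

/-- `M~` on `Spec A`. -/
noncomputable abbrev Mt (M : ModuleCat.{u} A) : (Spec (CommRingCat.of A)).Modules :=
  tilde (R := CommRingCat.of A) M

variable (X) in
/-- `f^*(M~)`. -/
noncomputable abbrev pM (M : ModuleCat.{u} A) : X.Modules :=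
  (Scheme.Modules.pullback (sm A X)).obj (Mt A M)

/-- the global section of `M~` attached to `m`. -/
noncomputable def topSec (M : ModuleCat.{u} A) (m : M) : Γ(Mt A M, ⊤) :=
  (tilde.toOpen (R := CommRingCat.of A) M ⊤).hom m

/-- `m ↦` the pullback of the global section `m` of `M~`, restricted to `W`. -/
noncomputable def β (M : ModuleCat.{u} A) (W : X.Opens) (m : M) : Γ(pM A X M, W) :=
  unitSec (sm A X) (Mt A M) ⊤ W le_top (topSec A M m)

end Defs

section Beta

variable {X : Scheme.{u}} [X.Over (Spec (CommRingCat.of A))]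

lemma unitSec_add {X Y : Scheme.{u}} (f : X ⟶ Y) (M : Y.Modules) (V : Y.Opens) (U : X.Opens)
    (e : U ≤ f ⁻¹ᵁ V) (σ τ : Γ(M, V)) :
    unitSec f M V U e (σ + τ) = unitSec f M V U e σ + unitSec f M V U e τ := by
  unfold unitSec
  have h : pull f M V (σ + τ) = pull f M V σ + pull f M V τ := QCExact.app_add _ V σ τ
  rw [h]
  exact QCExact.res_add _ e _ _

lemma unitSec_smul {X Y : Scheme.{u}} (f : X ⟶ Y) (M : Y.Modules) (V : Y.Opens) (U : X.Opens)
    (e : U ≤ f ⁻¹ᵁ V) (r : Γ(Y, V)) (σ : Γ(M, V)) :
    unitSec f M V U e (r • σ) = (f.appLE V U e).hom r • unitSec f M V U e σ := by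
  unfold unitSec
  rw [pull_smul, res_smul]
  rfl

lemma topSec_add (M : ModuleCat.{u} A) (m m' : M) :
    topSec A M (m + m') = topSec A M m + topSec A M m' :=
  map_add (tilde.toOpen (R := CommRingCat.of A) M ⊤).hom m m'

lemma topSec_smul (M : ModuleCat.{u} A) (a : A) (m : M) :
    topSec A M (a • m) =
      ((Scheme.ΓSpecIso (CommRingCat.of A)).inv.hom a : Γ(Spec (CommRingCat.of A), ⊤)) •
        topSec A M m := by
  have h := (tilde.toOpen (R := CommRingCat.of A) M ⊤).hom.map_smul a m
  refine h.trans ?_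
  have h2 : (Spec (CommRingCat.of A)).presheaf.map (Opens.leTop (⊤ : (Spec (CommRingCat.of A)).Opens)).op =
      𝟙 _ := by
    rw [show Opens.leTop (⊤ : (Spec (CommRingCat.of A)).Opens) = 𝟙 _ from Subsingleton.elim _ _]
    exact (Spec (CommRingCat.of A)).presheaf.map_id _
  show ((Spec (CommRingCat.of A)).presheaf.map (Opens.leTop ⊤).op)
      ((Scheme.ΓSpecIso (CommRingCat.of A)).inv a) • topSec A M m = _
  rw [h2]
  rfl

lemma topSec_bijective (M : ModuleCat.{u} A) : Function.Bijective (topSec A M) :=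
  (ConcreteCategory.isIso_iff_bijective (tilde.toOpen (R := CommRingCat.of A) M ⊤)).mp
    (tilde.isIso_toOpen_top (R := CommRingCat.of A) (M := M))

lemma β_add (M : ModuleCat.{u} A) (W : X.Opens) (m m' : M) :
    β A M W (m + m') = β A M W m + β A M W m' := by
  unfold β
  rw [topSec_add, unitSec_add]

lemma β_smul (M : ModuleCat.{u} A) (W : X.Opens) (a : A) (m : M) :
    β A M W (a • m) = φ A W a • β A M W m := by
  unfold β
  rw [topSec_smul, unitSec_smul]
  rfl

lemma res_β (M : ModuleCat.{u} A) {W W' : X.Opens} (h : W' ≤ W) (m : M) :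
    res (pM A X M) h (β A M W m) = β A M W' m := by
  unfold β
  rw [res_unitSec (sm A X) (Mt A M) (le_refl ⊤) h le_top le_top, res_self]

lemma β_map {M N : ModuleCat.{u} A} (g : M ⟶ N) (W : X.Opens) (m : M) :
    ((Scheme.Modules.pullback (sm A X)).map (tilde.map (R := CommRingCat.of A) g)).app W
      (β A M W m) = β A N W (g.hom m) := by
  unfold β
  rw [unitSec_app]
  congr 1
  exact ConcreteCategory.congr_hom (tilde.toOpen_map_app (R := CommRingCat.of A) g ⊤) m

end Beta

section Theta

variable {X : Scheme.{u}} [X.Over (Spec (CommRingCat.of A))] (F : X.Modules)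

/-- `s ⊗ m ↦ β(m) ⊗ s` into the sectionwise tensor product. -/
noncomputable def Φ (M : ModuleCat.{u} A) (W : X.Opens) :
    SecA A F W ⊗[A] M →+ PT (pM A X M) F W :=
  TensorProduct.liftAddHom
    (AddMonoidHom.mk' (fun s : SecA A F W => AddMonoidHom.mk' (fun m : M =>
        (((show (CohB1.toPMod (pM A X M)).obj (op W) from β A M W m) ⊗ₜ[Rg X W]
          (show (CohB1.toPMod F).obj (op W) from s)) : PT (pM A X M) F W))
        (fun m m' => by
          show ((show (CohB1.toPMod (pM A X M)).obj (op W) from β A M W (m + m')) ⊗ₜ[Rg X W]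
            (show (CohB1.toPMod F).obj (op W) from s)) = _
          rw [β_add]
          exact add_tmul _ _ _))
      (fun s s' => by
        ext m
        exact tmul_add _ _ _))
    (fun a s m => by
      show ((show (CohB1.toPMod (pM A X M)).obj (op W) from β A M W m) ⊗ₜ[Rg X W]
          (show (CohB1.toPMod F).obj (op W) from (φ A W a • (show Γ(F, W) from s)))) =
        ((show (CohB1.toPMod (pM A X M)).obj (op W) from β A M W (a • m)) ⊗ₜ[Rg X W]
          (show (CohB1.toPMod F).obj (op W) from s))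
      rw [β_smul]
      exact (smul_tmul (toRg W (φ A W a)) _ _).symm)

lemma Φ_tmul (M : ModuleCat.{u} A) (W : X.Opens) (s : SecA A F W) (m : M) :
    Φ A F M W (s ⊗ₜ[A] m) =
      ((show (CohB1.toPMod (pM A X M)).obj (op W) from β A M W m) ⊗ₜ[Rg X W]
        (show (CohB1.toPMod F).obj (op W) from s)) := rfl

/-- the comparison `Γ(W, F) ⊗_A M → Γ(W, f^*(M~) ⊗ F)`. -/
noncomputable def θ (M : ModuleCat.{u} A) (W : X.Opens) :
    SecA A F W ⊗[A] M →+ Γ(CohB1.tensorMod (pM A X M) F, W) :=
  (et (pM A X M) F W).comp (Φ A F M W)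

lemma θ_tmul (M : ModuleCat.{u} A) (W : X.Opens) (s : SecA A F W) (m : M) :
    θ A F M W (s ⊗ₜ[A] m) = tm (pM A X M) F W (β A M W m) (show Γ(F, W) from s) := rfl

lemma res_θ (M : ModuleCat.{u} A) {W W' : X.Opens} (h : W' ≤ W) (t : SecA A F W ⊗[A] M) :
    res (CohB1.tensorMod (pM A X M) F) h (θ A F M W t) =
      θ A F M W' (LinearMap.rTensor M (resA A F h) t) := by
  induction t using TensorProduct.induction_on with
  | zero => simp
  | tmul s m =>
    rw [θ_tmul, LinearMap.rTensor_tmul, θ_tmul, tm_res, res_β]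
    rfl
  | add a b ha hb => rw [map_add, QCExact.res_add, ha, hb, map_add, map_add]

lemma θ_map {M N : ModuleCat.{u} A} (g : M ⟶ N) (W : X.Opens) (t : SecA A F W ⊗[A] M) :
    (tensorMap ((Scheme.Modules.pullback (sm A X)).map (tilde.map (R := CommRingCat.of A) g))
        (𝟙 F)).app W (θ A F M W t) =
      θ A F N W (LinearMap.lTensor (SecA A F W) g.hom t) := by
  induction t using TensorProduct.induction_on with
  | zero => simp
  | tmul s m =>
    rw [θ_tmul, LinearMap.lTensor_tmul, θ_tmul, tensorMap_tm, β_map]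
    rfl
  | add a b ha hb => rw [map_add, QCExact.app_add, ha, hb, map_add, map_add]

end Theta

end Groth.Agent.Lib.Helper13.CBCSec
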