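import Mathlib
import Groth.Agent.Lib.Helper13.CBCSec

/-!
# `θ : Γ(W, F) ⊗_A M → Γ(W, f^*(M~) ⊗ F)` is bijective for affine `W`
-/

set_option autoImplicit false
universe u
open CategoryTheory CategoryTheory.Limits AlgebraicGeometry TopologicalSpace Opposite TensorProduct
open Scheme.Modules

namespace Groth.Agent.Lib.Helper13.CBCSec

open Groth.Agent.Lib.Helper3 Groth.Agent.Lib.Helper3.QCSec Groth.Agent.Lib.Helper3.PbBasic
  Groth.Agent.Lib.Helper3.InvGen Groth.Agent.Lib.Helper3.InvTensor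
  Groth.Agent.Lib.Helper3.InvMonoidal
open Groth.Agent.Lib.Helper17.UnitBC Groth.Agent.Lib.Helper17.TensorSec

section Abstract

variable {A R B : Type u} [CommRing A] [CommRing R] [CommRing B] (ψ : A ≃+* R) (φR : R →+* B)
  {N G M M' : Type u} [AddCommGroup N] [AddCommGroup G] [AddCommGroup M] [AddCommGroup M']
  [Module B N] [Module B G] [Module A N] [Module A M] [Module R M']
  (hN : ∀ (a : A) (n : N), a • n = φR (ψ a) • n)
  (e : M ≃+ M') (hM : ∀ (a : A) (m : M), e (a • m) = ψ a • e m)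
  (β₀ : M' → G) (hbc : IsBCHom φR β₀)
  (T : N ⊗[A] M →+ G ⊗[B] N) (hT : ∀ n m, T (n ⊗ₜ[A] m) = β₀ (e m) ⊗ₜ[B] n)

include hN hM hbc hT in
lemma bijective_of_isBCHom : Function.Bijective T := by
  letI := φR.toAlgebra
  letI : Module R G := Module.compHom G φR
  haveI : IsScalarTower R B G := IsScalarTower.of_algebraMap_smul fun _ _ => rfl
  letI : Module R N := Module.compHom N φR
  haveI : IsScalarTower R B N := IsScalarTower.of_algebraMap_smul fun _ _ => rfl
  obtain ⟨lin, hlin, hb⟩ := hbc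
  have hN' : ∀ (a : A) (n : N), a • n = ψ a • n := fun a n => hN a n
  let r1 := rcHom ψ hN' e hM
  let E : N ⊗[R] M' ≃ₗ[B] G ⊗[B] N :=
    (AlgebraTensorModule.cancelBaseChange R B B N M').symm ≪≫ₗ
      (TensorProduct.congr (LinearEquiv.refl B N) hb.equiv) ≪≫ₗ TensorProduct.comm B N G
  have key : ∀ x, T x = E (r1 x) := by
    intro x
    induction x using TensorProduct.induction_on with
    | zero => simp
    | tmul n m =>
      rw [hT]
      show _ = E (n ⊗ₜ[R] e m)
      show _ = TensorProduct.comm B N G (TensorProduct.congr (LinearEquiv.refl B N) hb.equiv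
        ((AlgebraTensorModule.cancelBaseChange R B B N M').symm (n ⊗ₜ[R] e m)))
      rw [AlgebraTensorModule.cancelBaseChange_symm_tmul, TensorProduct.congr_tmul,
        hb.equiv_tmul, one_smul, TensorProduct.comm_tmul, hlin]
      rfl
    | add a b ha hb' => rw [map_add, ha, hb', map_add, map_add]
  have h1 : Function.Bijective r1 := rcHom_bijective ψ hN' e hM
  have : (T : N ⊗[A] M → G ⊗[B] N) = E ∘ r1 := funext key
  rw [this]
  exact E.bijective.comp h1

end Abstract

variable (A : Type u) [CommRing A]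

section Bij

variable {X : Scheme.{u}} [X.Over (Spec (CommRingCat.of A))] (F : X.Modules)

instance pM_qc (M : ModuleCat.{u} A) : (pM A X M).IsQuasicoherent :=
  Groth.Agent.Lib.Helper17.PbStalk.isQuasicoherent_pullback (sm A X) (Mt A M)

lemma Φ_bijective (M : ModuleCat.{u} A) {W : X.Opens} (hW : IsAffineOpen W) :
    Function.Bijective (Φ A F M W) := by
  have hbc := isBCHom_unitSec_of_isAffine (sm A X) (Mt A M) hW
  let ψ : A ≃+* Γ(Spec (CommRingCat.of A), ⊤) :=
    (Scheme.ΓSpecIso (CommRingCat.of A)).symm.commRingCatIsoToRingEquiv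
  let e : M ≃+ Γ(Mt A M, ⊤) :=
    AddEquiv.ofBijective (AddMonoidHom.mk' (topSec A M) (topSec_add A M)) (topSec_bijective A M)
  exact @bijective_of_isBCHom A (Γ(Spec (CommRingCat.of A), ⊤)) (Rg X W) _ _ _ ψ
    ((sm A X).appLE ⊤ W le_top).hom
    (SecA A F W) (↑((CohB1.toPMod (pM A X M)).obj (op W))) M (Γ(Mt A M, ⊤))
    _ _ _ _ (ModuleCat.isModule ((CohB1.toPMod F).obj (op W)))
    (ModuleCat.isModule ((CohB1.toPMod (pM A X M)).obj (op W))) _ _ _
    (fun a n => rfl) e (fun a m => topSec_smul A M a m)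
    (unitSec (sm A X) (Mt A M) ⊤ W le_top) hbc (Φ A F M W) (fun n m => rfl)

lemma θ_bijective [F.IsQuasicoherent] (M : ModuleCat.{u} A) {W : X.Opens} (hW : IsAffineOpen W) :
    Function.Bijective (θ A F M W) :=
  (et_bijective (pM A X M) F hW).comp (Φ_bijective A F M hW)

end Bij

end Groth.Agent.Lib.Helper13.CBCSec
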