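import Mathlib
import Groth.Prelude.Def_ega3
import Groth.Agent.Lib.Helper13.CBCSec2
import Groth.Agent.Lib.Helper13.CBCCechMap
import Groth.Agent.Lib.Helper13.CechTop
import Groth.Agent.Lib.Lead.KosCechF

/-!
# The Čech complex of `f^*(M~) ⊗ F` is `C ⊗_A M`, for `C` the Čech complex of `F` as a complex of
`A`-modules (finite affine cover with affine intersections), naturally in `M`.
-/

set_option autoImplicit false
universe u
open CategoryTheory CategoryTheory.Limits AlgebraicGeometry TopologicalSpace Opposite TensorProduct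
  MonoidalCategory
open Scheme.Modules

namespace Groth.Agent.Lib.Helper13.CBCCech

open Groth.Agent.Lib.Helper3 Groth.Agent.Lib.Helper3.QCSec Groth.Agent.Lib.Helper3.PbBasic
  Groth.Agent.Lib.Helper3.InvGen Groth.Agent.Lib.Helper3.InvTensor
  Groth.Agent.Lib.Helper3.InvMonoidal
open Groth.Agent.Lib.Helper17.UnitBC Groth.Agent.Lib.Helper17.TensorSec
open Groth.Agent.Lib.Helper13.CBCSec Groth.Agent.Lib.Helper13.CBCCechMap
  Groth.Agent.Lib.Helper13.CechBasic

variable (A : Type u) [CommRing A] {X : Scheme.{u}} [X.Over (Spec (CommRingCat.of A))]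
  (F : X.Modules)

/-- the presheaf of `A`-modules `W ↦ Γ(W, F)`. -/
noncomputable def PA : (X.Opens)ᵒᵖ ⥤ ModuleCat.{u} A where
  obj W := ModuleCat.of A (SecA A F W.unop)
  map g := ModuleCat.ofHom (resA A F (leOfHom g.unop))
  map_id W := by
    ext s
    exact res_self F _ s
  map_comp g h := by
    ext s
    exact (res_res F _ _ s).symm

/-- `f^*(M~) ⊗ F`. -/
noncomputable abbrev TM (M : ModuleCat.{u} A) : X.Modules := CohB1.tensorMod (pM A X M) F

lemma tensorAFunctor_obj (M : ModuleCat.{u} A) : (CohIII.tensorAFunctor A F).obj M = TM A F M := rfl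

lemma tensorAFunctor_map {M N : ModuleCat.{u} A} (g : M ⟶ N) :
    (CohIII.tensorAFunctor A F).map g =
      tensorMap ((Scheme.Modules.pullback (sm A X)).map (tilde.map (R := CommRingCat.of A) g))
        (𝟙 F) := by
  show (DCoh.tensorRightMod F).map
    ((Scheme.Modules.pullback (sm A X)).map (tilde.map (R := CommRingCat.of A) g)) = _
  generalize ((Scheme.Modules.pullback (sm A X)).map (tilde.map (R := CommRingCat.of A) g)) = φ
  unfold tensorMap
  show (CohB1.sheafifyMod X).map _ = (CohB1.sheafifyMod X).map _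
  congr 1

/-- the presheaf of abelian groups `W ↦ Γ(W, F) ⊗_A M`. -/
noncomputable abbrev PMt (M : ModuleCat.{u} A) : (X.Opens)ᵒᵖ ⥤ AddCommGrpCat.{u} :=
  (PA A F ⋙ tensorRight M) ⋙ forget₂ (ModuleCat.{u} A) AddCommGrpCat.{u}

/-- the comparison of presheaves `Γ(W, F) ⊗_A M → Γ(W, f^*(M~) ⊗ F)`. -/
noncomputable def τ (M : ModuleCat.{u} A) : PMt A F M ⟶ (TM A F M).presheaf where
  app W := AddCommGrpCat.ofHom (θ A F M W.unop)
  naturality W W' g := by
    ext t
    exact (res_θ A F M (leOfHom g.unop) t).symm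

lemma τ_app_apply (M : ModuleCat.{u} A) (W : X.Opens) (t : SecA A F W ⊗[A] M) :
    ((τ A F M).app (op W)).hom t = θ A F M W t := rfl

variable {ι : Type u} (U : ι → X.Opens)

/-- the Čech complex of `F` as a complex of `A`-modules. -/
noncomputable abbrev CC : CochainComplex (ModuleCat.{u} A) ℕ := cxA U (PA A F)

section Iso

variable [F.IsQuasicoherent] (hU : ∀ (n : ℕ) (i : Fin (n + 1) → ι), IsAffineOpen (∏ᶜ (U ∘ i)))

include hU in
lemma isIso_cech_τ (M : ModuleCat.{u} A) : IsIso ((cechComplexFunctor U).map (τ A F M)) :=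
  Groth.Agent.Lib.Lead.KosCechF.isIso_cech_map U (τ A F M)
    (fun n i => θ_bijective A F M (hU n i))

end Iso

section Inst

instance presTR (M : ModuleCat.{u} A) (J : Type u) [Finite J] :
    PreservesLimitsOfShape (Discrete J) (tensorRight M) := by
  have : PreservesFiniteProducts (tensorRight M) := Functor.preservesFiniteProductsOfAdditive _
  infer_instance

instance presTR' (M : ModuleCat.{u} A) (J : Type u) [Finite J] :
    PreservesLimitsOfShape (Discrete J) ((tensoringRight (ModuleCat.{u} A)).obj M) :=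
  presTR A M J

end Inst

lemma τ_nat {M N : ModuleCat.{u} A} (g : M ⟶ N) :
    Functor.whiskerRight (Functor.whiskerLeft (PA A F) ((tensoringRight (ModuleCat.{u} A)).map g))
        (forget₂ (ModuleCat.{u} A) AddCommGrpCat.{u}) ≫ τ A F N =
      τ A F M ≫ ((SheafOfModules.toSheaf X.ringCatSheaf).map
        ((CohIII.tensorAFunctor A F).map g)).hom := by
  ext W t
  rw [tensorAFunctor_map]
  exact (θ_map A F g W.unop t).symm

end Groth.Agent.Lib.Helper13.CBCCech
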