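import Mathlib
import Groth.Agent.Lib.Helper13.CBCCech

/-!
# `C ⊗_A M` is the Čech complex of `f^*(M~) ⊗ F`, naturally in `M`
-/

set_option autoImplicit false
universe u
open CategoryTheory CategoryTheory.Limits AlgebraicGeometry TopologicalSpace Opposite TensorProduct
  MonoidalCategory
open Scheme.Modules

namespace Groth.Agent.Lib.Helper13.CBCCech

open Groth.Agent.Lib.Helper13.CBCSec Groth.Agent.Lib.Helper13.CBCCechMap
  Groth.Agent.Lib.Helper13.CechBasic

variable (A : Type u) [CommRing A] {X : Scheme.{u}} [X.Over (Spec (CommRingCat.of A))]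
  (F : X.Modules) {ι : Type u} (U : ι → X.Opens) [Finite ι]

/-- forget to abelian groups, on complexes. -/
noncomputable abbrev FG : CochainComplex (ModuleCat.{u} A) ℕ ⥤ CochainComplex AddCommGrpCat.{u} ℕ :=
  (forget₂ (ModuleCat.{u} A) AddCommGrpCat.{u}).mapHomologicalComplex (ComplexShape.up ℕ)

/-- first step: `C ⊗ M ≅ Č(PA ⊗ M)`. -/
noncomputable def iso1 (M : ModuleCat.{u} A) :
    CohIII.tensorObj (CC A F U) M ≅ cxA U (PA A F ⋙ tensorRight M) :=
  cechMapIso U (PA A F) (tensorRight M)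

/-- second step. -/
noncomputable def iso2 (M : ModuleCat.{u} A) :
    (FG A).obj (cxA U (PA A F ⋙ tensorRight M)) ≅ cx U (PMt A F M) :=
  cechMapIso U (PA A F ⋙ tensorRight M) (forget₂ (ModuleCat.{u} A) AddCommGrpCat.{u})

lemma iso1_nat {M N : ModuleCat.{u} A} (g : M ⟶ N) :
    CohIII.tensorMap (CC A F U) g ≫ (iso1 A F U N).hom =
      (iso1 A F U M).hom ≫ (cechComplexFunctor U).map
        (Functor.whiskerLeft (PA A F) ((tensoringRight (ModuleCat.{u} A)).map g)) :=
  cechMapIso_nat_functor U (PA A F) ((tensoringRight (ModuleCat.{u} A)).map g)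

lemma iso2_nat {M N : ModuleCat.{u} A} (g : M ⟶ N) :
    (FG A).map ((cechComplexFunctor U).map
        (Functor.whiskerLeft (PA A F) ((tensoringRight (ModuleCat.{u} A)).map g))) ≫
      (iso2 A F U N).hom =
    (iso2 A F U M).hom ≫ (cechComplexFunctor U).map
      (Functor.whiskerRight (Functor.whiskerLeft (PA A F)
        ((tensoringRight (ModuleCat.{u} A)).map g))
        (forget₂ (ModuleCat.{u} A) AddCommGrpCat.{u})) :=
  cechMapIso_nat_presheaf U (forget₂ (ModuleCat.{u} A) AddCommGrpCat.{u})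
    (Functor.whiskerLeft (PA A F) ((tensoringRight (ModuleCat.{u} A)).map g))

section EMsec

variable [F.IsQuasicoherent] (hU : ∀ (n : ℕ) (i : Fin (n + 1) → ι), IsAffineOpen (∏ᶜ (U ∘ i)))

/-- third step. -/
noncomputable def iso3 (M : ModuleCat.{u} A) : cx U (PMt A F M) ≅ cx U (TM A F M).presheaf :=
  @asIso _ _ _ _ ((cechComplexFunctor U).map (τ A F M)) (isIso_cech_τ A F U hU M)

lemma iso3_hom (M : ModuleCat.{u} A) :
    (iso3 A F U hU M).hom = (cechComplexFunctor U).map (τ A F M) := rfl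

lemma iso3_nat {M N : ModuleCat.{u} A} (g : M ⟶ N) :
    (cechComplexFunctor U).map
      (Functor.whiskerRight (Functor.whiskerLeft (PA A F)
        ((tensoringRight (ModuleCat.{u} A)).map g))
        (forget₂ (ModuleCat.{u} A) AddCommGrpCat.{u})) ≫ (iso3 A F U hU N).hom =
    (iso3 A F U hU M).hom ≫ (cechComplexFunctor U).map
        ((SheafOfModules.toSheaf X.ringCatSheaf).map ((CohIII.tensorAFunctor A F).map g)).hom := by
  rw [iso3_hom, iso3_hom, ← Functor.map_comp, ← Functor.map_comp]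
  exact congrArg _ (τ_nat A F g)

/-- `C ⊗_A M`, as a complex of abelian groups, is the Čech complex of `f^*(M~) ⊗ F`. -/
noncomputable def EM (M : ModuleCat.{u} A) :
    (FG A).obj (CohIII.tensorObj (CC A F U) M) ≅ cx U (TM A F M).presheaf :=
  (FG A).mapIso (iso1 A F U M) ≪≫ iso2 A F U M ≪≫ iso3 A F U hU M

lemma EM_hom (M : ModuleCat.{u} A) :
    (EM A F U hU M).hom =
      (FG A).map (iso1 A F U M).hom ≫ (iso2 A F U M).hom ≫ (iso3 A F U hU M).hom := rfl

lemma EM_nat {M N : ModuleCat.{u} A} (g : M ⟶ N) :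
    (FG A).map (CohIII.tensorMap (CC A F U) g) ≫ (EM A F U hU N).hom =
      (EM A F U hU M).hom ≫ (cechComplexFunctor U).map
        ((SheafOfModules.toSheaf X.ringCatSheaf).map ((CohIII.tensorAFunctor A F).map g)).hom := by
  rw [EM_hom, EM_hom, ← Category.assoc, ← Functor.map_comp, iso1_nat, Functor.map_comp,
    Category.assoc, ← Category.assoc ((FG A).map ((cechComplexFunctor U).map _)), iso2_nat,
    Category.assoc, iso3_nat, Category.assoc, Category.assoc]
  rfl

end EMsec

end Groth.Agent.Lib.Helper13.CBCCech
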