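import Mathlib
import Groth.Agent.Lib.Helper13.CBCCechMap

/-!
# Re-indexing a Čech complex along a product-preserving functor into a thin category

For `Φ : D ⥤ D'` with `D'` thin and `Φ(∏ Y_i) = ∏ Φ(Y_i)` (given by morphisms in the reverse
direction), the Čech complex of `P'` for the family `Φ ∘ Y` is the Čech complex of `Φ.op ⋙ P'` for
the family `Y`.
-/

set_option autoImplicit false
universe w v u' u'' u'''
open CategoryTheory CategoryTheory.Limits Opposite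

namespace Groth.Agent.Lib.Helper13.CBCReindex

open Groth.Agent.Lib.Helper13.CechBasic Groth.Agent.Lib.Helper13.CBCCechMap

variable {D : Type u'} [Category.{w} D] [HasFiniteProducts D] {D' : Type u''} [Category.{w} D']
  [HasFiniteProducts D'] [Quiver.IsThin D'] (Φ : D ⥤ D') {ι : Type w} (Y : ι → D)
  {A : Type u'''} [Category.{v} A] [Preadditive A] [HasProducts.{w} A]
  (P' : D'ᵒᵖ ⥤ A)
  (c : ∀ (n : ℕ) (i : Fin (n + 1) → ι), ∏ᶜ ((Φ.obj ∘ Y) ∘ i) ⟶ Φ.obj (∏ᶜ (Y ∘ i)))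

/-- the forward comparison morphisms. -/
noncomputable def cmpHom (n : ℕ) (i : Fin (n + 1) → ι) :
    Φ.obj (∏ᶜ (Y ∘ i)) ⟶ ∏ᶜ ((Φ.obj ∘ Y) ∘ i) :=
  Pi.lift (fun a => Φ.map (Pi.π (Y ∘ i) a))

/-- the forward map in degree `n`. -/
noncomputable def reF (n : ℕ) : (cxA (Φ.obj ∘ Y) P').X n ⟶ (cxA Y (Φ.op ⋙ P')).X n :=
  Pi.lift (fun i : Fin (n + 1) → ι => projA (Φ.obj ∘ Y) P' n i ≫ P'.map (cmpHom Φ Y n i).op)

/-- the backward map in degree `n`. -/
noncomputable def reG (n : ℕ) : (cxA Y (Φ.op ⋙ P')).X n ⟶ (cxA (Φ.obj ∘ Y) P').X n :=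
  Pi.lift (fun i : Fin (n + 1) → ι => projA Y (Φ.op ⋙ P') n i ≫ P'.map (c n i).op)

lemma reF_proj (n : ℕ) (i : Fin (n + 1) → ι) :
    reF Φ Y P' n ≫ projA Y (Φ.op ⋙ P') n i =
      projA (Φ.obj ∘ Y) P' n i ≫ P'.map (cmpHom Φ Y n i).op :=
  Pi.lift_π _ _

lemma reG_proj (n : ℕ) (i : Fin (n + 1) → ι) :
    reG Φ Y P' c n ≫ projA (Φ.obj ∘ Y) P' n i =
      projA Y (Φ.op ⋙ P') n i ≫ P'.map (c n i).op :=
  Pi.lift_π _ _

lemma reF_reG (n : ℕ) : reF Φ Y P' n ≫ reG Φ Y P' c n = 𝟙 _ := by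
  apply hom_ext_projA
  intro i
  rw [Category.assoc, reG_proj, ← Category.assoc, reF_proj, Category.assoc, Category.id_comp]
  have : P'.map (cmpHom Φ Y n i).op ≫ P'.map (c n i).op = 𝟙 _ := by
    rw [← P'.map_comp, ← op_comp, Subsingleton.elim (c n i ≫ cmpHom Φ Y n i) (𝟙 _), op_id,
      P'.map_id]
  rw [this, Category.comp_id]

lemma reG_reF (n : ℕ) : reG Φ Y P' c n ≫ reF Φ Y P' n = 𝟙 _ := by
  apply hom_ext_projA
  intro i
  rw [Category.assoc, reF_proj, ← Category.assoc, reG_proj, Category.assoc, Category.id_comp]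
  have : P'.map (c n i).op ≫ P'.map (cmpHom Φ Y n i).op = 𝟙 _ := by
    rw [← P'.map_comp, ← op_comp, Subsingleton.elim (cmpHom Φ Y n i ≫ c n i) (𝟙 _), op_id,
      P'.map_id]
  rw [this]
  exact Category.comp_id _

lemma reF_coface (n : ℕ) (k : Fin (n + 2)) :
    reF Φ Y P' n ≫ cofaceA Y (Φ.op ⋙ P') n k =
      cofaceA (Φ.obj ∘ Y) P' n k ≫ reF Φ Y P' (n + 1) := by
  apply hom_ext_projA
  intro i
  rw [Category.assoc, Category.assoc, cofaceA_projA, reF_proj, ← Category.assoc, reF_proj,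
    ← Category.assoc (cofaceA (Φ.obj ∘ Y) P' n k), cofaceA_projA, Category.assoc, Category.assoc]
  congr 1
  show P'.map (cmpHom Φ Y n (i ∘ k.succAbove)).op ≫ P'.map (Φ.map (face Y i k)).op =
    P'.map (face (Φ.obj ∘ Y) i k).op ≫ P'.map (cmpHom Φ Y (n + 1) i).op
  rw [← P'.map_comp, ← P'.map_comp, ← op_comp, ← op_comp]
  congr 2
  exact Subsingleton.elim _ _

/-- the re-indexing isomorphism of Čech complexes. -/
noncomputable def reindexIso : cxA (Φ.obj ∘ Y) P' ≅ cxA Y (Φ.op ⋙ P') :=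
  HomologicalComplex.Hom.isoOfComponents
    (fun n => ⟨reF Φ Y P' n, reG Φ Y P' c n, reF_reG Φ Y P' c n, reG_reF Φ Y P' c n⟩) (by
    rintro n _ rfl
    show reF Φ Y P' n ≫ (cxA Y (Φ.op ⋙ P')).d n (n + 1) =
      (cxA (Φ.obj ∘ Y) P').d n (n + 1) ≫ reF Φ Y P' (n + 1)
    rw [dA_eq, dA_eq, Preadditive.comp_sum, Preadditive.sum_comp]
    refine Finset.sum_congr rfl (fun k _ => ?_)
    rw [Preadditive.comp_zsmul, Preadditive.zsmul_comp, reF_coface])

lemma reindexIso_hom_f (n : ℕ) : (reindexIso Φ Y P' c).hom.f n = reF Φ Y P' n := rfl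

variable {P'} in
/-- naturality in the presheaf. -/
lemma reindexIso_nat {P'' : D'ᵒᵖ ⥤ A} (ψ : P' ⟶ P'') :
    (cechComplexFunctor (Φ.obj ∘ Y)).map ψ ≫ (reindexIso Φ Y P'' c).hom =
      (reindexIso Φ Y P' c).hom ≫ (cechComplexFunctor Y).map (Functor.whiskerLeft Φ.op ψ) := by
  ext n : 1
  show ((cechComplexFunctor (Φ.obj ∘ Y)).map ψ).f n ≫ reF Φ Y P'' n =
    reF Φ Y P' n ≫ ((cechComplexFunctor Y).map (Functor.whiskerLeft Φ.op ψ)).f n
  apply hom_ext_projA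
  intro i
  rw [Category.assoc, Category.assoc, reF_proj, map_projA, ← Category.assoc, map_projA,
    ← Category.assoc, reF_proj, Category.assoc, Category.assoc]
  congr 1
  exact (ψ.naturality _).symm

end Groth.Agent.Lib.Helper13.CBCReindex
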