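import Mathlib
import Groth.Agent.Lib.Helper13.CechLES

/-!
# Degree zero Čech cohomology: `P(B) ≅ Ȟ⁰(Y, P)` under the gluing condition
-/
set_option autoImplicit false
universe w u'
open CategoryTheory CategoryTheory.Limits Opposite

noncomputable section

namespace Groth.Agent.Lib.Helper13.CechH0

open CechBasic CechLow CechLES

variable {D : Type u'} [Category.{w} D] [HasFiniteProducts D] {κ : Type w} {Y : κ → D}
  {B : D} (A : Aug Y B) (P : Dᵒᵖ ⥤ AddCommGrpCat.{w})

/-- the augmentation `P(B) ⟶ Č⁰(Y, P)` as a morphism. -/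
def ε : P.obj (op B) ⟶ (cx Y P).X 0 :=
  Pi.lift (fun i : Fin 1 → κ => P.map (Pi.π (Y ∘ i) 0 ≫ A.b (i 0)).op)

lemma ε_apply (s : P.obj (op B)) : (ε A P).hom s = εfun P A s := by
  apply ext_elem
  intro i
  have h1 : (proj Y P 0 i).hom ((ε A P).hom s) = (P.map (Pi.π (Y ∘ i) 0 ≫ A.b (i 0)).op).hom s :=
    ConcreteCategory.congr_hom
      (Pi.lift_π (fun i : Fin 1 → κ => P.map (Pi.π (Y ∘ i) 0 ≫ A.b (i 0)).op) i) s
  rw [h1, proj_zero, at0_εfun, map_map_apply]

@[reassoc (attr := simp)]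
lemma ε_d : ε A P ≫ (cx Y P).d 0 1 = 0 := by
  apply AddCommGrpCat.hom_ext
  ext s
  change ((cx Y P).d 0 1).hom ((ε A P).hom s) = 0
  rw [ε_apply, d_εfun]

variable {P} in
@[reassoc]
lemma ε_naturality {P' : Dᵒᵖ ⥤ AddCommGrpCat.{w}} (τ : P ⟶ P') :
    ε A P ≫ ((cechComplexFunctor Y).map τ).f 0 = τ.app (op B) ≫ ε A P' := by
  apply AddCommGrpCat.hom_ext
  ext s
  change (((cechComplexFunctor Y).map τ).f 0).hom ((ε A P).hom s) =
    (ε A P').hom ((τ.app (op B)).hom s)
  rw [ε_apply, ε_apply, map_εfun]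

/-- the augmentation as a map to the `0`-cycles. -/
def toCycles : P.obj (op B) ⟶ (cx Y P).cycles 0 :=
  (cx Y P).liftCycles (ε A P) 1 (by simp) (ε_d A P)

@[reassoc (attr := simp)]
lemma toCycles_i : toCycles A P ≫ (cx Y P).iCycles 0 = ε A P :=
  (cx Y P).liftCycles_i _ _ _ _

/-- the canonical map `P(B) ⟶ Ȟ⁰(Y, P)`. -/
def secToH0 : P.obj (op B) ⟶ (cx Y P).homology 0 :=
  toCycles A P ≫ (cx Y P).homologyπ 0

variable {P} in
@[reassoc]
lemma secToH0_naturality {P' : Dᵒᵖ ⥤ AddCommGrpCat.{w}} (τ : P ⟶ P') :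
    secToH0 A P ≫ HomologicalComplex.homologyMap ((cechComplexFunctor Y).map τ) 0 =
      τ.app (op B) ≫ secToH0 A P' := by
  have h : toCycles A P ≫ HomologicalComplex.cyclesMap ((cechComplexFunctor Y).map τ) 0 =
      τ.app (op B) ≫ toCycles A P' := by
    rw [← cancel_mono ((cx Y P').iCycles 0), Category.assoc, Category.assoc,
      HomologicalComplex.cyclesMap_i, toCycles_i_assoc, toCycles_i, ε_naturality]
  rw [secToH0, secToH0, Category.assoc, HomologicalComplex.homologyπ_naturality, reassoc_of% h]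

variable {P}

lemma isIso_toCycles (hP : IsGluing P A) : IsIso (toCycles A P) := by
  rw [ConcreteCategory.isIso_iff_bijective]
  have hmono : Function.Injective ((cx Y P).iCycles 0).hom :=
    (AddCommGrpCat.mono_iff_injective _).1 inferInstance
  have hi : ∀ s, ((cx Y P).iCycles 0).hom ((toCycles A P).hom s) = εfun P A s := fun s => by
    rw [← ε_apply]
    exact ConcreteCategory.congr_hom (toCycles_i A P) s
  constructor
  · intro s s' h
    apply εfun_injective P A hP
    rw [← hi, ← hi]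
    exact congrArg _ h
  · intro z
    obtain ⟨s, hs⟩ := exists_εfun_eq P A hP (((cx Y P).iCycles 0).hom z)
      (ConcreteCategory.congr_hom ((cx Y P).iCycles_d 0 1) z)
    refine ⟨s, hmono ?_⟩
    rw [← hs]
    exact hi s

lemma isIso_secToH0 (hP : IsGluing P A) : IsIso (secToH0 A P) := by
  have := isIso_toCycles A hP
  exact IsIso.comp_isIso

end Groth.Agent.Lib.Helper13.CechH0
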