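import Mathlib

/-!
# Dimension shifting for `Ext` along `0 → F → I → Q → 0` with `I` injective (abstract)
-/
set_option autoImplicit false
universe w v u
open CategoryTheory CategoryTheory.Limits CategoryTheory.Abelian

noncomputable section

namespace Groth.Agent.Lib.Helper13.ExtShift

variable {𝒜 : Type u} [Category.{v} 𝒜] [Abelian 𝒜] [HasExt.{w} 𝒜]
  {S : ShortComplex 𝒜} (hS : S.ShortExact) (T : 𝒜)

/-- the connecting homomorphism. -/
abbrev δ (n m : ℕ) (h : n + 1 = m) : Ext T S.X₃ n →+ Ext T S.X₁ m := hS.extClass.postcomp T h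

lemma δ_apply (n m : ℕ) (h : n + 1 = m) (x : Ext T S.X₃ n) :
    δ hS T n m h x = x.comp hS.extClass h := rfl

lemma δ₀_eq_zero_iff (x : Ext T S.X₃ 0) :
    δ hS T 0 1 rfl x = 0 ↔ ∃ y : Ext T S.X₂ 0, y.comp (Ext.mk₀ S.g) (add_zero 0) = x := by
  constructor
  · intro hx
    exact Ext.covariant_sequence_exact₃ T hS x rfl hx
  · rintro ⟨y, rfl⟩
    rw [δ_apply, Ext.comp_assoc_of_second_deg_zero, hS.comp_extClass, Ext.comp_zero]

include hS in
lemma exists_lift (h : Subsingleton (Ext T S.X₁ 1)) (φ : T ⟶ S.X₃) :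
    ∃ ψ : T ⟶ S.X₂, ψ ≫ S.g = φ := by
  obtain ⟨y, hy⟩ := (δ₀_eq_zero_iff hS T (Ext.mk₀ φ)).1 (Subsingleton.elim _ _)
  obtain ⟨ψ, rfl⟩ := (Ext.mk₀_bijective T S.X₂).surjective y
  rw [Ext.mk₀_comp_mk₀] at hy
  exact ⟨ψ, (Ext.mk₀_bijective T S.X₃).injective hy⟩

variable [Injective S.X₂]

lemma δ_surjective (n m : ℕ) (h : n + 1 = m) : Function.Surjective (δ hS T n m h) := by
  intro y
  subst h
  exact Ext.covariant_sequence_exact₁ T hS y (Ext.eq_zero_of_injective _) rfl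

lemma δ_injective (n m : ℕ) (h : n + 1 + 1 = m) : Function.Injective (δ hS T (n + 1) m h) := by
  rw [injective_iff_map_eq_zero]
  intro x hx
  obtain ⟨x₂, rfl⟩ := Ext.covariant_sequence_exact₃ T hS x h hx
  rw [Ext.eq_zero_of_injective x₂, Ext.zero_comp]

/-- dimension shifting `Ext^{n+1}(T, Q) ≃ Ext^{n+2}(T, F)`. -/
def δEquiv (n : ℕ) : Ext T S.X₃ (n + 1) ≃+ Ext T S.X₁ (n + 2) :=
  AddEquiv.ofBijective (δ hS T (n + 1) (n + 2) rfl)
    ⟨δ_injective hS T n (n + 2) rfl, δ_surjective hS T (n + 1) (n + 2) rfl⟩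

include hS in
lemma subsingleton_X₃ (q : ℕ) (h : Subsingleton (Ext T S.X₁ (q + 2))) :
    Subsingleton (Ext T S.X₃ (q + 1)) :=
  (δEquiv hS T q).toEquiv.subsingleton

end Groth.Agent.Lib.Helper13.ExtShift

namespace Groth.Agent.Lib.Helper13.ExtShift

/-- transfer of cokernels along an isomorphism compatible with the kernels. -/
def cokerTransfer {A₃ A₁ B₃ B₁ : Type*} [AddCommGroup A₃] [AddCommGroup A₁] [AddCommGroup B₃]
    [AddCommGroup B₁] (π : A₃ →+ A₁) (hπ : Function.Surjective π) (ρ : B₃ →+ B₁)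
    (hρ : Function.Surjective ρ) (e₃ : A₃ ≃+ B₃) (h : ∀ x, π x = 0 ↔ ρ (e₃ x) = 0) :
    A₁ ≃+ B₁ :=
  (QuotientAddGroup.quotientKerEquivOfSurjective π hπ).symm.trans
    ((QuotientAddGroup.congr π.ker ρ.ker e₃ (by
      ext y
      simp only [AddSubgroup.mem_map, AddMonoidHom.mem_ker]
      constructor
      · rintro ⟨x, hx, rfl⟩
        exact (h x).1 hx
      · intro hy
        refine ⟨e₃.symm y, (h _).2 ?_, by simp⟩
        simpa using hy)).trans
      (QuotientAddGroup.quotientKerEquivOfSurjective ρ hρ))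

end Groth.Agent.Lib.Helper13.ExtShift
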