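import Mathlib
import Groth.Prelude
import Groth.Agent.Lib.Helper13.CechSheaf
import Groth.Agent.Lib.Helper13.CechH0
import Groth.Agent.Lib.Helper13.ExtShift

/-!
# Leray's theorem: Čech cohomology of an acyclic cover computes cohomology (generic form)

`(C, J)` is a small site, `Φ : D ⥤ C` a functor from a small category with finite products,
`Y : κ → D` a family with an augmentation `A : Aug Y B`.  Assuming that the presheaves
`Φ.op ⋙ G.obj` satisfy gluing for `A` and that injective sheaves are Čech acyclic (`Ctx`),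
for a sheaf `G` with `H^{q+1}(Φ(Y_{i₀} × ⋯ × Y_{iₙ}), G) = 0` we get
`Ȟ^p(Y, G) ≃+ H^p(Φ B, G)`.
-/
set_option autoImplicit false
universe u
open CategoryTheory CategoryTheory.Limits Opposite CategoryTheory.Abelian

noncomputable section

namespace Groth.Agent.Lib.Helper13.CechLeray

open CechBasic CechLow CechSheaf CechLES CechH0

variable {C : Type u} [SmallCategory C] (J : GrothendieckTopology C)
  {D : Type u} [SmallCategory D] [HasFiniteProducts D] (Φ : D ⥤ C) {κ : Type u} (Y : κ → D)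
  {B : D} (A : Aug Y B)

/-- the presheaf on `D` attached to a sheaf on `C`. -/
abbrev pre (G : Sheaf J AddCommGrpCat.{u}) : Dᵒᵖ ⥤ AddCommGrpCat.{u} := Φ.op ⋙ G.obj

/-- the short complex of presheaves on `D` attached to a short complex of sheaves. -/
abbrev preSC (S : ShortComplex (Sheaf J AddCommGrpCat.{u})) :
    ShortComplex (Dᵒᵖ ⥤ AddCommGrpCat.{u}) :=
  (S.map (sheafToPresheaf J AddCommGrpCat.{u})).map
    ((Functor.whiskeringLeft _ _ AddCommGrpCat.{u}).obj Φ.op)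

/-- the hypotheses on the situation. -/
structure Ctx : Prop where
  glue : ∀ G : Sheaf J AddCommGrpCat.{u}, IsGluing (pre J Φ G) A
  inj : ∀ (I : Sheaf J AddCommGrpCat.{u}), Injective I → ∀ p : ℕ,
    IsZero ((cx Y (pre J Φ I)).homology (p + 1))

/-- the Leray condition. -/
def IsLeray (G : Sheaf J AddCommGrpCat.{u}) : Prop :=
  ∀ (n : ℕ) (a : Fin (n + 1) → κ) (q : ℕ),
    Subsingleton (Ext (CohCx.freeSheaf J (Φ.obj (∏ᶜ (Y ∘ a)))) G (q + 1))

variable {J Φ Y}

lemma sectionwiseExact {S : ShortComplex (Sheaf J AddCommGrpCat.{u})} (hS : S.ShortExact)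
    (hL : IsLeray J Φ Y S.X₁) : SectionwiseExact Y (preSC J Φ S) where
  inj _ i x hx := sections_injective hS (Φ.obj (∏ᶜ (Y ∘ i))) x hx
  ex _ i x hx := sections_exact hS (Φ.obj (∏ᶜ (Y ∘ i))) x hx
  surj n i z := by
    obtain ⟨ψ, hψ⟩ := ExtShift.exists_lift hS (CohCx.freeSheaf J (Φ.obj (∏ᶜ (Y ∘ i)))) (hL n i 0)
      (CohFree.ofSect J _ S.X₃ z)
    refine ⟨CohFree.evalGen J _ S.X₂ ψ, ?_⟩
    have h : CohFree.evalGen J _ S.X₃ (ψ ≫ S.g) = z := by rw [hψ, CohFree.evalGen_ofSect]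
    exact h

lemma isLeray_X₃ {S : ShortComplex (Sheaf J AddCommGrpCat.{u})} (hS : S.ShortExact)
    [Injective S.X₂] (hL : IsLeray J Φ Y S.X₁) : IsLeray J Φ Y S.X₃ :=
  fun n a q => ExtShift.subsingleton_X₃ hS _ q (hL n a (q + 1))

variable {A} (ctx : Ctx J Φ Y A)
include ctx

/-- sections over `Φ B` are the degree zero Čech cohomology. -/
def secEquiv (G : Sheaf J AddCommGrpCat.{u}) :
    G.obj.obj (op (Φ.obj B)) ≃+ (cx Y (pre J Φ G)).homology 0 :=
  have := isIso_secToH0 A (ctx.glue G)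
  (asIso (secToH0 A (pre J Φ G))).addCommGroupIsoToAddEquiv

lemma secEquiv_naturality {G G' : Sheaf J AddCommGrpCat.{u}} (ψ : G ⟶ G')
    (s : G.obj.obj (op (Φ.obj B))) :
    secEquiv ctx G' ((ψ.hom.app (op (Φ.obj B))).hom s) =
      (HomologicalComplex.homologyMap ((cechComplexFunctor Y).map
        (Functor.whiskerLeft Φ.op ψ.hom)) 0).hom (secEquiv ctx G s) :=
  (ConcreteCategory.congr_hom (secToH0_naturality A (Functor.whiskerLeft Φ.op ψ.hom)) s).symm

omit ctx in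
lemma sectH0_naturality {G G' : Sheaf J AddCommGrpCat.{u}} (ψ : G ⟶ G') (U : C)
    (s : G.obj.obj (op U)) :
    CechEdge.sectH0 J U G' ((ψ.hom.app (op U)).hom s) =
      (CechEdge.sectH0 J U G s).comp (Ext.mk₀ ψ) (add_zero 0) := by
  have h1 : ∀ (F : Sheaf J AddCommGrpCat.{u}) (t : F.obj.obj (op U)),
      CechEdge.sectH0 J U F t = Ext.mk₀ (CohFree.ofSect J U F t) := fun F t => rfl
  rw [h1, h1, Ext.mk₀_comp_mk₀]
  congr 1
  apply (CohFree.homEquivSect J U G').injective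
  rw [CohFree.homEquivSect_apply, CohFree.homEquivSect_apply, CohFree.evalGen_ofSect]
  have h2 : CohFree.evalGen J U G' (CohFree.ofSect J U G s ≫ ψ) =
      (ψ.hom.app (op U)).hom (CohFree.evalGen J U G (CohFree.ofSect J U G s)) := rfl
  rw [h2, CohFree.evalGen_ofSect]

/-- degree zero. -/
def h0Equiv (G : Sheaf J AddCommGrpCat.{u}) :
    (cx Y (pre J Φ G)).homology 0 ≃+ Ext (CohCx.freeSheaf J (Φ.obj B)) G 0 :=
  (secEquiv ctx G).symm.trans (CechEdge.sectH0 J (Φ.obj B) G)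

lemma h0Equiv_naturality {G G' : Sheaf J AddCommGrpCat.{u}} (ψ : G ⟶ G')
    (y : (cx Y (pre J Φ G)).homology 0) :
    h0Equiv ctx G' ((HomologicalComplex.homologyMap ((cechComplexFunctor Y).map
        (Functor.whiskerLeft Φ.op ψ.hom)) 0).hom y) =
      (h0Equiv ctx G y).comp (Ext.mk₀ ψ) (add_zero 0) := by
  obtain ⟨s, rfl⟩ := (secEquiv ctx G).surjective y
  rw [← secEquiv_naturality]
  change CechEdge.sectH0 J (Φ.obj B) G' ((secEquiv ctx G').symm (secEquiv ctx G' _)) =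
    (CechEdge.sectH0 J (Φ.obj B) G ((secEquiv ctx G).symm (secEquiv ctx G s))).comp _ _
  rw [AddEquiv.symm_apply_apply, AddEquiv.symm_apply_apply, sectH0_naturality]

/-- degree one. -/
def h1Equiv {S : ShortComplex (Sheaf J AddCommGrpCat.{u})} (hS : S.ShortExact) [Injective S.X₂]
    (hL : IsLeray J Φ Y S.X₁) :
    (cx Y (pre J Φ S.X₁)).homology 1 ≃+ Ext (CohCx.freeSheaf J (Φ.obj B)) S.X₁ 1 :=
  let hSC := cechSC_shortExact (sectionwiseExact hS hL)
  ExtShift.cokerTransfer (hSC.δ 0 1 rfl).hom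
    ((AddCommGrpCat.epi_iff_surjective _).1 (hSC.epi_δ 0 1 rfl (ctx.inj S.X₂ inferInstance 0)))
    (ExtShift.δ hS (CohCx.freeSheaf J (Φ.obj B)) 0 1 rfl)
    (ExtShift.δ_surjective hS _ 0 1 rfl) (h0Equiv ctx S.X₃) (by
      intro x
      constructor
      · intro hx
        have hex := hSC.homology_exact₃ 0 1 rfl
        rw [ShortComplex.ab_exact_iff] at hex
        obtain ⟨y, rfl⟩ := hex x hx
        apply (ExtShift.δ₀_eq_zero_iff hS _ _).2
        exact ⟨h0Equiv ctx S.X₂ y, (h0Equiv_naturality ctx S.g y).symm⟩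
      · intro hx
        obtain ⟨y', hy'⟩ := (ExtShift.δ₀_eq_zero_iff hS _ _).1 hx
        obtain ⟨y, rfl⟩ := (h0Equiv ctx S.X₂).surjective y'
        rw [← h0Equiv_naturality] at hy'
        have hxy := (h0Equiv ctx S.X₃).injective hy'
        rw [← hxy]
        exact ConcreteCategory.congr_hom (hSC.comp_δ 0 1 rfl) y)

/-- the inductive step. -/
def stepEquiv {S : ShortComplex (Sheaf J AddCommGrpCat.{u})} (hS : S.ShortExact) [Injective S.X₂]
    (hL : IsLeray J Φ Y S.X₁) (p : ℕ)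
    (e : (cx Y (pre J Φ S.X₃)).homology (p + 1) ≃+
      Ext (CohCx.freeSheaf J (Φ.obj B)) S.X₃ (p + 1)) :
    (cx Y (pre J Φ S.X₁)).homology (p + 2) ≃+ Ext (CohCx.freeSheaf J (Φ.obj B)) S.X₁ (p + 2) :=
  let hSC := cechSC_shortExact (sectionwiseExact hS hL)
  ((hSC.δIso (p + 1) (p + 2) rfl (ctx.inj S.X₂ inferInstance p)
    (ctx.inj S.X₂ inferInstance (p + 1))).addCommGroupIsoToAddEquiv.symm.trans e).trans
    (ExtShift.δEquiv hS _ p)

omit ctx in
lemma exists_ses [EnoughInjectives (Sheaf J AddCommGrpCat.{u})] (G : Sheaf J AddCommGrpCat.{u}) :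
    ∃ (S : ShortComplex (Sheaf J AddCommGrpCat.{u})) (_ : S.ShortExact) (_ : Injective S.X₂),
      S.X₁ = G :=
  ⟨ShortComplex.mk _ _ (cokernel.condition (Injective.ι G)),
    { exact := ShortComplex.exact_of_g_is_cokernel _ (cokernelIsCokernel _) },
    inferInstanceAs (Injective (Injective.under G)), rfl⟩

/-- **Leray's theorem** (generic form). -/
theorem leray [EnoughInjectives (Sheaf J AddCommGrpCat.{u})] (p : ℕ) :
    ∀ (G : Sheaf J AddCommGrpCat.{u}), IsLeray J Φ Y G →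
      Nonempty ((cx Y (pre J Φ G)).homology p ≃+ Ext (CohCx.freeSheaf J (Φ.obj B)) G p) := by
  suffices h : (∀ (G : Sheaf J AddCommGrpCat.{u}), IsLeray J Φ Y G →
      Nonempty ((cx Y (pre J Φ G)).homology p ≃+ Ext (CohCx.freeSheaf J (Φ.obj B)) G p)) ∧
      (∀ (G : Sheaf J AddCommGrpCat.{u}), IsLeray J Φ Y G →
      Nonempty ((cx Y (pre J Φ G)).homology (p + 1) ≃+
        Ext (CohCx.freeSheaf J (Φ.obj B)) G (p + 1))) from h.1
  induction p with
  | zero =>
    refine ⟨fun G _ => ⟨h0Equiv ctx G⟩, fun G hL => ?_⟩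
    obtain ⟨S, hS, hI, rfl⟩ := exists_ses G
    exact ⟨h1Equiv ctx hS hL⟩
  | succ p ih =>
    refine ⟨ih.2, fun G hL => ?_⟩
    obtain ⟨S, hS, hI, rfl⟩ := exists_ses G
    obtain ⟨e⟩ := ih.2 S.X₃ (isLeray_X₃ hS hL)
    exact ⟨stepEquiv ctx hS hL p e⟩

end Groth.Agent.Lib.Helper13.CechLeray
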