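import Mathlib
import Groth.Prelude
import Groth.Agent.Lib.Helper13.CechSheaf

set_option autoImplicit false
universe u w u'
open CategoryTheory CategoryTheory.Limits Opposite TopologicalSpace

noncomputable section

namespace Groth.Agent.Lib.Helper13.CechSite

open CechBasic CechLow CechSheaf

section Pair

variable {D : Type u'} [Category.{w} D] [HasFiniteProducts D] {κ : Type w} (Y : κ → D)

/-- the morphism to a binary iterated product determined by its two components. -/
def pairLift (i : Fin 2 → κ) {Z : D} (f0 : Z ⟶ Y (i 0)) (f1 : Z ⟶ Y (i 1)) : Z ⟶ ∏ᶜ (Y ∘ i) :=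
  Pi.lift (fun a => Fin.cases (motive := fun a => Z ⟶ Y (i a)) f0
    (fun a' => Fin.cases (motive := fun a' : Fin 1 => Z ⟶ Y (i a'.succ)) f1
      (fun a'' => a''.elim0) a') a)

@[reassoc (attr := simp)]
lemma pairLift_π₀ (i : Fin 2 → κ) {Z : D} (f0 : Z ⟶ Y (i 0)) (f1 : Z ⟶ Y (i 1)) :
    pairLift Y i f0 f1 ≫ Pi.π (Y ∘ i) 0 = f0 :=
  Pi.lift_π _ _

@[reassoc (attr := simp)]
lemma pairLift_π₁ (i : Fin 2 → κ) {Z : D} (f0 : Z ⟶ Y (i 0)) (f1 : Z ⟶ Y (i 1)) :
    pairLift Y i f0 f1 ≫ Pi.π (Y ∘ i) 1 = f1 :=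
  Pi.lift_π _ _

end Pair

section Site

variable {C : Type u} [SmallCategory C] [HasPullbacks C] {J : GrothendieckTopology C}
  {U : C} {ι : Type u} (Y : ι → Over U)

/-- the augmentation of a family of objects over `U` towards the terminal object of `C/U`. -/
def siteAug : Aug Y (Over.mk (𝟙 U)) where
  b j := Over.homMk (Y j).hom
  compat _ := Over.mkIdTerminal.hom_ext _ _

variable (hY : Sieve.ofArrows (fun i => (Y i).left) (fun i => (Y i).hom) ∈ J U)
include hY

lemma isGluing_site (G : Sheaf J AddCommGrpCat.{u}) :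
    IsGluing ((Over.forget U).op ⋙ G.obj) (siteAug Y) := by
  have hG : Presieve.IsSheaf J (G.obj ⋙ forget AddCommGrpCat.{u}) :=
    (isSheaf_iff_isSheaf_of_type J _).1
      ((Presheaf.isSheaf_iff_isSheaf_forget J G.obj (forget AddCommGrpCat.{u})).1 G.2)
  have h1 : (Presieve.ofArrows (fun i => (Y i).left) (fun i => (Y i).hom)).IsSheafFor
      (G.obj ⋙ forget AddCommGrpCat.{u}) :=
    (Presieve.isSheafFor_iff_generate _).2 (hG _ hY)
  rw [Presieve.isSheafFor_arrows_iff] at h1
  constructor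
  · intro s s' h
    have hc : Presieve.Arrows.Compatible (G.obj ⋙ forget AddCommGrpCat.{u})
        (fun i => (Y i).hom) (fun j => (G.obj.map (Y j).hom.op).hom s) := by
      intro i j Z gi gj hij
      change (G.obj.map gi.op).hom ((G.obj.map (Y i).hom.op).hom s) =
        (G.obj.map gj.op).hom ((G.obj.map (Y j).hom.op).hom s)
      rw [map_map_apply, map_map_apply, hij]
    obtain ⟨t, -, ht⟩ := h1 _ hc
    rw [ht s (fun _ => rfl), ht s' (fun j => (h j).symm)]
  · intro t ht
    have hc : Presieve.Arrows.Compatible (G.obj ⋙ forget AddCommGrpCat.{u})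
        (fun i => (Y i).hom) t := by
      intro i j Z gi gj hij
      let Z' : Over U := Over.mk (gi ≫ (Y i).hom)
      let k : Fin 2 → ι := ![i, j]
      let ρ : Z' ⟶ ∏ᶜ (Y ∘ k) :=
        pairLift Y k (Over.homMk gi rfl : Z' ⟶ Y i) (Over.homMk gj hij.symm : Z' ⟶ Y j)
      have h := congrArg (fun y => (G.obj.map ρ.left.op).hom y) (ht k)
      change (G.obj.map ρ.left.op).hom ((G.obj.map (Pi.π (Y ∘ k) 0).left.op).hom (t i)) =
        (G.obj.map ρ.left.op).hom ((G.obj.map (Pi.π (Y ∘ k) 1).left.op).hom (t j)) at h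
      rw [map_map_apply, map_map_apply, ← Over.comp_left, ← Over.comp_left, pairLift_π₀,
        pairLift_π₁] at h
      exact h
    obtain ⟨s, hs, -⟩ := h1 t hc
    exact ⟨s, hs⟩

/-- **`Ȟ¹ = 0` on a covering family implies lifting of sections** (sites). -/
theorem exists_lift_site {S : ShortComplex (Sheaf J AddCommGrpCat.{u})} (hS : S.ShortExact)
    (h₁ : IsZero (CohCx.cechH S.X₁.obj Y 1))
    (s : S.X₃.obj.obj (op U)) (t : ∀ j, S.X₂.obj.obj (op (Y j).left))
    (ht : ∀ j, (S.g.hom.app (op (Y j).left)).hom (t j) = (S.X₃.obj.map (Y j).hom.op).hom s) :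
    ∃ t' : S.X₂.obj.obj (op U), (S.g.hom.app (op U)).hom t' = s :=
  exists_lift_of_cechExact (siteAug Y) (Functor.whiskerLeft (Over.forget U).op S.f.hom)
    (Functor.whiskerLeft (Over.forget U).op S.g.hom)
    (fun W x hx => sections_injective hS W.left x hx)
    (fun W x hx => sections_exact hS W.left x hx)
    (fun W y => sections_zero hS W.left y)
    (isGluing_site Y hY S.X₂) (isGluing_site Y hY S.X₃)
    ((cechExact_iff Y _ 0).2 h₁) s t ht

end Site

end Groth.Agent.Lib.Helper13.CechSite
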