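import Mathlib
import Groth.Prelude
import Groth.Agent.Lib.Helper13.CechSite
import Groth.Agent.Lib.Helper13.CechLES
import Groth.Agent.Lib.Helper13.CechInjective
import Groth.Agent.Lib.Helper1.FlasqueAcyclic

/-!
# Čech cohomology on sites: Cartan's criterion
-/
set_option autoImplicit false
universe u
open CategoryTheory CategoryTheory.Limits Opposite CategoryTheory.Abelian

noncomputable section

namespace Groth.Agent.Lib.Helper13.CechSiteApp

open CechBasic CechLow CechSheaf CechLES CechInjective CechSite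

variable {C : Type u} [SmallCategory C] {J : GrothendieckTopology C}

/-- the short complex of presheaves on `C/U` underlying a short complex of sheaves. -/
abbrev preSC (S : ShortComplex (Sheaf J AddCommGrpCat.{u})) (U : C) :
    ShortComplex ((Over U)ᵒᵖ ⥤ AddCommGrpCat.{u}) :=
  (S.map (sheafToPresheaf J AddCommGrpCat.{u})).map
    ((Functor.whiskeringLeft _ _ AddCommGrpCat.{u}).obj (Over.forget U).op)

/-- lifting morphisms out of `ℤ_U` along a morphism which is surjective on sections over `U`. -/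
lemma exists_lift_freeSheaf {S : ShortComplex (Sheaf J AddCommGrpCat.{u})} (U : C)
    (hsurj : Function.Surjective (S.g.hom.app (op U)))
    (φ : CohCx.freeSheaf J U ⟶ S.X₃) : ∃ ψ : CohCx.freeSheaf J U ⟶ S.X₂, ψ ≫ S.g = φ := by
  obtain ⟨t, ht⟩ := hsurj (CohFree.evalGen J U S.X₃ φ)
  refine ⟨CohFree.ofSect J U S.X₂ t, ?_⟩
  apply (CohFree.homEquivSect J U S.X₃).injective
  rw [CohFree.homEquivSect_apply, CohFree.homEquivSect_apply, ← ht]
  change (S.g.hom.app (op U)).hom (CohFree.evalGen J U S.X₂ (CohFree.ofSect J U S.X₂ t)) = _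
  rw [CohFree.evalGen_ofSect]

variable [HasPullbacks C]

lemma sectionwiseExact {S : ShortComplex (Sheaf J AddCommGrpCat.{u})} (hS : S.ShortExact)
    {U : C} {κ : Type u} (Y : κ → Over U)
    (hsurj : ∀ (n : ℕ) (i : Fin (n + 1) → κ),
      Function.Surjective (S.g.hom.app (op (∏ᶜ (Y ∘ i)).left))) :
    SectionwiseExact Y (preSC S U) where
  inj _ i x hx := sections_injective hS (∏ᶜ (Y ∘ i)).left x hx
  ex _ i x hx := sections_exact hS (∏ᶜ (Y ∘ i)).left x hx
  surj n i z := hsurj n i z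

/-- `Ȟ¹ = 0` on covering families inside all covering sieves of `U` implies surjectivity on sections
over `U`. -/
theorem sections_surjective {S : ShortComplex (Sheaf J AddCommGrpCat.{u})} (hS : S.ShortExact)
    (U : C)
    (h : ∀ T ∈ J U, ∃ (ι : Type u) (Y : ι → Over U), (∀ i, T.arrows (Y i).hom) ∧
      Sieve.ofArrows (fun i => (Y i).left) (fun i => (Y i).hom) ∈ J U ∧
      IsZero (CohCx.cechH S.X₁.obj Y 1)) :
    Function.Surjective (S.g.hom.app (op U)) := by
  intro s
  have hloc : Presheaf.IsLocallySurjective J S.g.hom :=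
    (Sheaf.isLocallySurjective_iff_epi' AddCommGrpCat.{u} S.g).2 hS.epi_g
  have hT : Presheaf.imageSieve S.g.hom s ∈ J U := hloc.imageSieve_mem s
  obtain ⟨ι, Y, hYT, hcov, hzero⟩ := h _ hT
  choose t ht using hYT
  exact exists_lift_site Y hcov hS hzero s t ht

/-- **Cartan's criterion on a class of objects of a site.** -/
theorem subsingleton_HU_of_cech (B : Set C) (Cov : ∀ (U : C) (ι : Type u), (ι → Over U) → Prop)
    (h1 : ∀ (U : C) (ι : Type u) (Y : ι → Over U), Cov U ι Y →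
      Sieve.ofArrows (fun i => (Y i).left) (fun i => (Y i).hom) ∈ J U ∧
      ∀ (p : ℕ) (a : Fin (p + 1) → ι), (∏ᶜ (Y ∘ a)).left ∈ B)
    (h2 : ∀ U ∈ B, ∀ T ∈ J U, ∃ (ι : Type u) (Y : ι → Over U), Cov U ι Y ∧
      ∀ i, T.arrows (Y i).hom)
    (F : Sheaf J AddCommGrpCat.{u})
    (h3 : ∀ (U : C) (ι : Type u) (Y : ι → Over U), Cov U ι Y → ∀ p : ℕ,
      IsZero (CohCx.cechH F.obj Y (p + 1)))
    (U : C) (hU : U ∈ B) (p : ℕ) : Subsingleton (CohSite.HU F (p + 1) U) := by
  let Q : Sheaf J AddCommGrpCat.{u} → Prop := fun G => ∀ (U : C) (ι : Type u) (Y : ι → Over U),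
    Cov U ι Y → ∀ p : ℕ, IsZero (CohCx.cechH G.obj Y (p + 1))
  have key : ∀ (S : ShortComplex (Sheaf J AddCommGrpCat.{u})), S.ShortExact → Q S.X₁ → ∀ U ∈ B,
      Function.Surjective (S.g.hom.app (op U)) := by
    intro S hS hQ U hU
    apply sections_surjective hS U
    intro T hT
    obtain ⟨ι, Y, hY, hYT⟩ := h2 U hU T hT
    exact ⟨ι, Y, hYT, (h1 U ι Y hY).1, hQ U ι Y hY 0⟩
  refine subsingleton_of_forall_eq 0 fun x => ?_
  refine Groth.Agent.Lib.Helper1.FlasqueAcyclic.ext_eq_zero_of_class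
    (CohCx.freeSheaf J U) Q ?_ ?_ ?_ p F h3 x
  · intro I hI U ι Y _ p
    exact isZero_cechH_site J I Y p
  · intro S hS hQ₁ hQ₂ U ι Y hY p
    have hSE : SectionwiseExact Y (preSC S U) :=
      sectionwiseExact hS Y (fun n i => key S hS hQ₁ _ ((h1 U ι Y hY).2 n i))
    exact isZero_homology_X₃ hSE (p + 1) (hQ₂ U ι Y hY p) (hQ₁ U ι Y hY (p + 1))
  · intro S hS hQ₁ φ
    exact exists_lift_freeSheaf U (key S hS hQ₁ U hU) φ

end Groth.Agent.Lib.Helper13.CechSiteApp
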