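import Mathlib
import Groth.Prelude
import Groth.Agent.Lib.Helper13.CechLeray
import Groth.Agent.Lib.Helper13.CechTop
import Groth.Agent.Lib.Helper13.CechSiteApp

set_option autoImplicit false
universe u
open CategoryTheory CategoryTheory.Limits Opposite CategoryTheory.Abelian TopologicalSpace

noncomputable section

namespace Groth.Agent.Lib.Helper13.CechLerayApp

open CechBasic CechLow CechSheaf CechLES CechH0 CechLeray CechInjective CechSite

/-- Leray's theorem on a topological space. -/
theorem leray_top {X : TopCat.{u}} (F : CohTop.Ab X) {ι : Type u} (U : ι → Opens X)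
    (h : ∀ (p : ℕ) (a : Fin (p + 1) → ι) (q : ℕ),
      Subsingleton (CohTop.HU F (q + 1) (iInf fun k => U (a k))))
    (p : ℕ) : Nonempty (CohTop.cechH F.obj U p ≃+ CohTop.HU F p (iSup U)) := by
  have ctx : Ctx (Opens.grothendieckTopology X) (𝟭 (Opens X)) U (topAug U (iSup U) rfl) :=
    { glue := fun G => isGluing_top U (iSup U) rfl G
      inj := fun I hI p => isZero_cechH_top I U p }
  have hL : IsLeray (Opens.grothendieckTopology X) (𝟭 (Opens X)) U F := by
    intro n a q
    have := h n a q
    rw [← CechTop.prod_eq_iInf] at this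
    exact this
  exact leray ctx p F hL

/-- Leray's theorem on a site. -/
theorem leray_site {C : Type u} [SmallCategory C] [HasPullbacks C]
    (J : GrothendieckTopology C) (F : Sheaf J AddCommGrpCat.{u}) {U : C} {ι : Type u}
    (Y : ι → Over U)
    (hY : Sieve.ofArrows (fun i => (Y i).left) (fun i => (Y i).hom) ∈ J U)
    (h : ∀ (p : ℕ) (a : Fin (p + 1) → ι) (q : ℕ),
      Subsingleton (CohSite.HU F (q + 1) (∏ᶜ fun k => Y (a k)).left))
    (p : ℕ) : Nonempty (CohCx.cechH F.obj Y p ≃+ CohSite.HU F p U) := by
  have ctx : Ctx J (Over.forget U) Y (siteAug Y) :=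
    { glue := fun G => isGluing_site Y hY G
      inj := fun I hI p => isZero_cechH_site J I Y p }
  exact leray ctx p F h

end Groth.Agent.Lib.Helper13.CechLerayApp
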