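import Mathlib
import Groth.Agent.Lib.Helper13.CBCReindex
import Groth.Agent.Lib.Helper13.CechTop
import Groth.Agent.Lib.Helper17.FlatBC
import Groth.Agent.Lib.Lead.KosCechF
import Groth.Agent.Lib.Helper7.LerayNatSch

/-!
# Čech comparison across a cartesian square with affine bases

For a cartesian square `X' = X ×_S S'` with `S`, `S'` affine, a finite affine cover `U` of `X` with
affine intersections, a presheaf `P` on `X` and a quasi-coherent module `G'` on `X'` with a map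
`τ : P(W) → Γ(g'⁻¹ W, G')` bijective on the intersections of the cover:
`Ȟ^p(U, P) ≅ H^p(X', G')`, naturally.
-/

set_option autoImplicit false
universe u
open CategoryTheory CategoryTheory.Limits AlgebraicGeometry TopologicalSpace Opposite

namespace Groth.Agent.Lib.Helper13.CBCUp

open Groth.Agent.Lib.Helper13.CechBasic Groth.Agent.Lib.Helper13.CBCCechMap
  Groth.Agent.Lib.Helper13.CBCReindex

variable {X S X' S' : Scheme.{u}} {f : X ⟶ S} {g : S' ⟶ S} {g' : X' ⟶ X} {f' : X' ⟶ S'}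

/-- the open `g'⁻¹ W ∩ f'⁻¹ ⊤` of `X'`. -/
abbrev upT (g' : X' ⟶ X) (f' : X' ⟶ S') (W : X.Opens) : X'.Opens :=
  Groth.Agent.Lib.Helper17.UnitBC.up g' f' ⊤ W

/-- `W ↦ g'⁻¹ W ∩ f'⁻¹ ⊤` as a functor. -/
noncomputable def upF (g' : X' ⟶ X) (f' : X' ⟶ S') : X.Opens ⥤ X'.Opens where
  obj W := upT g' f' W
  map h := homOfLE (Groth.Agent.Lib.Helper17.UnitBC.up_mono g' f' ⊤ (leOfHom h))

lemma mem_prod {Z : Scheme.{u}} {ι : Type u} (V : ι → Z.Opens) {n : ℕ} (i : Fin (n + 1) → ι)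
    (x : Z) : x ∈ ∏ᶜ (V ∘ i) ↔ ∀ k, x ∈ V (i k) := by
  rw [CechTop.prod_eq_iInf]
  rw [← SetLike.mem_coe, Opens.coe_iInf, Set.mem_iInter]
  rfl

variable {ι : Type u} (U : ι → X.Opens)

lemma upT_prod {n : ℕ} (i : Fin (n + 1) → ι) :
    ∏ᶜ (((upF g' f').obj ∘ U) ∘ i) = (upF g' f').obj (∏ᶜ (U ∘ i)) := by
  ext x
  rw [SetLike.mem_coe, SetLike.mem_coe, mem_prod]
  constructor
  · intro h
    refine ⟨(mem_prod U i (g' x)).2 (fun k => (h k).1), (h 0).2⟩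
  · intro h k
    exact ⟨(mem_prod U i (g' x)).1 h.1 k, h.2⟩

/-- the comparison morphisms needed for re-indexing. -/
noncomputable def upC (n : ℕ) (i : Fin (n + 1) → ι) :
    ∏ᶜ (((upF g' f').obj ∘ U) ∘ i) ⟶ (upF g' f').obj (∏ᶜ (U ∘ i)) :=
  eqToHom (upT_prod U i)

section Iso

variable (P : (X.Opens)ᵒᵖ ⥤ AddCommGrpCat.{u}) (G' : X'.Modules)
  (τ : P ⟶ (upF g' f').op ⋙ G'.presheaf)
  (hτ : ∀ (n : ℕ) (i : Fin (n + 1) → ι), Function.Bijective (τ.app (op (∏ᶜ (U ∘ i)))).hom)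

/-- the comparison of Čech complexes. -/
noncomputable def upIso : cx U P ≅ cx ((upF g' f').obj ∘ U) G'.presheaf :=
  @asIso _ _ _ _ ((cechComplexFunctor U).map τ)
      (Groth.Agent.Lib.Lead.KosCechF.isIso_cech_map U τ hτ) ≪≫
    (reindexIso (upF g' f') U G'.presheaf (upC U)).symm

lemma upIso_hom_reindex :
    (upIso U P G' τ hτ).hom ≫ (reindexIso (upF g' f') U G'.presheaf (upC U)).hom =
      (cechComplexFunctor U).map τ := by
  unfold upIso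
  rw [Iso.trans_hom, Category.assoc, Iso.symm_hom, Iso.inv_hom_id, Category.comp_id]
  rfl

end Iso

lemma upIso_nat (P₁ P₂ : (X.Opens)ᵒᵖ ⥤ AddCommGrpCat.{u}) (G₁ G₂ : X'.Modules)
    (τ₁ : P₁ ⟶ (upF g' f').op ⋙ G₁.presheaf) (τ₂ : P₂ ⟶ (upF g' f').op ⋙ G₂.presheaf)
    (hτ₁ : ∀ (n : ℕ) (i : Fin (n + 1) → ι), Function.Bijective (τ₁.app (op (∏ᶜ (U ∘ i)))).hom)
    (hτ₂ : ∀ (n : ℕ) (i : Fin (n + 1) → ι), Function.Bijective (τ₂.app (op (∏ᶜ (U ∘ i)))).hom)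
    (a : P₁ ⟶ P₂) (ψ : G₁.presheaf ⟶ G₂.presheaf)
    (hcomm : a ≫ τ₂ = τ₁ ≫ Functor.whiskerLeft (upF g' f').op ψ) :
    (cechComplexFunctor U).map a ≫ (upIso U P₂ G₂ τ₂ hτ₂).hom =
      (upIso U P₁ G₁ τ₁ hτ₁).hom ≫ (cechComplexFunctor ((upF g' f').obj ∘ U)).map ψ := by
  rw [← cancel_mono (reindexIso (upF g' f') U G₂.presheaf (upC U)).hom, Category.assoc,
    upIso_hom_reindex, Category.assoc, reindexIso_nat, ← Category.assoc, upIso_hom_reindex,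
    ← Functor.map_comp, ← Functor.map_comp, hcomm]

section Main

lemma mem_biInf {Z : Scheme.{u}} [Finite ι] (V : ι → Z.Opens) (s : Finset ι) (x : Z) :
    x ∈ ⨅ i ∈ s, V i ↔ ∀ i ∈ s, x ∈ V i := by
  rw [← SetLike.mem_coe, Opens.coe_iInf, Set.mem_iInter]
  refine forall_congr' (fun i => ?_)
  by_cases hi : i ∈ s
  · rw [iInf_pos hi]
    exact ⟨fun h _ => h, fun h => h hi⟩
  · rw [iInf_neg hi]
    exact ⟨fun _ h => absurd h hi, fun _ => trivial⟩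

lemma upT_biInf [Finite ι] (s : Finset ι) (hs : s.Nonempty) :
    ⨅ i ∈ s, upT g' f' (U i) = upT g' f' (⨅ i ∈ s, U i) := by
  ext x
  rw [SetLike.mem_coe, SetLike.mem_coe, mem_biInf]
  constructor
  · intro h
    obtain ⟨i₀, hi₀⟩ := hs
    exact ⟨(mem_biInf U s (g' x)).2 (fun i hi => (h i hi).1), (h i₀ hi₀).2⟩
  · intro h i hi
    exact ⟨(mem_biInf U s (g' x)).1 h.1 i hi, h.2⟩

/-- **Čech comparison across a cartesian square with affine bases.** -/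
theorem exists_HH_equiv (hc : IsPullback g' f' f g) [IsAffine S] [IsAffine S'] [Finite ι]
    (hcov : ⨆ i, U i = ⊤) (hU : ∀ s : Finset ι, s.Nonempty → IsAffineOpen (⨅ i ∈ s, U i))
    (p : ℕ) :
    ∃ E : ∀ (P : (X.Opens)ᵒᵖ ⥤ AddCommGrpCat.{u}) (G' : X'.Modules) (_ : Coh.IsQCoh G')
        (τ : P ⟶ (upF g' f').op ⋙ G'.presheaf)
        (_ : ∀ (n : ℕ) (i : Fin (n + 1) → ι), Function.Bijective (τ.app (op (∏ᶜ (U ∘ i)))).hom),
        (↑((cx U P).homology p) ≃+ Coh.HH X' G' p),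
      ∀ (P₁ P₂ : (X.Opens)ᵒᵖ ⥤ AddCommGrpCat.{u}) (G₁ G₂ : X'.Modules) (h₁ : Coh.IsQCoh G₁)
        (h₂ : Coh.IsQCoh G₂) (τ₁ : P₁ ⟶ (upF g' f').op ⋙ G₁.presheaf)
        (τ₂ : P₂ ⟶ (upF g' f').op ⋙ G₂.presheaf)
        (hτ₁ : ∀ (n : ℕ) (i : Fin (n + 1) → ι),
          Function.Bijective (τ₁.app (op (∏ᶜ (U ∘ i)))).hom)
        (hτ₂ : ∀ (n : ℕ) (i : Fin (n + 1) → ι),
          Function.Bijective (τ₂.app (op (∏ᶜ (U ∘ i)))).hom)
        (a : P₁ ⟶ P₂) (ψ : Coh.toAb G₁ ⟶ Coh.toAb G₂)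
        (_ : a ≫ τ₂ = τ₁ ≫ Functor.whiskerLeft (upF g' f').op ψ.hom)
        (y : ↑((cx U P₁).homology p)),
        E P₂ G₂ h₂ τ₂ hτ₂
            ((HomologicalComplex.homologyMap ((cechComplexFunctor U).map a) p).hom y) =
          Sheaf.H.map ψ p (E P₁ G₁ h₁ τ₁ hτ₁ y) := by
  have hcov' : ⨆ i, ((upF g' f').obj ∘ U) i = ⊤ := by
    rw [eq_top_iff]
    intro x _
    have hx : g' x ∈ ⨆ i, U i := by rw [hcov]; trivial
    obtain ⟨i, hi⟩ := Opens.mem_iSup.mp hx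
    exact Opens.mem_iSup.mpr ⟨i, hi, trivial⟩
  have hU' : ∀ s : Finset ι, s.Nonempty → IsAffineOpen (⨅ i ∈ s, ((upF g' f').obj ∘ U) i) := by
    intro s hs
    have h1 : ⨅ i ∈ s, ((upF g' f').obj ∘ U) i = upT g' f' (⨅ i ∈ s, U i) := upT_biInf U s hs
    rw [h1]
    exact Groth.Agent.Lib.Helper17.UnitBC.isAffineOpen_up hc (V := ⊤) (V' := ⊤)
      (fun _ _ => trivial) (isAffineOpen_top S) (isAffineOpen_top S') (fun _ _ => trivial)
      (hU s hs)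
  obtain ⟨e, he⟩ := Groth.Agent.Lib.Helper7.LerayNat.cech_nat X' ((upF g' f').obj ∘ U) hcov' hU' p
  refine ⟨fun P G' hG' τ hτ =>
    ((HomologicalComplex.homologyFunctor _ _ p).mapIso
      (upIso U P G' τ hτ)).addCommGroupIsoToAddEquiv.trans (e G' hG'), ?_⟩
  intro P₁ P₂ G₁ G₂ h₁ h₂ τ₁ τ₂ hτ₁ hτ₂ a ψ hcomm y
  have h3 : HomologicalComplex.homologyMap ((cechComplexFunctor U).map a) p ≫
      HomologicalComplex.homologyMap (upIso U P₂ G₂ τ₂ hτ₂).hom p =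
      HomologicalComplex.homologyMap (upIso U P₁ G₁ τ₁ hτ₁).hom p ≫
        HomologicalComplex.homologyMap
          ((cechComplexFunctor ((upF g' f').obj ∘ U)).map ψ.hom) p :=
    ((HomologicalComplex.homologyMap_comp _ _ p).symm.trans
      (congrArg (fun k => HomologicalComplex.homologyMap k p)
        (upIso_nat U P₁ P₂ G₁ G₂ τ₁ τ₂ hτ₁ hτ₂ a ψ.hom hcomm))).trans
      (HomologicalComplex.homologyMap_comp _ _ p)
  have h4 := ConcreteCategory.congr_hom h3 y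
  show e G₂ h₂ ((HomologicalComplex.homologyMap (upIso U P₂ G₂ τ₂ hτ₂).hom p).hom
      ((HomologicalComplex.homologyMap ((cechComplexFunctor U).map a) p).hom y)) = _
  refine (congrArg (e G₂ h₂) h4).trans ?_
  exact he G₁ G₂ h₁ h₂ ψ _

end Main

end Groth.Agent.Lib.Helper13.CBCUp
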