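import Mathlib
import Groth.Agent.Lib.Helper13.CBCCech2
import Groth.Agent.Lib.Helper13.CBCUp

/-!
# Base change of sections: `Γ(W, F) ⊗_A M' → Γ(g'⁻¹ W, F') ⊗_B M'` for a cartesian square over
`Spec B → Spec A`
-/

set_option autoImplicit false
universe u
open CategoryTheory CategoryTheory.Limits AlgebraicGeometry TopologicalSpace Opposite TensorProduct
  MonoidalCategory
open Scheme.Modules

namespace Groth.Agent.Lib.Helper13.CBCBase

open Groth.Agent.Lib.Helper3 Groth.Agent.Lib.Helper3.QCSec Groth.Agent.Lib.Helper3.PbBasic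
  Groth.Agent.Lib.Helper3.InvGen Groth.Agent.Lib.Helper3.InvTensor
  Groth.Agent.Lib.Helper3.InvMonoidal
open Groth.Agent.Lib.Helper17.UnitBC hiding SecA resA resA_apply
open Groth.Agent.Lib.Helper17.TensorSec
open Groth.Agent.Lib.Helper13.CBCSec Groth.Agent.Lib.Helper13.CBCCech
  Groth.Agent.Lib.Helper13.CBCUp

section Abstract

variable {A B RA RB : Type u} [CommRing A] [CommRing B] [CommRing RA] [CommRing RB]
  (ψA : A ≃+* RA) (ψB : B ≃+* RB) (ρ : RA →+* RB) (φg : A →+* B)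
  (hφ : ∀ a, ψB (φg a) = ρ (ψA a))
  {N N' M' MA : Type u} [AddCommGroup N] [AddCommGroup N'] [AddCommGroup M'] [AddCommGroup MA]
  [Module A N] [Module RA N] [Module B N'] [Module RB N'] [Module B M'] [Module A MA]
  (hN : ∀ (a : A) (n : N), a • n = ψA a • n) (hN' : ∀ (b : B) (n : N'), b • n = ψB b • n)
  (eM : MA ≃+ M') (heM : ∀ (a : A) (m : MA), eM (a • m) = φg a • eM m)
  (γ : N → N') (hbc : IsBCHom ρ γ)
  (Φ : N ⊗[A] MA →+ N' ⊗[B] M') (hΦ : ∀ s m, Φ (s ⊗ₜ[A] m) = γ s ⊗ₜ[B] eM m)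

include hφ hN hN' heM hbc hΦ in
lemma bijective_tensor_of_isBCHom : Function.Bijective Φ := by
  letI iRB : Module RB M' := Module.compHom M' ψB.symm.toRingHom
  letI iA : Module A M' := Module.compHom M' φg
  have hM'B : ∀ (b : B) (m : M'), b • m = ψB b • m := fun b m => by
    show b • m = ψB.symm (ψB b) • m
    rw [ψB.symm_apply_apply]
  have hNold : ∀ (a : A) (m : M'), a • m = ρ (ψA a) • m := fun a m => by
    show φg a • m = ψB.symm (ρ (ψA a)) • m
    rw [← hφ, ψB.symm_apply_apply]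
  let eMl : MA ≃ₗ[A] M' := { eM with map_smul' := fun a m => heM a m }
  let sw : M' ⊗[A] N ≃ₗ[A] N ⊗[A] MA :=
    (TensorProduct.comm A M' N) ≪≫ₗ (TensorProduct.congr (LinearEquiv.refl A N) eMl.symm)
  let rcB : N' ⊗[B] M' →+ N' ⊗[RB] M' := rcHom ψB hN' (AddEquiv.refl M') (fun b m => hM'B b m)
  have hrcB : Function.Bijective rcB := rcHom_bijective ψB hN' (AddEquiv.refl M') _
  let T : M' ⊗[A] N →+ N' ⊗[RB] M' := rcB.comp (Φ.comp sw.toLinearMap.toAddMonoidHom)
  have hT : ∀ (m : M') (s : N), T (m ⊗ₜ[A] s) = γ s ⊗ₜ[RB] m := by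
    intro m s
    show rcB (Φ (sw (m ⊗ₜ[A] s))) = _
    have h1 : sw (m ⊗ₜ[A] s) = s ⊗ₜ[A] eM.symm m := rfl
    rw [h1, hΦ, eM.apply_symm_apply]
    rfl
  have hTb : Function.Bijective T :=
    bijective_of_isBCHom ψA ρ hNold (AddEquiv.refl N) (fun a n => hN a n) γ hbc T hT
  have h2 : (T : M' ⊗[A] N → N' ⊗[RB] M') = rcB ∘ (Φ ∘ sw) := rfl
  rw [h2] at hTb
  have h3 := (Function.Bijective.of_comp_iff' hrcB _).1 hTb
  exact (Function.Bijective.of_comp_iff _ sw.bijective).1 h3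

end Abstract

variable (A B : Type u) [CommRing A] [CommRing B] {X X' : Scheme.{u}}
  [X.Over (Spec (CommRingCat.of A))] [X'.Over (Spec (CommRingCat.of B))]
  (g : Spec (CommRingCat.of B) ⟶ Spec (CommRingCat.of A)) (g' : X' ⟶ X)

/-- the ring map `A → B` attached to `g : Spec B ⟶ Spec A`. -/
noncomputable def φg : A →+* B :=
  (Scheme.ΓSpecIso (CommRingCat.of B)).hom.hom.comp
    (g.appTop.hom.comp (Scheme.ΓSpecIso (CommRingCat.of A)).inv.hom)

/-- the pulled back module. -/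
noncomputable abbrev F' (F : X.Modules) : X'.Modules := (Scheme.Modules.pullback g').obj F

/-- the open `g'⁻¹ W` of `X'`. -/
noncomputable abbrev upW (W : X.Opens) : X'.Opens := upT g' (sm B X') W

/-- pullback of sections. -/
noncomputable def γ (F : X.Modules) (W : X.Opens) (s : SecA A F W) :
    SecA B (F' g' F) (upW B g' W) :=
  unitSec g' F W (upW B g' W) inf_le_left (show Γ(F, W) from s)

lemma γ_add (F : X.Modules) (W : X.Opens) (s t : SecA A F W) :
    γ A B g' F W (s + t) = γ A B g' F W s + γ A B g' F W t :=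
  unitSec_add g' F W _ _ _ _

lemma appLE_congr {Y Z : Scheme.{u}} {h₁ h₂ : Y ⟶ Z} (e : h₁ = h₂) (V : Z.Opens) (W : Y.Opens)
    (e₁ : W ≤ h₁ ⁻¹ᵁ V) (e₂ : W ≤ h₂ ⁻¹ᵁ V) : h₁.appLE V W e₁ = h₂.appLE V W e₂ := by
  subst e
  rfl

variable (hw : g' ≫ sm A X = sm B X' ≫ g)

include hw in
lemma ring_compat (W : X.Opens) (a : A) :
    (g'.appLE W (upW B g' W) inf_le_left).hom (φ A W a) = φ B (upW B g' W) (φg A B g a) := by
  have h1 := Scheme.Hom.appLE_comp_appLE g' (sm A X) ⊤ W (upW B g' W) le_top inf_le_left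
  have h2 := Scheme.Hom.appLE_comp_appLE (sm B X') g ⊤ ⊤ (upW B g' W) le_top le_top
  have h3 := appLE_congr hw ⊤ (upW B g' W)
    (inf_le_left.trans ((Opens.map g'.base).map (homOfLE (le_top : W ≤ (sm A X) ⁻¹ᵁ ⊤))).le)
    (le_top.trans ((Opens.map (sm B X').base).map
      (homOfLE (le_top : (⊤ : (Spec (CommRingCat.of B)).Opens) ≤ g ⁻¹ᵁ ⊤))).le)
  have h4 : (sm A X).appLE ⊤ W le_top ≫ g'.appLE W (upW B g' W) inf_le_left =
      g.appLE ⊤ ⊤ le_top ≫ (sm B X').appLE ⊤ (upW B g' W) le_top := by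
    rw [h1, h2, h3]
  have h5 := congr($h4 ((Scheme.ΓSpecIso (CommRingCat.of A)).inv.hom a))
  refine h5.trans ?_
  show ((sm B X').appLE ⊤ (upW B g' W) le_top).hom ((g.appLE ⊤ ⊤ le_top).hom
      ((Scheme.ΓSpecIso (CommRingCat.of A)).inv.hom a)) =
    ((sm B X').appLE ⊤ (upW B g' W) le_top).hom
      ((Scheme.ΓSpecIso (CommRingCat.of B)).inv.hom (φg A B g a))
  congr 1
  unfold φg
  have h6 : ∀ z, (Scheme.ΓSpecIso (CommRingCat.of B)).inv.hom
      ((Scheme.ΓSpecIso (CommRingCat.of B)).hom.hom z) = z := fun z =>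
    congr($((Scheme.ΓSpecIso (CommRingCat.of B)).hom_inv_id) z)
  rw [RingHom.comp_apply, RingHom.comp_apply, h6]
  have h7 : g.appLE ⊤ ⊤ le_top = g.appTop := by
    rw [Scheme.Hom.appTop, Scheme.Hom.app_eq_appLE]
    rfl
  rw [h7]

include hw in
lemma γ_smul (F : X.Modules) (W : X.Opens) (a : A) (s : SecA A F W) :
    γ A B g' F W (a • s) = φg A B g a • γ A B g' F W s := by
  show unitSec g' F W (upW B g' W) inf_le_left (φ A W a • (show Γ(F, W) from s)) =
    φ B (upW B g' W) (φg A B g a) • unitSec g' F W (upW B g' W) inf_le_left (show Γ(F, W) from s)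
  rw [unitSec_smul, ring_compat A B g g' hw]

lemma res_γ (F : X.Modules) {W W' : X.Opens} (h : W' ≤ W) (s : SecA A F W) :
    resA B (F' g' F) (Groth.Agent.Lib.Helper17.UnitBC.up_mono g' (sm B X') ⊤ h)
        (γ A B g' F W s) = γ A B g' F W' (resA A F h s) :=
  res_unitSec g' F h (Groth.Agent.Lib.Helper17.UnitBC.up_mono g' (sm B X') ⊤ h) inf_le_left
    inf_le_left _

end Groth.Agent.Lib.Helper13.CBCBase
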