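import Mathlib
import Groth.Agent.Lib.Helper13.CBCBase

/-!
# The presheaf-level base change comparison
`Γ(W, F) ⊗_A M' → Γ(g'⁻¹ W, f'^*(M'~) ⊗ g'^* F)` and `Γ(W, F) ⊗_A B → Γ(g'⁻¹ W, g'^* F)`
-/

set_option autoImplicit false
universe u
open CategoryTheory CategoryTheory.Limits AlgebraicGeometry TopologicalSpace Opposite TensorProduct
  MonoidalCategory
open Scheme.Modules

namespace Groth.Agent.Lib.Helper13.CBCBase

open Groth.Agent.Lib.Helper3 Groth.Agent.Lib.Helper3.QCSec Groth.Agent.Lib.Helper3.PbBasic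
  Groth.Agent.Lib.Helper3.InvGen Groth.Agent.Lib.Helper3.InvTensor
  Groth.Agent.Lib.Helper3.InvMonoidal
open Groth.Agent.Lib.Helper17.UnitBC hiding SecA resA resA_apply
open Groth.Agent.Lib.Helper17.TensorSec
open Groth.Agent.Lib.Helper13.CBCSec Groth.Agent.Lib.Helper13.CBCCech
  Groth.Agent.Lib.Helper13.CBCUp

variable (A B : Type u) [CommRing A] [CommRing B] {X X' : Scheme.{u}}
  [X.Over (Spec (CommRingCat.of A))] [X'.Over (Spec (CommRingCat.of B))]
  (g : Spec (CommRingCat.of B) ⟶ Spec (CommRingCat.of A)) (g' : X' ⟶ X)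
  (hw : g' ≫ sm A X = sm B X' ≫ g) (F : X.Modules)

/-- restriction of scalars along `A → B`. -/
noncomputable abbrev MA (M' : ModuleCat.{u} B) : ModuleCat.{u} A :=
  (ModuleCat.restrictScalars (φg A B g)).obj M'

lemma MA_smul (M' : ModuleCat.{u} B) (a : A) (m : ↑(MA A B g M')) :
    a • m = (φg A B g a • (show ↑M' from m) : ↑M') := rfl

/-- `s ⊗ m ↦ g'^*(s) ⊗ m`. -/
noncomputable def Φ' (M' : ModuleCat.{u} B) (W : X.Opens) :
    SecA A F W ⊗[A] ↑(MA A B g M') →+ SecA B (F' g' F) (upW B g' W) ⊗[B] ↑M' :=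
  TensorProduct.liftAddHom
    (AddMonoidHom.mk' (fun s : SecA A F W => AddMonoidHom.mk' (fun m : ↑(MA A B g M') =>
        ((γ A B g' F W s) ⊗ₜ[B] (show ↑M' from m) :
          SecA B (F' g' F) (upW B g' W) ⊗[B] ↑M'))
        (fun m m' => tmul_add _ _ _))
      (fun s s' => by
        ext m
        show (γ A B g' F W (s + s')) ⊗ₜ[B] (show ↑M' from m) = _
        rw [γ_add]
        exact add_tmul _ _ _))
    (fun a s m => by
      show (γ A B g' F W (a • s)) ⊗ₜ[B] (show ↑M' from m) =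
        (γ A B g' F W s) ⊗ₜ[B] (φg A B g a • (show ↑M' from m) : ↑M')
      rw [γ_smul A B g g' hw]
      exact smul_tmul (φg A B g a) _ _)

lemma Φ'_tmul (M' : ModuleCat.{u} B) (W : X.Opens) (s : SecA A F W) (m : ↑(MA A B g M')) :
    Φ' A B g g' hw F M' W (s ⊗ₜ[A] m) = (γ A B g' F W s) ⊗ₜ[B] (show ↑M' from m) := rfl

lemma res_Φ' (M' : ModuleCat.{u} B) {W W' : X.Opens} (h : W' ≤ W)
    (t : SecA A F W ⊗[A] ↑(MA A B g M')) :
    LinearMap.rTensor ↑M' (resA B (F' g' F)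
        (Groth.Agent.Lib.Helper17.UnitBC.up_mono g' (sm B X') ⊤ h)) (Φ' A B g g' hw F M' W t) =
      Φ' A B g g' hw F M' W' (LinearMap.rTensor ↑(MA A B g M') (resA A F h) t) := by
  induction t using TensorProduct.induction_on with
  | zero => simp
  | tmul s m =>
    rw [Φ'_tmul, LinearMap.rTensor_tmul, LinearMap.rTensor_tmul, Φ'_tmul, res_γ]
  | add a b ha hb => rw [map_add, map_add, ha, hb, map_add, map_add]

lemma Φ'_map {M' N' : ModuleCat.{u} B} (g₁ : M' ⟶ N') (W : X.Opens)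
    (t : SecA A F W ⊗[A] ↑(MA A B g M')) :
    LinearMap.lTensor (SecA B (F' g' F) (upW B g' W)) g₁.hom (Φ' A B g g' hw F M' W t) =
      Φ' A B g g' hw F N' W (LinearMap.lTensor (SecA A F W)
        ((ModuleCat.restrictScalars (φg A B g)).map g₁).hom t) := by
  induction t using TensorProduct.induction_on with
  | zero => simp
  | tmul s m =>
    rw [Φ'_tmul, LinearMap.lTensor_tmul, LinearMap.lTensor_tmul, Φ'_tmul]
    rfl
  | add a b ha hb => rw [map_add, map_add, ha, hb, map_add, map_add]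

section Bij

variable (hc : IsPullback g' (sm B X') (sm A X) g) [F.IsQuasicoherent]

include hc in
lemma isAffineOpen_upW {W : X.Opens} (hW : IsAffineOpen W) : IsAffineOpen (upW B g' W) :=
  Groth.Agent.Lib.Helper17.UnitBC.isAffineOpen_up hc (V := ⊤) (V' := ⊤)
    (fun _ _ => trivial) (isAffineOpen_top _) (isAffineOpen_top _) (fun _ _ => trivial) hW

include hc in
lemma Φ'_bijective (M' : ModuleCat.{u} B) {W : X.Opens} (hW : IsAffineOpen W) :
    Function.Bijective (Φ' A B g g' hc.w F M' W) := by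
  have hV'V : (⊤ : (Spec (CommRingCat.of B)).Opens) ≤ g ⁻¹ᵁ ⊤ := fun _ _ => trivial
  have hWle : W ≤ (sm A X) ⁻¹ᵁ ⊤ := fun _ _ => trivial
  have hbc := Groth.Agent.Lib.Helper17.UnitBC.isBCHom_cmp_of_isAffineOpen hc F hV'V
    (isAffineOpen_top _) (isAffineOpen_top _) hWle hW
  let ψA : A ≃+* Γ(Spec (CommRingCat.of A), ⊤) :=
    (Scheme.ΓSpecIso (CommRingCat.of A)).symm.commRingCatIsoToRingEquiv
  let ψB : B ≃+* Γ(Spec (CommRingCat.of B), ⊤) :=
    (Scheme.ΓSpecIso (CommRingCat.of B)).symm.commRingCatIsoToRingEquiv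
  letI i1 : Module Γ(Spec (CommRingCat.of A), ⊤) (SecA A F W) :=
    Module.compHom Γ(F, W) ((sm A X).appLE ⊤ W hWle).hom
  letI i2 : Module Γ(Spec (CommRingCat.of B), ⊤) (SecA B (F' g' F) (upW B g' W)) :=
    Module.compHom Γ(F' g' F, upW B g' W) ((sm B X').appLE ⊤ (upW B g' W) inf_le_right).hom
  have hφ : ∀ a, ψB (φg A B g a) = (g.appLE ⊤ ⊤ hV'V).hom (ψA a) := by
    intro a
    show (Scheme.ΓSpecIso (CommRingCat.of B)).inv.hom ((Scheme.ΓSpecIso (CommRingCat.of B)).hom.hom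
      (g.appTop.hom ((Scheme.ΓSpecIso (CommRingCat.of A)).inv.hom a))) = _
    have h6 : ∀ z, (Scheme.ΓSpecIso (CommRingCat.of B)).inv.hom
        ((Scheme.ΓSpecIso (CommRingCat.of B)).hom.hom z) = z := fun z =>
      congr($((Scheme.ΓSpecIso (CommRingCat.of B)).hom_inv_id) z)
    rw [h6]
    have h7 : g.appLE ⊤ ⊤ hV'V = g.appTop := by
      rw [Scheme.Hom.appTop, Scheme.Hom.app_eq_appLE]
      rfl
    rw [h7]
    rfl
  exact bijective_tensor_of_isBCHom (N := SecA A F W) (N' := SecA B (F' g' F) (upW B g' W))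
    (M' := ↑M') (MA := ↑(MA A B g M')) ψA ψB (g.appLE ⊤ ⊤ hV'V).hom (φg A B g) hφ
    (fun a n => rfl) (fun b n => rfl) (AddEquiv.refl ↑M') (fun a m => rfl)
    (γ A B g' F W) hbc (Φ' A B g g' hc.w F M' W) (fun s m => rfl)

end Bij

end Groth.Agent.Lib.Helper13.CBCBase
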