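import Mathlib
import Groth.Agent.Lib.Helper13.CBCCech2

/-!
# Homology level: `H^p(C ⊗_A M) ≅ Ȟ^p(U, f^*(M~) ⊗ F)` naturally in `M`
-/

set_option autoImplicit false
universe u
open CategoryTheory CategoryTheory.Limits AlgebraicGeometry TopologicalSpace Opposite TensorProduct
  MonoidalCategory
open Scheme.Modules

namespace Groth.Agent.Lib.Helper13.CBCHom

open Groth.Agent.Lib.Helper13.CBCSec Groth.Agent.Lib.Helper13.CBCCechMap
  Groth.Agent.Lib.Helper13.CechBasic Groth.Agent.Lib.Helper13.CBCCech

section General

variable {C D : Type*} [Category C] [Category D] [Abelian C] [Abelian D] (G : C ⥤ D) [G.Additive]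
  [G.PreservesHomology] {ι : Type*} (c : ComplexShape ι)

/-- a homology-preserving functor commutes with homology of complexes, naturally. -/
noncomputable def homologyCxIso (i : ι) :
    G.mapHomologicalComplex c ⋙ HomologicalComplex.homologyFunctor D c i ≅
      HomologicalComplex.homologyFunctor C c i ⋙ G :=
  NatIso.ofComponents (fun K => (K.sc i).mapHomologyIso G) (fun {K L} f =>
    ShortComplex.mapHomologyIso_hom_naturality
      ((HomologicalComplex.shortComplexFunctor C c i).map f) G)

end General

variable (A : Type u) [CommRing A] {X : Scheme.{u}} [X.Over (Spec (CommRingCat.of A))]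
  (F : X.Modules) {ι : Type u} (U : ι → X.Opens) [Finite ι]
  [F.IsQuasicoherent] (hU : ∀ (n : ℕ) (i : Fin (n + 1) → ι), IsAffineOpen (∏ᶜ (U ∘ i)))

/-- the forgetful functor to abelian groups. -/
noncomputable abbrev fg : ModuleCat.{u} A ⥤ AddCommGrpCat.{u} :=
  forget₂ (ModuleCat.{u} A) AddCommGrpCat.{u}

/-- `H^p(C ⊗_A M) ≅ Ȟ^p(U, f^*(M~) ⊗ F)`. -/
noncomputable def HIso (M : ModuleCat.{u} A) (p : ℕ) :
    (fg A).obj ((CohIII.tensorObj (CC A F U) M).homology p) ≅
      (cx U (TM A F M).presheaf).homology p :=
  ((homologyCxIso (fg A) (ComplexShape.up ℕ) p).app (CohIII.tensorObj (CC A F U) M)).symm ≪≫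
    (HomologicalComplex.homologyFunctor _ _ p).mapIso (EM A F U hU M)

lemma HIso_nat {M N : ModuleCat.{u} A} (g : M ⟶ N) (p : ℕ) :
    (fg A).map (HomologicalComplex.homologyMap (CohIII.tensorMap (CC A F U) g) p) ≫
        (HIso A F U hU N p).hom =
      (HIso A F U hU M p).hom ≫ HomologicalComplex.homologyMap ((cechComplexFunctor U).map
        ((SheafOfModules.toSheaf X.ringCatSheaf).map ((CohIII.tensorAFunctor A F).map g)).hom) p := by
  have h1 : (fg A).map (HomologicalComplex.homologyMap (CohIII.tensorMap (CC A F U) g) p) ≫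
      (homologyCxIso (fg A) (ComplexShape.up ℕ) p).inv.app (CohIII.tensorObj (CC A F U) N) =
      (homologyCxIso (fg A) (ComplexShape.up ℕ) p).inv.app (CohIII.tensorObj (CC A F U) M) ≫
        HomologicalComplex.homologyMap ((FG A).map (CohIII.tensorMap (CC A F U) g)) p :=
    (homologyCxIso (fg A) (ComplexShape.up ℕ) p).inv.naturality (CohIII.tensorMap (CC A F U) g)
  have h2 : HomologicalComplex.homologyMap ((FG A).map (CohIII.tensorMap (CC A F U) g)) p ≫
      HomologicalComplex.homologyMap (EM A F U hU N).hom p =
      HomologicalComplex.homologyMap (EM A F U hU M).hom p ≫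
        HomologicalComplex.homologyMap ((cechComplexFunctor U).map
          ((SheafOfModules.toSheaf X.ringCatSheaf).map
            ((CohIII.tensorAFunctor A F).map g)).hom) p := by
    exact ((HomologicalComplex.homologyMap_comp _ _ p).symm.trans
      (congrArg (fun k => HomologicalComplex.homologyMap k p) (EM_nat A F U hU g))).trans
      (HomologicalComplex.homologyMap_comp _ _ p)
  show (fg A).map (HomologicalComplex.homologyMap (CohIII.tensorMap (CC A F U) g) p) ≫
      ((homologyCxIso (fg A) (ComplexShape.up ℕ) p).inv.app (CohIII.tensorObj (CC A F U) N) ≫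
        HomologicalComplex.homologyMap (EM A F U hU N).hom p) =
    ((homologyCxIso (fg A) (ComplexShape.up ℕ) p).inv.app (CohIII.tensorObj (CC A F U) M) ≫
        HomologicalComplex.homologyMap (EM A F U hU M).hom p) ≫ _
  exact ((Category.assoc _ _ _).symm.trans
    (congrArg (fun k => k ≫ HomologicalComplex.homologyMap (EM A F U hU N).hom p) h1)).trans
    ((Category.assoc _ _ _).trans ((congrArg (fun k =>
      (homologyCxIso (fg A) (ComplexShape.up ℕ) p).inv.app (CohIII.tensorObj (CC A F U) M) ≫ k)
        h2).trans (Category.assoc _ _ _).symm))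

end Groth.Agent.Lib.Helper13.CBCHom
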