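import Mathlib
import Groth.Agent.Lib.Helper13.CBCHom

/-!
# The homology of the Čech complex `C` of `F` (as `A`-modules) vs. Čech cohomology of `F`,
compatibly with the `A`-action
-/

set_option autoImplicit false
universe u
open CategoryTheory CategoryTheory.Limits AlgebraicGeometry TopologicalSpace Opposite TensorProduct
open Scheme.Modules

namespace Groth.Agent.Lib.Helper13.CBCFin

open Groth.Agent.Lib.Helper13.CBCSec Groth.Agent.Lib.Helper13.CBCCechMap
  Groth.Agent.Lib.Helper13.CechBasic Groth.Agent.Lib.Helper13.CBCCech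
  Groth.Agent.Lib.Helper13.CBCHom

variable (A : Type u) [CommRing A] {X : Scheme.{u}} [X.Over (Spec (CommRingCat.of A))]
  (F : X.Modules) {ι : Type u} (U : ι → X.Opens)

/-- the underlying presheaf of abelian groups of `PA`. -/
noncomputable def isoPAF : PA A F ⋙ fg A ≅ F.presheaf :=
  NatIso.ofComponents (fun W => Iso.refl _) (by intro W W' g; ext s; rfl)

/-- multiplication by `a` on `PA`. -/
noncomputable def μ (a : A) : PA A F ⟶ PA A F where
  app W := a • 𝟙 _
  naturality W W' g := by rw [Linear.comp_smul, Linear.smul_comp, Category.comp_id, Category.id_comp]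

lemma cech_map_μ (a : A) : (cechComplexFunctor U).map (μ A F a) = a • 𝟙 (CC A F U) := by
  ext n : 1
  apply hom_ext_projA
  intro i
  rw [map_projA]
  show projA U (PA A F) n i ≫ (a • 𝟙 _) = (a • 𝟙 (CC A F U)).f n ≫ projA U (PA A F) n i
  rw [HomologicalComplex.smul_f_apply, HomologicalComplex.id_f, Linear.comp_smul, Linear.smul_comp,
    Category.comp_id, Category.id_comp]

lemma φ_eq_resTop (W : (X.Opens)ᵒᵖ) (a : A) :
    φ A W.unop a = Coh.resTop X W (Coh.toGlobal (sm A X) a) := rfl

lemma μ_iso (a : A) :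
    Functor.whiskerRight (μ A F a) (fg A) ≫ (isoPAF A F).hom =
      (isoPAF A F).hom ≫ (Coh.smulAb F (Coh.toGlobal (sm A X) a)).hom := by
  ext W s
  rfl

/-- `C`, as a complex of abelian groups, is the Čech complex of `F`. -/
noncomputable def κ : (FG A).obj (CC A F U) ≅ cx U F.presheaf :=
  cechMapIso U (PA A F) (fg A) ≪≫ (cechComplexFunctor U).mapIso (isoPAF A F)

lemma κ_hom : (κ A F U).hom =
    (cechMapIso U (PA A F) (fg A)).hom ≫ (cechComplexFunctor U).map (isoPAF A F).hom := rfl

lemma κ_smul (a : A) :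
    (FG A).map (a • 𝟙 (CC A F U)) ≫ (κ A F U).hom =
      (κ A F U).hom ≫ (cechComplexFunctor U).map
        (Coh.smulAb F (Coh.toGlobal (sm A X) a)).hom := by
  have h1 := cechMapIso_nat_presheaf U (fg A) (μ A F a)
  have h2 : (cechComplexFunctor U).map (Functor.whiskerRight (μ A F a) (fg A)) ≫
      (cechComplexFunctor U).map (isoPAF A F).hom =
      (cechComplexFunctor U).map (isoPAF A F).hom ≫ (cechComplexFunctor U).map
        (Coh.smulAb F (Coh.toGlobal (sm A X) a)).hom := by
    rw [← Functor.map_comp, ← Functor.map_comp]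
    exact congrArg _ (μ_iso A F a)
  rw [κ_hom, ← cech_map_μ, ← Category.assoc, h1, Category.assoc, h2, Category.assoc]
  rfl

/-- `H^p(C) ≅ Ȟ^p(U, F)` as abelian groups. -/
noncomputable def HF (p : ℕ) :
    (fg A).obj ((CC A F U).homology p) ≅ (cx U F.presheaf).homology p :=
  ((homologyCxIso (fg A) (ComplexShape.up ℕ) p).app (CC A F U)).symm ≪≫
    (HomologicalComplex.homologyFunctor _ _ p).mapIso (κ A F U)

lemma homologyMap_smul_id (K : CochainComplex (ModuleCat.{u} A) ℕ) (a : A) (p : ℕ) :
    HomologicalComplex.homologyMap (a • 𝟙 K) p = a • 𝟙 (K.homology p) := by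
  show ShortComplex.homologyMap ((HomologicalComplex.shortComplexFunctor _ _ p).map (a • 𝟙 K)) = _
  have : (HomologicalComplex.shortComplexFunctor (ModuleCat.{u} A) (ComplexShape.up ℕ) p).map
      (a • 𝟙 K) = a • 𝟙 (K.sc p) := by
    ext <;> rfl
  rw [this, ShortComplex.homologyMap_smul, ShortComplex.homologyMap_id]
  rfl

lemma HF_smul (a : A) (p : ℕ) :
    (fg A).map (a • 𝟙 ((CC A F U).homology p)) ≫ (HF A F U p).hom =
      (HF A F U p).hom ≫ HomologicalComplex.homologyMap ((cechComplexFunctor U).map
        (Coh.smulAb F (Coh.toGlobal (sm A X) a)).hom) p := by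
  have h1 : (fg A).map (HomologicalComplex.homologyMap (a • 𝟙 (CC A F U)) p) ≫
      (homologyCxIso (fg A) (ComplexShape.up ℕ) p).inv.app (CC A F U) =
      (homologyCxIso (fg A) (ComplexShape.up ℕ) p).inv.app (CC A F U) ≫
        HomologicalComplex.homologyMap ((FG A).map (a • 𝟙 (CC A F U))) p :=
    (homologyCxIso (fg A) (ComplexShape.up ℕ) p).inv.naturality (a • 𝟙 (CC A F U))
  have h2 : HomologicalComplex.homologyMap ((FG A).map (a • 𝟙 (CC A F U))) p ≫
      HomologicalComplex.homologyMap (κ A F U).hom p =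
      HomologicalComplex.homologyMap (κ A F U).hom p ≫
        HomologicalComplex.homologyMap ((cechComplexFunctor U).map
          (Coh.smulAb F (Coh.toGlobal (sm A X) a)).hom) p :=
    ((HomologicalComplex.homologyMap_comp _ _ p).symm.trans
      (congrArg (fun k => HomologicalComplex.homologyMap k p) (κ_smul A F U a))).trans
      (HomologicalComplex.homologyMap_comp _ _ p)
  rw [← homologyMap_smul_id]
  show (fg A).map (HomologicalComplex.homologyMap (a • 𝟙 (CC A F U)) p) ≫
      ((homologyCxIso (fg A) (ComplexShape.up ℕ) p).inv.app (CC A F U) ≫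
        HomologicalComplex.homologyMap (κ A F U).hom p) =
    ((homologyCxIso (fg A) (ComplexShape.up ℕ) p).inv.app (CC A F U) ≫
        HomologicalComplex.homologyMap (κ A F U).hom p) ≫ _
  exact ((Category.assoc _ _ _).symm.trans
    (congrArg (fun k => k ≫ HomologicalComplex.homologyMap (κ A F U).hom p) h1)).trans
    ((Category.assoc _ _ _).trans ((congrArg (fun k =>
      (homologyCxIso (fg A) (ComplexShape.up ℕ) p).inv.app (CC A F U) ≫ k)
        h2).trans (Category.assoc _ _ _).symm))

end Groth.Agent.Lib.Helper13.CBCFin
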