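import Mathlib
import Groth.Agent.Lib.Helper13.CBCBase2
import Groth.Agent.Lib.Helper13.CBCFin

/-!
# The base change comparison as morphisms of presheaves on `X`
-/

set_option autoImplicit false
universe u
open CategoryTheory CategoryTheory.Limits AlgebraicGeometry TopologicalSpace Opposite TensorProduct
  MonoidalCategory
open Scheme.Modules

namespace Groth.Agent.Lib.Helper13.CBCBase

open Groth.Agent.Lib.Helper3 Groth.Agent.Lib.Helper3.QCSec Groth.Agent.Lib.Helper3.PbBasic
  Groth.Agent.Lib.Helper3.InvGen Groth.Agent.Lib.Helper3.InvTensor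
  Groth.Agent.Lib.Helper3.InvMonoidal
open Groth.Agent.Lib.Helper17.UnitBC hiding SecA resA resA_apply
open Groth.Agent.Lib.Helper17.TensorSec
open Groth.Agent.Lib.Helper13.CBCSec Groth.Agent.Lib.Helper13.CBCCech
  Groth.Agent.Lib.Helper13.CBCUp

variable (A B : Type u) [CommRing A] [CommRing B] {X X' : Scheme.{u}}
  [X.Over (Spec (CommRingCat.of A))] [X'.Over (Spec (CommRingCat.of B))]
  (g : Spec (CommRingCat.of B) ⟶ Spec (CommRingCat.of A)) (g' : X' ⟶ X)
  (hw : g' ≫ sm A X = sm B X' ≫ g) (F : X.Modules)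

/-- variant 1: `Γ(W, F) ⊗_A M' → Γ(g'⁻¹ W, f'^*(M'~) ⊗ g'^* F)`. -/
noncomputable def τBC (M' : ModuleCat.{u} B) :
    PMt A F (MA A B g M') ⟶ (upF g' (sm B X')).op ⋙ (TM B (F' g' F) M').presheaf where
  app W := AddCommGrpCat.ofHom
    ((θ B (F' g' F) M' (upW B g' W.unop)).comp (Φ' A B g g' hw F M' W.unop))
  naturality W W' h := by
    ext t
    exact ((congrArg (θ B (F' g' F) M' (upW B g' W'.unop))
      (res_Φ' A B g g' hw F M' (leOfHom h.unop) t)).symm.trans
      (res_θ B (F' g' F) M' (Groth.Agent.Lib.Helper17.UnitBC.up_mono g' (sm B X') ⊤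
        (leOfHom h.unop)) (Φ' A B g g' hw F M' W.unop t)).symm)

lemma τBC_app_apply (M' : ModuleCat.{u} B) (W : X.Opens)
    (t : SecA A F W ⊗[A] ↑(MA A B g M')) :
    ((τBC A B g g' hw F M').app (op W)).hom t =
      θ B (F' g' F) M' (upW B g' W) (Φ' A B g g' hw F M' W t) := rfl

lemma τBC_nat {M' N' : ModuleCat.{u} B} (g₁ : M' ⟶ N') :
    Functor.whiskerRight (Functor.whiskerLeft (PA A F) ((tensoringRight (ModuleCat.{u} A)).map
        ((ModuleCat.restrictScalars (φg A B g)).map g₁)))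
        (forget₂ (ModuleCat.{u} A) AddCommGrpCat.{u}) ≫ τBC A B g g' hw F N' =
      τBC A B g g' hw F M' ≫ Functor.whiskerLeft (upF g' (sm B X')).op
        ((SheafOfModules.toSheaf X'.ringCatSheaf).map
          ((CohIII.tensorAFunctor B (F' g' F)).map g₁)).hom := by
  ext W t
  rw [tensorAFunctor_map]
  exact ((congrArg (θ B (F' g' F) N' (upW B g' W.unop))
    (Φ'_map A B g g' hw F g₁ W.unop t)).symm.trans
    (θ_map B (F' g' F) g₁ (upW B g' W.unop) (Φ' A B g g' hw F M' W.unop t)).symm)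

/-- `n ⊗ b ↦ b • n`. -/
noncomputable def ridHom (W' : X'.Opens) :
    SecA B (F' g' F) W' ⊗[B] B →+ Γ(F' g' F, W') :=
  (TensorProduct.rid B (SecA B (F' g' F) W')).toLinearMap.toAddMonoidHom

lemma ridHom_tmul (W' : X'.Opens) (n : SecA B (F' g' F) W') (b : B) :
    ridHom B g' F W' (n ⊗ₜ[B] b) = (φ B W' b • (show Γ(F' g' F, W') from n)) := rfl

lemma res_ridHom {W₁ W₂ : X'.Opens} (h : W₂ ≤ W₁) (x : SecA B (F' g' F) W₁ ⊗[B] B) :
    res (F' g' F) h (ridHom B g' F W₁ x) =
      ridHom B g' F W₂ (LinearMap.rTensor B (resA B (F' g' F) h) x) := by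
  induction x using TensorProduct.induction_on with
  | zero => simp
  | tmul n b =>
    rw [LinearMap.rTensor_tmul, ridHom_tmul, ridHom_tmul, res_smul, rres_φ]
    rfl
  | add a b ha hb => rw [map_add, QCExact.res_add, ha, hb, map_add, map_add]

/-- variant 2: `Γ(W, F) ⊗_A B → Γ(g'⁻¹ W, g'^* F)`. -/
noncomputable def τBC0 :
    PMt A F (MA A B g (ModuleCat.of B B)) ⟶ (upF g' (sm B X')).op ⋙ (F' g' F).presheaf where
  app W := AddCommGrpCat.ofHom
    ((ridHom B g' F (upW B g' W.unop)).comp (Φ' A B g g' hw F (ModuleCat.of B B) W.unop))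
  naturality W W' h := by
    ext t
    exact ((congrArg (ridHom B g' F (upW B g' W'.unop))
      (res_Φ' A B g g' hw F (ModuleCat.of B B) (leOfHom h.unop) t)).symm.trans
      (res_ridHom B g' F (Groth.Agent.Lib.Helper17.UnitBC.up_mono g' (sm B X') ⊤
        (leOfHom h.unop)) (Φ' A B g g' hw F (ModuleCat.of B B) W.unop t)).symm)

lemma τBC0_tmul (W : X.Opens) (s : SecA A F W) (b : B) :
    ((τBC0 A B g g' hw F).app (op W)).hom (s ⊗ₜ[A] (show ↑(MA A B g (ModuleCat.of B B)) from b)) =
      (φ B (upW B g' W) b • (show Γ(F' g' F, upW B g' W) from γ A B g' F W s)) := rfl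

/-- multiplication by `b` on `B`, as an `A`-linear map. -/
noncomputable def μB (b : B) : MA A B g (ModuleCat.of B B) ⟶ MA A B g (ModuleCat.of B B) :=
  (ModuleCat.restrictScalars (φg A B g)).map (b • 𝟙 (ModuleCat.of B B))

lemma τBC0_smul (b : B) :
    Functor.whiskerRight (Functor.whiskerLeft (PA A F) ((tensoringRight (ModuleCat.{u} A)).map
        (μB A B g b))) (forget₂ (ModuleCat.{u} A) AddCommGrpCat.{u}) ≫ τBC0 A B g g' hw F =
      τBC0 A B g g' hw F ≫ Functor.whiskerLeft (upF g' (sm B X')).op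
        (Coh.smulAb (F' g' F) (Coh.toGlobal (sm B X') b)).hom := by
  ext W t
  induction t using TensorProduct.induction_on with
  | zero => simp
  | tmul s c =>
    show ((τBC0 A B g g' hw F).app W).hom (s ⊗ₜ[A] (show ↑(MA A B g (ModuleCat.of B B)) from
      (b * (show B from c) : B))) = φ B (upW B g' W.unop) b •
        (show Γ(F' g' F, upW B g' W.unop) from
          ((τBC0 A B g g' hw F).app W).hom (s ⊗ₜ[A] c))
    rw [τBC0_tmul]
    show _ = φ B (upW B g' W.unop) b • (φ B (upW B g' W.unop) (show B from c) •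
      (show Γ(F' g' F, upW B g' W.unop) from γ A B g' F W.unop s))
    rw [map_mul, mul_smul]
  | add a b ha hb =>
    rw [map_add, ha, hb, map_add]

section Bij

variable (hc : IsPullback g' (sm B X') (sm A X) g) [F.IsQuasicoherent]

instance qc_F' : (F' g' F).IsQuasicoherent :=
  Groth.Agent.Lib.Helper17.PbStalk.isQuasicoherent_pullback g' F

include hc in
lemma τBC_bijective (M' : ModuleCat.{u} B) {W : X.Opens} (hW : IsAffineOpen W) :
    Function.Bijective ((τBC A B g g' hc.w F M').app (op W)).hom :=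
  (θ_bijective B (F' g' F) M' (isAffineOpen_upW A B g g' hc hW)).comp
    (Φ'_bijective A B g g' F hc M' hW)

include hc in
lemma τBC0_bijective {W : X.Opens} (hW : IsAffineOpen W) :
    Function.Bijective ((τBC0 A B g g' hc.w F).app (op W)).hom :=
  (TensorProduct.rid B (SecA B (F' g' F) (upW B g' W))).bijective.comp
    (Φ'_bijective A B g g' F hc (ModuleCat.of B B) hW)

end Bij

end Groth.Agent.Lib.Helper13.CBCBase
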