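import Mathlib
import Groth.Agent.Lib.Helper13.CBCSec

/-!
# Finite affine covers with affine intersections, for separated quasi-compact schemes over `Spec A`
-/

set_option autoImplicit false
universe u
open CategoryTheory CategoryTheory.Limits AlgebraicGeometry TopologicalSpace Opposite

namespace Groth.Agent.Lib.Helper13.CBCCover

open Groth.Agent.Lib.Helper13.CBCSec

theorem exists_cover (A : Type u) [CommRing A] (X : Scheme.{u}) [X.Over (Spec (CommRingCat.of A))]
    [IsSeparated (sm A X)] [QuasiCompact (sm A X)] :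
    ∃ (ι : Type u) (_ : Finite ι) (U : ι → X.Opens), (⨆ i, U i = ⊤) ∧
      (∀ i, IsAffineOpen (U i)) ∧
      (∀ s : Finset ι, s.Nonempty → IsAffineOpen (⨅ i ∈ s, U i)) := by
  haveI : X.IsSeparated := (HasAffineProperty.iff_of_isAffine (P := @IsSeparated)).mp
    (inferInstance : IsSeparated (sm A X))
  haveI : CompactSpace X := QuasiCompact.compactSpace_of_compactSpace (sm A X)
  obtain ⟨ι, hfin, U, hUaff, -, hcov⟩ :=
    Groth.Agent.Lib.Helper3.QCSec.exists_finite_affine_cover (⊤ : X.Opens) isCompact_univ
  refine ⟨ι, hfin, U, top_le_iff.mp hcov, hUaff, fun s hs => ?_⟩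
  simpa using IsAffineOpen.biInf (s : Set ι) s.finite_toSet hs (fun i _ => hUaff i)

end Groth.Agent.Lib.Helper13.CBCCover
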