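import Mathlib

/-!
# Additive functors commute with extension of complexes along an embedding of shapes

`mapExtendIso : G(K.extend e) ≅ (G K).extend e`, natural in `G`; the embedding `n ↦ -n` of
`up ℕ` into `down ℤ`; and the induced isomorphism on homology.
-/

set_option autoImplicit false
universe u
open CategoryTheory CategoryTheory.Limits HomologicalComplex

namespace Groth.Agent.Lib.Helper13.CBCExt

/-- the embedding `n ↦ -n` of the cochain shape on `ℕ` into the chain shape on `ℤ`. -/
def eNeg : ComplexShape.Embedding (ComplexShape.up ℕ) (ComplexShape.down ℤ) :=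
  ComplexShape.Embedding.mk' _ _ (fun n => -(n : ℤ)) (fun a b h => by simpa using h)
    (fun i j => by
      simp only [ComplexShape.up_Rel, ComplexShape.down_Rel]
      constructor <;> intro h <;> omega)

@[simp] lemma eNeg_f (n : ℕ) : eNeg.f n = -(n : ℤ) := rfl

section

variable {ι ι' : Type*} {c : ComplexShape ι} {c' : ComplexShape ι'} (e : c.Embedding c')
  {C D : Type*} [Category C] [Category D] [Preadditive C] [Preadditive D] [HasZeroObject C]
  [HasZeroObject D] (G : C ⥤ D) [G.Additive] (K : HomologicalComplex C c)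

noncomputable def auxIso {i : ι} {i' : ι'} (h : e.f i = i') :
    G.obj ((K.extend e).X i') ≅ (((G.mapHomologicalComplex c).obj K).extend e).X i' :=
  G.mapIso (K.extendXIso e h) ≪≫ (((G.mapHomologicalComplex c).obj K).extendXIso e h).symm

lemma auxIso_indep {i₁ i₂ : ι} {i' : ι'} (h₁ : e.f i₁ = i') (h₂ : e.f i₂ = i') :
    auxIso e G K h₁ = auxIso e G K h₂ := by
  obtain rfl : i₁ = i₂ := e.injective_f (h₁.trans h₂.symm)
  rfl

open Classical in
noncomputable def mapExtendXIso (i' : ι') :
    G.obj ((K.extend e).X i') ≅ (((G.mapHomologicalComplex c).obj K).extend e).X i' :=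
  if h : ∃ i, e.f i = i' then auxIso e G K h.choose_spec
  else IsZero.iso (G.map_isZero (K.isZero_extend_X e i' (fun i hi => h ⟨i, hi⟩)))
    (((G.mapHomologicalComplex c).obj K).isZero_extend_X e i' (fun i hi => h ⟨i, hi⟩))

lemma mapExtendXIso_eq {i : ι} {i' : ι'} (h : e.f i = i') :
    mapExtendXIso e G K i' = auxIso e G K h := by
  unfold mapExtendXIso
  rw [dif_pos ⟨i, h⟩]
  exact auxIso_indep e G K _ _

/-- `G (K.extend e) ≅ (G K).extend e`. -/
noncomputable def mapExtendIso :
    (G.mapHomologicalComplex c').obj (K.extend e) ≅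
      ((G.mapHomologicalComplex c).obj K).extend e :=
  HomologicalComplex.Hom.isoOfComponents (fun i' => mapExtendXIso e G K i') (by
    intro i' j' _
    show (mapExtendXIso e G K i').hom ≫ (((G.mapHomologicalComplex c).obj K).extend e).d i' j' =
      G.map ((K.extend e).d i' j') ≫ (mapExtendXIso e G K j').hom
    by_cases hi : ∃ i, e.f i = i'
    · obtain ⟨i, hi⟩ := hi
      by_cases hj : ∃ j, e.f j = j'
      · obtain ⟨j, hj⟩ := hj
        rw [mapExtendXIso_eq e G K hi, mapExtendXIso_eq e G K hj, K.extend_d_eq e hi hj,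
          ((G.mapHomologicalComplex c).obj K).extend_d_eq e hi hj]
        simp only [auxIso, Iso.trans_hom, Functor.mapIso_hom, Iso.symm_hom, Functor.map_comp,
          Category.assoc, Functor.mapHomologicalComplex_obj_d]
        erw [Iso.inv_hom_id_assoc]
        rw [← G.map_comp_assoc (K.extendXIso e hj).inv, Iso.inv_hom_id, G.map_id,
          Category.id_comp]
        rfl
      · apply IsZero.eq_of_tgt
        exact isZero_extend_X _ e j' (fun j hj' => hj ⟨j, hj'⟩)
    · apply IsZero.eq_of_src
      exact G.map_isZero (K.isZero_extend_X e i' (fun i hi' => hi ⟨i, hi'⟩)))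

lemma mapExtendIso_hom_f (i' : ι') :
    (mapExtendIso e G K).hom.f i' = (mapExtendXIso e G K i').hom := rfl

variable {G} in
/-- naturality in the functor. -/
lemma mapExtendIso_natTrans {G' : C ⥤ D} [G'.Additive] (α : G ⟶ G') :
    (NatTrans.mapHomologicalComplex α c').app (K.extend e) ≫ (mapExtendIso e G' K).hom =
      (mapExtendIso e G K).hom ≫ extendMap ((NatTrans.mapHomologicalComplex α c).app K) e := by
  ext i' : 1
  show α.app ((K.extend e).X i') ≫ (mapExtendXIso e G' K i').hom =
    (mapExtendXIso e G K i').hom ≫ (extendMap ((NatTrans.mapHomologicalComplex α c).app K) e).f i'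
  by_cases hi : ∃ i, e.f i = i'
  · obtain ⟨i, hi⟩ := hi
    rw [mapExtendXIso_eq e G K hi, mapExtendXIso_eq e G' K hi, extendMap_f _ e hi]
    simp only [auxIso, Iso.trans_hom, Functor.mapIso_hom, Iso.symm_hom, Category.assoc,
      NatTrans.mapHomologicalComplex_app_f]
    erw [Iso.inv_hom_id_assoc]
    rw [← α.naturality_assoc]
    rfl
  · apply IsZero.eq_of_src
    exact G.map_isZero (K.isZero_extend_X e i' (fun i hi' => hi ⟨i, hi'⟩))

end

section Homology

variable {ι ι' : Type*} {c : ComplexShape ι} {c' : ComplexShape ι'} (e : c.Embedding c')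
  {C D : Type*} [Category C] [Category D] [Abelian C] [Abelian D]
  (G : C ⥤ D) [G.Additive] (K : HomologicalComplex C c)

/-- `H_{e j}(G (K.extend e)) ≅ H_j(G K)`. -/
noncomputable def homologyIso {j : ι} {j' : ι'} (hj : e.f j = j') :
    ((G.mapHomologicalComplex c').obj (K.extend e)).homology j' ≅
      ((G.mapHomologicalComplex c).obj K).homology j :=
  (homologyFunctor D c' j').mapIso (mapExtendIso e G K) ≪≫
    extendHomologyIso ((G.mapHomologicalComplex c).obj K) e hj

variable {G} in
lemma homologyIso_natTrans {G' : C ⥤ D} [G'.Additive] (α : G ⟶ G') {j : ι} {j' : ι'}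
    (hj : e.f j = j') :
    homologyMap ((NatTrans.mapHomologicalComplex α c').app (K.extend e)) j' ≫
        (homologyIso e G' K hj).hom =
      (homologyIso e G K hj).hom ≫ homologyMap ((NatTrans.mapHomologicalComplex α c).app K) j := by
  show homologyMap ((NatTrans.mapHomologicalComplex α c').app (K.extend e)) j' ≫
      (homologyMap (mapExtendIso e G' K).hom j' ≫
        (extendHomologyIso ((G'.mapHomologicalComplex c).obj K) e hj).hom) =
    (homologyMap (mapExtendIso e G K).hom j' ≫
        (extendHomologyIso ((G.mapHomologicalComplex c).obj K) e hj).hom) ≫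
      homologyMap ((NatTrans.mapHomologicalComplex α c).app K) j
  rw [← Category.assoc, ← homologyMap_comp, mapExtendIso_natTrans, homologyMap_comp,
    Category.assoc, extendHomologyIso_hom_naturality, Category.assoc]

lemma isZero_homology_of_not_mem (j' : ι') (hj' : ∀ j, e.f j ≠ j') :
    IsZero (((G.mapHomologicalComplex c').obj (K.extend e)).homology j') := by
  apply ShortComplex.isZero_homology_of_isZero_X₂
  exact G.map_isZero (K.isZero_extend_X e j' hj')

end Homology

end Groth.Agent.Lib.Helper13.CBCExt
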