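import Mathlib
import Groth.Agent.Lib.Helper13.CBCHom
import Groth.Agent.Lib.Helper13.CBCExt

/-!
# The natural isomorphism `TFun P (-p) ⋙ forget ≅ tensorAFunctor A F ⋙ HAb X p`, for `P` the
Čech complex of `F` extended to a chain complex indexed by `ℤ`
-/

set_option autoImplicit false
universe u
open CategoryTheory CategoryTheory.Limits AlgebraicGeometry TopologicalSpace Opposite TensorProduct
  MonoidalCategory
open Scheme.Modules

namespace Groth.Agent.Lib.Helper13.CBCNat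

open Groth.Agent.Lib.Helper13.CBCSec Groth.Agent.Lib.Helper13.CBCCechMap
  Groth.Agent.Lib.Helper13.CechBasic Groth.Agent.Lib.Helper13.CBCCech
  Groth.Agent.Lib.Helper13.CBCHom Groth.Agent.Lib.Helper13.CBCExt
open Groth.Agent.Lib.Helper17.TensorSec

lemma three_squares {C : Type*} [Category C] {X₀ X₁ X₂ X₃ Y₀ Y₁ Y₂ Y₃ : C} (a₀ : X₀ ⟶ Y₀)
    (a₁ : X₁ ⟶ Y₁) (a₂ : X₂ ⟶ Y₂) (a₃ : X₃ ⟶ Y₃) (b : Y₀ ⟶ Y₁) (c : Y₁ ⟶ Y₂) (d : Y₂ ⟶ Y₃)
    (b' : X₀ ⟶ X₁) (c' : X₁ ⟶ X₂) (d' : X₂ ⟶ X₃)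
    (h1 : a₀ ≫ b = b' ≫ a₁) (h2 : a₁ ≫ c = c' ≫ a₂) (h3 : a₂ ≫ d = d' ≫ a₃) :
    a₀ ≫ (b ≫ c ≫ d) = (b' ≫ c' ≫ d') ≫ a₃ := by
  rw [← Category.assoc, h1, Category.assoc, ← Category.assoc a₁, h2, Category.assoc, h3,
    Category.assoc, Category.assoc]

variable (A : Type u) [CommRing A] {X : Scheme.{u}} [X.Over (Spec (CommRingCat.of A))]
  (F : X.Modules) {ι : Type u} (U : ι → X.Opens) [Finite ι]
  [F.IsQuasicoherent] (hU : ∀ (n : ℕ) (i : Fin (n + 1) → ι), IsAffineOpen (∏ᶜ (U ∘ i)))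

/-- the Čech complex of `F` as a chain complex of `A`-modules indexed by `ℤ`. -/
noncomputable abbrev PP : ChainComplex (ModuleCat.{u} A) ℤ := (CC A F U).extend eNeg

lemma qc_TM (M : ModuleCat.{u} A) : Coh.IsQCoh (TM A F M) :=
  isQuasicoherent_tensorMod (pM A X M) F

/-- `H_{-p}(P ⊗ M) ≅ H^p(C ⊗ M)`. -/
noncomputable def extIso (M : ModuleCat.{u} A) (p : ℕ) :
    (CohIII.TFun (PP A F U) (-(p : ℤ))).obj M ≅ (CohIII.tensorObj (CC A F U) M).homology p :=
  homologyIso eNeg (tensorRight M) (CC A F U) (j := p) (j' := -(p : ℤ)) rfl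

lemma extIso_nat {M N : ModuleCat.{u} A} (g : M ⟶ N) (p : ℕ) :
    (CohIII.TFun (PP A F U) (-(p : ℤ))).map g ≫ (extIso A F U N p).hom =
      (extIso A F U M p).hom ≫
        HomologicalComplex.homologyMap (CohIII.tensorMap (CC A F U) g) p :=
  homologyIso_natTrans eNeg (CC A F U) ((tensoringRight (ModuleCat.{u} A)).map g)
    (j := p) (j' := -(p : ℤ)) rfl

section Comp

variable (p : ℕ)
  (e : ∀ M : X.Modules, Coh.IsQCoh M → (↑(CohB1.cechH U M p) ≃+ Coh.HH X M p))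
  (he : ∀ (M M' : X.Modules) (hM : Coh.IsQCoh M) (hM' : Coh.IsQCoh M')
    (ψ : Coh.toAb M ⟶ Coh.toAb M') (y : ↑(CohB1.cechH U M p)),
    e M' hM' ((HomologicalComplex.homologyMap ((cechComplexFunctor U).map ψ.hom) p).hom y) =
      Sheaf.H.map ψ p (e M hM y))

/-- the Čech-to-derived comparison as an isomorphism of abelian groups. -/
noncomputable def eIso (M : ModuleCat.{u} A) :
    (cx U (TM A F M).presheaf).homology p ≅ (CohIII.HAb X p).obj (TM A F M) :=
  (e (TM A F M) (qc_TM A F M)).toAddCommGrpIso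

include he in
lemma eIso_nat {M N : ModuleCat.{u} A} (g : M ⟶ N) :
    HomologicalComplex.homologyMap ((cechComplexFunctor U).map
        ((SheafOfModules.toSheaf X.ringCatSheaf).map ((CohIII.tensorAFunctor A F).map g)).hom) p ≫
      (eIso A F U p e N).hom =
    (eIso A F U p e M).hom ≫ (CohIII.HAb X p).map ((CohIII.tensorAFunctor A F).map g) := by
  ext y
  exact he (TM A F M) (TM A F N) (qc_TM A F M) (qc_TM A F N)
    ((SheafOfModules.toSheaf X.ringCatSheaf).map ((CohIII.tensorAFunctor A F).map g)) y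

/-- the component of the bridge at `M`. -/
noncomputable def comp (M : ModuleCat.{u} A) :
    (CohIII.TFun (PP A F U) (-(p : ℤ)) ⋙ fg A).obj M ≅
      (CohIII.tensorAFunctor A F ⋙ CohIII.HAb X p).obj M :=
  (fg A).mapIso (extIso A F U M p) ≪≫ HIso A F U hU M p ≪≫ eIso A F U p e M

lemma comp_hom (M : ModuleCat.{u} A) :
    (comp A F U hU p e M).hom =
      (fg A).map (extIso A F U M p).hom ≫ (HIso A F U hU M p).hom ≫ (eIso A F U p e M).hom := rfl

include he in
lemma comp_nat {M N : ModuleCat.{u} A} (g : M ⟶ N) :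
    (CohIII.TFun (PP A F U) (-(p : ℤ)) ⋙ fg A).map g ≫ (comp A F U hU p e N).hom =
      (comp A F U hU p e M).hom ≫ (CohIII.tensorAFunctor A F ⋙ CohIII.HAb X p).map g := by
  have h1 : (fg A).map ((CohIII.TFun (PP A F U) (-(p : ℤ))).map g) ≫
      (fg A).map (extIso A F U N p).hom =
      (fg A).map (extIso A F U M p).hom ≫
        (fg A).map (HomologicalComplex.homologyMap (CohIII.tensorMap (CC A F U) g) p) := by
    rw [← Functor.map_comp, ← Functor.map_comp]
    exact congrArg _ (extIso_nat A F U g p)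
  have h2 := HIso_nat A F U hU g p
  have h3 := eIso_nat A F U p e he g
  exact three_squares _ _ _ _ _ _ _ _ _ _ h1 h2 h3

include he in
/-- the bridge for the Čech complex. -/
noncomputable def bridgeP :
    CohIII.TFun (PP A F U) (-(p : ℤ)) ⋙ fg A ≅ CohIII.tensorAFunctor A F ⋙ CohIII.HAb X p :=
  NatIso.ofComponents (fun M => comp A F U hU p e M) (fun g => comp_nat A F U hU p e he g)

end Comp

end Groth.Agent.Lib.Helper13.CBCNat
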