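import Mathlib
import Groth.Agent.Lib.Helper13.CBCNat
import Groth.Agent.Lib.Helper13.CBCSec2
import Groth.Agent.Lib.Helper1.FFIM
import Groth.Agent.Lib.Helper17.AffIso

/-!
# `F / J F ≅ f^*((A/J)~) ⊗ F` for `X` over `Spec A`

* `ψ A F M m : F ⟶ f^*(M~) ⊗ F`, `s ↦ s ⊗ m`, natural in `M`;
* `ψ A F (A) 1` is an isomorphism (`F` quasi-coherent);
* `χ I n : F / I^n F ⟶ f^*((A/I^n)~) ⊗ F` is an isomorphism (`F` coherent).
-/

set_option autoImplicit false
universe u
open CategoryTheory CategoryTheory.Limits AlgebraicGeometry TopologicalSpace Opposite TensorProduct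
open Scheme.Modules

namespace Groth.Agent.Lib.Helper13.CBCModPow

open Groth.Agent.Lib.Helper3 Groth.Agent.Lib.Helper3.QCSec Groth.Agent.Lib.Helper3.PbBasic
  Groth.Agent.Lib.Helper3.InvGen Groth.Agent.Lib.Helper3.InvTensor
  Groth.Agent.Lib.Helper3.InvMonoidal
open Groth.Agent.Lib.Helper17.UnitBC Groth.Agent.Lib.Helper17.TensorSec
open Groth.Agent.Lib.Helper13.CBCSec Groth.Agent.Lib.Helper13.CBCCech

variable (A : Type u) [CommRing A] {X : Scheme.{u}} [X.Over (Spec (CommRingCat.of A))]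
  (F : X.Modules)

/-- `s ↦ s ⊗ m`. -/
noncomputable def ψ (M : ModuleCat.{u} A) (m : M) : F ⟶ TM A F M :=
  (unitorL F).inv ≫ tensorMap (homOfGlobal (pM A X M) (β A M ⊤ m)) (𝟙 F)

lemma homOfGlobal_app_one {Y : Scheme.{u}} (N : Y.Modules) (σ : Γ(N, ⊤)) (W : Y.Opens) :
    (homOfGlobal N σ).app W (ofFun W 1) = res N le_top σ := by
  have h := res_sec (homOfGlobal N σ) (le_top : W ≤ ⊤)
  unfold sec at h
  rw [homOfGlobal_app] at h
  exact h.symm

lemma ψ_app (M : ModuleCat.{u} A) (m : M) (W : X.Opens) (s : Γ(F, W)) :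
    (ψ A F M m).app W s = θ A F M W ((show SecA A F W from s) ⊗ₜ[A] m) := by
  have h1 : (unitorL F).inv.app W s = tm (Coh.structureModule X) F W (ofFun W 1) s := by
    have h := iso_inv_hom_app (unitorL F) W (tm (Coh.structureModule X) F W (ofFun W 1) s)
    rw [unitorL_hom_tm, one_smul] at h
    exact h
  show (tensorMap (homOfGlobal (pM A X M) (β A M ⊤ m)) (𝟙 F)).app W
    ((unitorL F).inv.app W s) = _
  rw [h1, tensorMap_tm, θ_tmul, homOfGlobal_app_one, res_β]
  rfl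

lemma ψ_map {M N : ModuleCat.{u} A} (g : M ⟶ N) (m : M) :
    ψ A F M m ≫ (CohIII.tensorAFunctor A F).map g = ψ A F N (g.hom m) := by
  apply Scheme.Modules.hom_ext
  intro U
  ext s
  change ((CohIII.tensorAFunctor A F).map g).app U ((ψ A F M m).app U s) =
    (ψ A F N (g.hom m)).app U s
  rw [ψ_app, ψ_app, tensorAFunctor_map]
  exact (θ_map A F g U _).trans (by rw [LinearMap.lTensor_tmul])

lemma ψ_zero (M : ModuleCat.{u} A) : ψ A F M 0 = 0 := by
  apply Scheme.Modules.hom_ext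
  intro U
  ext s
  change (ψ A F M 0).app U s = 0
  rw [ψ_app, tmul_zero, map_zero]

lemma smulMod_ψ (M : ModuleCat.{u} A) (m : M) (b : A) :
    Formal.smulMod A F b ≫ ψ A F M m = ψ A F M (b • m) := by
  apply Scheme.Modules.hom_ext
  intro U
  ext s
  change (ψ A F M m).app U ((Formal.smulMod A F b).app U s) = (ψ A F M (b • m)).app U s
  rw [ψ_app, ψ_app]
  congr 1
  exact TensorProduct.smul_tmul b (show SecA A F U from s) m

/-- every element of `N ⊗ A/J` is of the form `x ⊗ 1`. -/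
lemma exists_tmul_one {N : Type u} [AddCommGroup N] [Module A N] (J : Ideal A)
    (τ : N ⊗[A] (A ⧸ J)) : ∃ x : N, τ = x ⊗ₜ[A] (1 : A ⧸ J) := by
  obtain ⟨x, hx⟩ := Submodule.Quotient.mk_surjective _ (tensorQuotEquivQuotSMul N J τ)
  refine ⟨x, ?_⟩
  have h := congrArg (tensorQuotEquivQuotSMul N J).symm hx
  rw [LinearEquiv.symm_apply_apply, tensorQuotEquivQuotSMul_symm_mk] at h
  exact h.symm

lemma mem_smul_top_of_tmul_one_eq_zero {N : Type u} [AddCommGroup N] [Module A N] (J : Ideal A)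
    (x : N) (h : x ⊗ₜ[A] (1 : A ⧸ J) = 0) : x ∈ (J • ⊤ : Submodule A N) := by
  have h1 := tensorQuotEquivQuotSMul_tmul_mk (M := N) J x 1
  rw [map_one, h, map_zero, one_smul] at h1
  exact (Submodule.Quotient.mk_eq_zero _).1 h1.symm

section One

variable [F.IsQuasicoherent]

/-- `F ≅ f^*(A~) ⊗ F`. -/
lemma isIso_ψ_one : IsIso (ψ A F (ModuleCat.of A A) (1 : A)) := by
  haveI : (TM A F (ModuleCat.of A A)).IsQuasicoherent :=
    isQuasicoherent_tensorMod (pM A X (ModuleCat.of A A)) F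
  apply Groth.Agent.Lib.Helper17.AffIso.isIso_of_bijective_on_affine_cover
  intro x
  obtain ⟨W, hW, hxW, -⟩ := exists_isAffineOpen_mem_and_subset (x := x) (U := ⊤) trivial
  refine ⟨W, hW, hxW, ?_⟩
  have hθ := θ_bijective A F (ModuleCat.of A A) hW
  constructor
  · intro s s' hss
    rw [ψ_app, ψ_app] at hss
    have h2 := hθ.1 hss
    have h3 := congrArg (TensorProduct.rid A (SecA A F W)) h2
    rw [TensorProduct.rid_tmul, TensorProduct.rid_tmul, one_smul, one_smul] at h3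
    exact h3
  · intro t
    obtain ⟨τ, rfl⟩ := hθ.2 t
    refine ⟨(TensorProduct.rid A (SecA A F W)) τ, ?_⟩
    rw [ψ_app]
    congr 1
    have h := (TensorProduct.rid A (SecA A F W)).symm_apply_apply τ
    rw [TensorProduct.rid_symm_apply] at h
    exact h

end One

section Quot

variable (I : Ideal A) (n : ℕ)

/-- the quotient map `A ⟶ A/J` of `A`-modules. -/
noncomputable def q (J : Ideal A) : ModuleCat.of A A ⟶ ModuleCat.of A (A ⧸ J) :=
  ModuleCat.ofHom (Algebra.linearMap A (A ⧸ J))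

instance epi_q (J : Ideal A) : Epi (q A J) :=
  (ModuleCat.epi_iff_surjective _).2 Ideal.Quotient.mk_surjective

/-- `F ⟶ f^*((A/J)~) ⊗ F`, `s ↦ s ⊗ 1`. -/
noncomputable def φ' (J : Ideal A) : F ⟶ TM A F (ModuleCat.of A (A ⧸ J)) :=
  ψ A F (ModuleCat.of A (A ⧸ J)) (1 : A ⧸ J)

lemma ψ_one_q (J : Ideal A) :
    ψ A F (ModuleCat.of A A) (1 : A) ≫ (CohIII.tensorAFunctor A F).map (q A J) = φ' A F J := by
  rw [ψ_map]
  unfold φ'
  congr 1

lemma smulMod_φ' (J : Ideal A) (b : A) (hb : b ∈ J) : Formal.smulMod A F b ≫ φ' A F J = 0 := by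
  unfold φ'
  rw [smulMod_ψ]
  have h0 : b • (1 : ↑(ModuleCat.of A (A ⧸ J))) = 0 := by
    show b • (1 : A ⧸ J) = 0
    rw [Algebra.smul_def, mul_one, Ideal.Quotient.algebraMap_eq]
    exact Ideal.Quotient.eq_zero_iff_mem.2 hb
  rw [h0, ψ_zero]

lemma smulFamily_φ' (J : Ideal A) : Formal.smulFamily J F ≫ φ' A F J = 0 := by
  apply Sigma.hom_ext
  intro b
  have h : Sigma.ι (fun _ : J => F) b ≫ Formal.smulFamily J F = Formal.smulMod A F (b : A) := by
    simp [Formal.smulFamily]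
  rw [comp_zero, ← Category.assoc, h, smulMod_φ' A F J b b.2]

/-- `F / I^n F ⟶ f^*((A/I^n)~) ⊗ F`. -/
noncomputable def χ : Formal.modPow I n F ⟶ TM A F (ModuleCat.of A (A ⧸ I ^ n)) :=
  cokernel.desc _ (φ' A F (I ^ n)) (smulFamily_φ' A F (I ^ n))

lemma π_χ : Formal.modPowπ I n F ≫ χ A F I n = φ' A F (I ^ n) :=
  cokernel.π_desc _ _ _

lemma φ'_app (J : Ideal A) (W : X.Opens) (s : Γ(F, W)) :
    (φ' A F J).app W s =
      θ A F (ModuleCat.of A (A ⧸ J)) W ((show SecA A F W from s) ⊗ₜ[A] (1 : A ⧸ J)) :=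
  ψ_app A F _ _ W s

lemma isIso_χ (hF : Coh.IsCoh F) : IsIso (χ A F I n) := by
  haveI := hF.1
  haveI : (Formal.modPow I n F).IsQuasicoherent :=
    (Groth.Agent.Lib.Helper1.FFIM.isCoh_modPow I F hF n).1
  haveI : (TM A F (ModuleCat.of A (A ⧸ I ^ n))).IsQuasicoherent :=
    isQuasicoherent_tensorMod (pM A X (ModuleCat.of A (A ⧸ I ^ n))) F
  apply Groth.Agent.Lib.Helper17.AffIso.isIso_of_bijective_on_affine_cover
  intro x
  obtain ⟨W, hW, hxW, -⟩ := exists_isAffineOpen_mem_and_subset (x := x) (U := ⊤) trivial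
  refine ⟨W, hW, hxW, ?_⟩
  have hθ := θ_bijective A F (ModuleCat.of A (A ⧸ I ^ n)) hW
  have hπ : Function.Surjective ((Formal.modPowπ I n F).app W) :=
    (QCExact.epi_iff_surjective_on_affines (Formal.modPowπ I n F)).1 inferInstance W hW
  have hcomm : ∀ s : Γ(F, W), (χ A F I n).app W ((Formal.modPowπ I n F).app W s) =
      (φ' A F (I ^ n)).app W s := fun s =>
    congrArg (fun f => f.app W s) (π_χ A F I n)
  constructor
  · rw [injective_iff_map_eq_zero]
    intro t ht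
    obtain ⟨s, rfl⟩ := hπ t
    rw [hcomm, φ'_app] at ht
    have h2 : (show SecA A F W from s) ⊗ₜ[A] (1 : A ⧸ I ^ n) = 0 := by
      apply hθ.1
      rw [ht, map_zero]
    have h3 := mem_smul_top_of_tmul_one_eq_zero A (I ^ n) _ h2
    refine Submodule.smul_induction_on (p := fun (z : SecA A F W) =>
      (Formal.modPowπ I n F).app W (show Γ(F, W) from z) = 0) h3 ?_ ?_
    · intro b hb z _
      have h4 := congrArg (fun f => f.app W (show Γ(F, W) from z))
        (Groth.Agent.Lib.Helper1.FFIM.smulMod_π I F n b hb)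
      exact h4
    · intro z z' hz hz'
      show (Formal.modPowπ I n F).app W ((show Γ(F, W) from z) + (show Γ(F, W) from z')) = 0
      rw [map_add, hz, hz', add_zero]
  · intro t
    obtain ⟨τ, rfl⟩ := hθ.2 t
    obtain ⟨s, rfl⟩ := exists_tmul_one A (I ^ n) τ
    refine ⟨(Formal.modPowπ I n F).app W (show Γ(F, W) from s), ?_⟩
    rw [hcomm, φ'_app]

end Quot

end Groth.Agent.Lib.Helper13.CBCModPow
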