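import Mathlib
import Groth.Agent.Lib.Helper13.CBCModPow
import Groth.Agent.Lib.Helper13.CBCBase3
import Groth.Agent.Lib.Helper13.CBCCover

/-!
# Lifting sections from a closed fibre

For a cartesian square over `Spec B ⟶ Spec A` with `A → B` surjective with kernel `I^n`:
if `Γ(X, F) → Γ(X, F/I^n F)` is surjective then every global section of `g'^* F` on `X'` is the
pullback of a global section of `F`.
-/

set_option autoImplicit false
universe u
open CategoryTheory CategoryTheory.Limits AlgebraicGeometry TopologicalSpace Opposite TensorProduct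
open Scheme.Modules

namespace Groth.Agent.Lib.Helper13.CBCLift

open Groth.Agent.Lib.Helper3 Groth.Agent.Lib.Helper3.QCSec Groth.Agent.Lib.Helper3.PbBasic
  Groth.Agent.Lib.Helper3.InvGen
open Groth.Agent.Lib.Helper17.UnitBC Groth.Agent.Lib.Helper17.TensorSec
open Groth.Agent.Lib.Helper13.CBCSec Groth.Agent.Lib.Helper13.CBCCech
  Groth.Agent.Lib.Helper13.CBCBase Groth.Agent.Lib.Helper13.CBCUp
  Groth.Agent.Lib.Helper13.CBCModPow

section Alg

lemma mem_smul_top_of_tmul_eq_zero {A : Type u} [CommRing A] (J : Ideal A) {N M : Type u}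
    [AddCommGroup N] [Module A N] [AddCommGroup M] [Module A M] (e : M →ₗ[A] A ⧸ J) (m₁ : M)
    (he : e m₁ = 1) (s : N) (h : s ⊗ₜ[A] m₁ = 0) : s ∈ (J • ⊤ : Submodule A N) := by
  have h2 := congrArg (LinearMap.lTensor N e) h
  rw [LinearMap.lTensor_tmul, he, map_zero] at h2
  exact mem_smul_top_of_tmul_one_eq_zero A J s h2

end Alg

variable (A B : Type u) [CommRing A] [CommRing B] {X X' : Scheme.{u}}
  [X.Over (Spec (CommRingCat.of A))] [X'.Over (Spec (CommRingCat.of B))]
  (g : Spec (CommRingCat.of B) ⟶ Spec (CommRingCat.of A)) (g' : X' ⟶ X)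
  (hc : IsPullback g' (sm B X') (sm A X) g) (F : X.Modules) [F.IsQuasicoherent]
  (hsurj : Function.Surjective (φg A B g))

/-- `B ≅ A / ker` as `A`-modules. -/
noncomputable def eB : ↑(MA A B g (ModuleCat.of B B)) →ₗ[A] A ⧸ RingHom.ker (φg A B g) where
  toFun b := (RingHom.quotientKerEquivOfSurjective hsurj).symm (show B from b)
  map_add' x y := map_add _ _ _
  map_smul' a b := by
    show (RingHom.quotientKerEquivOfSurjective hsurj).symm (φg A B g a * (show B from b)) =
      a • (RingHom.quotientKerEquivOfSurjective hsurj).symm (show B from b)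
    rw [map_mul, RingHom.quotientKerEquivOfSurjective_symm_apply, Algebra.smul_def]
    rfl

lemma eB_one : eB A B g hsurj (show ↑(MA A B g (ModuleCat.of B B)) from (1 : B)) = 1 :=
  map_one (RingHom.quotientKerEquivOfSurjective hsurj).symm

lemma γ_zero (W : X.Opens) : γ A B g' F W 0 = 0 := by
  have h := γ_add A B g' F W 0 0
  rw [add_zero] at h
  exact (add_eq_left.mp h.symm)

include hc hsurj in
lemma γ_surjective {W : X.Opens} (hW : IsAffineOpen W)
    (σ : SecA B (F' g' F) (upW B g' W)) : ∃ s : SecA A F W, γ A B g' F W s = σ := by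
  have key : ∀ x : SecA A F W ⊗[A] ↑(MA A B g (ModuleCat.of B B)), ∃ s : SecA A F W,
      ((τBC0 A B g g' hc.w F).app (op W)).hom x = γ A B g' F W s := by
    intro x
    induction x using TensorProduct.induction_on with
    | zero =>
      exact ⟨0, (map_zero ((τBC0 A B g g' hc.w F).app (op W)).hom).trans
        (γ_zero A B g' F W).symm⟩
    | tmul s b =>
      obtain ⟨a, ha⟩ := hsurj (show B from b)
      refine ⟨a • s, ?_⟩
      rw [γ_smul A B g g' hc.w, ha]
      rfl
    | add x y hx hy =>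
      obtain ⟨s, hs⟩ := hx
      obtain ⟨t, ht⟩ := hy
      refine ⟨s + t, (map_add ((τBC0 A B g g' hc.w F).app (op W)).hom x y).trans ?_⟩
      exact (congrArg₂ (· + ·) hs ht).trans (γ_add A B g' F W s t).symm
  obtain ⟨x, hx⟩ := (τBC0_bijective A B g g' F hc hW).2 σ
  obtain ⟨s, hs⟩ := key x
  exact ⟨s, hs.symm.trans hx⟩

include hc hsurj in
lemma mem_of_γ_eq_zero {W : X.Opens} (hW : IsAffineOpen W) (s : SecA A F W)
    (h : γ A B g' F W s = 0) :
    s ∈ (RingHom.ker (φg A B g) • ⊤ : Submodule A (SecA A F W)) := by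
  have h1 : ((τBC0 A B g g' hc.w F).app (op W)).hom
      (s ⊗ₜ[A] (show ↑(MA A B g (ModuleCat.of B B)) from (1 : B))) = 0 := by
    rw [τBC0_tmul, map_one, one_smul]
    exact h
  have h2 : s ⊗ₜ[A] (show ↑(MA A B g (ModuleCat.of B B)) from (1 : B)) = 0 :=
    (τBC0_bijective A B g g' F hc hW).1 (h1.trans (map_zero _).symm)
  exact mem_smul_top_of_tmul_eq_zero _ (eB A B g hsurj) _ (eB_one A B g hsurj) s h2

include hc in
lemma γ_eq_zero_of_mem (W : X.Opens) (s : SecA A F W)
    (h : s ∈ (RingHom.ker (φg A B g) • ⊤ : Submodule A (SecA A F W))) :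
    γ A B g' F W s = 0 := by
  refine Submodule.smul_induction_on (p := fun z => γ A B g' F W z = 0) h ?_ ?_
  · intro a ha z _
    rw [γ_smul A B g g' hc.w, (RingHom.mem_ker).1 ha, zero_smul]
  · intro z z' hz hz'
    rw [γ_add, hz, hz', add_zero]

lemma modPowπ_eq_zero_of_mem (I : Ideal A) (n : ℕ) (W : X.Opens) (s : SecA A F W)
    (h : s ∈ (I ^ n • ⊤ : Submodule A (SecA A F W))) :
    (Formal.modPowπ I n F).app W (show Γ(F, W) from s) = 0 := by
  refine Submodule.smul_induction_on (p := fun (z : SecA A F W) =>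
    (Formal.modPowπ I n F).app W (show Γ(F, W) from z) = 0) h ?_ ?_
  · intro b hb z _
    exact congrArg (fun f => f.app W (show Γ(F, W) from z))
      (Groth.Agent.Lib.Helper1.FFIM.smulMod_π I F n b hb)
  · intro z z' hz hz'
    show (Formal.modPowπ I n F).app W ((show Γ(F, W) from z) + (show Γ(F, W) from z')) = 0
    rw [map_add, hz, hz', add_zero]

lemma mem_of_modPowπ_eq_zero (I : Ideal A) (n : ℕ) {W : X.Opens} (hW : IsAffineOpen W)
    (s : SecA A F W) (h : (Formal.modPowπ I n F).app W (show Γ(F, W) from s) = 0) :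
    s ∈ (I ^ n • ⊤ : Submodule A (SecA A F W)) := by
  have h1 : (φ' A F (I ^ n)).app W (show Γ(F, W) from s) = 0 := by
    have := congrArg (fun f => f.app W (show Γ(F, W) from s)) (π_χ A F I n)
    refine this.symm.trans ?_
    show (χ A F I n).app W ((Formal.modPowπ I n F).app W (show Γ(F, W) from s)) = 0
    rw [h, map_zero]
  rw [φ'_app] at h1
  have h2 : (show SecA A F W from s) ⊗ₜ[A] (1 : A ⧸ I ^ n) = 0 :=
    (θ_bijective A F (ModuleCat.of A (A ⧸ I ^ n)) hW).1 (h1.trans (map_zero _).symm)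
  exact mem_smul_top_of_tmul_one_eq_zero A (I ^ n) s h2

lemma γ_eq_res_pull (W : X.Opens) (s : Γ(F, ⊤)) :
    γ A B g' F W (res F le_top s) =
      res (F' g' F) (show upW B g' W ≤ g' ⁻¹ᵁ ⊤ from fun _ _ => trivial) (pull g' F ⊤ s) := by
  show res _ _ (pull g' F W (res F le_top s)) = _
  rw [← res_pull g' F (le_top : W ≤ ⊤) s, res_res]

include hc hsurj in
/-- **Lifting sections.** -/
theorem exists_lift [IsSeparated (sm A X)] [QuasiCompact (sm A X)] (I : Ideal A) (n : ℕ)
    (hker : RingHom.ker (φg A B g) = I ^ n)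
    (hπ : Function.Surjective ((Formal.modPowπ I n F).app ⊤))
    (σ₀ : Γ(F' g' F, g' ⁻¹ᵁ ⊤)) : ∃ s : Γ(F, ⊤), pull g' F ⊤ s = σ₀ := by
  obtain ⟨ι, hfin, U, hcov, hUaff, -⟩ := CBCCover.exists_cover A X
  haveI : X.IsSeparated := (HasAffineProperty.iff_of_isAffine (P := @IsSeparated)).mp
    (inferInstance : IsSeparated (sm A X))
  have hUaff2 : ∀ j k, IsAffineOpen (U j ⊓ U k) := fun j k => (hUaff j).inf (hUaff k)
  have hle : ∀ W : X.Opens, upW B g' W ≤ g' ⁻¹ᵁ ⊤ := fun W _ _ => trivial
  -- local lifts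
  have h1 : ∀ j, ∃ sj : SecA A F (U j), γ A B g' F (U j) sj = res (F' g' F) (hle (U j)) σ₀ :=
    fun j => γ_surjective A B g g' hc F hsurj (hUaff j) _
  choose sj hsj using h1
  -- agreement on overlaps
  have hdiff : ∀ (W : X.Opens) (hW : IsAffineOpen W) (a b : SecA A F W),
      γ A B g' F W a = γ A B g' F W b →
      (Formal.modPowπ I n F).app W (show Γ(F, W) from a) =
        (Formal.modPowπ I n F).app W (show Γ(F, W) from b) := by
    intro W hW a b hab
    have h0 : γ A B g' F W (a - b) = 0 := by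
      have h := γ_add A B g' F W (a - b) b
      rw [sub_add_cancel, hab] at h
      exact (add_eq_right.mp h.symm)
    have h2 := mem_of_γ_eq_zero A B g g' hc F hsurj hW (a - b) h0
    rw [hker] at h2
    have h3 := modPowπ_eq_zero_of_mem A F I n W (a - b) h2
    have h4 : (Formal.modPowπ I n F).app W ((show Γ(F, W) from a) - (show Γ(F, W) from b)) = 0 :=
      h3
    rw [map_sub, sub_eq_zero] at h4
    exact h4
  have hcompat : ∀ j k, res (Formal.modPow I n F) (inf_le_left : U j ⊓ U k ≤ U j)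
      ((Formal.modPowπ I n F).app (U j) (show Γ(F, U j) from sj j)) =
      res (Formal.modPow I n F) (inf_le_right : U j ⊓ U k ≤ U k)
        ((Formal.modPowπ I n F).app (U k) (show Γ(F, U k) from sj k)) := by
    intro j k
    rw [← QCExact.app_res', ← QCExact.app_res']
    apply hdiff (U j ⊓ U k) (hUaff2 j k) (resA A F inf_le_left (sj j)) (resA A F inf_le_right (sj k))
    rw [← res_γ A B g' F inf_le_left (sj j), ← res_γ A B g' F inf_le_right (sj k), hsj, hsj]
    show res _ _ (res _ _ σ₀) = res _ _ (res _ _ σ₀)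
    rw [res_res, res_res]
  obtain ⟨t, ht⟩ := sec_glue (Formal.modPow I n F) U ⊤ (fun _ => le_top)
    (by rw [hcov]) (fun j => (Formal.modPowπ I n F).app (U j) (show Γ(F, U j) from sj j)) hcompat
  obtain ⟨s, hs⟩ := hπ t
  refine ⟨s, ?_⟩
  apply sec_eq_of_locally_eq (F' g' F) (fun j => upW B g' (U j)) (g' ⁻¹ᵁ ⊤) (fun j => hle (U j))
  · intro x _
    have hx : g' x ∈ (⨆ i, U i) := by rw [hcov]; trivial
    obtain ⟨i, hi⟩ := Opens.mem_iSup.mp hx
    exact Opens.mem_iSup.mpr ⟨i, hi, trivial⟩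
  · intro j
    rw [← γ_eq_res_pull A B g' F (U j) s, ← hsj j]
    -- `π (res s) = res (π s) = res t = π (sj j)`
    have h5 : (Formal.modPowπ I n F).app (U j) (res F le_top s) =
        (Formal.modPowπ I n F).app (U j) (show Γ(F, U j) from sj j) := by
      rw [QCExact.app_res', hs, ht]
    have h6 : res F (le_top : U j ≤ ⊤) s - (show Γ(F, U j) from sj j) ∈
        (I ^ n • ⊤ : Submodule A (SecA A F (U j))) := by
      apply mem_of_modPowπ_eq_zero A F I n (hUaff j)
      show (Formal.modPowπ I n F).app (U j) (res F le_top s - (show Γ(F, U j) from sj j)) = 0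
      rw [map_sub, h5, sub_self]
    rw [← hker] at h6
    have h7 := γ_eq_zero_of_mem A B g g' hc F (U j) _ h6
    have h8 := γ_add A B g' F (U j)
      ((show SecA A F (U j) from res F (le_top : U j ≤ ⊤) s) - sj j) (sj j)
    rw [sub_add_cancel] at h8
    rw [h8]
    show γ A B g' F (U j) (res F (le_top : U j ≤ ⊤) s - (show Γ(F, U j) from sj j)) + _ = _
    rw [h7, zero_add]

end Groth.Agent.Lib.Helper13.CBCLift
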