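import Mathlib

/-!
# Newton iteration modulo powers of an ideal (Hensel's lemma with explicit inverse of the derivative)
and separable annihilating polynomials for elements of étale algebras over a field
-/

set_option autoImplicit false
universe u
open Polynomial

namespace Groth.Agent.Lib.Helper13.EtHensel

section Newton

variable {R : Type*} [CommRing R]

lemma eval_sub_mem (J : Ideal R) (Q : R[X]) {a b : R} (h : a - b ∈ J) :
    Q.eval a - Q.eval b ∈ J := by
  obtain ⟨c, hc⟩ := Polynomial.sub_dvd_eval_sub a b Q
  rw [hc]
  exact J.mul_mem_right c h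

/-- existence of approximate roots. -/
theorem exists_root_mod_pow (J : Ideal R) (P : R[X]) (a₀ v : R) (hP : P.eval a₀ ∈ J)
    (hv : v * P.derivative.eval a₀ - 1 ∈ J) (N : ℕ) :
    ∃ a : R, a - a₀ ∈ J ∧ P.eval a ∈ J ^ (N + 1) := by
  induction N with
  | zero => exact ⟨a₀, by simp, by simpa using hP⟩
  | succ N ih =>
    obtain ⟨a, ha, hPa⟩ := ih
    have hv' : v * P.derivative.eval a - 1 ∈ J := by
      have h1 := eval_sub_mem J P.derivative ha
      have e : v * P.derivative.eval a - 1 =
          v * (P.derivative.eval a - P.derivative.eval a₀) + (v * P.derivative.eval a₀ - 1) := by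
        ring
      rw [e]
      exact J.add_mem (J.mul_mem_left v h1) hv
    obtain ⟨k, hk⟩ := P.binomExpansion a (-(v * P.eval a))
    have hPaJ : P.eval a ∈ J := Ideal.pow_le_self (Nat.succ_ne_zero N) hPa
    refine ⟨a + -(v * P.eval a), ?_, ?_⟩
    · have e : a + -(v * P.eval a) - a₀ = (a - a₀) - v * P.eval a := by ring
      rw [e]
      exact J.sub_mem ha (J.mul_mem_left v hPaJ)
    · rw [hk]
      have e : P.eval a + P.derivative.eval a * -(v * P.eval a) + k * (-(v * P.eval a)) ^ 2 =
          -(P.eval a * (v * P.derivative.eval a - 1)) +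
            k * v ^ 2 * (P.eval a * P.eval a) := by ring
      rw [e]
      refine Ideal.add_mem _ (neg_mem ?_) (Ideal.mul_mem_left _ _ ?_)
      · rw [pow_succ (J) (N + 1)]
        exact Ideal.mul_mem_mul hPa hv'
      · have h2 : P.eval a * P.eval a ∈ J ^ (N + 1) * J ^ (N + 1) := Ideal.mul_mem_mul hPa hPa
        rw [← pow_add] at h2
        exact Ideal.pow_le_pow_right (by omega) h2

/-- uniqueness of approximate roots. -/
theorem sub_mem_pow_of_roots (J : Ideal R) (P : R[X]) (a a' v : R)
    (hv : v * P.derivative.eval a - 1 ∈ J) (haa' : a' - a ∈ J) (N : ℕ)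
    (ha : P.eval a ∈ J ^ N) (ha' : P.eval a' ∈ J ^ N) : a' - a ∈ J ^ N := by
  have key : ∀ i : ℕ, i ≤ N → a' - a ∈ J ^ i := by
    intro i
    induction i with
    | zero => intro _; simp
    | succ i ih =>
      intro hi
      rcases Nat.eq_zero_or_pos i with rfl | hpos
      · simpa using haa'
      · have hd := ih (by omega)
        obtain ⟨k, hk⟩ := P.binomExpansion a (a' - a)
        rw [add_sub_cancel] at hk
        have h1 : P.derivative.eval a * (a' - a) ∈ J ^ (i + 1) := by
          have e : P.derivative.eval a * (a' - a) =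
              P.eval a' - P.eval a - k * (a' - a) ^ 2 := by rw [hk]; ring
          rw [e]
          refine Ideal.sub_mem _ (Ideal.sub_mem _ (Ideal.pow_le_pow_right hi ha')
            (Ideal.pow_le_pow_right hi ha)) (Ideal.mul_mem_left _ _ ?_)
          have h2 : (a' - a) ^ 2 ∈ J ^ i * J ^ i := by
            rw [sq]
            exact Ideal.mul_mem_mul hd hd
          rw [← pow_add] at h2
          exact Ideal.pow_le_pow_right (by omega) h2
        have h2 : (v * P.derivative.eval a - 1) * (a' - a) ∈ J ^ (i + 1) := by
          rw [pow_succ' (J) i]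
          exact Ideal.mul_mem_mul hv hd
        have e : a' - a = v * (P.derivative.eval a * (a' - a)) -
            (v * P.derivative.eval a - 1) * (a' - a) := by ring
        rw [e]
        exact Ideal.sub_mem _ (Ideal.mul_mem_left _ _ h1) h2
  exact key N le_rfl

end Newton

section Sep

variable (k K : Type u) [Field k] [CommRing K] [Algebra k K] [Algebra.Etale k K]

/-- every element of an étale algebra over a field is a root of a polynomial whose derivative
at the element is a unit. -/
theorem exists_sep_poly (α : K) :
    ∃ p : k[X], aeval α p = 0 ∧ IsUnit (aeval α (derivative p)) := by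
  classical
  obtain ⟨I, hI, Ai, hf, ha, e, hsep⟩ :=
    (Algebra.Etale.iff_exists_algEquiv_prod k K).mp inferInstance
  haveI : Fintype I := Fintype.ofFinite I
  have hint : ∀ i, IsIntegral k (e α i) := fun i =>
    have := (hsep i).1
    IsIntegral.of_finite k (e α i)
  let q : I → k[X] := fun i => minpoly k (e α i)
  let S : Finset k[X] := Finset.univ.image q
  let p : k[X] := ∏ r ∈ S, r
  have hsepp : p.Separable := by
    apply separable_prod'
    · intro r hr r' hr' hne
      obtain ⟨i, -, rfl⟩ := Finset.mem_image.1 hr
      obtain ⟨j, -, rfl⟩ := Finset.mem_image.1 hr'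
      refine (minpoly.irreducible (hint i)).coprime_iff_not_dvd.2 (fun hdvd => hne ?_)
      have hass : Associated (q i) (q j) :=
        (minpoly.irreducible (hint i)).associated_of_dvd (minpoly.irreducible (hint j)) hdvd
      exact eq_of_monic_of_associated (minpoly.monic (hint i)) (minpoly.monic (hint j)) hass
    · intro r hr
      obtain ⟨i, -, rfl⟩ := Finset.mem_image.1 hr
      have := (hsep i).2
      exact Algebra.IsSeparable.isSeparable k (e α i)
  have haev : aeval α p = 0 := by
    apply e.injective
    rw [map_zero]
    funext i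
    have h1 : e (aeval α p) = aeval (e α) p := (aeval_algHom_apply e.toAlgHom α p).symm
    have h2 : (aeval (e α) p) i = aeval (e α i) p :=
      (aeval_algHom_apply (Pi.evalAlgHom k Ai i) (e α) p).symm
    rw [h1, h2]
    obtain ⟨c, hc⟩ : q i ∣ p :=
      Finset.dvd_prod_of_mem (fun r => r) (Finset.mem_image_of_mem q (Finset.mem_univ i))
    rw [hc, map_mul, minpoly.aeval, zero_mul]
    rfl
  refine ⟨p, haev, ?_⟩
  obtain ⟨a, b, hab⟩ := hsepp
  have h3 := congrArg (aeval α) hab
  rw [map_add, map_mul, map_mul, haev, mul_zero, zero_add, map_one] at h3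
  exact IsUnit.of_mul_eq_one _ (by rw [mul_comm]; exact h3)

end Sep

end Groth.Agent.Lib.Helper13.EtHensel
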