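import Mathlib
import Groth.Agent.Lib.Helper13.CBCLift
import Groth.Agent.Lib.Helper13.EtHensel
import Groth.Agent.Lib.Helper1.FFIM

/-!
# Lifting sections of `O_X / I O_X` to `O_X / I^N O_X` by Hensel's lemma

For a cartesian square over `Spec B ⟶ Spec A` with `A → B` surjective with kernel `I`, such that
every global function `α` of `X'` is a root of a polynomial with coefficients in `A` whose derivative
at `α` is a unit: `Γ(X, O/I^N O) → Γ(X, O/I O)` is surjective.
-/

set_option autoImplicit false
universe u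
open CategoryTheory CategoryTheory.Limits AlgebraicGeometry TopologicalSpace Opposite TensorProduct
open Scheme.Modules Polynomial

namespace Groth.Agent.Lib.Helper13.CBCEtCore

open Groth.Agent.Lib.Helper3 Groth.Agent.Lib.Helper3.QCSec Groth.Agent.Lib.Helper3.PbBasic
  Groth.Agent.Lib.Helper3.InvGen
open Groth.Agent.Lib.Helper17.UnitBC Groth.Agent.Lib.Helper17.TensorSec
open Groth.Agent.Lib.Helper13.CBCSec Groth.Agent.Lib.Helper13.CBCCech
  Groth.Agent.Lib.Helper13.CBCBase Groth.Agent.Lib.Helper13.CBCUp
  Groth.Agent.Lib.Helper13.CBCModPow Groth.Agent.Lib.Helper13.CBCLift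
  Groth.Agent.Lib.Helper13.EtHensel

variable (A B : Type u) [CommRing A] [CommRing B] {X X' : Scheme.{u}}
  [X.Over (Spec (CommRingCat.of A))] [X'.Over (Spec (CommRingCat.of B))]
  (g : Spec (CommRingCat.of B) ⟶ Spec (CommRingCat.of A)) (g' : X' ⟶ X)
  (hc : IsPullback g' (sm B X') (sm A X) g)
  (hsurj : Function.Surjective (φg A B g))

/-- the ring map on functions. -/
noncomputable def ρ (W : X.Opens) : Γ(X, W) →+* Γ(X', upW B g' W) :=
  (g'.appLE W (upW B g' W) inf_le_left).hom

lemma pb_γ (W : X.Opens) (r : Γ(X, W)) :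
    (pbUnitHom g').app (upW B g' W) (γ A B g' (Coh.structureModule X) W (ofFun W r)) =
      ofFun (upW B g' W) (ρ B g' W r) :=
  unitSec_structure g' W (upW B g' W) inf_le_left r

lemma γ_ofFun_eq_zero_iff (W : X.Opens) (r : Γ(X, W)) :
    γ A B g' (Coh.structureModule X) W (ofFun W r) = 0 ↔ ρ B g' W r = 0 := by
  have hb := Groth.Agent.Lib.Helper17.AffIso.bijective_app_of_isIso (pbUnitHom g') (upW B g' W)
  have h0 : (pbUnitHom g').app (upW B g' W)
      (0 : Γ((Scheme.Modules.pullback g').obj (Coh.structureModule X), upW B g' W)) = 0 :=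
    map_zero _
  constructor
  · intro h
    have h1 := pb_γ A B g' W r
    rw [h] at h1
    exact ofFun_injective _ (h1.symm.trans h0)
  · intro h
    apply hb.1
    refine (pb_γ A B g' W r).trans ?_
    rw [h]
    exact h0.symm

lemma rres_ρ {W W' : X.Opens} (h : W' ≤ W) (r : Γ(X, W)) :
    rres X' (Groth.Agent.Lib.Helper17.UnitBC.up_mono g' (sm B X') ⊤ h) (ρ B g' W r) =
      ρ B g' W' (rres X h r) := by
  have h1 := Scheme.Hom.appLE_map g' (show upW B g' W ≤ g' ⁻¹ᵁ W from inf_le_left)
    (homOfLE (Groth.Agent.Lib.Helper17.UnitBC.up_mono g' (sm B X') ⊤ h)).op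
  have h2 := Scheme.Hom.map_appLE g' (show upW B g' W' ≤ g' ⁻¹ᵁ W' from inf_le_left)
    (homOfLE h).op
  exact (congr($h1 r)).trans (congr($h2 r)).symm

include hc hsurj in
lemma ρ_surjective {W : X.Opens} (hW : IsAffineOpen W) : Function.Surjective (ρ B g' W) := by
  intro σ'
  have hb := Groth.Agent.Lib.Helper17.AffIso.bijective_app_of_isIso (pbUnitHom g') (upW B g' W)
  obtain ⟨σ, hσ⟩ := hb.2 (ofFun (upW B g' W) σ')
  obtain ⟨s, hs⟩ := γ_surjective A B g g' hc (Coh.structureModule X) hsurj hW σ
  refine ⟨toFun W s, ?_⟩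
  have h1 := pb_γ A B g' W (toFun W s)
  have h2 : γ A B g' (Coh.structureModule X) W (ofFun W (toFun W s)) = σ := hs
  rw [h2, hσ] at h1
  exact (ofFun_injective _ h1).symm

/-- `J • ⊤` is stable under multiplication by functions. -/
lemma smul_mem_smul_top (J : Ideal A) (F : X.Modules) (W : X.Opens) (r : Γ(X, W))
    (y : SecA A F W) (hy : y ∈ (J • ⊤ : Submodule A (SecA A F W))) :
    (show SecA A F W from r • (show Γ(F, W) from y)) ∈ (J • ⊤ : Submodule A (SecA A F W)) := by
  refine Submodule.smul_induction_on (p := fun (z : SecA A F W) =>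
    (show SecA A F W from r • (show Γ(F, W) from z)) ∈ (J • ⊤ : Submodule A (SecA A F W))) hy ?_ ?_
  · intro a ha z _
    have e : (show SecA A F W from r • (show Γ(F, W) from a • z)) =
        a • (show SecA A F W from r • (show Γ(F, W) from z)) := by
      show r • (φ A W a • (show Γ(F, W) from z)) = φ A W a • (r • (show Γ(F, W) from z))
      rw [smul_smul, smul_smul, mul_comm]
    rw [e]
    exact Submodule.smul_mem_smul ha Submodule.mem_top
  · intro z z' hz hz'
    have e : (show SecA A F W from r • (show Γ(F, W) from z + z')) =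
        (show SecA A F W from r • (show Γ(F, W) from z)) +
          (show SecA A F W from r • (show Γ(F, W) from z')) := by
      show r • ((show Γ(F, W) from z) + (show Γ(F, W) from z')) =
        r • (show Γ(F, W) from z) + r • (show Γ(F, W) from z')
      exact smul_add r _ _
    rw [e]
    exact Submodule.add_mem _ hz hz'

lemma mem_smul_top_iff (J : Ideal A) (W : X.Opens) (z : Γ(X, W)) :
    (show SecA A (Coh.structureModule X) W from ofFun W z) ∈
      (J • ⊤ : Submodule A (SecA A (Coh.structureModule X) W)) ↔ z ∈ Ideal.map (φ A W) J := by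
  constructor
  · intro h
    refine Submodule.smul_induction_on (p := fun (y : SecA A (Coh.structureModule X) W) =>
      toFun W (show Γ(Coh.structureModule X, W) from y) ∈ Ideal.map (φ A W) J) h ?_ ?_
    · intro a ha y _
      show φ A W a * toFun W (show Γ(Coh.structureModule X, W) from y) ∈ Ideal.map (φ A W) J
      exact Ideal.mul_mem_right _ _ (Ideal.mem_map_of_mem _ ha)
    · intro y y' hy hy'
      exact Ideal.add_mem _ hy hy'
  · intro h
    change z ∈ Ideal.span _ at h
    induction h using Submodule.span_induction with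
    | mem x hx =>
      obtain ⟨a, ha, rfl⟩ := hx
      have e : (show SecA A (Coh.structureModule X) W from ofFun W (φ A W a)) =
          a • (show SecA A (Coh.structureModule X) W from ofFun W 1) := by
        show ofFun W (φ A W a) = ofFun W (φ A W a * 1)
        rw [mul_one]
      rw [e]
      exact Submodule.smul_mem_smul ha Submodule.mem_top
    | zero => exact Submodule.zero_mem _
    | add x y _ _ hx hy => exact Submodule.add_mem _ hx hy
    | smul r x _ hx =>
      exact smul_mem_smul_top A J (Coh.structureModule X) W r _ hx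

include hc hsurj in
lemma ker_ρ {W : X.Opens} (hW : IsAffineOpen W) :
    RingHom.ker (ρ B g' W) = Ideal.map (φ A W) (RingHom.ker (φg A B g)) := by
  ext z
  rw [RingHom.mem_ker, ← γ_ofFun_eq_zero_iff A B g' W z, ← mem_smul_top_iff]
  constructor
  · intro h
    exact mem_of_γ_eq_zero A B g g' hc (Coh.structureModule X) hsurj hW _ h
  · intro h
    exact γ_eq_zero_of_mem A B g g' hc (Coh.structureModule X) W _ h

lemma modPowπ_eq_zero_of_mem_map (I : Ideal A) (n : ℕ) (W : X.Opens) (z : Γ(X, W))
    (hz : z ∈ Ideal.map (φ A W) (I ^ n)) :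
    (Formal.modPowπ I n (Coh.structureModule X)).app W (ofFun W z) = 0 :=
  modPowπ_eq_zero_of_mem A (Coh.structureModule X) I n W _ ((mem_smul_top_iff A (I ^ n) W z).2 hz)

lemma mem_map_of_modPowπ_eq_zero [(Coh.structureModule X).IsQuasicoherent] (I : Ideal A) (n : ℕ)
    {W : X.Opens} (hW : IsAffineOpen W) (z : Γ(X, W))
    (hz : (Formal.modPowπ I n (Coh.structureModule X)).app W (ofFun W z) = 0) :
    z ∈ Ideal.map (φ A W) (I ^ n) :=
  (mem_smul_top_iff A (I ^ n) W z).1
    (mem_of_modPowπ_eq_zero A (Coh.structureModule X) I n hW _ hz)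

end Groth.Agent.Lib.Helper13.CBCEtCore
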