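import Mathlib
import Groth.Agent.Lib.Helper13.CBCEtCore

/-!
# Lifting sections of `O_X / I O_X` to `O_X / I^N O_X` by Hensel's lemma (main statement)
-/

set_option autoImplicit false
universe u
open CategoryTheory CategoryTheory.Limits AlgebraicGeometry TopologicalSpace Opposite TensorProduct
open Scheme.Modules Polynomial

namespace Groth.Agent.Lib.Helper13.CBCEtCore

open Groth.Agent.Lib.Helper3 Groth.Agent.Lib.Helper3.QCSec Groth.Agent.Lib.Helper3.PbBasic
  Groth.Agent.Lib.Helper3.InvGen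
open Groth.Agent.Lib.Helper17.UnitBC Groth.Agent.Lib.Helper17.TensorSec
open Groth.Agent.Lib.Helper13.CBCSec Groth.Agent.Lib.Helper13.CBCCech
  Groth.Agent.Lib.Helper13.CBCBase Groth.Agent.Lib.Helper13.CBCUp
  Groth.Agent.Lib.Helper13.CBCModPow Groth.Agent.Lib.Helper13.CBCLift
  Groth.Agent.Lib.Helper13.EtHensel

variable (A B : Type u) [CommRing A] [CommRing B] {X X' : Scheme.{u}}
  [X.Over (Spec (CommRingCat.of A))] [X'.Over (Spec (CommRingCat.of B))]
  (g : Spec (CommRingCat.of B) ⟶ Spec (CommRingCat.of A)) (g' : X' ⟶ X)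
  (hc : IsPullback g' (sm B X') (sm A X) g)
  (hsurj : Function.Surjective (φg A B g))

/-- restriction of functions as a ring homomorphism. -/
noncomputable def rr (Z : Scheme.{u}) {V W : Z.Opens} (h : V ≤ W) : Γ(Z, W) →+* Γ(Z, V) :=
  (Z.presheaf.map (homOfLE h).op).hom

lemma rr_apply (Z : Scheme.{u}) {V W : Z.Opens} (h : V ≤ W) (r : Γ(Z, W)) :
    rr Z h r = rres Z h r := rfl

lemma rr_comp_φ {W W' : X.Opens} (h : W' ≤ W) : (rr X h).comp (φ A W) = φ A W' := by
  ext a
  exact rres_φ A h a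

include hc in
lemma ρ_comp_φ (W : X.Opens) :
    (ρ B g' W).comp (φ A W) =
      (rr X' (le_top : upW B g' W ≤ ⊤)).comp ((φ B (⊤ : X'.Opens)).comp (φg A B g)) := by
  ext a
  show ρ B g' W (φ A W a) = rres X' le_top (φ B ⊤ (φg A B g a))
  rw [rres_φ]
  exact ring_compat A B g g' hc.w W a

lemma eval₂_rr {W W' : X.Opens} (h : W' ≤ W) (P : A[X]) (x : Γ(X, W)) :
    rr X h (P.eval₂ (φ A W) x) = P.eval₂ (φ A W') (rr X h x) := by
  rw [Polynomial.hom_eval₂, rr_comp_φ]

include hc hsurj in
/-- **Hensel lifting of sections.** -/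
theorem exists_lift_modPow [IsSeparated (sm A X)] [QuasiCompact (sm A X)] (I : Ideal A)
    (hker : RingHom.ker (φg A B g) = I) (hcoh : Coh.IsCoh (Coh.structureModule X))
    (hsep : ∀ α : Γ(X', ⊤), ∃ P : A[X],
      P.eval₂ ((φ B (⊤ : X'.Opens)).comp (φg A B g)) α = 0 ∧
      IsUnit ((derivative P).eval₂ ((φ B (⊤ : X'.Opens)).comp (φg A B g)) α))
    (N : ℕ) (hN : 1 ≤ N) (t : Γ(Formal.modPow I 1 (Coh.structureModule X), ⊤)) :
    ∃ t' : Γ(Formal.modPow I N (Coh.structureModule X), ⊤),
      (Formal2.modPowLE I hN (Coh.structureModule X)).app ⊤ t' = t := by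
  classical
  haveI := hcoh.1
  obtain ⟨ι, hfin, U, hcov, hUaff, -⟩ := CBCCover.exists_cover A X
  haveI : X.IsSeparated := (HasAffineProperty.iff_of_isAffine (P := @IsSeparated)).mp
    (inferInstance : IsSeparated (sm A X))
  have hUaff2 : ∀ j k, IsAffineOpen (U j ⊓ U k) := fun j k => (hUaff j).inf (hUaff k)
  haveI hq1 : (Formal.modPow I 1 (Coh.structureModule X)).IsQuasicoherent :=
    (Groth.Agent.Lib.Helper1.FFIM.isCoh_modPow I _ hcoh 1).1
  have hπ1 : ∀ W : X.Opens, IsAffineOpen W →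
      Function.Surjective ((Formal.modPowπ I 1 (Coh.structureModule X)).app W) := fun W hW =>
    (QCExact.epi_iff_surjective_on_affines (Formal.modPowπ I 1 (Coh.structureModule X))).1
      inferInstance W hW
  -- the kernel of `ρ` on affines
  have hJ : ∀ W : X.Opens, IsAffineOpen W →
      RingHom.ker (ρ B g' W) = Ideal.map (φ A W) I := fun W hW => by
    rw [ker_ρ A B g g' hc hsurj hW, hker]
  have hK1 : ∀ W : X.Opens, IsAffineOpen W → ∀ z : Γ(X, W),
      ((Formal.modPowπ I 1 (Coh.structureModule X)).app W (ofFun W z) = 0 ↔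
        z ∈ RingHom.ker (ρ B g' W)) := by
    intro W hW z
    rw [hJ W hW]
    constructor
    · intro h
      have := mem_map_of_modPowπ_eq_zero A I 1 hW z h
      rwa [pow_one] at this
    · intro h
      apply modPowπ_eq_zero_of_mem_map A I 1 W z
      rwa [pow_one]
  have hJN : ∀ W : X.Opens, IsAffineOpen W → ∀ z : Γ(X, W), z ∈ RingHom.ker (ρ B g' W) ^ N →
      (Formal.modPowπ I N (Coh.structureModule X)).app W (ofFun W z) = 0 := by
    intro W hW z hz
    apply modPowπ_eq_zero_of_mem_map A I N W z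
    rw [Ideal.map_pow, ← hJ W hW]
    exact hz
  -- restriction maps kernels to kernels
  have hJres : ∀ {W W' : X.Opens} (h : W' ≤ W) (z : Γ(X, W)), z ∈ RingHom.ker (ρ B g' W) →
      rr X h z ∈ RingHom.ker (ρ B g' W') := by
    intro W W' h z hz
    rw [RingHom.mem_ker] at hz ⊢
    rw [rr_apply, ← rres_ρ B g' h z, hz]
    exact map_zero _
  have hJNres : ∀ {W W' : X.Opens} (h : W' ≤ W) (z : Γ(X, W)),
      z ∈ RingHom.ker (ρ B g' W) ^ N → rr X h z ∈ RingHom.ker (ρ B g' W') ^ N := by
    intro W W' h z hz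
    have h1 : Ideal.map (rr X h) (RingHom.ker (ρ B g' W)) ≤ RingHom.ker (ρ B g' W') := by
      rw [Ideal.map_le_iff_le_comap]
      intro y hy
      exact hJres h y hy
    have h2 := Ideal.mem_map_of_mem (rr X h) hz
    rw [Ideal.map_pow] at h2
    exact Ideal.pow_right_mono h1 N h2
  -- local lifts
  have h1 : ∀ j, ∃ s : Γ(X, U j),
      (Formal.modPowπ I 1 (Coh.structureModule X)).app (U j) (ofFun (U j) s) =
        res (Formal.modPow I 1 (Coh.structureModule X)) le_top t := fun j => by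
    obtain ⟨s, hs⟩ := hπ1 (U j) (hUaff j)
      (res (Formal.modPow I 1 (Coh.structureModule X)) le_top t)
    exact ⟨toFun (U j) s, hs⟩
  choose s hs using h1
  -- agreement of the local lifts modulo the kernel
  have hdiff : ∀ j k, rr X (inf_le_left : U j ⊓ U k ≤ U j) (s j) -
      rr X (inf_le_right : U j ⊓ U k ≤ U k) (s k) ∈ RingHom.ker (ρ B g' (U j ⊓ U k)) := by
    intro j k
    have h0 : (Formal.modPowπ I 1 (Coh.structureModule X)).app (U j ⊓ U k)
        (res (Coh.structureModule X) inf_le_left (ofFun (U j) (s j)) -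
          res (Coh.structureModule X) inf_le_right (ofFun (U k) (s k))) = 0 := by
      rw [map_sub, QCExact.app_res', QCExact.app_res', hs, hs, res_res, res_res, sub_self]
    exact (hK1 _ (hUaff2 j k) _).1 h0
  -- the function on the fibre
  have hcovX' : (⊤ : X'.Opens) ≤ ⨆ j, upW B g' (U j) := by
    intro x _
    have hx : g' x ∈ (⨆ i, U i) := by rw [hcov]; trivial
    obtain ⟨i, hi⟩ := Opens.mem_iSup.mp hx
    exact Opens.mem_iSup.mpr ⟨i, hi, trivial⟩
  obtain ⟨α, hα⟩ := fun_glue (fun j => upW B g' (U j)) ⊤ (fun _ => le_top) hcovX'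
    (fun j => ρ B g' (U j) (s j)) (by
      intro j k
      have hle : upW B g' (U j) ⊓ upW B g' (U k) ≤ upW B g' (U j ⊓ U k) :=
        fun x hx => ⟨⟨hx.1.1, hx.2.1⟩, trivial⟩
      have e1 : rres X' (inf_le_left : upW B g' (U j) ⊓ upW B g' (U k) ≤ upW B g' (U j))
          (ρ B g' (U j) (s j)) =
          rres X' hle (ρ B g' (U j ⊓ U k) (rres X inf_le_left (s j))) := by
        rw [← rres_ρ B g' (inf_le_left : U j ⊓ U k ≤ U j) (s j), rres_rres]
      have e2 : rres X' (inf_le_right : upW B g' (U j) ⊓ upW B g' (U k) ≤ upW B g' (U k))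
          (ρ B g' (U k) (s k)) =
          rres X' hle (ρ B g' (U j ⊓ U k) (rres X inf_le_right (s k))) := by
        rw [← rres_ρ B g' (inf_le_right : U j ⊓ U k ≤ U k) (s k), rres_rres]
      rw [e1, e2]
      congr 1
      have h3 := hdiff j k
      rw [RingHom.mem_ker, map_sub, sub_eq_zero] at h3
      exact h3)
  -- the polynomial
  obtain ⟨P, hP0, hPu⟩ := hsep α
  have hα' : ∀ j, ρ B g' (U j) (s j) = rr X' (le_top : upW B g' (U j) ≤ ⊤) α :=
    fun j => (hα j).symm
  have hev : ∀ (Q : A[X]) (j : ι), ρ B g' (U j) (Q.eval₂ (φ A (U j)) (s j)) =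
      rr X' (le_top : upW B g' (U j) ≤ ⊤)
        (Q.eval₂ ((φ B (⊤ : X'.Opens)).comp (φg A B g)) α) := by
    intro Q j
    rw [Polynomial.hom_eval₂, Polynomial.hom_eval₂, ρ_comp_φ A B g g' hc, hα']
  -- Hensel data on each chart
  have h2 : ∀ j, ∃ w : Γ(X, U j),
      w * ((derivative P).map (φ A (U j))).eval (s j) - 1 ∈ RingHom.ker (ρ B g' (U j)) := by
    intro j
    have hu : IsUnit (ρ B g' (U j) ((derivative P).eval₂ (φ A (U j)) (s j))) := by
      rw [hev]
      exact hPu.map _
    obtain ⟨w, hw⟩ := ρ_surjective A B g g' hc hsurj (hUaff j) (↑(hu.unit⁻¹))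
    refine ⟨w, ?_⟩
    have hw2 : ρ B g' (U j) w * ρ B g' (U j) ((derivative P).eval₂ (φ A (U j)) (s j)) = 1 := by
      rw [hw]
      exact hu.val_inv_mul
    rw [RingHom.mem_ker, map_sub, map_mul, map_one, Polynomial.eval_map, hw2, sub_self]
  choose w hw using h2
  have hPs : ∀ j, (P.map (φ A (U j))).eval (s j) ∈ RingHom.ker (ρ B g' (U j)) := by
    intro j
    rw [RingHom.mem_ker, Polynomial.eval_map, hev, hP0]
    exact map_zero _
  have h3 : ∀ j, ∃ a : Γ(X, U j), a - s j ∈ RingHom.ker (ρ B g' (U j)) ∧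
      (P.map (φ A (U j))).eval a ∈ RingHom.ker (ρ B g' (U j)) ^ N := by
    intro j
    have hw' : w j * (derivative (P.map (φ A (U j)))).eval (s j) - 1 ∈
        RingHom.ker (ρ B g' (U j)) := by
      rw [Polynomial.derivative_map]
      exact hw j
    obtain ⟨a, ha1, ha2⟩ := exists_root_mod_pow (RingHom.ker (ρ B g' (U j)))
      (P.map (φ A (U j))) (s j) (w j) (hPs j) hw' (N - 1)
    rw [Nat.sub_add_cancel hN] at ha2
    exact ⟨a, ha1, ha2⟩
  choose a ha1 ha2 using h3
  have hwa : ∀ j, w j * ((derivative P).map (φ A (U j))).eval (a j) - 1 ∈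
      RingHom.ker (ρ B g' (U j)) := by
    intro j
    have h4 := eval_sub_mem (RingHom.ker (ρ B g' (U j))) ((derivative P).map (φ A (U j))) (ha1 j)
    have e : w j * ((derivative P).map (φ A (U j))).eval (a j) - 1 =
        w j * (((derivative P).map (φ A (U j))).eval (a j) -
          ((derivative P).map (φ A (U j))).eval (s j)) +
        (w j * ((derivative P).map (φ A (U j))).eval (s j) - 1) := by ring
    rw [e]
    exact Ideal.add_mem _ (Ideal.mul_mem_left _ _ h4) (hw j)
  -- compatibility on overlaps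
  have hov : ∀ j k, rr X (inf_le_right : U j ⊓ U k ≤ U k) (a k) -
      rr X (inf_le_left : U j ⊓ U k ≤ U j) (a j) ∈ RingHom.ker (ρ B g' (U j ⊓ U k)) ^ N := by
    intro j k
    have hevj : ∀ (Q : A[X]), (Q.map (φ A (U j ⊓ U k))).eval (rr X inf_le_left (a j)) =
        rr X (inf_le_left : U j ⊓ U k ≤ U j) ((Q.map (φ A (U j))).eval (a j)) := by
      intro Q
      rw [Polynomial.eval_map, Polynomial.eval_map, eval₂_rr]
    have hevk : ∀ (Q : A[X]), (Q.map (φ A (U j ⊓ U k))).eval (rr X inf_le_right (a k)) =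
        rr X (inf_le_right : U j ⊓ U k ≤ U k) ((Q.map (φ A (U k))).eval (a k)) := by
      intro Q
      rw [Polynomial.eval_map, Polynomial.eval_map, eval₂_rr]
    apply sub_mem_pow_of_roots (RingHom.ker (ρ B g' (U j ⊓ U k))) (P.map (φ A (U j ⊓ U k)))
      (rr X inf_le_left (a j)) (rr X inf_le_right (a k)) (rr X inf_le_left (w j))
    · rw [Polynomial.derivative_map, hevj]
      have h5 := hJres (inf_le_left : U j ⊓ U k ≤ U j) _ (hwa j)
      rw [map_sub, map_mul, map_one] at h5
      exact h5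
    · have e : rr X (inf_le_right : U j ⊓ U k ≤ U k) (a k) -
          rr X (inf_le_left : U j ⊓ U k ≤ U j) (a j) =
          rr X (inf_le_right : U j ⊓ U k ≤ U k) (a k - s k) -
          (rr X (inf_le_left : U j ⊓ U k ≤ U j) (s j) -
            rr X (inf_le_right : U j ⊓ U k ≤ U k) (s k)) -
          rr X (inf_le_left : U j ⊓ U k ≤ U j) (a j - s j) := by
        rw [map_sub, map_sub]
        ring
      rw [e]
      exact Ideal.sub_mem _ (Ideal.sub_mem _ (hJres _ _ (ha1 k)) (hdiff j k))
        (hJres _ _ (ha1 j))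
    · rw [hevj]
      exact hJNres _ _ (ha2 j)
    · rw [hevk]
      exact hJNres _ _ (ha2 k)
  -- gluing
  obtain ⟨t', ht'⟩ := sec_glue (Formal.modPow I N (Coh.structureModule X)) U ⊤
    (fun _ => le_top) (by rw [hcov])
    (fun j => (Formal.modPowπ I N (Coh.structureModule X)).app (U j) (ofFun (U j) (a j))) (by
      intro j k
      rw [← QCExact.app_res', ← QCExact.app_res']
      have h6 := hJN _ (hUaff2 j k) _ (hov j k)
      have h7 : (Formal.modPowπ I N (Coh.structureModule X)).app (U j ⊓ U k)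
          (res (Coh.structureModule X) inf_le_right (ofFun (U k) (a k)) -
            res (Coh.structureModule X) inf_le_left (ofFun (U j) (a j))) = 0 := h6
      rw [map_sub, sub_eq_zero] at h7
      exact h7.symm)
  refine ⟨t', ?_⟩
  apply sec_eq_of_locally_eq (Formal.modPow I 1 (Coh.structureModule X)) U ⊤
    (fun _ => le_top) (by rw [hcov])
  intro j
  rw [← QCExact.app_res', ht', ← hs j]
  have h8 : (Formal2.modPowLE I hN (Coh.structureModule X)).app (U j)
      ((Formal.modPowπ I N (Coh.structureModule X)).app (U j) (ofFun (U j) (a j))) =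
      (Formal.modPowπ I 1 (Coh.structureModule X)).app (U j) (ofFun (U j) (a j)) :=
    congrArg (fun f => f.app (U j) (ofFun (U j) (a j)))
      (Formal2.modPowπ_modPowLE I hN (Coh.structureModule X))
  rw [h8]
  have h9 := (hK1 _ (hUaff j) (a j - s j)).2 (ha1 j)
  have h10 : (Formal.modPowπ I 1 (Coh.structureModule X)).app (U j)
      (ofFun (U j) (a j) - ofFun (U j) (s j)) = 0 := h9
  rw [map_sub, sub_eq_zero] at h10
  exact h10

end Groth.Agent.Lib.Helper13.CBCEtCore
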