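import Mathlib
import Groth.Agent.Lib.Helper13.CBCCech
import Groth.Agent.Lib.Helper1.FlatAffine

/-!
# The terms of the Čech complex of a flat quasi-coherent module are flat `A`-modules
-/

set_option autoImplicit false
universe u
open CategoryTheory CategoryTheory.Limits AlgebraicGeometry TopologicalSpace Opposite TensorProduct
open Scheme.Modules

namespace Groth.Agent.Lib.Helper13.CBCFlat

open Groth.Agent.Lib.Helper13.CBCSec Groth.Agent.Lib.Helper13.CBCCechMap
  Groth.Agent.Lib.Helper13.CechBasic Groth.Agent.Lib.Helper13.CBCCech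

lemma flat_of_ringEquiv {A R : Type u} [CommRing A] [CommRing R] (ψ : A ≃+* R) {N : Type u}
    [AddCommGroup N] [Module A N] [Module R N] (hN : ∀ (a : A) (n : N), a • n = ψ a • n)
    (h : Module.Flat R N) : Module.Flat A N := by
  letI : Algebra A R := ψ.toRingHom.toAlgebra
  haveI : IsScalarTower A R N := IsScalarTower.of_algebraMap_smul (fun a n => (hN a n).symm)
  let e : R ≃ₗ[A] A :=
    { toFun := ψ.symm
      map_add' := map_add _
      map_smul' := fun a r => by
        show ψ.symm (ψ a * r) = a * ψ.symm r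
        rw [map_mul, ψ.symm_apply_apply]
      invFun := ψ
      left_inv := ψ.apply_symm_apply
      right_inv := ψ.symm_apply_apply }
  haveI : Module.Flat A R := Module.Flat.of_linearEquiv e
  exact Module.Flat.trans A R N

lemma flat_pi {A : Type u} [CommRing A] {κ : Type u} [Finite κ] (Z : κ → Type u)
    [∀ i, AddCommGroup (Z i)] [∀ i, Module A (Z i)] (h : ∀ i, Module.Flat A (Z i)) :
    Module.Flat A (∀ i, Z i) := by
  classical
  haveI := Fintype.ofFinite κ
  exact Module.Flat.of_linearEquiv (DirectSum.linearEquivFunOnFintype A κ Z).symm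

lemma flat_piObj {A : Type u} [CommRing A] {κ : Type u} [Finite κ] (Z : κ → ModuleCat.{u} A)
    (h : ∀ i, Module.Flat A (Z i)) : Module.Flat A ↑(∏ᶜ Z) := by
  haveI := flat_pi (fun i => ↑(Z i)) h
  exact Module.Flat.of_linearEquiv (ModuleCat.piIsoPi Z).toLinearEquiv

variable (A : Type u) [CommRing A] {X : Scheme.{u}} [X.Over (Spec (CommRingCat.of A))]
  (F : X.Modules) [F.IsQuasicoherent]

lemma flat_SecA (hfl : FlatMod.IsFlatOver (sm A X) F) {W : X.Opens} (hW : IsAffineOpen W) :
    Module.Flat A (SecA A F W) := by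
  have h := (Groth.Agent.Lib.Helper1.FlatAffine.flat_sections_iff (sm A X) F hW
    (isAffineOpen_top (Spec (CommRingCat.of A))) le_top).2 (fun x _ => hfl x)
  letI : Module Γ(Spec (CommRingCat.of A), ⊤) (SecA A F W) :=
    Module.compHom Γ(F, W) ((sm A X).appLE ⊤ W le_top).hom
  exact flat_of_ringEquiv (Scheme.ΓSpecIso (CommRingCat.of A)).symm.commRingCatIsoToRingEquiv
    (fun a n => rfl) h

variable {ι : Type u} (U : ι → X.Opens) [Finite ι]

lemma flat_CC_X (hfl : FlatMod.IsFlatOver (sm A X) F)
    (hU : ∀ (n : ℕ) (i : Fin (n + 1) → ι), IsAffineOpen (∏ᶜ (U ∘ i))) (n : ℕ) :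
    Module.Flat A ((CC A F U).X n) :=
  flat_piObj (fun i : Fin (n + 1) → ι => (PA A F).obj (op (∏ᶜ (U ∘ i))))
    (fun i => flat_SecA A F hfl (hU n i))

end Groth.Agent.Lib.Helper13.CBCFlat
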