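import Mathlib
import Groth.Prelude.Def_ega3
import Groth.Agent.Lib.Helper7.TFunFree
import Groth.Agent.Lib.Helper7.TFunLib

/-!
# A quasi-isomorphism of termwise flat complexes stays one after tensoring (bounded homology)

`u : Q ⟶ P` quasi-isomorphism of `ℤ`-indexed chain complexes of flat `A`-modules such that
`H_j(P ⊗ M) = 0 = H_j(Q ⊗ M)` for all `j < d` and all `M`.  Then `H_j(Q ⊗ M) → H_j(P ⊗ M)` is an
isomorphism for all `j`, `M` (Hartshorne III.12.3, ascending induction on `j`).
-/

set_option autoImplicit false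
universe u
open CategoryTheory CategoryTheory.Limits MonoidalCategory

namespace Groth.Agent.Lib.Helper13.CBCQis

open Groth.Agent.Lib.Helper7

variable {A : Type u} [CommRing A] {ι : Type} {c : ComplexShape ι}

section General

variable {P Q : HomologicalComplex (ModuleCat.{u} A) c} (u : Q ⟶ P)

/-- `u ⊗ M : Q ⊗ M ⟶ P ⊗ M`. -/
noncomputable abbrev tensU (M : ModuleCat.{u} A) : CohIII.tensorObj Q M ⟶ CohIII.tensorObj P M :=
  ((tensorRight M).mapHomologicalComplex c).map u

lemma tensU_f (M : ModuleCat.{u} A) (i : ι) : (tensU u M).f i = u.f i ▷ M := rfl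

lemma tensU_comm {M N : ModuleCat.{u} A} (g : M ⟶ N) :
    tensU u M ≫ CohIII.tensorMap P g = CohIII.tensorMap Q g ≫ tensU u N := by
  ext i : 1
  show u.f i ▷ M ≫ P.X i ◁ g = Q.X i ◁ g ≫ u.f i ▷ N
  exact (whisker_exchange (u.f i) g).symm

/-- the natural transformation `H_p(Q ⊗ -) ⟶ H_p(P ⊗ -)`. -/
noncomputable def TNat (p : ι) : CohIII.TFun Q p ⟶ CohIII.TFun P p where
  app M := HomologicalComplex.homologyMap (tensU u M) p
  naturality M N g := by
    show HomologicalComplex.homologyMap (CohIII.tensorMap Q g) p ≫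
        HomologicalComplex.homologyMap (tensU u N) p =
      HomologicalComplex.homologyMap (tensU u M) p ≫
        HomologicalComplex.homologyMap (CohIII.tensorMap P g) p
    rw [← HomologicalComplex.homologyMap_comp, ← HomologicalComplex.homologyMap_comp, tensU_comm]

lemma TNat_app (p : ι) (M : ModuleCat.{u} A) :
    (TNat u p).app M = HomologicalComplex.homologyMap (tensU u M) p := rfl

lemma TNat_tMap (p : ι) (M : ModuleCat.{u} A)
    (w : TensorProduct A ((CohIII.TFun Q p).obj (ModuleCat.of A A)) M) :
    ((TNat u p).app M).hom (tMap (CohIII.TFun Q p) M w) =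
      tMap (CohIII.TFun P p) M
        (LinearMap.rTensor M ((TNat u p).app (ModuleCat.of A A)).hom w) := by
  induction w using TensorProduct.induction_on with
  | zero => simp
  | tmul y x =>
    rw [tMap_tmul, LinearMap.rTensor_tmul, tMap_tmul]
    have h := (TNat u p).naturality (thetaHom M x)
    exact ConcreteCategory.congr_hom h y
  | add a b ha hb => rw [map_add, map_add, map_add, map_add, ha, hb]

lemma isIso_TNat_free (hP : ∀ i, Module.Flat A (P.X i)) (hQ : ∀ i, Module.Flat A (Q.X i)) (p : ι)
    (hA : IsIso ((TNat u p).app (ModuleCat.of A A))) (X : Type u) :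
    IsIso ((TNat u p).app (ModuleCat.of A (X →₀ A))) := by
  rw [ConcreteCategory.isIso_iff_bijective]
  have bQ := TFun_tMap_bijective_finsupp Q hQ p X
  have bP := TFun_tMap_bijective_finsupp P hP p X
  let e : (CohIII.TFun Q p).obj (ModuleCat.of A A) ≃ₗ[A] (CohIII.TFun P p).obj (ModuleCat.of A A) :=
    (asIso ((TNat u p).app (ModuleCat.of A A))).toLinearEquiv
  have hr : Function.Bijective
      (LinearMap.rTensor (X →₀ A) ((TNat u p).app (ModuleCat.of A A)).hom) := by
    have : (LinearMap.rTensor (X →₀ A) ((TNat u p).app (ModuleCat.of A A)).hom) =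
        (LinearEquiv.rTensor (X →₀ A) e).toLinearMap := by
      apply TensorProduct.ext'
      intro y x
      rfl
    rw [this]
    exact (LinearEquiv.rTensor (X →₀ A) e).bijective
  have hcomp : (fun w => ((TNat u p).app (ModuleCat.of A (X →₀ A))).hom
      (tMap (CohIII.TFun Q p) (ModuleCat.of A (X →₀ A)) w)) =
      fun w => tMap (CohIII.TFun P p) (ModuleCat.of A (X →₀ A))
        (LinearMap.rTensor (X →₀ A) ((TNat u p).app (ModuleCat.of A A)).hom w) :=
    funext (TNat_tMap u p (ModuleCat.of A (X →₀ A)))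
  have h2 : Function.Bijective (fun w => ((TNat u p).app (ModuleCat.of A (X →₀ A))).hom
      (tMap (CohIII.TFun Q p) (ModuleCat.of A (X →₀ A)) w)) := by
    rw [hcomp]
    exact bP.comp hr
  exact (Function.Bijective.of_comp_iff _ bQ).mp h2

lemma isIso_TNat_unit [QuasiIso u] (p : ι) : IsIso ((TNat u p).app (ModuleCat.of A A)) := by
  let e : (tensorRight (𝟙_ (ModuleCat.{u} A))).mapHomologicalComplex c ≅ 𝟭 _ :=
    NatIso.mapHomologicalComplex (rightUnitorNatIso (ModuleCat.{u} A)) c ≪≫
      Functor.mapHomologicalComplexIdIso _ c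
  have h1 : tensU u (𝟙_ (ModuleCat.{u} A)) ≫ e.hom.app P = e.hom.app Q ≫ u := e.hom.naturality u
  have h2 : QuasiIso (tensU u (𝟙_ (ModuleCat.{u} A))) := by
    have : tensU u (𝟙_ (ModuleCat.{u} A)) = e.hom.app Q ≫ u ≫ e.inv.app P := by
      rw [← Category.assoc, ← h1, Category.assoc, Iso.hom_inv_id_app, Category.comp_id]
    rw [this]
    infer_instance
  show IsIso (HomologicalComplex.homologyMap (tensU u (𝟙_ (ModuleCat.{u} A))) p)
  infer_instance

end General

/-- **Main theorem.** -/
theorem isIso_TNat (P Q : ChainComplex (ModuleCat.{u} A) ℤ) (u : Q ⟶ P) [QuasiIso u]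
    (hP : ∀ i, Module.Flat A (P.X i)) (hQ : ∀ i, Module.Flat A (Q.X i)) (d : ℤ)
    (hPd : ∀ j < d, ∀ M, IsZero ((CohIII.TFun P j).obj M))
    (hQd : ∀ j < d, ∀ M, IsZero ((CohIII.TFun Q j).obj M)) :
    ∀ (j : ℤ) (M : ModuleCat.{u} A), IsIso ((TNat u j).app M) := by
  have key : ∀ n : ℕ, ∀ j : ℤ, j < d + n → ∀ M : ModuleCat.{u} A, IsIso ((TNat u j).app M) := by
    intro n
    induction n with
    | zero =>
      intro j hj M
      have hj' : j < d := by simpa using hj
      exact ⟨0, (hQd j hj' M).eq_of_src _ _, (hPd j hj' M).eq_of_src _ _⟩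
    | succ n ih =>
      intro j hj M
      by_cases hlt : j < d + n
      · exact ih j hlt M
      · have ih' : ∀ (j' : ℤ), (ComplexShape.down ℤ).Rel j j' →
            ∀ M : ModuleCat.{u} A, IsIso ((TNat u j').app M) := by
          intro j' hrel M
          have : j' + 1 = j := hrel
          exact ih j' (by push_cast at hj; omega) M
        have hfree : ∀ X : Type u, IsIso ((TNat u j).app (ModuleCat.of A (X →₀ A))) :=
          fun X => isIso_TNat_free u hP hQ j (isIso_TNat_unit u j) X
        -- the standard presentation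
        have pres : ∀ M : ModuleCat.{u} A, ∃ (S : ShortComplex (ModuleCat.{u} A)),
            S.ShortExact ∧ S.X₃ = M ∧
              ∃ X : Type u, S.X₂ = (ModuleCat.of A (X →₀ A) : ModuleCat.{u} A) := by
          intro M
          let M' : Type u := M
          let π : (ModuleCat.of A (M' →₀ A) : ModuleCat.{u} A) ⟶ M :=
            ModuleCat.ofHom (Finsupp.linearCombination A (id : M' → M'))
          have hπ : Epi π := (ModuleCat.epi_iff_surjective _).mpr
            (Finsupp.linearCombination_id_surjective A M)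
          exact ⟨ShortComplex.mk (kernel.ι π) π (kernel.condition π),
            { exact := ShortComplex.exact_kernel π }, rfl, M', rfl⟩
        have step : ∀ (S : ShortComplex (ModuleCat.{u} A)) (hS : S.ShortExact),
            (∃ X : Type u, S.X₂ = (ModuleCat.of A (X →₀ A) : ModuleCat.{u} A)) →
            (Epi ((TNat u j).app S.X₃)) ∧
              (Epi ((TNat u j).app S.X₁) → Mono ((TNat u j).app S.X₃)) := by
          intro S hS hX
          obtain ⟨X, hX⟩ := hX
          have hE : IsIso ((TNat u j).app S.X₂) := by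
            rw [hX]
            exact hfree X
          let Φ : tensorSC Q S ⟶ tensorSC P S :=
            { τ₁ := tensU u S.X₁
              τ₂ := tensU u S.X₂
              τ₃ := tensU u S.X₃
              comm₁₂ := tensU_comm u S.f
              comm₂₃ := tensU_comm u S.g }
          have hSQ := tensorSC_shortExact Q hQ S hS
          have hSP := tensorSC_shortExact P hP S hS
          constructor
          · refine HomologicalComplex.HomologySequence.epi_homologyMap_τ₃ Φ hSQ hSP j ?_ ?_ ?_
            · exact @IsIso.epi_of_iso _ _ _ _ ((TNat u j).app S.X₂) hE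
            · intro j' hrel
              exact @IsIso.epi_of_iso _ _ _ _ ((TNat u j').app S.X₁) (ih' j' hrel S.X₁)
            · intro j' hrel
              exact @IsIso.mono_of_iso _ _ _ _ ((TNat u j').app S.X₂) (ih' j' hrel S.X₂)
          · intro h1
            refine HomologicalComplex.HomologySequence.mono_homologyMap_τ₃ Φ hSQ hSP j ?_ ?_ ?_
            · exact h1
            · exact @IsIso.mono_of_iso _ _ _ _ ((TNat u j).app S.X₂) hE
            · intro j' hrel
              exact @IsIso.mono_of_iso _ _ _ _ ((TNat u j').app S.X₁) (ih' j' hrel S.X₁)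
        have hepi : ∀ M : ModuleCat.{u} A, Epi ((TNat u j).app M) := by
          intro M
          obtain ⟨S, hS, rfl, hX⟩ := pres M
          exact (step S hS hX).1
        obtain ⟨S, hS, rfl, hX⟩ := pres M
        have hm := (step S hS hX).2 (hepi S.X₁)
        have he := (step S hS hX).1
        exact @isIso_of_mono_of_epi _ _ _ _ _ ((TNat u j).app S.X₃) hm he
  intro j M
  obtain ⟨n, hn⟩ : ∃ n : ℕ, j < d + n := ⟨(j - d + 1).toNat, by omega⟩
  exact key n j hn M

/-- the natural isomorphism `H_j(Q ⊗ -) ≅ H_j(P ⊗ -)`. -/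
noncomputable def TIso (P Q : ChainComplex (ModuleCat.{u} A) ℤ) (u : Q ⟶ P) [QuasiIso u]
    (hP : ∀ i, Module.Flat A (P.X i)) (hQ : ∀ i, Module.Flat A (Q.X i)) (d : ℤ)
    (hPd : ∀ j < d, ∀ M, IsZero ((CohIII.TFun P j).obj M))
    (hQd : ∀ j < d, ∀ M, IsZero ((CohIII.TFun Q j).obj M)) (j : ℤ) :
    CohIII.TFun Q j ≅ CohIII.TFun P j :=
  haveI : ∀ M, IsIso ((TNat u j).app M) := isIso_TNat P Q u hP hQ d hPd hQd j
  haveI : IsIso (TNat u j) := NatIso.isIso_of_isIso_app _
  asIso (TNat u j)

end Groth.Agent.Lib.Helper13.CBCQis
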