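import Mathlib

/-!
# Elementwise cohomological δ-functors and their universality

A light-weight notion of cohomological δ-functor on an abelian category (groups `obj P n`, maps
`map φ n`, connecting maps `δ X hX n` for short exact short complexes, with the parts of the long
exact sequence which are needed), morphisms of such, and

* `ext_of_zero`: two morphisms out of an effaceable δ-functor agreeing in degree `0` are equal;
* `exists_of_zero`: a natural transformation in degree `0` out of an effaceable δ-functor extends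
  to a morphism of δ-functors;
* `injective_step`, `surjective_step`: dimension shifting for a morphism of δ-functors;
* `ofExt L A`: the δ-functor `P ↦ Ext^n(A, L P)` for an exact functor `L`.
-/
set_option autoImplicit false
universe w v u v' u'
open CategoryTheory CategoryTheory.Limits

noncomputable section

namespace Groth.Agent.Lib.Helper13.DeltaFun

/-- an (elementwise) cohomological δ-functor on an abelian category. -/
structure DFun (𝒜 : Type u) [Category.{v} 𝒜] [Abelian 𝒜] where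
  /-- the groups -/
  obj : 𝒜 → ℕ → Type w
  [inst : ∀ P n, AddCommGroup (obj P n)]
  /-- functoriality -/
  map : ∀ {P Q : 𝒜} (_ : P ⟶ Q) (n : ℕ), obj P n →+ obj Q n
  /-- the connecting homomorphisms -/
  δ : ∀ (X : ShortComplex 𝒜) (_ : X.ShortExact) (n : ℕ), obj X.X₃ n →+ obj X.X₁ (n + 1)
  map_id : ∀ (P : 𝒜) (n : ℕ) (x : obj P n), map (𝟙 P) n x = x
  δ_nat : ∀ {X X' : ShortComplex 𝒜} (φ : X ⟶ X') (hX : X.ShortExact) (hX' : X'.ShortExact)
    (n : ℕ) (x : obj X.X₃ n), δ X' hX' n (map φ.τ₃ n x) = map φ.τ₁ (n + 1) (δ X hX n x)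
  δ_map : ∀ (X : ShortComplex 𝒜) (hX : X.ShortExact) (n : ℕ) (x : obj X.X₂ n),
    δ X hX n (map X.g n x) = 0
  exact₃ : ∀ (X : ShortComplex 𝒜) (hX : X.ShortExact) (n : ℕ) (y : obj X.X₃ n),
    δ X hX n y = 0 → ∃ x, map X.g n x = y
  exact₁ : ∀ (X : ShortComplex 𝒜) (hX : X.ShortExact) (n : ℕ) (y : obj X.X₁ (n + 1)),
    map X.f (n + 1) y = 0 → ∃ x, δ X hX n x = y

attribute [instance] DFun.inst

variable {𝒜 : Type u} [Category.{v} 𝒜] [Abelian 𝒜]

/-- a family of additive maps is a morphism of δ-functors. -/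
structure IsHom (T S : DFun.{w} 𝒜) (e : ∀ (P : 𝒜) (n : ℕ), T.obj P n →+ S.obj P n) :
    Prop where
  natural : ∀ {P Q : 𝒜} (φ : P ⟶ Q) (n : ℕ) (x : T.obj P n),
    e Q n (T.map φ n x) = S.map φ n (e P n x)
  delta : ∀ (X : ShortComplex 𝒜) (hX : X.ShortExact) (n : ℕ) (x : T.obj X.X₃ n),
    e X.X₁ (n + 1) (T.δ X hX n x) = S.δ X hX n (e X.X₃ n x)

/-- a δ-functor is effaceable if it vanishes in positive degrees on injective objects. -/
def Effaceable (T : DFun.{w} 𝒜) : Prop :=
  ∀ (I : 𝒜) [Injective I] (n : ℕ) (x : T.obj I (n + 1)), x = 0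

/-- composition of morphisms of δ-functors. -/
lemma IsHom.comp {T' T S : DFun.{w} 𝒜} {r : ∀ (P : 𝒜) (n : ℕ), T'.obj P n →+ T.obj P n}
    {e : ∀ (P : 𝒜) (n : ℕ), T.obj P n →+ S.obj P n} (he : IsHom T S e) (hr : IsHom T' T r) :
    IsHom T' S (fun P n => (e P n).comp (r P n)) where
  natural φ n x := by
    change e _ n (r _ n (T'.map φ n x)) = S.map φ n (e _ n (r _ n x))
    rw [hr.natural, he.natural]
  delta X hX n x := by
    change e _ (n + 1) (r _ (n + 1) (T'.δ X hX n x)) = S.δ X hX n (e _ n (r _ n x))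
    rw [hr.delta, he.delta]

lemma δ_surjective (T : DFun.{w} 𝒜) (X : ShortComplex 𝒜) (hX : X.ShortExact) (n : ℕ)
    (h : ∀ x : T.obj X.X₂ (n + 1), x = 0) : Function.Surjective (T.δ X hX n) :=
  fun y => T.exact₁ X hX n y (h _)

section Steps

variable {T S : DFun.{w} 𝒜} {e : ∀ (P : 𝒜) (n : ℕ), T.obj P n →+ S.obj P n}
  (he : IsHom T S e)
include he

/-- dimension shifting, injectivity. -/
lemma injective_step (X : ShortComplex 𝒜) (hX : X.ShortExact) (n : ℕ)
    (h₃ : Function.Injective (e X.X₃ n)) (h₂ : Function.Surjective (e X.X₂ n))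
    (hT : ∀ x : T.obj X.X₂ (n + 1), x = 0) : Function.Injective (e X.X₁ (n + 1)) := by
  rw [injective_iff_map_eq_zero]
  intro x hx
  obtain ⟨y, rfl⟩ := δ_surjective T X hX n hT x
  rw [he.delta] at hx
  obtain ⟨v, hv⟩ := S.exact₃ X hX n _ hx
  obtain ⟨v', rfl⟩ := h₂ v
  rw [← he.natural] at hv
  rw [← h₃ hv, T.δ_map]

/-- dimension shifting, surjectivity. -/
lemma surjective_step (X : ShortComplex 𝒜) (hX : X.ShortExact) (n : ℕ)
    (h₃ : Function.Surjective (e X.X₃ n))
    (hS : ∀ x : S.obj X.X₂ (n + 1), x = 0) : Function.Surjective (e X.X₁ (n + 1)) := by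
  intro z
  obtain ⟨w, rfl⟩ := δ_surjective S X hX n hS z
  obtain ⟨y, rfl⟩ := h₃ w
  exact ⟨T.δ X hX n y, he.delta X hX n y⟩

/-- dimension shifting, bijectivity. -/
lemma bijective_step (X : ShortComplex 𝒜) (hX : X.ShortExact) (n : ℕ)
    (h₃ : Function.Bijective (e X.X₃ n)) (h₂ : Function.Surjective (e X.X₂ n))
    (hT : ∀ x : T.obj X.X₂ (n + 1), x = 0) (hS : ∀ x : S.obj X.X₂ (n + 1), x = 0) :
    Function.Bijective (e X.X₁ (n + 1)) :=
  ⟨injective_step he X hX n h₃.1 h₂ hT, surjective_step he X hX n h₃.2 hS⟩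

end Steps

section Universal

variable [EnoughInjectives 𝒜]

/-- the chosen injective presentation `0 ⟶ P ⟶ I ⟶ I/P ⟶ 0`. -/
abbrev ses (P : 𝒜) : ShortComplex 𝒜 :=
  ShortComplex.mk (Injective.ι P) (cokernel.π (Injective.ι P)) (cokernel.condition _)

lemma ses_shortExact (P : 𝒜) : (ses P).ShortExact :=
  ShortComplex.ShortExact.mk' (ShortComplex.cokernelSequence_exact (Injective.ι P))
    (inferInstanceAs (Mono (Injective.ι P)))
    (inferInstanceAs (Epi (cokernel.π (Injective.ι P))))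

/-- a morphism from a short exact short complex to the chosen injective presentation, over a
given morphism on the first terms. -/
def sesMap {X : ShortComplex 𝒜} (hX : X.ShortExact) {P' : 𝒜} (φ : X.X₁ ⟶ P') : X ⟶ ses P' :=
  have := hX.mono_f
  have := hX.epi_g
  { τ₁ := φ
    τ₂ := Injective.factorThru (φ ≫ Injective.ι P') X.f
    τ₃ := hX.exact.desc
      (Injective.factorThru (φ ≫ Injective.ι P') X.f ≫ cokernel.π (Injective.ι P')) (by
        rw [← Category.assoc, Injective.comp_factorThru, Category.assoc, cokernel.condition,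
          comp_zero])
    comm₁₂ := (Injective.comp_factorThru _ _).symm
    comm₂₃ := (hX.exact.g_desc _ _).symm }

lemma sesMap_τ₁ {X : ShortComplex 𝒜} (hX : X.ShortExact) {P' : 𝒜} (φ : X.X₁ ⟶ P') :
    (sesMap hX φ).τ₁ = φ := rfl

variable {T S : DFun.{w} 𝒜}

lemma ses_δ_surjective (hT : Effaceable T) (P : 𝒜) (n : ℕ) :
    Function.Surjective (T.δ (ses P) (ses_shortExact P) n) :=
  δ_surjective T (ses P) (ses_shortExact P) n
    (fun x => hT (Injective.under P) n x)

/-- **uniqueness** of morphisms out of an effaceable δ-functor. -/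
theorem ext_of_zero (hT : Effaceable T) {e e' : ∀ (P : 𝒜) (n : ℕ), T.obj P n →+ S.obj P n}
    (he : IsHom T S e) (he' : IsHom T S e') (h0 : ∀ P, e P 0 = e' P 0) : e = e' := by
  funext P n
  induction n generalizing P with
  | zero => exact h0 P
  | succ n ih =>
    ext x
    obtain ⟨y, rfl⟩ := ses_δ_surjective hT P n x
    have h1 := he.delta (ses P) (ses_shortExact P) n y
    have h2 := he'.delta (ses P) (ses_shortExact P) n y
    rw [ih] at h1
    exact h1.trans h2.symm

/-- natural families of maps in a given degree. -/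
structure NatFam (T S : DFun.{w} 𝒜) (n : ℕ) where
  /-- the maps -/
  app : ∀ P : 𝒜, T.obj P n →+ S.obj P n
  nat : ∀ {P Q : 𝒜} (φ : P ⟶ Q) (x : T.obj P n), app Q (T.map φ n x) = S.map φ n (app P x)

variable (hT : Effaceable T)

/-- the extension of a natural family to the next degree (on objects). -/
def nextApp {n : ℕ} (E : NatFam T S n) (P : 𝒜) : T.obj P (n + 1) →+ S.obj P (n + 1) :=
  (T.δ (ses P) (ses_shortExact P) n).liftOfRightInverse
    (Function.surjInv (ses_δ_surjective hT P n))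
    (Function.rightInverse_surjInv (ses_δ_surjective hT P n))
    ⟨(S.δ (ses P) (ses_shortExact P) n).comp (E.app (ses P).X₃), by
      intro y hy
      rw [AddMonoidHom.mem_ker] at hy ⊢
      obtain ⟨z, rfl⟩ := T.exact₃ _ _ n y hy
      change S.δ _ _ n (E.app _ (T.map (ses P).g n z)) = 0
      rw [E.nat, S.δ_map]⟩

lemma nextApp_δ {n : ℕ} (E : NatFam T S n) (P : 𝒜) (y : T.obj (ses P).X₃ n) :
    nextApp hT E P (T.δ (ses P) (ses_shortExact P) n y) =
      S.δ (ses P) (ses_shortExact P) n (E.app _ y) :=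
  AddMonoidHom.liftOfRightInverse_comp_apply _ _ _ _ _

lemma nextApp_map_δ {n : ℕ} (E : NatFam T S n) {X : ShortComplex 𝒜} (hX : X.ShortExact)
    {P' : 𝒜} (ψ : X ⟶ ses P') (y : T.obj X.X₃ n) :
    nextApp hT E P' (T.map ψ.τ₁ (n + 1) (T.δ X hX n y)) =
      S.map ψ.τ₁ (n + 1) (S.δ X hX n (E.app X.X₃ y)) := by
  rw [← T.δ_nat ψ hX (ses_shortExact P') n y, nextApp_δ, E.nat, S.δ_nat ψ hX]

/-- the extension of a natural family to the next degree. -/
def next {n : ℕ} (E : NatFam T S n) : NatFam T S (n + 1) where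
  app := nextApp hT E
  nat {P Q} φ x := by
    obtain ⟨y, rfl⟩ := ses_δ_surjective hT P n x
    have h := nextApp_map_δ hT E (ses_shortExact P) (sesMap (ses_shortExact P) φ) y
    rw [nextApp_δ]
    exact h

/-- the extension of a natural family in degree `0` to all degrees. -/
def fam (e0 : NatFam T S 0) : ∀ n, NatFam T S n
  | 0 => e0
  | n + 1 => next hT (fam e0 n)

include hT in
/-- **existence** of morphisms out of an effaceable δ-functor with given degree `0` part. -/
theorem exists_of_zero (e0 : ∀ P : 𝒜, T.obj P 0 →+ S.obj P 0)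
    (h0 : ∀ {P Q : 𝒜} (φ : P ⟶ Q) (x : T.obj P 0), e0 Q (T.map φ 0 x) = S.map φ 0 (e0 P x)) :
    ∃ e : ∀ (P : 𝒜) (n : ℕ), T.obj P n →+ S.obj P n, IsHom T S e ∧ ∀ P, e P 0 = e0 P := by
  refine ⟨fun P n => (fam hT ⟨e0, h0⟩ n).app P,
    ⟨fun φ n x => (fam hT ⟨e0, h0⟩ n).nat φ x, ?_⟩, fun P => rfl⟩
  intro X hX n y
  have h := nextApp_map_δ hT (fam hT ⟨e0, h0⟩ n) hX (sesMap hX (𝟙 X.X₁)) y
  have h1 : ∀ z, T.map (sesMap hX (𝟙 X.X₁)).τ₁ (n + 1) z = z := fun z => T.map_id _ _ z
  have h2 : ∀ z, S.map (sesMap hX (𝟙 X.X₁)).τ₁ (n + 1) z = z := fun z => S.map_id _ _ z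
  rw [h1, h2] at h
  exact h

end Universal

section OfExt

open Abelian

variable {ℬ : Type u'} [Category.{v'} ℬ] [Abelian ℬ] [HasExt.{w} ℬ] (L : 𝒜 ⥤ ℬ) [L.Additive]
  [PreservesFiniteLimits L] [PreservesFiniteColimits L] (A : ℬ)

/-- the δ-functor `P ↦ Ext^n(A, L P)` attached to an exact functor `L`. -/
def ofExt : DFun.{w} 𝒜 where
  obj P n := Ext A (L.obj P) n
  map φ n := (Ext.mk₀ (L.map φ)).postcomp A (add_zero n)
  δ X hX n := (hX.map_of_exact L).extClass.postcomp A rfl
  map_id P n x := by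
    change x.comp (Ext.mk₀ (L.map (𝟙 P))) (add_zero n) = x
    rw [L.map_id, Ext.comp_mk₀_id]
  δ_nat {X X'} φ hX hX' n x := by
    change (x.comp (Ext.mk₀ (L.map φ.τ₃)) (add_zero n)).comp (hX'.map_of_exact L).extClass rfl =
      (x.comp (hX.map_of_exact L).extClass rfl).comp (Ext.mk₀ (L.map φ.τ₁)) (add_zero (n + 1))
    have h := ShortComplex.ShortExact.extClass_naturality (hX.map_of_exact L)
      (hX'.map_of_exact L) (L.mapShortComplex.map φ)
    rw [Ext.comp_assoc_of_second_deg_zero, Ext.comp_assoc_of_third_deg_zero]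
    exact congrArg (fun z => x.comp z rfl) h.symm
  δ_map X hX n x := by
    change (x.comp (Ext.mk₀ (L.map X.g)) (add_zero n)).comp (hX.map_of_exact L).extClass rfl = 0
    rw [Ext.comp_assoc_of_second_deg_zero]
    have h := (hX.map_of_exact L).comp_extClass
    exact (congrArg (fun z => x.comp z rfl) h).trans (Ext.comp_zero _ _ _ _ _)
  exact₃ X hX n y hy := Ext.covariant_sequence_exact₃ A (hX.map_of_exact L) y rfl hy
  exact₁ X hX n y hy := Ext.covariant_sequence_exact₁ A (hX.map_of_exact L) y hy rfl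

lemma ofExt_map_apply {P Q : 𝒜} (φ : P ⟶ Q) (n : ℕ) (x : Ext A (L.obj P) n) :
    (ofExt L A).map φ n x = x.comp (Ext.mk₀ (L.map φ)) (add_zero n) := rfl

lemma ofExt_δ_apply (X : ShortComplex 𝒜) (hX : X.ShortExact) (n : ℕ)
    (x : Ext A (L.obj X.X₃) n) :
    (ofExt L A).δ X hX n x = x.comp (hX.map_of_exact L).extClass rfl := rfl

end OfExt

end Groth.Agent.Lib.Helper13.DeltaFun
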