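import Mathlib
import Groth.Prelude
import Groth.Agent.Lib.Helper13.DeltaFun
import Groth.Agent.Lib.Helper13.CechSite
import Groth.Agent.Lib.Helper13.CechLES
import Groth.Agent.Lib.Helper13.CechH0
import Groth.Agent.Lib.Helper13.CechInjective

/-!
# Čech cohomology as an effaceable δ-functor on abelian presheaves; edge families

* `cechDelta Y`: Čech cohomology with respect to a family `Y` of objects over `U` as a δ-functor on
  abelian presheaves; `cechDelta_effaceable`.
* `shDelta J U`: `P ↦ H^n(U, P^#)` as a δ-functor on abelian presheaves.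
* `isHom_of_isEdge`, `isEdge_of_isHom`: the prelude's `CechEdge.IsEdge` in these terms.
* `toCech_bijective`, `toCech_naturality`, `sectH0_naturality`, `edge0`: degree `0`.
* `isEdge_unique`, `exists_isEdge`.
-/
set_option autoImplicit false
universe u
open CategoryTheory CategoryTheory.Limits Opposite

noncomputable section

namespace Groth.Agent.Lib.Helper13.CechDelta

open CechBasic CechLow CechLES CechH0 CechSite CechInjective DeltaFun

variable {C : Type u} [SmallCategory C]

instance ab5OfSize_presheafAb : AB5OfSize.{u, u} (Cᵒᵖ ⥤ AddCommGrpCat.{u}) :=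
  ⟨fun _ _ _ => inferInstance⟩

instance isGrothendieckAbelian_presheafAb :
    IsGrothendieckAbelian.{u} (Cᵒᵖ ⥤ AddCommGrpCat.{u}) := {}

section PresheafExact

variable {X : ShortComplex (Cᵒᵖ ⥤ AddCommGrpCat.{u})} (hX : X.ShortExact)
include hX

lemma app_shortExact (V : Cᵒᵖ) :
    (X.map ((evaluation Cᵒᵖ AddCommGrpCat.{u}).obj V)).ShortExact :=
  hX.map_of_exact _

lemma app_injective (V : Cᵒᵖ) (x : X.X₁.obj V) (hx : (X.f.app V).hom x = 0) : x = 0 := by
  have h := (AddCommGrpCat.mono_iff_injective _).1 (app_shortExact hX V).mono_f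
  exact h (hx.trans (map_zero _).symm)

lemma app_surjective (V : Cᵒᵖ) (z : X.X₃.obj V) : ∃ x : X.X₂.obj V, (X.g.app V).hom x = z :=
  (AddCommGrpCat.epi_iff_surjective _).1 (app_shortExact hX V).epi_g z

lemma app_exact (V : Cᵒᵖ) (x : X.X₂.obj V) (hx : (X.g.app V).hom x = 0) :
    ∃ y : X.X₁.obj V, (X.f.app V).hom y = x := by
  have h := (app_shortExact hX V).exact
  rw [ShortComplex.ab_exact_iff] at h
  exact h x hx

end PresheafExact

variable [HasPullbacks C] {U : C} {ι : Type u} (Y : ι → Over U)

/-- the Čech complex functor is exact on abelian presheaves. -/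
lemma cx_shortExact (X : ShortComplex (Cᵒᵖ ⥤ AddCommGrpCat.{u})) (hX : X.ShortExact) :
    (X.map (CechEdge.cxFunctor Y)).ShortExact := by
  have h : SectionwiseExact Y
      (X.map ((Functor.whiskeringLeft _ _ AddCommGrpCat.{u}).obj (Over.forget U).op)) :=
    { inj := fun n i x hx => app_injective hX _ x hx
      ex := fun n i x hx => app_exact hX _ x hx
      surj := fun n i z => app_surjective hX _ z }
  exact cechSC_shortExact h

/-- Čech cohomology with respect to `Y` as a δ-functor on abelian presheaves. -/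
def cechDelta : DFun.{u} (Cᵒᵖ ⥤ AddCommGrpCat.{u}) where
  obj P n := CohCx.cechH P Y n
  map φ n := CechEdge.cechHMap Y φ n
  δ X hX n := ((cx_shortExact Y X hX).δ n (n + 1) rfl).hom
  map_id P n x := by
    change (HomologicalComplex.homologyMap ((CechEdge.cxFunctor Y).map (𝟙 P)) n).hom x = x
    rw [CategoryTheory.Functor.map_id, HomologicalComplex.homologyMap_id]
    rfl
  δ_nat {X X'} φ hX hX' n x := by
    have h := HomologicalComplex.HomologySequence.δ_naturality
      ((CechEdge.cxFunctor Y).mapShortComplex.map φ) (cx_shortExact Y X hX)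
      (cx_shortExact Y X' hX') n (n + 1) rfl
    exact (ConcreteCategory.congr_hom h x).symm
  δ_map X hX n x := ConcreteCategory.congr_hom ((cx_shortExact Y X hX).comp_δ n (n + 1) rfl) x
  exact₃ X hX n y hy := by
    have h := (cx_shortExact Y X hX).homology_exact₃ n (n + 1) rfl
    rw [ShortComplex.ab_exact_iff] at h
    exact h y hy
  exact₁ X hX n y hy := by
    have h := (cx_shortExact Y X hX).homology_exact₁ n (n + 1) rfl
    rw [ShortComplex.ab_exact_iff] at h
    exact h y hy

lemma cechDelta_effaceable : Effaceable (cechDelta Y) := by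
  intro I _ n x
  have := injective_over U I
  have hz : IsZero (CohCx.cechH I Y (n + 1)) := isZero_homology_of_injective Y _ n
  exact (AddCommGrpCat.subsingleton_of_isZero hz).elim x 0

variable (J : GrothendieckTopology C)

/-- `P ↦ H^n(U, P^#)` as a δ-functor on abelian presheaves. -/
def shDelta (U : C) : DFun.{u} (Cᵒᵖ ⥤ AddCommGrpCat.{u}) :=
  ofExt (presheafToSheaf J AddCommGrpCat.{u}) (CohCx.freeSheaf J U)

variable {J}

lemma HUmap_apply {F G : Sheaf J AddCommGrpCat.{u}} (ψ : F ⟶ G) (n : ℕ) (V : C)
    (x : CohSite.HU F n V) :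
    CechEdge.HUmap ψ n V x = x.comp (Abelian.Ext.mk₀ ψ) (add_zero n) := rfl

variable {Y}
variable {e : ∀ (P : Cᵒᵖ ⥤ AddCommGrpCat.{u}) (p : ℕ),
  CohCx.cechH P Y p →+ CohSite.HU (CechEdge.shf J P) p U}

lemma isHom_of_isEdge (he : CechEdge.IsEdge J Y e) : IsHom (cechDelta Y) (shDelta J U) e where
  natural {P Q} φ n x := he.natural P Q φ n x
  delta X hX n x := he.delta X hX (cx_shortExact Y X hX) n x

lemma isEdge_of_isHom (hY : Sieve.ofArrows (fun i => (Y i).left) (fun i => (Y i).hom) ∈ J U)
    (h0 : ∀ (P : Cᵒᵖ ⥤ AddCommGrpCat.{u}) (s : P.obj (op U)),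
      e P 0 (CechEdge.toCech Y P s) =
        CechEdge.sectH0 J U (CechEdge.shf J P) (((toSheafify J P).app (op U)).hom s))
    (he : IsHom (cechDelta Y) (shDelta J U) e) : CechEdge.IsEdge J Y e where
  cover := hY
  zero := h0
  natural P Q φ n x := he.natural φ n x
  delta X hX hC n x := he.delta X hX n x

end Groth.Agent.Lib.Helper13.CechDelta
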