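import Mathlib
import Groth.Agent.Lib.Helper13.CBCNat
import Groth.Agent.Lib.Helper13.CBCFin
import Groth.Agent.Lib.Helper13.CBCFlat
import Groth.Agent.Lib.Helper13.CBCQis
import Groth.Agent.Lib.Helper7.LerayNatSch
import Groth.Agent.Lib.Helper7.CechCard
import Groth.Agent.S0002
import Groth.Agent.S2373

/-!
# Cohomology and base change: the bridge `H^p(X, f^*(M~) ⊗ F) ≅ H_{-p}(Q ⊗_A M)`, natural in `M`,
for a complex `Q` of finite free `A`-modules (EGA III 6.10.5 / 7.7.x, Mumford §5)
-/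

set_option autoImplicit false
universe u
open CategoryTheory CategoryTheory.Limits AlgebraicGeometry TopologicalSpace Opposite TensorProduct
  MonoidalCategory
open Scheme.Modules

namespace Groth.Agent.Lib.Helper13.CBCMain

open Groth.Agent.Lib.Helper13.CBCSec Groth.Agent.Lib.Helper13.CBCCechMap
  Groth.Agent.Lib.Helper13.CechBasic Groth.Agent.Lib.Helper13.CBCCech
  Groth.Agent.Lib.Helper13.CBCHom Groth.Agent.Lib.Helper13.CBCExt
  Groth.Agent.Lib.Helper13.CBCNat Groth.Agent.Lib.Helper13.CBCFin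
  Groth.Agent.Lib.Helper13.CBCFlat Groth.Agent.Lib.Helper13.CBCQis

variable (A : Type u) [CommRing A]

lemma isZero_of_fg {H : ModuleCat.{u} A} (h : IsZero ((fg A).obj H)) : IsZero H := by
  haveI : Subsingleton H := AddCommGrpCat.subsingleton_of_isZero h
  exact ModuleCat.isZero_of_subsingleton H

variable {X : Scheme.{u}} [X.Over (Spec (CommRingCat.of A))]
  (F : X.Modules) {ι : Type u} (U : ι → X.Opens) [Finite ι]
  [F.IsQuasicoherent] (hU : ∀ (n : ℕ) (i : Fin (n + 1) → ι), IsAffineOpen (∏ᶜ (U ∘ i)))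

include hU in
lemma flat_PP_X (hfl : FlatMod.IsFlatOver (sm A X) F) (i : ℤ) :
    Module.Flat A ((PP A F U).X i) := by
  by_cases h : ∃ n : ℕ, eNeg.f n = i
  · obtain ⟨n, hn⟩ := h
    haveI := flat_CC_X A F U hfl hU n
    exact Module.Flat.of_linearEquiv ((CC A F U).extendXIso eNeg hn).toLinearEquiv
  · have hz : IsZero ((PP A F U).X i) :=
      (CC A F U).isZero_extend_X eNeg i (fun n hn => h ⟨n, hn⟩)
    haveI : Subsingleton ((PP A F U).X i) := ModuleCat.subsingleton_of_isZero hz
    haveI := Module.Free.of_subsingleton A ((PP A F U).X i)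
    infer_instance

include hU in
lemma isZero_TFun_PP_of_card_le (M : ModuleCat.{u} A) (p : ℕ) (hp : Nat.card ι ≤ p) :
    IsZero ((CohIII.TFun (PP A F U) (-(p : ℤ))).obj M) := by
  have h1 : IsZero ((cx U (TM A F M).presheaf).homology p) :=
    Groth.Agent.Lib.Helper7.CechCard.isZero_cechH_of_card_le U _ p hp
  have h2 : IsZero ((CohIII.tensorObj (CC A F U) M).homology p) :=
    isZero_of_fg A (h1.of_iso (HIso A F U hU M p))
  exact h2.of_iso (extIso A F U M p)

lemma isZero_TFun_PP_of_pos (M : ModuleCat.{u} A) (j : ℤ) (hj : 0 < j) :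
    IsZero ((CohIII.TFun (PP A F U) j).obj M) :=
  isZero_homology_of_not_mem eNeg (tensorRight M) (CC A F U) j (fun n hn => by
    rw [eNeg_f] at hn
    omega)

include hU in
lemma isZero_TFun_PP_of_lt (M : ModuleCat.{u} A) (j : ℤ) (hj : j < -(Nat.card ι : ℤ)) :
    IsZero ((CohIII.TFun (PP A F U) j).obj M) := by
  obtain ⟨p, rfl⟩ : ∃ p : ℕ, j = -(p : ℤ) := ⟨(-j).toNat, by omega⟩
  exact isZero_TFun_PP_of_card_le A F U hU M p (by omega)

lemma isZero_homology_PP_of_pos (j : ℤ) (hj : 0 < j) : IsZero ((PP A F U).homology j) := by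
  apply ShortComplex.isZero_homology_of_isZero_X₂
  exact (CC A F U).isZero_extend_X eNeg j (fun n hn => by
    rw [eNeg_f] at hn
    omega)

lemma isZero_homology_PP_of_card_le (p : ℕ) (hp : Nat.card ι ≤ p) :
    IsZero ((PP A F U).homology (-(p : ℤ))) := by
  have h1 : IsZero ((cx U F.presheaf).homology p) :=
    Groth.Agent.Lib.Helper7.CechCard.isZero_cechH_of_card_le U _ p hp
  have h2 : IsZero ((CC A F U).homology p) := isZero_of_fg A (h1.of_iso (HF A F U p))
  exact h2.of_iso ((CC A F U).extendHomologyIso eNeg (j := p) (j' := -(p : ℤ)) rfl)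

lemma isZero_homology_PP_of_lt (j : ℤ) (hj : j < -(Nat.card ι : ℤ)) :
    IsZero ((PP A F U).homology j) := by
  obtain ⟨p, rfl⟩ : ∃ p : ℕ, j = -(p : ℤ) := ⟨(-j).toNat, by omega⟩
  exact isZero_homology_PP_of_card_le A F U p (by omega)

section Fin

variable [IsNoetherianRing A] [IsProper (sm A X)] (hF : Coh.IsCoh F) (p : ℕ)
  (e : ∀ M : X.Modules, Coh.IsQCoh M → (↑(CohB1.cechH U M p) ≃+ Coh.HH X M p))
  (he : ∀ (M M' : X.Modules) (hM : Coh.IsQCoh M) (hM' : Coh.IsQCoh M')
    (ψ : Coh.toAb M ⟶ Coh.toAb M') (y : ↑(CohB1.cechH U M p)),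
    e M' hM' ((HomologicalComplex.homologyMap ((cechComplexFunctor U).map ψ.hom) p).hom y) =
      Sheaf.H.map ψ p (e M hM y))

include he hF in
lemma finite_homology_CC : Module.Finite A ((CC A F U).homology p) := by
  haveI := Groth.Agent.S0002.result A X F hF p
  have hqc : Coh.IsQCoh F := hF.1
  let L : ↥((CC A F U).homology p) ≃+ Coh.HH X F p :=
    (HF A F U p).addCommGroupIsoToAddEquiv.trans (e F hqc)
  have hL : ∀ (a : A) (y : ↥((CC A F U).homology p)), L (a • y) = a • L y := by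
    intro a y
    have h1 := ConcreteCategory.congr_hom (HF_smul A F U a p) y
    have h2 := he F F hqc hqc (Coh.smulAb F (Coh.toGlobal (sm A X) a)) ((HF A F U p).hom.hom y)
    exact (congrArg (e F hqc) h1).trans h2
  let Ll : Coh.HH X F p ≃ₗ[A] ↥((CC A F U).homology p) :=
    { L.symm with
      map_smul' := fun a x => by
        apply L.injective
        show L (L.symm (a • x)) = L (a • L.symm x)
        rw [hL, L.apply_symm_apply, L.apply_symm_apply] }
  exact Module.Finite.equiv Ll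

end Fin

/-- **Cohomology and base change, the bridge.**  For `X` proper over a Noetherian ring `A` and `F`
coherent and flat over `A` there is a chain complex `Q` of finite free `A`-modules, bounded below,
with `H^p(X, f^*(M~) ⊗ F) ≅ H_{-p}(Q ⊗_A M)` naturally in the `A`-module `M`. -/
theorem bridge (A : Type u) [CommRing A] [IsNoetherianRing A] (X : Scheme.{u})
    [X.Over (Spec (CommRingCat.of A))] [IsProper (X ↘ Spec (CommRingCat.of A))]
    (F : X.Modules) (hF : Coh.IsCoh F)
    (hfl : FlatMod.IsFlatOver (X ↘ Spec (CommRingCat.of A)) F) :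
    ∃ (Q : ChainComplex (ModuleCat.{u} A) ℤ),
      (∀ i, Module.Finite A (Q.X i) ∧ Module.Free A (Q.X i)) ∧
      (∃ d : ℤ, ∀ i < d, IsZero (Q.X i)) ∧
      (∀ j : ℤ, 0 < j → ∀ M, IsZero ((CohIII.TFun Q j).obj M)) ∧
      ∀ p : ℕ, Nonempty (CohIII.tensorAFunctor A F ⋙ CohIII.HAb X p ≅
        CohIII.TFun Q (-(p : ℤ)) ⋙ forget₂ (ModuleCat.{u} A) AddCommGrpCat.{u}) := by
  haveI : F.IsQuasicoherent := hF.1
  haveI : X.IsSeparated := (HasAffineProperty.iff_of_isAffine (P := @IsSeparated)).mp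
    (inferInstance : IsSeparated (sm A X))
  haveI : CompactSpace X := QuasiCompact.compactSpace_of_compactSpace (sm A X)
  obtain ⟨ι, hfin, U, hUaff, -, hcov⟩ :=
    Groth.Agent.Lib.Helper3.QCSec.exists_finite_affine_cover (⊤ : X.Opens) isCompact_univ
  have hcov' : ⨆ i, U i = ⊤ := top_le_iff.mp hcov
  have hU1 : ∀ s : Finset ι, s.Nonempty → IsAffineOpen (⨅ i ∈ s, U i) := fun s hs => by
    simpa using IsAffineOpen.biInf (s : Set ι) s.finite_toSet hs (fun i _ => hUaff i)
  have hU2 : ∀ (n : ℕ) (i : Fin (n + 1) → ι), IsAffineOpen (∏ᶜ (U ∘ i)) := by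
    intro n i
    rw [CechTop.prod_eq_iInf]
    exact IsAffineOpen.iInf (fun k => hUaff (i k))
  have hPflat := fun i => flat_PP_X A F U hU2 hfl i
  have hcech := fun p => Groth.Agent.Lib.Helper7.LerayNat.cech_nat X U hcov' hU1 p
  have hPfin : ∀ i, Module.Finite A ((PP A F U).homology i) := by
    intro i
    by_cases h : ∃ n : ℕ, eNeg.f n = i
    · obtain ⟨n, rfl⟩ := h
      obtain ⟨e, he⟩ := hcech n
      haveI := finite_homology_CC A F U hF n e he
      exact Module.Finite.equiv
        ((CC A F U).extendHomologyIso eNeg (j := n) (j' := eNeg.f n) rfl).symm.toLinearEquiv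
    · have hz : IsZero ((PP A F U).homology i) := by
        apply ShortComplex.isZero_homology_of_isZero_X₂
        exact (CC A F U).isZero_extend_X eNeg i (fun n hn => h ⟨n, hn⟩)
      haveI := ModuleCat.subsingleton_of_isZero hz
      infer_instance
  obtain ⟨Q, u, hQ, hQd, hqi⟩ := Groth.Agent.S2373.result (PP A F U) hPfin
    (-(Nat.card ι : ℤ)) (isZero_homology_PP_of_lt A F U)
  have hQflat : ∀ i, Module.Flat A (Q.X i) := fun i => by
    haveI := (hQ i).2
    infer_instance
  have hPd : ∀ j < -(Nat.card ι : ℤ), ∀ M, IsZero ((CohIII.TFun (PP A F U) j).obj M) :=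
    fun j hj M => isZero_TFun_PP_of_lt A F U hU2 M j hj
  have hQd' : ∀ j < -(Nat.card ι : ℤ), ∀ M, IsZero ((CohIII.TFun Q j).obj M) := by
    intro j hj M
    apply ShortComplex.isZero_homology_of_isZero_X₂
    exact (tensorRight M).map_isZero (hQd j hj)
  refine ⟨Q, hQ, ⟨_, hQd⟩, ?_, ?_⟩
  · intro j hj M
    exact (isZero_TFun_PP_of_pos A F U M j hj).of_iso
      ((TIso (PP A F U) Q u hPflat hQflat _ hPd hQd' j).app M)
  · intro p
    obtain ⟨e, he⟩ := hcech p
    exact ⟨(bridgeP A F U hU2 p e he).symm ≪≫ Functor.isoWhiskerRight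
      (TIso (PP A F U) Q u hPflat hQflat _ hPd hQd' (-(p : ℤ))).symm (fg A)⟩

end Groth.Agent.Lib.Helper13.CBCMain
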