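import Mathlib
import Groth.Agent.Lib.Helper13.CBCModPow

/-!
# Surjectivity on cohomology transported along isomorphisms
-/

set_option autoImplicit false
universe u
open CategoryTheory CategoryTheory.Limits AlgebraicGeometry TopologicalSpace Opposite

namespace Groth.Agent.Lib.Helper13.CBCModPow

variable {X : Scheme.{u}}

/-- the map on `H^n` induced by a morphism of modules. -/
noncomputable def Hm {M N : X.Modules} (f : M ⟶ N) (n : ℕ) : Coh.HH X M n →+ Coh.HH X N n :=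
  Sheaf.H.map ((SheafOfModules.toSheaf _).map f) n

lemma Hm_comp {M N P : X.Modules} (f : M ⟶ N) (g : N ⟶ P) (n : ℕ) (x : Coh.HH X M n) :
    Hm g n (Hm f n x) = Hm (f ≫ g) n x :=
  Formal.HHmap_comp f g n x

lemma Hm_id (M : X.Modules) (n : ℕ) (x : Coh.HH X M n) : Hm (𝟙 M) n x = x := by
  have h : (SheafOfModules.toSheaf _).map (𝟙 M) = 𝟙 ((SheafOfModules.toSheaf _).obj M) :=
    (SheafOfModules.toSheaf _).map_id M
  show Sheaf.H.map ((SheafOfModules.toSheaf _).map (𝟙 M)) n x = x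
  rw [h, Sheaf.H.map_id_apply]

lemma bijective_Hm_of_iso {M N : X.Modules} (e : M ≅ N) (n : ℕ) :
    Function.Bijective (Hm e.hom n) := by
  rw [Function.bijective_iff_has_inverse]
  refine ⟨Hm e.inv n, fun x => ?_, fun x => ?_⟩
  · rw [Hm_comp, e.hom_inv_id, Hm_id]
  · rw [Hm_comp, e.inv_hom_id, Hm_id]

lemma surjective_Hm_of_comm {M N P R : X.Modules} (π : M ⟶ N) (χ : N ≅ P) (ψ1 : M ≅ R)
    (g : R ⟶ P) (hcomm : π ≫ χ.hom = ψ1.hom ≫ g) (n : ℕ)
    (hg : Function.Surjective (Hm g n)) : Function.Surjective (Hm π n) := by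
  intro y
  obtain ⟨z, hz⟩ := hg (Hm χ.hom n y)
  obtain ⟨x, rfl⟩ := (bijective_Hm_of_iso ψ1 n).2 z
  refine ⟨x, (bijective_Hm_of_iso χ n).1 ?_⟩
  rw [Hm_comp, hcomm, ← hz, Hm_comp]

end Groth.Agent.Lib.Helper13.CBCModPow
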