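import Mathlib

/-!
# Transfer of exactness properties along `G ≅ T ⋙ forget₂ (ModuleCat A) Ab`
-/

set_option autoImplicit false
universe u
open CategoryTheory CategoryTheory.Limits

namespace Groth.Agent.Lib.Helper13.CBCTransfer

variable {A : Type u} [CommRing A] {G : ModuleCat.{u} A ⥤ AddCommGrpCat.{u}}
  {T : ModuleCat.{u} A ⥤ ModuleCat.{u} A}

lemma preservesEpi_comp_forget_iff :
    (T ⋙ forget₂ (ModuleCat.{u} A) AddCommGrpCat.{u}).PreservesEpimorphisms ↔
      T.PreservesEpimorphisms := by
  constructor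
  · intro h
    refine ⟨fun {M N} f hf => ?_⟩
    have h1 : Epi ((T ⋙ forget₂ (ModuleCat.{u} A) AddCommGrpCat.{u}).map f) := inferInstance
    have h2 := (AddCommGrpCat.epi_iff_surjective _).1 h1
    exact (ModuleCat.epi_iff_surjective _).2 h2
  · intro h
    refine ⟨fun {M N} f hf => ?_⟩
    have h1 : Epi (T.map f) := inferInstance
    have h2 := (ModuleCat.epi_iff_surjective _).1 h1
    exact (AddCommGrpCat.epi_iff_surjective
      ((T ⋙ forget₂ (ModuleCat.{u} A) AddCommGrpCat.{u}).map f)).2 h2

lemma preservesMono_comp_forget_iff :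
    (T ⋙ forget₂ (ModuleCat.{u} A) AddCommGrpCat.{u}).PreservesMonomorphisms ↔
      T.PreservesMonomorphisms := by
  constructor
  · intro h
    refine ⟨fun {M N} f hf => ?_⟩
    have h1 : Mono ((T ⋙ forget₂ (ModuleCat.{u} A) AddCommGrpCat.{u}).map f) := inferInstance
    have h2 := (AddCommGrpCat.mono_iff_injective _).1 h1
    exact (ModuleCat.mono_iff_injective _).2 h2
  · intro h
    refine ⟨fun {M N} f hf => ?_⟩
    have h1 : Mono (T.map f) := inferInstance
    have h2 := (ModuleCat.mono_iff_injective _).1 h1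
    exact (AddCommGrpCat.mono_iff_injective
      ((T ⋙ forget₂ (ModuleCat.{u} A) AddCommGrpCat.{u}).map f)).2 h2

variable (ν : G ≅ T ⋙ forget₂ (ModuleCat.{u} A) AddCommGrpCat.{u})

include ν in
lemma preservesEpi_iff : G.PreservesEpimorphisms ↔ T.PreservesEpimorphisms :=
  (Functor.PreservesEpimorphisms.iso_iff ν).trans preservesEpi_comp_forget_iff

include ν in
lemma preservesMono_iff : G.PreservesMonomorphisms ↔ T.PreservesMonomorphisms :=
  (Functor.PreservesMonomorphisms.iso_iff ν).trans preservesMono_comp_forget_iff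

include ν in
lemma surjective_map_iff {M N : ModuleCat.{u} A} (g : M ⟶ N) :
    Function.Surjective (G.map g).hom ↔ Function.Surjective (T.map g).hom := by
  have hnat : ∀ x, (ν.hom.app N).hom ((G.map g).hom x) = (T.map g).hom ((ν.hom.app M).hom x) :=
    fun x => ConcreteCategory.congr_hom (ν.hom.naturality g) x
  have hinv : ∀ y, (ν.hom.app N).hom ((ν.inv.app N).hom y) = y := fun y =>
    ConcreteCategory.congr_hom (ν.inv_hom_id_app N) y
  have hinv' : ∀ y, (ν.hom.app M).hom ((ν.inv.app M).hom y) = y := fun y =>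
    ConcreteCategory.congr_hom (ν.inv_hom_id_app M) y
  have hinv'' : ∀ x, (ν.inv.app N).hom ((ν.hom.app N).hom x) = x := fun x =>
    ConcreteCategory.congr_hom (ν.hom_inv_id_app N) x
  constructor
  · intro h y
    obtain ⟨x, hx⟩ := h ((ν.inv.app N).hom y)
    refine ⟨(ν.hom.app M).hom x, ?_⟩
    rw [← hnat, hx, hinv]
  · intro h x'
    obtain ⟨y, hy⟩ := h ((ν.hom.app N).hom x')
    refine ⟨(ν.inv.app M).hom y, ?_⟩
    have := hnat ((ν.inv.app M).hom y)
    rw [hinv', hy] at this
    have h2 := congrArg (ν.inv.app N).hom this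
    rw [hinv'', hinv''] at h2
    exact h2

include ν in
lemma isZero_obj_iff (M : ModuleCat.{u} A) : IsZero (G.obj M) ↔ IsZero (T.obj M) := by
  constructor
  · intro h
    have h1 : IsZero ((forget₂ (ModuleCat.{u} A) AddCommGrpCat.{u}).obj (T.obj M)) :=
      h.of_iso (ν.app M).symm
    haveI : Subsingleton (T.obj M) := AddCommGrpCat.subsingleton_of_isZero h1
    exact ModuleCat.isZero_of_subsingleton _
  · intro h
    exact (Functor.map_isZero (forget₂ (ModuleCat.{u} A) AddCommGrpCat.{u}) h).of_iso (ν.app M)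

end Groth.Agent.Lib.Helper13.CBCTransfer
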