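import Mathlib
import Groth.Agent.Lib.Helper13.CBCEtCore2
import Groth.Agent.Lib.Helper13.CBCModPow2
import Groth.Agent.Lib.Helper13.CBCTransfer
import Groth.Agent.Lib.Helper13.CBCMain
import Groth.Agent.Lib.Helper7.TFunExact2
import Groth.Agent.Lib.Helper7.TFunLib
import Groth.Agent.S4490

/-!
# Cohomological flatness in degree `0` of the structure sheaf when the functions of the closed
fibre are roots of separable polynomials
-/

set_option autoImplicit false
universe u
open CategoryTheory CategoryTheory.Limits AlgebraicGeometry TopologicalSpace Opposite TensorProduct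
open Scheme.Modules Polynomial

namespace Groth.Agent.Lib.Helper13.CBCEtExact

open Groth.Agent.Lib.Helper13.CBCSec Groth.Agent.Lib.Helper13.CBCBase
  Groth.Agent.Lib.Helper13.CBCModPow Groth.Agent.Lib.Helper13.CBCEtCore

section General

variable {X : Scheme.{u}}

lemma surjective_Hm_of_app_top {M N : X.Modules} (π : M ⟶ N)
    (h : Function.Surjective (π.app ⊤)) : Function.Surjective (Hm π 0) := by
  intro y
  have hT := Limits.isTerminalTop (α := X.Opens)
  obtain ⟨s, hs⟩ := h (Sheaf.H.equiv₀ ((SheafOfModules.toSheaf X.ringCatSheaf).obj N) hT y)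
  refine ⟨(Sheaf.H.equiv₀ ((SheafOfModules.toSheaf X.ringCatSheaf).obj M) hT).symm s, ?_⟩
  apply (Sheaf.H.equiv₀ ((SheafOfModules.toSheaf X.ringCatSheaf).obj N) hT).injective
  have h1 := Sheaf.H.equiv₀_naturality hT ((SheafOfModules.toSheaf X.ringCatSheaf).map π)
    ((Sheaf.H.equiv₀ ((SheafOfModules.toSheaf X.ringCatSheaf).obj M) hT).symm s)
  rw [AddEquiv.apply_symm_apply] at h1
  refine Eq.trans ?_ hs
  exact h1.symm

end General

section Transfer

variable (A : Type u) [CommRing A] {X : Scheme.{u}} [X.Over (Spec (CommRingCat.of A))]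
  (F : X.Modules)

lemma φ'_map {J J' : Ideal A}
    (h : ModuleCat.of A (A ⧸ J) ⟶ ModuleCat.of A (A ⧸ J')) (h1 : h.hom (1 : A ⧸ J) = 1) :
    φ' A F J ≫ (CohIII.tensorAFunctor A F).map h = φ' A F J' := by
  unfold φ'
  rw [ψ_map]
  congr 1

/-- transfer of the surjectivity of `Γ(F/I^(n+1)F) → Γ(F/IF)` to the functor `T^0`. -/
theorem surjective_map_factor (hF : Coh.IsCoh F) (I : Ideal A) (n : ℕ)
    (h : Function.Surjective
      ((Formal2.modPowLE I (Nat.succ_le_succ (Nat.zero_le n)) F).app ⊤)) :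
    Function.Surjective ((CohIII.tensorAFunctor A F ⋙ CohIII.HAb X 0).map
      (ModuleCat.ofHom (Ideal.Quotient.factorₐ A (Ideal.pow_le_self (I := I)
          (Nat.succ_ne_zero n))).toLinearMap :
        ModuleCat.of A (A ⧸ I ^ (n + 1)) ⟶ ModuleCat.of A (A ⧸ I))).hom := by
  -- the two factors
  let fac' : ModuleCat.of A (A ⧸ I ^ (n + 1)) ⟶ ModuleCat.of A (A ⧸ I ^ 1) :=
    ModuleCat.ofHom (Ideal.Quotient.factorₐ A
      (Ideal.pow_le_pow_right (Nat.succ_le_succ (Nat.zero_le n)))).toLinearMap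
  let e1 : ModuleCat.of A (A ⧸ I ^ 1) ≅ ModuleCat.of A (A ⧸ I) :=
    (Submodule.quotEquivOfEq (I ^ 1) I (pow_one I)).toModuleIso
  have hfac : (ModuleCat.ofHom (Ideal.Quotient.factorₐ A (Ideal.pow_le_self (I := I)
      (Nat.succ_ne_zero n))).toLinearMap :
      ModuleCat.of A (A ⧸ I ^ (n + 1)) ⟶ ModuleCat.of A (A ⧸ I)) = fac' ≫ e1.hom := by
    apply ModuleCat.hom_ext
    apply LinearMap.ext
    intro x
    obtain ⟨a, rfl⟩ := Ideal.Quotient.mk_surjective x
    rfl
  rw [hfac, Functor.map_comp]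
  haveI hχ1 := isIso_χ A F I 1 hF
  haveI hχn := isIso_χ A F I (n + 1) hF
  -- the square
  have hsq : χ A F I (n + 1) ≫ (CohIII.tensorAFunctor A F).map fac' =
      Formal2.modPowLE I (Nat.succ_le_succ (Nat.zero_le n)) F ≫ χ A F I 1 := by
    rw [← cancel_epi (Formal.modPowπ I (n + 1) F)]
    have a1 : Formal.modPowπ I (n + 1) F ≫
        (χ A F I (n + 1) ≫ (CohIII.tensorAFunctor A F).map fac') = φ' A F (I ^ 1) := by
      rw [← Category.assoc, π_χ]
      exact φ'_map A F fac' rfl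
    have a2 : Formal.modPowπ I (n + 1) F ≫
        (Formal2.modPowLE I (Nat.succ_le_succ (Nat.zero_le n)) F ≫ χ A F I 1) =
        φ' A F (I ^ 1) := by
      rw [← Category.assoc, Formal2.modPowπ_modPowLE, π_χ]
    exact a1.trans a2.symm
  have hs1 : Function.Surjective (Hm ((CohIII.tensorAFunctor A F).map fac') 0) := by
    intro y
    obtain ⟨y', rfl⟩ := (bijective_Hm_of_iso (asIso (χ A F I 1)) 0).2 y
    obtain ⟨z, rfl⟩ := surjective_Hm_of_app_top _ h y'
    refine ⟨Hm (χ A F I (n + 1)) 0 z, ?_⟩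
    exact (Hm_comp _ _ 0 z).trans ((congrArg (fun f => Hm f 0 z) hsq).trans
      (Hm_comp _ _ 0 z).symm)
  have hs2 : Function.Surjective (Hm ((CohIII.tensorAFunctor A F).map e1.hom) 0) :=
    (bijective_Hm_of_iso ((CohIII.tensorAFunctor A F).mapIso e1) 0).2
  exact hs2.comp hs1

end Transfer

section Main

variable (A : Type u) [CommRing A] [IsNoetherianRing A] [IsLocalRing A] (X : Scheme.{u})
  [X.Over (Spec (CommRingCat.of A))] [IsProper (X ↘ Spec (CommRingCat.of A))]
  (B : Type u) [CommRing B] {X' : Scheme.{u}} [X'.Over (Spec (CommRingCat.of B))]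
  (g : Spec (CommRingCat.of B) ⟶ Spec (CommRingCat.of A)) (g' : X' ⟶ X)

/-- **Cohomological flatness in degree 0.** -/
theorem preserves_of_sep (hcoh : Coh.IsCoh (Coh.structureModule X))
    (hfl : FlatMod.IsFlatOver (X ↘ Spec (CommRingCat.of A)) (Coh.structureModule X))
    (hc : IsPullback g' (sm B X') (sm A X) g)
    (hsurj : Function.Surjective (φg A B g))
    (hker : RingHom.ker (φg A B g) = IsLocalRing.maximalIdeal A)
    (hsep : ∀ α : Γ(X', ⊤), ∃ P : A[X],
      P.eval₂ ((φ B (⊤ : X'.Opens)).comp (φg A B g)) α = 0 ∧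
      IsUnit ((derivative P).eval₂ ((φ B (⊤ : X'.Opens)).comp (φg A B g)) α)) :
    (CohIII.tensorAFunctor A (Coh.structureModule X) ⋙ CohIII.HAb X 0).PreservesMonomorphisms ∧
      (CohIII.tensorAFunctor A (Coh.structureModule X) ⋙
        CohIII.HAb X 0).PreservesEpimorphisms := by
  obtain ⟨Q, hQ, hb, hpos, hν⟩ := Groth.Agent.Lib.Helper13.CBCMain.bridge A X _ hcoh hfl
  obtain ⟨ν0⟩ := hν 0
  have hQ' : ∀ i, Module.Finite A (Q.X i) ∧ Module.Flat A (Q.X i) := fun i =>
    ⟨(hQ i).1, haveI := (hQ i).2; inferInstance⟩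
  have hQfl : ∀ i, Module.Flat A (Q.X i) := fun i => (hQ' i).2
  have hm0 : (CohIII.TFun Q (-((0 : ℕ) : ℤ))).PreservesMonomorphisms :=
    (Groth.Agent.Lib.Helper7.TFun_preservesMono_iff_preservesEpi Q hQfl 1 (-((0 : ℕ) : ℤ))
      (show (-((0 : ℕ) : ℤ)) + 1 = 1 by norm_num)).2
      (Groth.Agent.Lib.Helper7.preservesMonoEpi_of_isZero _ (fun M => hpos 1 one_pos M)).2
  have he0 : (CohIII.TFun Q (-((0 : ℕ) : ℤ))).PreservesEpimorphisms := by
    refine ((Groth.Agent.S4490.result Q hQ' (-((0 : ℕ) : ℤ))).2).2 ⟨0, fun n _ => ?_⟩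
    refine (Groth.Agent.Lib.Helper13.CBCTransfer.surjective_map_iff ν0 _).1 ?_
    apply surjective_map_factor A (Coh.structureModule X) hcoh (IsLocalRing.maximalIdeal A) n
    intro t
    exact exists_lift_modPow A B g g' hc hsurj (IsLocalRing.maximalIdeal A) hker hcoh hsep
      (n + 1) (Nat.succ_le_succ (Nat.zero_le n)) t
  exact ⟨(Groth.Agent.Lib.Helper13.CBCTransfer.preservesMono_iff ν0).2 hm0,
    (Groth.Agent.Lib.Helper13.CBCTransfer.preservesEpi_iff ν0).2 he0⟩

end Main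

end Groth.Agent.Lib.Helper13.CBCEtExact
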