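import Mathlib
import Groth.Agent.Lib.Helper13.CBCBase3
import Groth.Agent.Lib.Helper13.CBCNat

/-!
# Base change for `T^p(M) = H^p(X, f^*(M~) ⊗ F)`: `T'^p(M') ≅ T^p(M'_A)` naturally, and
`H^p(X', g'^* F) ≅ T^p(B_A)` compatibly with `B`
-/

set_option autoImplicit false
universe u
open CategoryTheory CategoryTheory.Limits AlgebraicGeometry TopologicalSpace Opposite TensorProduct
  MonoidalCategory
open Scheme.Modules

namespace Groth.Agent.Lib.Helper13.CBCBC

open Groth.Agent.Lib.Helper13.CBCSec Groth.Agent.Lib.Helper13.CBCCech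
  Groth.Agent.Lib.Helper13.CBCUp Groth.Agent.Lib.Helper13.CBCBase
  Groth.Agent.Lib.Helper13.CechBasic Groth.Agent.Lib.Helper13.CBCNat
open Groth.Agent.Lib.Helper17.TensorSec

variable (A B : Type u) [CommRing A] [CommRing B] {X X' : Scheme.{u}}
  [X.Over (Spec (CommRingCat.of A))] [X'.Over (Spec (CommRingCat.of B))]
  (g : Spec (CommRingCat.of B) ⟶ Spec (CommRingCat.of A)) (g' : X' ⟶ X)
  (hc : IsPullback g' (sm B X') (sm A X) g) (F : X.Modules) [F.IsQuasicoherent]
  {ι : Type u} [Finite ι] (U : ι → X.Opens)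
  (hU2 : ∀ (n : ℕ) (i : Fin (n + 1) → ι), IsAffineOpen (∏ᶜ (U ∘ i))) (p : ℕ)

/-- the map of presheaves `Γ(W, F) ⊗_A N₁ → Γ(W, F) ⊗_A N₂` induced by `N₁ ⟶ N₂`. -/
noncomputable abbrev pmtMap {N₁ N₂ : ModuleCat.{u} A} (k : N₁ ⟶ N₂) :
    PMt A F N₁ ⟶ PMt A F N₂ :=
  Functor.whiskerRight (Functor.whiskerLeft (PA A F) ((tensoringRight (ModuleCat.{u} A)).map k))
    (forget₂ (ModuleCat.{u} A) AddCommGrpCat.{u})

section X

variable (e : ∀ M : X.Modules, Coh.IsQCoh M → (↑(CohB1.cechH U M p) ≃+ Coh.HH X M p))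
  (he : ∀ (M M' : X.Modules) (hM : Coh.IsQCoh M) (hM' : Coh.IsQCoh M')
    (ψ : Coh.toAb M ⟶ Coh.toAb M') (y : ↑(CohB1.cechH U M p)),
    e M' hM' ((HomologicalComplex.homologyMap ((cechComplexFunctor U).map ψ.hom) p).hom y) =
      Sheaf.H.map ψ p (e M hM y))

/-- `Ȟ^p(U, Γ(-, F) ⊗_A N) ≃ H^p(X, f^*(N~) ⊗ F)`. -/
noncomputable def comp2 (N : ModuleCat.{u} A) :
    ↑((cx U (PMt A F N)).homology p) ≃+ Coh.HH X (TM A F N) p :=
  ((HomologicalComplex.homologyFunctor _ _ p).mapIso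
    (iso3 A F U hU2 N)).addCommGroupIsoToAddEquiv.trans (e (TM A F N) (qc_TM A F N))

include he in
lemma comp2_nat {N₁ N₂ : ModuleCat.{u} A} (k : N₁ ⟶ N₂) (y : ↑((cx U (PMt A F N₁)).homology p)) :
    comp2 A F U hU2 p e N₂
        ((HomologicalComplex.homologyMap ((cechComplexFunctor U).map (pmtMap A F k)) p).hom y) =
      Sheaf.H.map ((SheafOfModules.toSheaf X.ringCatSheaf).map
        ((CohIII.tensorAFunctor A F).map k)) p (comp2 A F U hU2 p e N₁ y) := by
  have h3 : HomologicalComplex.homologyMap ((cechComplexFunctor U).map (pmtMap A F k)) p ≫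
      HomologicalComplex.homologyMap (iso3 A F U hU2 N₂).hom p =
      HomologicalComplex.homologyMap (iso3 A F U hU2 N₁).hom p ≫
        HomologicalComplex.homologyMap ((cechComplexFunctor U).map
          ((SheafOfModules.toSheaf X.ringCatSheaf).map
            ((CohIII.tensorAFunctor A F).map k)).hom) p :=
    ((HomologicalComplex.homologyMap_comp _ _ p).symm.trans
      (congrArg (fun k => HomologicalComplex.homologyMap k p) (iso3_nat A F U hU2 k))).trans
      (HomologicalComplex.homologyMap_comp _ _ p)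
  have h4 := ConcreteCategory.congr_hom h3 y
  show e (TM A F N₂) (qc_TM A F N₂) ((HomologicalComplex.homologyMap (iso3 A F U hU2 N₂).hom p).hom
    ((HomologicalComplex.homologyMap ((cechComplexFunctor U).map (pmtMap A F k)) p).hom y)) = _
  refine (congrArg (e (TM A F N₂) (qc_TM A F N₂)) h4).trans ?_
  exact he (TM A F N₁) (TM A F N₂) (qc_TM A F N₁) (qc_TM A F N₂) _ _

end X

omit [Finite ι] in
lemma affine_prod_of_finset (hU : ∀ s : Finset ι, s.Nonempty → IsAffineOpen (⨅ i ∈ s, U i))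
    (n : ℕ) (i : Fin (n + 1) → ι) : IsAffineOpen (∏ᶜ (U ∘ i)) := by
  classical
  have hs : (Finset.univ.image i).Nonempty := Finset.image_nonempty.2 Finset.univ_nonempty
  have h1 := hU (Finset.univ.image i) hs
  have h2 : (⨅ j ∈ Finset.univ.image i, U j) = iInf fun k => U (i k) := by
    rw [Finset.iInf_finset_image]
    simp
  rw [h2, ← CechTop.prod_eq_iInf] at h1
  exact h1

include hc in
/-- **Base change for `T^p`**: `T'^p(M') ≅ T^p(M'_A)`, naturally in the `B`-module `M'`. -/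
theorem bc_natIso (hcov : ⨆ i, U i = ⊤)
    (hU : ∀ s : Finset ι, s.Nonempty → IsAffineOpen (⨅ i ∈ s, U i)) :
    Nonempty (CohIII.tensorAFunctor B (F' g' F) ⋙ CohIII.HAb X' p ≅
      ModuleCat.restrictScalars (φg A B g) ⋙ CohIII.tensorAFunctor A F ⋙ CohIII.HAb X p) := by
  have hU2 := affine_prod_of_finset U hU
  obtain ⟨e, he⟩ := Groth.Agent.Lib.Helper7.LerayNat.cech_nat X U hcov hU p
  obtain ⟨E', hE'⟩ := exists_HH_equiv U hc hcov hU p
  let c1 : ∀ M' : ModuleCat.{u} B, ↑((cx U (PMt A F (MA A B g M'))).homology p) ≃+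
      Coh.HH X' (TM B (F' g' F) M') p := fun M' =>
    E' _ _ (qc_TM B (F' g' F) M') (τBC A B g g' hc.w F M')
      (fun n i => τBC_bijective A B g g' F hc M' (hU2 n i))
  let bc : ∀ M' : ModuleCat.{u} B, Coh.HH X' (TM B (F' g' F) M') p ≃+
      Coh.HH X (TM A F (MA A B g M')) p := fun M' =>
    (c1 M').symm.trans (comp2 A F U hU2 p e (MA A B g M'))
  refine ⟨NatIso.ofComponents (fun M' => (bc M').toAddCommGrpIso) ?_⟩
  intro M' N' g₁
  ext x
  obtain ⟨y, rfl⟩ := (c1 M').surjective x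
  have h1 := hE' _ _ _ _ (qc_TM B (F' g' F) M') (qc_TM B (F' g' F) N')
    (τBC A B g g' hc.w F M') (τBC A B g g' hc.w F N')
    (fun n i => τBC_bijective A B g g' F hc M' (hU2 n i))
    (fun n i => τBC_bijective A B g g' F hc N' (hU2 n i))
    (pmtMap A F ((ModuleCat.restrictScalars (φg A B g)).map g₁))
    ((SheafOfModules.toSheaf X'.ringCatSheaf).map ((CohIII.tensorAFunctor B (F' g' F)).map g₁))
    (τBC_nat A B g g' hc.w F g₁) y
  have h2 := comp2_nat A F U hU2 p e he ((ModuleCat.restrictScalars (φg A B g)).map g₁) y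
  have h1' : Sheaf.H.map ((SheafOfModules.toSheaf X'.ringCatSheaf).map
      ((CohIII.tensorAFunctor B (F' g' F)).map g₁)) p (c1 M' y) =
      c1 N' ((HomologicalComplex.homologyMap ((cechComplexFunctor U).map
        (pmtMap A F ((ModuleCat.restrictScalars (φg A B g)).map g₁))) p).hom y) := h1.symm
  show comp2 A F U hU2 p e (MA A B g N') ((c1 N').symm (Sheaf.H.map
      ((SheafOfModules.toSheaf X'.ringCatSheaf).map
        ((CohIII.tensorAFunctor B (F' g' F)).map g₁)) p (c1 M' y))) =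
    Sheaf.H.map ((SheafOfModules.toSheaf X.ringCatSheaf).map ((CohIII.tensorAFunctor A F).map
      ((ModuleCat.restrictScalars (φg A B g)).map g₁))) p
      (comp2 A F U hU2 p e (MA A B g M') ((c1 M').symm (c1 M' y)))
  refine (congrArg (fun z => comp2 A F U hU2 p e (MA A B g N') ((c1 N').symm z)) h1').trans ?_
  show comp2 A F U hU2 p e (MA A B g N') ((c1 N').symm (c1 N' _)) = _
  rw [AddEquiv.symm_apply_apply, AddEquiv.symm_apply_apply]
  exact h2

end Groth.Agent.Lib.Helper13.CBCBC
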