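import Mathlib
import Groth.Agent.Lib.Helper13.CBCBC

/-!
# `H^p(X', g'^* F) ≅ T^p(B_A)` compatibly with `B`, for a cartesian square over `Spec B → Spec A`
-/

set_option autoImplicit false
universe u
open CategoryTheory CategoryTheory.Limits AlgebraicGeometry TopologicalSpace Opposite TensorProduct
  MonoidalCategory
open Scheme.Modules

namespace Groth.Agent.Lib.Helper13.CBCFib

open Groth.Agent.Lib.Helper13.CBCSec Groth.Agent.Lib.Helper13.CBCCech
  Groth.Agent.Lib.Helper13.CBCUp Groth.Agent.Lib.Helper13.CBCBase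
  Groth.Agent.Lib.Helper13.CechBasic Groth.Agent.Lib.Helper13.CBCNat
  Groth.Agent.Lib.Helper13.CBCBC
open Groth.Agent.Lib.Helper17.TensorSec

variable (A B : Type u) [CommRing A] [CommRing B] {X X' : Scheme.{u}}
  [X.Over (Spec (CommRingCat.of A))] [X'.Over (Spec (CommRingCat.of B))]
  (g : Spec (CommRingCat.of B) ⟶ Spec (CommRingCat.of A)) (g' : X' ⟶ X)
  (hc : IsPullback g' (sm B X') (sm A X) g) (F : X.Modules) [F.IsQuasicoherent]
  {ι : Type u} [Finite ι] (U : ι → X.Opens) (p : ℕ)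

include hc in
/-- `H^p(X', g'^* F) ≃ H^p(X, f^*(B~) ⊗ F)`, compatibly with the action of `B`. -/
theorem exists_fibre_equiv (hcov : ⨆ i, U i = ⊤)
    (hU : ∀ s : Finset ι, s.Nonempty → IsAffineOpen (⨅ i ∈ s, U i)) :
    ∃ fb : Coh.HH X' (F' g' F) p ≃+ Coh.HH X (TM A F (MA A B g (ModuleCat.of B B))) p,
      ∀ (b : B) (x : Coh.HH X' (F' g' F) p),
        fb (b • x) = Sheaf.H.map ((SheafOfModules.toSheaf X.ringCatSheaf).map
          ((CohIII.tensorAFunctor A F).map (μB A B g b))) p (fb x) := by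
  have hU2 := affine_prod_of_finset U hU
  obtain ⟨e, he⟩ := Groth.Agent.Lib.Helper7.LerayNat.cech_nat X U hcov hU p
  obtain ⟨E', hE'⟩ := exists_HH_equiv U hc hcov hU p
  have hqc : Coh.IsQCoh (F' g' F) := qc_F' g' F
  let c1 : ↑((cx U (PMt A F (MA A B g (ModuleCat.of B B)))).homology p) ≃+
      Coh.HH X' (F' g' F) p :=
    E' _ _ hqc (τBC0 A B g g' hc.w F) (fun n i => τBC0_bijective A B g g' F hc (hU2 n i))
  refine ⟨c1.symm.trans (comp2 A F U hU2 p e (MA A B g (ModuleCat.of B B))), ?_⟩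
  intro b x
  obtain ⟨y, rfl⟩ := c1.surjective x
  have h1 := hE' _ _ _ _ hqc hqc (τBC0 A B g g' hc.w F) (τBC0 A B g g' hc.w F)
    (fun n i => τBC0_bijective A B g g' F hc (hU2 n i))
    (fun n i => τBC0_bijective A B g g' F hc (hU2 n i))
    (pmtMap A F (μB A B g b)) (Coh.smulAb (F' g' F) (Coh.toGlobal (sm B X') b))
    (τBC0_smul A B g g' hc.w F b) y
  have h2 := comp2_nat A F U hU2 p e he (μB A B g b) y
  have h1' : b • c1 y = c1 ((HomologicalComplex.homologyMap ((cechComplexFunctor U).map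
      (pmtMap A F (μB A B g b))) p).hom y) := h1.symm
  show comp2 A F U hU2 p e (MA A B g (ModuleCat.of B B)) (c1.symm (b • c1 y)) =
    Sheaf.H.map _ p (comp2 A F U hU2 p e (MA A B g (ModuleCat.of B B)) (c1.symm (c1 y)))
  rw [h1', AddEquiv.symm_apply_apply, AddEquiv.symm_apply_apply]
  exact h2

end Groth.Agent.Lib.Helper13.CBCFib
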