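import Mathlib
import Groth.Agent.Lib.Helper13.CBCFib
import Groth.Agent.Lib.Helper13.CBCMain
import Groth.Agent.Lib.Helper13.CBCCover
import Groth.Agent.Lib.Helper7.BcLink
import Groth.Agent.Lib.Helper7.TorLin
import Groth.Agent.Lib.Helper7.DRankT

/-!
# The fibre rank `dim H^p(X_y, F_y)` equals the rank function `d_{-p}` of a bridging complex
-/

set_option autoImplicit false
universe u
open CategoryTheory CategoryTheory.Limits AlgebraicGeometry TopologicalSpace Opposite TensorProduct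
  MonoidalCategory
open Scheme.Modules

namespace Groth.Agent.Lib.Helper13.CBCRank

open Groth.Agent.Lib.Helper13.CBCSec Groth.Agent.Lib.Helper13.CBCCech
  Groth.Agent.Lib.Helper13.CBCUp Groth.Agent.Lib.Helper13.CBCBase
  Groth.Agent.Lib.Helper13.CBCBC Groth.Agent.Lib.Helper13.CBCFib
open Groth.Agent.Lib.Helper7

/-- semilinear version of `finrank_eq_of_addEquiv_of_frac` over two isomorphic fields. -/
theorem finrank_eq_of_addEquiv_of_frac2 {A : Type u} [CommRing A] {k κ : Type u} [Field k] [Field κ]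
    (φ : A →+* k) (ψ : A →+* κ) (i : k →+* κ) (hib : Function.Bijective i)
    (hi : ∀ a, i (φ a) = ψ a)
    (hfrac : ∀ c : κ, ∃ t a : A, ψ t ≠ 0 ∧ ψ t * c = ψ a)
    {V W : Type u} [AddCommGroup V] [Module k V] [AddCommGroup W] [Module κ W]
    (Ψ : V ≃+ W) (hΨ : ∀ (a : A) (v : V), Ψ (φ a • v) = ψ a • Ψ v) :
    Module.finrank k V = Module.finrank κ W := by
  have hlin : ∀ (c : k) (v : V), Ψ (c • v) = i c • Ψ v := by
    intro c v
    obtain ⟨t, a, ht, hta⟩ := hfrac (i c)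
    have hc : φ t * c = φ a := hib.1 (by rw [map_mul, hi, hi, hta])
    have h1 : ψ t • Ψ (c • v) = ψ a • Ψ v := by
      rw [← hΨ, smul_smul, hc, hΨ]
    have h2 : ψ t • (i c • Ψ v) = ψ a • Ψ v := by
      rw [smul_smul, hta]
    exact smul_right_injective W ht (h1.trans h2.symm)
  have h := rank_eq_of_equiv_equiv (i : k → κ) Ψ hib hlin
  unfold Module.finrank
  rw [h]

lemma φg_specMap (A B : Type u) [CommRing A] [CommRing B]
    (ψ : CommRingCat.of A ⟶ CommRingCat.of B) (a : A) :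
    φg A B (Spec.map ψ) a = ψ.hom a := by
  have h := Scheme.ΓSpecIso_naturality ψ
  have h2 := congrArg (fun k => k.hom ((Scheme.ΓSpecIso (CommRingCat.of A)).inv.hom a)) h
  refine h2.trans ?_
  show ψ.hom ((Scheme.ΓSpecIso (CommRingCat.of A)).hom.hom
    ((Scheme.ΓSpecIso (CommRingCat.of A)).inv.hom a)) = ψ.hom a
  congr 1
  exact congrArg (fun k => k.hom a) (Scheme.ΓSpecIso (CommRingCat.of A)).inv_hom_id

variable (A B : Type u) [CommRing A] [Field B] {X X' : Scheme.{u}}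
  [X.Over (Spec (CommRingCat.of A))] [X'.Over (Spec (CommRingCat.of B))]
  (g : Spec (CommRingCat.of B) ⟶ Spec (CommRingCat.of A)) (g' : X' ⟶ X)
  (hc : IsPullback g' (sm B X') (sm A X) g) (F : X.Modules) [F.IsQuasicoherent]
  {ι : Type u} [Finite ι] (U : ι → X.Opens) (p : ℕ)

include hc in
theorem finrank_fibre_eq (hcov : ⨆ i, U i = ⊤)
    (hU : ∀ s : Finset ι, s.Nonempty → IsAffineOpen (⨅ i ∈ s, U i))
    (Q : ChainComplex (ModuleCat.{u} A) ℤ)
    (ν : CohIII.tensorAFunctor A F ⋙ CohIII.HAb X p ≅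
      CohIII.TFun Q (-(p : ℤ)) ⋙ forget₂ (ModuleCat.{u} A) AddCommGrpCat.{u})
    {κ : Type u} [Field κ] (ψ : A →+* κ) (i : B →+* κ) (hib : Function.Bijective i)
    (hi : ∀ a, i (φg A B g a) = ψ a)
    (hfrac : ∀ c : κ, ∃ t a : A, ψ t ≠ 0 ∧ ψ t * c = ψ a) :
    Module.finrank B (Coh.HH X' (F' g' F) p) =
      Module.finrank κ ((CohIII.bcCx ψ Q).homology (-(p : ℤ))) := by
  obtain ⟨fb, hfb⟩ := exists_fibre_equiv A B g g' hc F U p hcov hU
  let MAB : ModuleCat.{u} A := MA A B g (ModuleCat.of B B)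
  let Rκ : ModuleCat.{u} A := (ModuleCat.restrictScalars ψ).obj (ModuleCat.of κ κ)
  let ie : B ≃+* κ := RingEquiv.ofBijective i hib
  let εl : ↑MAB ≃ₗ[A] ↑Rκ :=
    { toFun := fun b => i (show B from b)
      map_add' := fun a b => map_add i _ _
      map_smul' := fun a b => by
        show i (φg A B g a * (show B from b)) = ψ a * i (show B from b)
        rw [map_mul, hi]
      invFun := fun c => ie.symm (show κ from c)
      left_inv := fun b => ie.symm_apply_apply _
      right_inv := fun c => ie.apply_symm_apply _ }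
  let ε : MAB ≅ Rκ := εl.toModuleIso
  let T := CohIII.TFun Q (-(p : ℤ))
  let Ψ2 : Coh.HH X (TM A F MAB) p ≃+ ↑(T.obj MAB) := (ν.app MAB).addCommGroupIsoToAddEquiv
  let Ψ3 : ↑(T.obj MAB) ≃+ ↑(T.obj Rκ) := (T.mapIso ε).toLinearEquiv.toAddEquiv
  let Ψ4 : ↑(T.obj Rκ) ≃+ (CohIII.bcCx ψ Q).homology (-(p : ℤ)) :=
    (linkHEquiv ψ Q (-(p : ℤ))).symm
  let Ψ : Coh.HH X' (F' g' F) p ≃+ (CohIII.bcCx ψ Q).homology (-(p : ℤ)) :=
    ((fb.trans Ψ2).trans Ψ3).trans Ψ4
  refine finrank_eq_of_addEquiv_of_frac2 (φg A B g) ψ i hib hi hfrac Ψ ?_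
  intro a v
  show Ψ4 (Ψ3 (Ψ2 (fb (φg A B g a • v)))) = ψ a • Ψ4 (Ψ3 (Ψ2 (fb v)))
  rw [hfb]
  have hμ : μB A B g (φg A B g a) = a • 𝟙 MAB :=
    ModuleCat.hom_ext (LinearMap.ext (fun b => rfl))
  rw [hμ]
  have hnat := ν.hom.naturality (a • 𝟙 MAB)
  have h2 := ConcreteCategory.congr_hom hnat (fb v)
  have h3 : Ψ2 (Sheaf.H.map ((SheafOfModules.toSheaf X.ringCatSheaf).map
      ((CohIII.tensorAFunctor A F).map (a • 𝟙 MAB))) p (fb v)) = a • Ψ2 (fb v) := by
    refine h2.trans ?_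
    show ((forget₂ (ModuleCat.{u} A) AddCommGrpCat.{u}).map (T.map (a • 𝟙 MAB))) (Ψ2 (fb v)) = _
    rw [TFun_map_smul_id]
    rfl
  rw [h3]
  have h4 : Ψ3 (a • Ψ2 (fb v)) = a • Ψ3 (Ψ2 (fb v)) :=
    map_smul (T.mapIso ε).toLinearEquiv a _
  rw [h4]
  show (linkHEquiv ψ Q (-(p : ℤ))).symm (a • Ψ3 (Ψ2 (fb v))) =
    ψ a • (linkHEquiv ψ Q (-(p : ℤ))).symm (Ψ3 (Ψ2 (fb v)))
  rw [AddEquiv.symm_apply_eq, linkHEquiv_smul, AddEquiv.apply_symm_apply]

omit [Field B] in
/-- the fibre rank equals the rank function of any bridging complex. -/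
theorem fiberRank_eq_dRank (A : Type u) [CommRing A] (X : Scheme.{u})
    [X.Over (Spec (CommRingCat.of A))] [IsSeparated (sm A X)] [QuasiCompact (sm A X)]
    (F : X.Modules) [F.IsQuasicoherent] (p : ℕ) (Q : ChainComplex (ModuleCat.{u} A) ℤ)
    (ν : CohIII.tensorAFunctor A F ⋙ CohIII.HAb X p ≅
      CohIII.TFun Q (-(p : ℤ)) ⋙ forget₂ (ModuleCat.{u} A) AddCommGrpCat.{u})
    (y : ↥(Spec (CommRingCat.of A))) :
    CohIII.fiberRank (sm A X) F p y = CohIII.dRank Q (-(p : ℤ)) y := by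
  obtain ⟨ι, hfin, U, hcov, -, hU⟩ := CBCCover.exists_cover A X
  letI : ((sm A X).fiber y).Over
      (Spec (CommRingCat.of ↑((Spec (CommRingCat.of A)).residueField y))) :=
    ⟨(sm A X).fiberToSpecResidueField y⟩
  have hc : IsPullback ((sm A X).fiberι y)
      (sm ↑((Spec (CommRingCat.of A)).residueField y) ((sm A X).fiber y)) (sm A X)
      ((Spec (CommRingCat.of A)).fromSpecResidueField y) := IsPullback.of_hasPullback _ _
  have hg : (Spec (CommRingCat.of A)).fromSpecResidueField y =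
      Spec.map (CommRingCat.ofHom (algebraMap A y.asIdeal.ResidueField) ≫
        (Scheme.Spec.residueFieldIso (CommRingCat.of A) y).inv) := by
    rw [Spec.map_comp]
    exact (Scheme.Spec.map_residueFieldIso_inv_eq_fromSpecResidueField (CommRingCat.of A) y).symm
  have key := finrank_fibre_eq A ↑((Spec (CommRingCat.of A)).residueField y)
    ((Spec (CommRingCat.of A)).fromSpecResidueField y) ((sm A X).fiberι y) hc F U p hcov hU Q ν
    (algebraMap A y.asIdeal.ResidueField)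
    (Scheme.Spec.residueFieldIso (CommRingCat.of A) y).hom.hom
    (Scheme.Spec.residueFieldIso (CommRingCat.of A) y).commRingCatIsoToRingEquiv.bijective
    (by
      intro a
      rw [hg, φg_specMap]
      exact congrArg (fun k => k.hom (algebraMap A y.asIdeal.ResidueField a))
        (Scheme.Spec.residueFieldIso (CommRingCat.of A) y).inv_hom_id)
    (by
      intro cc
      obtain ⟨t, ht, a, hta⟩ := exists_smul_eq_algebraMap y.asIdeal cc
      refine ⟨t, a, ?_, ?_⟩
      · rw [Ne, Ideal.algebraMap_residueField_eq_zero]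
        exact ht
      · rw [← Algebra.smul_def]
        exact hta)
  exact key

end Groth.Agent.Lib.Helper13.CBCRank
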