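import Mathlib
import Groth.Agent.Lib.Helper13.CBCSec2
import Groth.Agent.Lib.Helper13.CBCCech

/-!
# `A`-linearity of `M ↦ Γ(X, f^*(M~) ⊗ F)` and comparison with `H^0`
-/

set_option autoImplicit false
universe u
open CategoryTheory CategoryTheory.Limits AlgebraicGeometry TopologicalSpace Opposite TensorProduct
open Scheme.Modules

namespace Groth.Agent.Lib.Helper13.CBCGlob

open Groth.Agent.Lib.Helper3 Groth.Agent.Lib.Helper3.QCSec Groth.Agent.Lib.Helper3.PbBasic
  Groth.Agent.Lib.Helper3.InvGen Groth.Agent.Lib.Helper3.InvTensor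
  Groth.Agent.Lib.Helper3.InvMonoidal
open Groth.Agent.Lib.Helper17.UnitBC Groth.Agent.Lib.Helper17.TensorSec
open Groth.Agent.Lib.Helper13.CBCSec Groth.Agent.Lib.Helper13.CBCCech
open Groth.Agent.Lib.Helper3.ModBasic

variable (A : Type u) [CommRing A] {X : Scheme.{u}} [X.Over (Spec (CommRingCat.of A))]
  (F : X.Modules)

lemma Φ_smul (M : ModuleCat.{u} A) (W : X.Opens) (a : A) (t : SecA A F W ⊗[A] M) :
    Φ A F M W (a • t) = toRg W (φ A W a) • Φ A F M W t := by
  induction t using TensorProduct.induction_on with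
  | zero => rw [smul_zero, map_zero, smul_zero]
  | tmul s m =>
    rw [TensorProduct.smul_tmul', Φ_tmul, Φ_tmul]
    exact TensorProduct.tmul_smul (toRg W (φ A W a)) _ _
  | add x y hx hy => rw [smul_add, map_add, hx, hy, map_add, smul_add]

lemma θ_smul (M : ModuleCat.{u} A) (W : X.Opens) (a : A) (t : SecA A F W ⊗[A] M) :
    θ A F M W (a • t) = φ A W a • θ A F M W t := by
  show et (pM A X M) F W (Φ A F M W (a • t)) = φ A W a • et (pM A X M) F W (Φ A F M W t)
  rw [Φ_smul, et_smul]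

lemma map_smul_app [F.IsQuasicoherent] (M : ModuleCat.{u} A) (a : A) (V : X.Opens)
    (σ : Γ(TM A F M, V)) :
    ((CohIII.tensorAFunctor A F).map (a • 𝟙 M)).app V σ = φ A V a • σ := by
  have key : ∀ x : V, ∃ W : X.Opens, W ≤ V ∧ x.1 ∈ W ∧ IsAffineOpen W := by
    intro x
    obtain ⟨W, hW, hxW, hWV⟩ := (Opens.isBasis_iff_nbhd.mp X.isBasis_affineOpens) x.2
    exact ⟨W, hWV, hxW, hW⟩
  choose W hWV hxW hWaff using key
  apply sec_eq_of_locally_eq (TM A F M) W V hWV
    (fun x hx => Opens.mem_iSup.mpr ⟨⟨x, hx⟩, hxW ⟨x, hx⟩⟩)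
  intro x
  have h1 : res (TM A F M) (hWV x) (((CohIII.tensorAFunctor A F).map (a • 𝟙 M)).app V σ) =
      ((CohIII.tensorAFunctor A F).map (a • 𝟙 M)).app (W x) (res (TM A F M) (hWV x) σ) :=
    (app_res ((CohIII.tensorAFunctor A F).map (a • 𝟙 M)) (hWV x) σ).symm
  rw [h1, res_smul, rres_φ]
  obtain ⟨t, ht⟩ := (θ_bijective A F M (hWaff x)).2 (res (TM A F M) (hWV x) σ)
  have h2 : LinearMap.lTensor (SecA A F (W x)) (a • 𝟙 M : M ⟶ M).hom t = a • t := by
    have h3 : (a • 𝟙 M : M ⟶ M).hom = a • LinearMap.id := rfl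
    rw [h3, LinearMap.lTensor_smul, LinearMap.lTensor_id]
    rfl
  have h4 : ((CohIII.tensorAFunctor A F).map (a • 𝟙 M)).app (W x) (θ A F M (W x) t) =
      θ A F M (W x) (LinearMap.lTensor (SecA A F (W x)) (a • 𝟙 M : M ⟶ M).hom t) := by
    rw [tensorAFunctor_map]
    exact θ_map A F (a • 𝟙 M) (W x) t
  rw [← ht]
  refine h4.trans ?_
  rw [h2, θ_smul]

lemma φ_top (a : A) :
    φ A ((sm A X) ⁻¹ᵁ ⊤) a =
      ((sm A X).app ⊤).hom ((Scheme.ΓSpecIso (CommRingCat.of A)).inv.hom a) := by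
  rw [φ_apply]
  exact congr($((Scheme.Hom.app_eq_appLE (sm A X) (U := ⊤)).symm)
    ((Scheme.ΓSpecIso (CommRingCat.of A)).inv.hom a))

/-- `M ↦ Γ(X, f^*(M~) ⊗ F)` is `A`-linear on morphisms. -/
lemma globalSectionsA_map_smul [F.IsQuasicoherent] (M : ModuleCat.{u} A) (a : A) :
    (CohIII.tensorAFunctor A F ⋙ CohIII.globalSectionsA A).map (a • 𝟙 M) =
      a • 𝟙 ((CohIII.tensorAFunctor A F ⋙ CohIII.globalSectionsA A).obj M) := by
  apply ModuleCat.hom_ext
  apply LinearMap.ext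
  intro σ
  have h := map_smul_app A F M a ((sm A X) ⁻¹ᵁ ⊤) σ
  rw [φ_top] at h
  exact h

variable (X) in
/-- `H^0(X, G) ≅ Γ(X, G)`, naturally. -/
noncomputable def H0iso : CohIII.HAb X 0 ≅
    CohIII.globalSectionsA A ⋙ forget₂ (ModuleCat.{u} A) AddCommGrpCat.{u} :=
  NatIso.ofComponents
    (fun G => AddEquiv.toAddCommGrpIso
      (Sheaf.H.equiv₀ ((SheafOfModules.toSheaf X.ringCatSheaf).obj G)
        (Limits.isTerminalTop (α := X.Opens))))
    (fun {G G'} k => by
      ext x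
      exact (Sheaf.H.equiv₀_naturality (Limits.isTerminalTop (α := X.Opens))
        ((SheafOfModules.toSheaf X.ringCatSheaf).map k) x).symm)

/-- an additive natural isomorphism between `A`-linear functors is `A`-linear. -/
theorem upgrade {G₁ G₂ : ModuleCat.{u} A ⥤ ModuleCat.{u} A}
    (h₁ : ∀ (M : ModuleCat.{u} A) (a : A), G₁.map (a • 𝟙 M) = a • 𝟙 (G₁.obj M))
    (h₂ : ∀ (M : ModuleCat.{u} A) (a : A), G₂.map (a • 𝟙 M) = a • 𝟙 (G₂.obj M))
    (θ : G₁ ⋙ forget₂ (ModuleCat.{u} A) AddCommGrpCat.{u} ≅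
      G₂ ⋙ forget₂ (ModuleCat.{u} A) AddCommGrpCat.{u}) :
    Nonempty (G₁ ≅ G₂) := by
  let f : ∀ M : ModuleCat.{u} A, G₁.obj M → G₂.obj M := fun M x => (θ.hom.app M).hom x
  let g : ∀ M : ModuleCat.{u} A, G₂.obj M → G₁.obj M := fun M y => (θ.inv.app M).hom y
  refine ⟨NatIso.ofComponents (fun M => LinearEquiv.toModuleIso
    { toFun := f M
      map_add' := fun x y => map_add (θ.hom.app M).hom x y
      map_smul' := fun a x => by
        have hn := ConcreteCategory.congr_hom (θ.hom.naturality (a • 𝟙 M)) x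
        have e1 : (a • x : G₁.obj M) = (G₁.map (a • 𝟙 M)).hom x := by
          rw [h₁]
          rfl
        show f M (a • x) = a • f M x
        rw [e1]
        refine hn.trans ?_
        show (G₂.map (a • 𝟙 M)).hom (f M x) = _
        rw [h₂]
        rfl
      invFun := g M
      left_inv := fun x => ConcreteCategory.congr_hom (θ.hom_inv_id_app M) x
      right_inv := fun y => ConcreteCategory.congr_hom (θ.inv_hom_id_app M) y }) ?_⟩
  intro M N g
  ext x
  exact ConcreteCategory.congr_hom (θ.hom.naturality g) x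

lemma coyoneda_map_smul (Q M : ModuleCat.{u} A) (a : A) :
    ((linearCoyoneda A (ModuleCat.{u} A)).obj (op Q)).map (a • 𝟙 M) =
      a • 𝟙 (((linearCoyoneda A (ModuleCat.{u} A)).obj (op Q)).obj M) := by
  apply ModuleCat.hom_ext
  apply LinearMap.ext
  intro φ
  show φ ≫ (a • 𝟙 M) = a • φ
  rw [Linear.comp_smul, Category.comp_id]
  rfl

end Groth.Agent.Lib.Helper13.CBCGlob
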