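import Mathlib
import Groth.Prelude.Def_ega3
import Groth.Agent.Lib.Helper7.TFunExact
import Groth.Agent.Lib.Helper7.TFunExact2
import Groth.Agent.Lib.Helper7.TFunArtin2
import Groth.Agent.Lib.Helper7.TFunLocal2
import Groth.Agent.Lib.Helper7.HalfExactLength
import Groth.Agent.Lib.Helper7.TorLin
import Groth.Agent.Lib.Helper13.CBCGlob

/-!
# Exactness of `T_p` over a Noetherian local ring via lengths of `T_p(A/m^{n+1})`
-/

set_option autoImplicit false
universe u
open CategoryTheory CategoryTheory.Limits MonoidalCategory IsLocalRing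

namespace Groth.Agent.Lib.Helper13.CBCLen

open Groth.Agent.Lib.Helper7

section Alg

variable {A : Type u} [CommRing A] [IsNoetherianRing A] [IsLocalRing A]

lemma isFiniteLength_quot_pow (n : ℕ) :
    IsFiniteLength A (A ⧸ maximalIdeal A ^ (n + 1)) := by
  have hp : maximalIdeal A ∈ (maximalIdeal A ^ (n + 1)).minimalPrimes := by
    refine ⟨⟨inferInstance, Ideal.pow_le_self (Nat.succ_ne_zero n)⟩, ?_⟩
    rintro q ⟨hq, hle⟩ _
    exact (Ideal.IsPrime.pow_le_iff (Nat.succ_ne_zero n)).mp hle
  haveI : IsArtinianRing (A ⧸ maximalIdeal A ^ (n + 1)) :=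
    IsLocalRing.quotient_artinian_of_mem_minimalPrimes_of_isLocalRing _ hp
  haveI : IsArtinian A (A ⧸ maximalIdeal A ^ (n + 1)) :=
    isArtinian_of_surjective_algebraMap (S := A) (R := A ⧸ maximalIdeal A ^ (n + 1))
      (M := A ⧸ maximalIdeal A ^ (n + 1)) Ideal.Quotient.mk_surjective
  exact isFiniteLength_iff_isNoetherian_isArtinian.mpr ⟨inferInstance, inferInstance⟩

/-- a finite module killed by the maximal ideal has finite length. -/
lemma isFiniteLength_of_smul_eq_zero (N : Type u) [AddCommGroup N] [Module A N]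
    [Module.Finite A N] (h : ∀ a ∈ maximalIdeal A, ∀ x : N, a • x = 0) : IsFiniteLength A N := by
  have htors : Module.IsTorsionBySet A N (maximalIdeal A : Set A) := by
    intro x a
    exact h a.1 a.2 x
  letI : Module (A ⧸ maximalIdeal A) N := htors.module
  haveI : IsScalarTower A (A ⧸ maximalIdeal A) N := htors.isScalarTower
  haveI : Module.Finite (A ⧸ maximalIdeal A) N :=
    Module.Finite.of_restrictScalars_finite A (A ⧸ maximalIdeal A) N
  letI : Field (A ⧸ maximalIdeal A) := Ideal.Quotient.field (maximalIdeal A)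
  haveI : IsArtinian (A ⧸ maximalIdeal A) N := inferInstance
  haveI : IsArtinian A N :=
    isArtinian_of_surjective_algebraMap (S := A) (R := A ⧸ maximalIdeal A) (M := N)
      Ideal.Quotient.mk_surjective
  exact isFiniteLength_iff_isNoetherian_isArtinian.mpr ⟨inferInstance, inferInstance⟩

variable (P : ChainComplex (ModuleCat.{u} A) ℤ)
  (hP : ∀ i, Module.Finite A (P.X i) ∧ Module.Flat A (P.X i)) (p : ℤ)

include hP in
lemma length_T_residue_ne_top :
    Module.length A (CohIII.T P p (ModuleCat.of A (ResidueField A))) ≠ ⊤ := by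
  haveI : Module.Finite A (P.X p) := (hP p).1
  haveI : Module.Finite A (ResidueField A) :=
    Module.Finite.of_surjective (Algebra.linearMap A (ResidueField A)) residue_surjective
  haveI := TFun_finite_of_finite P p (ModuleCat.of A (ResidueField A))
  rw [Module.length_ne_top_iff]
  apply isFiniteLength_of_smul_eq_zero
  intro a ha x
  have h1 : (a • 𝟙 (ModuleCat.of A (ResidueField A)) : ModuleCat.of A (ResidueField A) ⟶ _) = 0 := by
    apply ModuleCat.hom_ext
    apply LinearMap.ext
    intro y
    show a • (show ResidueField A from y) = 0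
    rw [Algebra.smul_def]
    have h0 : algebraMap A (ResidueField A) a = 0 := (residue_eq_zero_iff a).mpr ha
    rw [h0, zero_mul]
  have h2 := TFun_map_smul_id P p (ModuleCat.of A (ResidueField A)) a
  rw [h1, Functor.map_zero] at h2
  have h3 := congrArg (fun k => k.hom x) h2
  exact h3.symm

/-- the quotient maps `A/m^{n+1} → A/m`. -/
noncomputable abbrev gq (n : ℕ) :
    (A ⧸ maximalIdeal A ^ (n + 1)) →ₗ[A] (A ⧸ maximalIdeal A) :=
  (Ideal.Quotient.factorₐ A (Ideal.pow_le_self (I := maximalIdeal A)
    (Nat.succ_ne_zero n))).toLinearMap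

include hP in
theorem TFun_exact_iff_length_eventually :
    ((CohIII.TFun P p).PreservesMonomorphisms ∧ (CohIII.TFun P p).PreservesEpimorphisms) ↔
      ∃ n₀ : ℕ, ∀ n : ℕ, n₀ ≤ n →
        Module.length A (CohIII.T P p (ModuleCat.of A (A ⧸ maximalIdeal A ^ (n + 1)))) =
          Module.length A (CohIII.T P p (ModuleCat.of A (ResidueField A))) *
            Module.length A (A ⧸ maximalIdeal A ^ (n + 1)) := by
  have hfl : ∀ i, Module.Flat A (P.X i) := fun i => (hP i).2
  have hhalf : ∀ S : ShortComplex (ModuleCat.{u} A), S.ShortExact →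
      (S.map (CohIII.TFun P p)).Exact := fun S hS => TFun_halfExact P hfl p S hS
  have hd := length_T_residue_ne_top P hP p
  constructor
  · rintro ⟨hm, he⟩
    refine ⟨0, fun n _ => ?_⟩
    exact length_T_eq_mul (CohIII.TFun P p) hhalf (A ⧸ maximalIdeal A ^ (n + 1))
      (isFiniteLength_quot_pow n)
  · rintro ⟨n₀, hn₀⟩
    have hrel : (ComplexShape.down ℤ).Rel (p + 1) p := rfl
    have hsimple : ∀ M : ModuleCat.{u} A, IsSimpleModule A M →
        Module.length A ((CohIII.TFun P p).obj M) ≠ ⊤ := by
      intro M hM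
      rw [length_T_simple (CohIII.TFun P p) M hM]
      exact hd
    have key : ∀ n : ℕ, n₀ ≤ n →
        Function.Surjective ((CohIII.TFun P p).map (ModuleCat.ofHom (gq (A := A) n))).hom ∧
        Function.Surjective ((CohIII.TFun P (p + 1)).map (ModuleCat.ofHom (gq (A := A) n))).hom := by
      intro n hn
      have hs : Function.Surjective (gq (A := A) n) :=
        Ideal.Quotient.factor_surjective
          (Ideal.pow_le_self (I := maximalIdeal A) (Nat.succ_ne_zero n))
      let S := (gq (A := A) n).shortComplexKer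
      have hSE : S.ShortExact := LinearMap.shortExact_shortComplexKer hs
      have hA : Module.length A S.X₂ ≠ ⊤ :=
        Module.length_ne_top_iff.mpr (isFiniteLength_quot_pow n)
      have hmain := (length_map_halfExact (CohIII.TFun P p) hhalf hsimple).2 S hSE hA
      have hX1 : Module.length A S.X₁ ≠ ⊤ :=
        ne_top_of_le_ne_top hA (Module.length_le_of_injective S.f.hom hSE.moduleCat_injective_f)
      have hAadd : Module.length A S.X₂ = Module.length A S.X₁ + Module.length A S.X₃ :=
        Module.length_eq_add_of_exact S.f.hom S.g.hom hSE.moduleCat_injective_f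
          hSE.moduleCat_surjective_g
          ((ShortComplex.ShortExact.moduleCat_exact_iff_function_exact S).mp hSE.exact)
      have hks : IsSimpleModule A (ResidueField A) :=
        isSimpleModule_iff_quot_maximal.mpr
          ⟨maximalIdeal A, inferInstance, ⟨LinearEquiv.refl A _⟩⟩
      have hk1 : Module.length A S.X₃ = 1 := Module.length_eq_one A (ResidueField A)
      have hle1 : Module.length A ((CohIII.TFun P p).obj S.X₁) ≤
          Module.length A (CohIII.T P p (ModuleCat.of A (ResidueField A))) *
            Module.length A S.X₁ :=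
        length_T_le_mul (CohIII.TFun P p) hhalf _ (Module.length_ne_top_iff.mp hX1)
      have heq : Module.length A ((CohIII.TFun P p).obj S.X₂) =
          Module.length A ((CohIII.TFun P p).obj S.X₁) +
            Module.length A ((CohIII.TFun P p).obj S.X₃) := by
        apply le_antisymm hmain.1
        have e2 : Module.length A ((CohIII.TFun P p).obj S.X₂) =
            Module.length A (CohIII.T P p (ModuleCat.of A (ResidueField A))) *
              Module.length A S.X₂ := hn₀ n hn
        rw [e2, hAadd, hk1, mul_add, mul_one]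
        exact add_le_add hle1 le_rfl
      have hSEmap : (S.map (CohIII.TFun P p)).ShortExact := hmain.2.mp heq
      refine ⟨(ModuleCat.epi_iff_surjective _).mp hSEmap.epi_g, ?_⟩
      have hepi := (TFun_mono_iff_epi P hfl (p + 1) p hrel S hSE).mp hSEmap.mono_f
      exact (ModuleCat.epi_iff_surjective _).mp hepi
    have he : (CohIII.TFun P p).PreservesEpimorphisms :=
      (TFun_preservesEpi_iff_eventually_surjective P hP p).2 ⟨n₀, fun n hn => (key n hn).1⟩
    have heq : (CohIII.TFun P (p + 1)).PreservesEpimorphisms :=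
      (TFun_preservesEpi_iff_eventually_surjective P hP (p + 1)).2
        ⟨n₀, fun n hn => (key n hn).2⟩
    exact ⟨(TFun_preservesMono_iff_preservesEpi P hfl (p + 1) p hrel).2 heq, he⟩

end Alg

section Geom

open AlgebraicGeometry Opposite
open Groth.Agent.Lib.Helper13.CBCSec Groth.Agent.Lib.Helper13.CBCCech
  Groth.Agent.Lib.Helper13.CBCGlob

variable (A : Type u) [CommRing A] {X : Scheme.{u}} [X.Over (Spec (CommRingCat.of A))]
  (F : X.Modules) [F.IsQuasicoherent]

lemma toSheaf_map_smul (M : ModuleCat.{u} A) (a : A) :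
    (SheafOfModules.toSheaf X.ringCatSheaf).map ((CohIII.tensorAFunctor A F).map (a • 𝟙 M)) =
      Coh.smulAb (TM A F M) (Coh.toGlobal (sm A X) a) := by
  ext U m
  exact map_smul_app A F M a U.unop m

/-- the bridge isomorphism is `A`-linear on each object. -/
theorem length_eq_of_bridge (Q : ChainComplex (ModuleCat.{u} A) ℤ) (p : ℕ)
    (ν : CohIII.tensorAFunctor A F ⋙ CohIII.HAb X p ≅
      CohIII.TFun Q (-(p : ℤ)) ⋙ forget₂ (ModuleCat.{u} A) AddCommGrpCat.{u})
    (M : ModuleCat.{u} A) :
    Module.length A (Coh.HH X ((CohIII.tensorAFunctor A F).obj M) p) =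
      Module.length A (CohIII.T Q (-(p : ℤ)) M) := by
  let e0 : Coh.HH X ((CohIII.tensorAFunctor A F).obj M) p ≃+ ↑((CohIII.TFun Q (-(p : ℤ))).obj M) :=
    (ν.app M).addCommGroupIsoToAddEquiv
  have hlin : ∀ (a : A) (x : Coh.HH X ((CohIII.tensorAFunctor A F).obj M) p),
      e0 (a • x) = a • e0 x := by
    intro a x
    have h1 : a • x = Sheaf.H.map ((SheafOfModules.toSheaf X.ringCatSheaf).map
        ((CohIII.tensorAFunctor A F).map (a • 𝟙 M))) p x := by
      rw [toSheaf_map_smul]
      rfl
    rw [h1]
    have hn := ConcreteCategory.congr_hom (ν.hom.naturality (a • 𝟙 M)) x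
    refine hn.trans ?_
    show ((CohIII.TFun Q (-(p : ℤ))).map (a • 𝟙 M)).hom (e0 x) = a • e0 x
    rw [TFun_map_smul_id]
    rfl
  let e : Coh.HH X ((CohIII.tensorAFunctor A F).obj M) p ≃ₗ[A]
      ↑((CohIII.TFun Q (-(p : ℤ))).obj M) :=
    { e0 with map_smul' := hlin }
  exact e.length_eq

end Geom

end Groth.Agent.Lib.Helper13.CBCLen
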