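import Mathlib
import Groth.Agent.Lib.Helper13.CBCMain
import Groth.Agent.Lib.Helper13.CBCGlob
import Groth.Agent.Lib.Helper13.CBCLen
import Groth.Agent.Lib.Helper7.DvrRank
import Groth.Agent.Lib.Helper7.TFunExact2
import Groth.Agent.Lib.Helper7.TorLin

/-!
# `A`-linear identifications `T^p(M) ≅ T_{-p}(M)`, `T^p(A) ≅ H^p(X, F)`; exactness of `T_q`
from flatness of the values `T_q(A)`
-/

set_option autoImplicit false
universe u
open CategoryTheory CategoryTheory.Limits AlgebraicGeometry TopologicalSpace Opposite TensorProduct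
  MonoidalCategory
open Scheme.Modules

namespace Groth.Agent.Lib.Helper13.CBCUnit

open Groth.Agent.Lib.Helper13.CBCSec Groth.Agent.Lib.Helper13.CBCCechMap
  Groth.Agent.Lib.Helper13.CechBasic Groth.Agent.Lib.Helper13.CBCCech
  Groth.Agent.Lib.Helper13.CBCHom Groth.Agent.Lib.Helper13.CBCExt
  Groth.Agent.Lib.Helper13.CBCNat Groth.Agent.Lib.Helper13.CBCFin
  Groth.Agent.Lib.Helper13.CBCGlob
open Groth.Agent.Lib.Helper7

section Alg

variable {A : Type u} [CommRing A]

/-- variant of `TFun_exact_upTo_of_flat` with vanishing of the functors (not of the terms) in low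
degrees. -/
theorem TFun_exact_upTo_of_vanish (P : ChainComplex (ModuleCat.{u} A) ℤ)
    (hP : ∀ i, Module.Flat A (P.X i)) (i₀ : ℤ)
    (hb : ∀ q < i₀, ∀ M : ModuleCat.{u} A, IsZero ((CohIII.TFun P q).obj M)) (p : ℤ)
    (hfl : ∀ q ≤ p, Module.Flat A ((CohIII.TFun P q).obj (ModuleCat.of A A))) :
    ∀ q ≤ p, (CohIII.TFun P q).PreservesMonomorphisms ∧
      (CohIII.TFun P q).PreservesEpimorphisms := by
  have key : ∀ n : ℕ, ∀ q : ℤ, q < i₀ + n → q ≤ p →
      (CohIII.TFun P q).PreservesMonomorphisms ∧ (CohIII.TFun P q).PreservesEpimorphisms := by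
    intro n
    induction n with
    | zero =>
      intro q hq _
      exact preservesMonoEpi_of_isZero _ (fun M => hb q (by simpa using hq) M)
    | succ n ih =>
      intro q hq hqp
      obtain ⟨hm', he'⟩ := ih (q - 1) (by push_cast at hq ⊢; omega) (by omega)
      have hrel : (ComplexShape.down ℤ).Rel q (q - 1) := by
        show q - 1 + 1 = q
        ring
      haveI he : (CohIII.TFun P q).PreservesEpimorphisms :=
        (TFun_preservesMono_iff_preservesEpi P hP q (q - 1) hrel).mp hm'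
      exact ⟨TFun_preservesMono_of_preservesEpi_of_flat P hP q (hfl q hqp), he⟩
  intro q hq
  obtain ⟨n, hn⟩ : ∃ n : ℕ, q < i₀ + n := ⟨(q - i₀ + 1).toNat, by omega⟩
  exact key n q hn hq

end Alg

variable (A : Type u) [CommRing A] {X : Scheme.{u}} [X.Over (Spec (CommRingCat.of A))]
  (F : X.Modules) [F.IsQuasicoherent]

/-- the additive part of the bridge isomorphism on an object. -/
noncomputable def addEquivOfBridge (Q : ChainComplex (ModuleCat.{u} A) ℤ) (p : ℕ) (j : ℤ)
    (ν : CohIII.tensorAFunctor A F ⋙ CohIII.HAb X p ≅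
      CohIII.TFun Q j ⋙ forget₂ (ModuleCat.{u} A) AddCommGrpCat.{u})
    (M : ModuleCat.{u} A) :
    Coh.HH X ((CohIII.tensorAFunctor A F).obj M) p ≃+ ↑((CohIII.TFun Q j).obj M) :=
  (ν.app M).addCommGroupIsoToAddEquiv

lemma addEquivOfBridge_smul (Q : ChainComplex (ModuleCat.{u} A) ℤ) (p : ℕ) (j : ℤ)
    (ν : CohIII.tensorAFunctor A F ⋙ CohIII.HAb X p ≅
      CohIII.TFun Q j ⋙ forget₂ (ModuleCat.{u} A) AddCommGrpCat.{u})
    (M : ModuleCat.{u} A) (a : A) (x : Coh.HH X ((CohIII.tensorAFunctor A F).obj M) p) :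
    addEquivOfBridge A F Q p j ν M (a • x) = a • addEquivOfBridge A F Q p j ν M x := by
  have h1 : a • x = Sheaf.H.map ((SheafOfModules.toSheaf X.ringCatSheaf).map
      ((CohIII.tensorAFunctor A F).map (a • 𝟙 M))) p x := by
    rw [Groth.Agent.Lib.Helper13.CBCLen.toSheaf_map_smul]
    rfl
  rw [h1]
  have hn := ConcreteCategory.congr_hom (ν.hom.naturality (a • 𝟙 M)) x
  refine hn.trans ?_
  show ((CohIII.TFun Q j).map (a • 𝟙 M)).hom (addEquivOfBridge A F Q p j ν M x) = _
  rw [TFun_map_smul_id]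
  rfl

/-- the bridge isomorphism is `A`-linear on each object. -/
noncomputable def linEquivOfBridge (Q : ChainComplex (ModuleCat.{u} A) ℤ) (p : ℕ) (j : ℤ)
    (ν : CohIII.tensorAFunctor A F ⋙ CohIII.HAb X p ≅
      CohIII.TFun Q j ⋙ forget₂ (ModuleCat.{u} A) AddCommGrpCat.{u})
    (M : ModuleCat.{u} A) :
    Coh.HH X ((CohIII.tensorAFunctor A F).obj M) p ≃ₗ[A] ↑((CohIII.TFun Q j).obj M) :=
  { addEquivOfBridge A F Q p j ν M with
    map_smul' := addEquivOfBridge_smul A F Q p j ν M }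

variable {ι : Type u} (U : ι → X.Opens) [Finite ι] (p : ℕ)
  (e : ∀ M : X.Modules, Coh.IsQCoh M → (↑(CohB1.cechH U M p) ≃+ Coh.HH X M p))
  (he : ∀ (M M' : X.Modules) (hM : Coh.IsQCoh M) (hM' : Coh.IsQCoh M')
    (ψ : Coh.toAb M ⟶ Coh.toAb M') (y : ↑(CohB1.cechH U M p)),
    e M' hM' ((HomologicalComplex.homologyMap ((cechComplexFunctor U).map ψ.hom) p).hom y) =
      Sheaf.H.map ψ p (e M hM y))

include he in
/-- `H^p(X, F) ≅ H^p(C)` for the Čech complex `C` of `A`-modules, `A`-linearly. -/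
noncomputable def homologyCCEquiv : Coh.HH X F p ≃ₗ[A] ↥((CC A F U).homology p) := by
  have hqc : Coh.IsQCoh F := inferInstance
  let L : ↥((CC A F U).homology p) ≃+ Coh.HH X F p :=
    (HF A F U p).addCommGroupIsoToAddEquiv.trans (e F hqc)
  have hL : ∀ (a : A) (y : ↥((CC A F U).homology p)), L (a • y) = a • L y := by
    intro a y
    have h1 := ConcreteCategory.congr_hom (HF_smul A F U a p) y
    have h2 := he F F hqc hqc (Coh.smulAb F (Coh.toGlobal (sm A X) a)) ((HF A F U p).hom.hom y)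
    exact (congrArg (e F hqc) h1).trans h2
  exact
    { L.symm with
      map_smul' := fun a x => by
        apply L.injective
        show L (L.symm (a • x)) = L (a • L.symm x)
        rw [hL, L.apply_symm_apply, L.apply_symm_apply] }

include he in
/-- `T_{-p}(A) ≅ H^p(X, F)` for the extended Čech complex. -/
noncomputable def TPPunitEquiv :
    ↑((CohIII.TFun (PP A F U) (-(p : ℤ))).obj (ModuleCat.of A A)) ≃ₗ[A] Coh.HH X F p :=
  (unitHomologyEquiv (PP A F U) (-(p : ℤ))).trans
    ((((CC A F U).extendHomologyIso eNeg (j := p) (j' := -(p : ℤ)) rfl).toLinearEquiv).trans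
      (homologyCCEquiv A F U p e he).symm)

variable (hU : ∀ (n : ℕ) (i : Fin (n + 1) → ι), IsAffineOpen (∏ᶜ (U ∘ i)))

include he in
/-- `H^p(X, f^*(A~) ⊗ F) ≅ H^p(X, F)`, `A`-linearly. -/
noncomputable def HHunitEquiv :
    Coh.HH X ((CohIII.tensorAFunctor A F).obj (ModuleCat.of A A)) p ≃ₗ[A] Coh.HH X F p :=
  (linEquivOfBridge A F (PP A F U) p (-(p : ℤ)) (bridgeP A F U hU p e he).symm
    (ModuleCat.of A A)).trans (TPPunitEquiv A F U p e he)

end Groth.Agent.Lib.Helper13.CBCUnit
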