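import Mathlib
import Groth.Agent.Lib.Helper2.KInjectiveDerived

/-!
# Computing total right derived functors on K-injective complexes (helper13)

If every complex of `A` has a K-injective resolution, then for every additive `F : A ⥤ B` with a total
right derived functor `RF : D(A) ⥤ D(B)` (of `K(F) ⋙ Qh`), the canonical map `F(I) ⟶ RF(I)` is an
isomorphism for `I` K-injective.  Also: right adjoints with exact left adjoints preserve K-injectives.
-/

set_option autoImplicit false
universe w w' v v' u u'

namespace Groth.Agent.Lib.Helper13.KInjCompute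

open CategoryTheory CategoryTheory.Limits

/-- every complex has a K-injective resolution -/
def HasKInj (A : Type u) [Category.{v} A] [Abelian A] : Prop :=
  ∀ K : CochainComplex A ℤ, ∃ (I : CochainComplex A ℤ) (f : K ⟶ I), I.IsKInjective ∧ QuasiIso f

/-- every complex has a K-injective resolution with injective terms -/
def HasKInjInj (A : Type u) [Category.{v} A] [Abelian A] : Prop :=
  ∀ K : CochainComplex A ℤ, ∃ (I : CochainComplex A ℤ) (f : K ⟶ I), I.IsKInjective ∧ QuasiIso f ∧
    ∀ n, Injective (I.X n)

lemma HasKInjInj.hasKInj {A : Type u} [Category.{v} A] [Abelian A] (h : HasKInjInj A) : HasKInj A :=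
  fun K => by
    obtain ⟨I, f, h1, h2, -⟩ := h K
    exact ⟨I, f, h1, h2⟩

section Compute

variable {A : Type u} [Category.{v} A] [Abelian A] [HasDerivedCategory.{w} A]
  {B : Type u'} [Category.{v'} B] [Abelian B] [HasDerivedCategory.{w'} B]

lemma exists_model (hK : HasKInjInj A) (E : DerivedCategory A) :
    ∃ I : CochainComplex A ℤ, I.IsKInjective ∧ (∀ n, Injective (I.X n)) ∧
      Nonempty (E ≅ DerivedCategory.Q.obj I) := by
  obtain ⟨I, f, h1, h2, h3⟩ := hK (DerivedCategory.Q.objPreimage E)
  haveI : IsIso (DerivedCategory.Q.map f) := (DerivedCategory.isIso_Q_map_iff_quasiIso _ f).2 h2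
  exact ⟨I, h1, h3, ⟨(DerivedCategory.Q.objObjPreimageIso E).symm ≪≫ asIso (DerivedCategory.Q.map f)⟩⟩

variable (F : A ⥤ B) [F.Additive]

/-- `K(F)` followed by localization -/
noncomputable abbrev Fh : HomotopyCategory A (ComplexShape.up ℤ) ⥤ DerivedCategory B :=
  F.mapHomotopyCategory (ComplexShape.up ℤ) ⋙ DerivedCategory.Qh

variable [(Fh F).HasRightDerivedFunctor (HomotopyCategory.quasiIso A (ComplexShape.up ℤ))]

/-- the total right derived functor -/
noncomputable abbrev RF : DerivedCategory A ⥤ DerivedCategory B :=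
  (Fh F).totalRightDerived DerivedCategory.Qh (HomotopyCategory.quasiIso A (ComplexShape.up ℤ))

/-- the canonical map `F(I) ⟶ RF(I)` -/
noncomputable def u (I : CochainComplex A ℤ) :
    DerivedCategory.Q.obj ((F.mapHomologicalComplex (ComplexShape.up ℤ)).obj I) ⟶
      (RF F).obj (DerivedCategory.Q.obj I) :=
  ((Fh F).totalRightDerivedUnit DerivedCategory.Qh
    (HomotopyCategory.quasiIso A (ComplexShape.up ℤ))).app
      ((HomotopyCategory.quotient A (ComplexShape.up ℤ)).obj I)

lemma u_naturality {I J : CochainComplex A ℤ} (φ : I ⟶ J) :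
    DerivedCategory.Q.map ((F.mapHomologicalComplex (ComplexShape.up ℤ)).map φ) ≫ u F J =
      u F I ≫ (RF F).map (DerivedCategory.Q.map φ) :=
  ((Fh F).totalRightDerivedUnit DerivedCategory.Qh
    (HomotopyCategory.quasiIso A (ComplexShape.up ℤ))).naturality
      ((HomotopyCategory.quotient A (ComplexShape.up ℤ)).map φ)

lemma isIso_u (hK : HasKInj A) (I : CochainComplex A ℤ) (hI : I.IsKInjective) : IsIso (u F I) := by
  have hres := Groth.Agent.Lib.Helper2.exists_local_resolution hK
  exact Groth.Agent.Lib.Helper2.LocalRes.isIso_unit_app _ hres (Fh F) DerivedCategory.Qh _ _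
    (Groth.Agent.Lib.Helper2.isLocal_quotient_obj_of_isKInjective I hI)

/-- `RF(I) ≅ F(I)` for `I` K-injective -/
noncomputable def iso (hK : HasKInj A) (I : CochainComplex A ℤ) (hI : I.IsKInjective) :
    (RF F).obj (DerivedCategory.Q.obj I) ≅
      DerivedCategory.Q.obj ((F.mapHomologicalComplex (ComplexShape.up ℤ)).obj I) :=
  haveI := isIso_u F hK I hI
  (asIso (u F I)).symm

lemma iso_naturality (hK : HasKInj A) {I J : CochainComplex A ℤ} (hI : I.IsKInjective)
    (hJ : J.IsKInjective) (φ : I ⟶ J) :
    (RF F).map (DerivedCategory.Q.map φ) ≫ (iso F hK J hJ).hom =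
      (iso F hK I hI).hom ≫
        DerivedCategory.Q.map ((F.mapHomologicalComplex (ComplexShape.up ℤ)).map φ) := by
  haveI := isIso_u F hK I hI
  haveI := isIso_u F hK J hJ
  have h := u_naturality F φ
  dsimp only [iso, Iso.symm_hom, asIso_inv]
  rw [IsIso.comp_inv_eq, Category.assoc, IsIso.eq_inv_comp]
  exact h.symm

end Compute

section Adj

variable {A : Type u} [Category.{v} A] [Abelian A] {B : Type u'} [Category.{v'} B] [Abelian B]
  {L : B ⥤ A} {G : A ⥤ B} (adj : L ⊣ G) [L.Additive] [G.Additive]

/-- the unit on complexes -/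
noncomputable def unitHC (K : CochainComplex B ℤ) :
    K ⟶ (G.mapHomologicalComplex (ComplexShape.up ℤ)).obj
      ((L.mapHomologicalComplex (ComplexShape.up ℤ)).obj K) where
  f n := adj.unit.app (K.X n)
  comm' i j _ := (adj.unit.naturality (K.d i j)).symm

/-- the counit on complexes -/
noncomputable def counitHC (I : CochainComplex A ℤ) :
    (L.mapHomologicalComplex (ComplexShape.up ℤ)).obj
      ((G.mapHomologicalComplex (ComplexShape.up ℤ)).obj I) ⟶ I where
  f n := adj.counit.app (I.X n)
  comm' i j _ := (adj.counit.naturality (I.d i j)).symm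

lemma unit_map_counit {X : B} {Y : A} (g : X ⟶ G.obj Y) :
    adj.unit.app X ≫ G.map (L.map g ≫ adj.counit.app Y) = g := by
  have := (adj.homEquiv X Y).apply_symm_apply g
  rwa [Adjunction.homEquiv_counit, Adjunction.homEquiv_unit] at this

include adj in
lemma isKInjective_map [PreservesFiniteLimits L] (I : CochainComplex A ℤ) (hI : I.IsKInjective) :
    CochainComplex.IsKInjective ((G.mapHomologicalComplex (ComplexShape.up ℤ)).obj I) where
  nonempty_homotopy_zero {K} f hK := by
    haveI : PreservesFiniteColimits L := by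
      have : PreservesColimitsOfSize.{0, 0} L := adj.leftAdjoint_preservesColimits
      exact PreservesColimitsOfSize.preservesFiniteColimits _
    have hLK : ((L.mapHomologicalComplex (ComplexShape.up ℤ)).obj K).Acyclic :=
      fun n => (hK n).map L
    let f' := (L.mapHomologicalComplex (ComplexShape.up ℤ)).map f ≫ counitHC adj I
    obtain ⟨h⟩ := CochainComplex.IsKInjective.nonempty_homotopy_zero f' hLK
    have hf : f = unitHC adj K ≫ (G.mapHomologicalComplex (ComplexShape.up ℤ)).map f' := by
      ext n
      exact (unit_map_counit adj (f.f n)).symm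
    exact ⟨(Homotopy.ofEq hf).trans
      (((G.mapHomotopy h).compLeft (unitHC adj K)).trans (Homotopy.ofEq (by simp)))⟩

end Adj

end Groth.Agent.Lib.Helper13.KInjCompute
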