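import Mathlib
import Groth.Prelude.Def_ModSite
import Groth.Agent.Lib.Helper13.ModSiteTensor

/-!
# Flatness for sheaves of modules on a small ringed site

* `hasExactColimitsOfShape_mod`: exactness of colimits of shape `K` in `Mod O` (AB5, AB4).
* `isFlat_iff`: flatness only needs preservation of finite limits.
* `objIso`, `objIsoFlipObj`: `G ⊗ - ≅ - ⊗ G`; `G ⊗ -` preserves colimits.
* `isFlat_of_isColimit`: colimits (of exact shape) of flat modules are flat.
* `assocP`, `flipCompIso`: `(- ⊗ G) ⊗ F ≅ - ⊗ (G ⊗ F)`; `isFlat_tensor`.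
-/

set_option autoImplicit false
universe u
open CategoryTheory CategoryTheory.Limits Opposite MonoidalCategory
open Groth.Agent.Lib.Helper13 Groth.Agent.Lib.Helper13.ModSiteTensor

namespace Groth.Agent.Lib.Helper13.ModSiteFlat

variable {C : Type u} [SmallCategory C] {J : GrothendieckTopology C} (O : Sheaf J CommRingCat.{u})

/-- AB-type exactness of colimits in `Mod O`, inherited from abelian groups. -/
theorem hasExactColimitsOfShape_mod (K : Type u) [SmallCategory K]
    [HasExactColimitsOfShape K AddCommGrpCat.{u}] :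
    HasExactColimitsOfShape K (ModSite.Mod O) :=
  HasExactColimitsOfShape.domain_of_functor K (SheafOfModules.toSheaf (ModSite.ringSh O))

instance preservesColimitsOfSize_flip (N : ModSite.Mod O) :
    PreservesColimitsOfSize.{u, u} ((ModSite.tensorBi O).flip.obj N) := ⟨inferInstance⟩

instance preservesFiniteColimits_flip (N : ModSite.Mod O) :
    PreservesFiniteColimits ((ModSite.tensorBi O).flip.obj N) :=
  PreservesColimitsOfSize.preservesFiniteColimits.{u, u} _

variable {O} in
theorem isFlat_iff (F : ModSite.Mod O) :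
    ModSite.IsFlat F ↔ PreservesFiniteLimits ((ModSite.tensorBi O).flip.obj F) :=
  ⟨fun h => h.1, fun h => ⟨h, inferInstance⟩⟩

/-- `G ⊗ -` unfolded. -/
noncomputable def objIso (G : ModSite.Mod O) :
    (ModSite.tensorBi O).obj G ≅ fgt O ⋙ tensorLeft ((fgt O).obj G) ⋙ shf O :=
  NatIso.ofComponents (fun _ => Iso.refl _)

/-- `G ⊗ -` is isomorphic to `- ⊗ G`. -/
noncomputable def objIsoFlipObj (G : ModSite.Mod O) :
    (ModSite.tensorBi O).obj G ≅ (ModSite.tensorBi O).flip.obj G :=
  objIso O G ≪≫ Functor.isoWhiskerLeft (fgt O)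
    (Functor.isoWhiskerRight (BraidedCategory.tensorLeftIsoTensorRight ((fgt O).obj G)) (shf O)) ≪≫
    (flipObjIso O G).symm

instance preservesColimitsOfSize_obj (G : ModSite.Mod O) :
    PreservesColimitsOfSize.{u, u} ((ModSite.tensorBi O).obj G) :=
  preservesColimits_of_natIso (objIsoFlipObj O G).symm

instance preservesFiniteColimits_obj (G : ModSite.Mod O) :
    PreservesFiniteColimits ((ModSite.tensorBi O).obj G) :=
  PreservesColimitsOfSize.preservesFiniteColimits.{u, u} _

variable {O} in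
/-- Colimits of flat modules, of a shape for which colimits of abelian groups are exact,
are flat. -/
theorem isFlat_of_isColimit {K : Type u} [SmallCategory K]
    [HasExactColimitsOfShape K AddCommGrpCat.{u}] (D : K ⥤ ModSite.Mod O)
    (hD : ∀ i, ModSite.IsFlat (D.obj i)) (c : Cocone D) (hc : IsColimit c) :
    ModSite.IsFlat c.pt := by
  rw [isFlat_iff]
  have := hasExactColimitsOfShape_mod O K
  have hc' : IsColimit ((ModSite.tensorBi O).flip.mapCocone c) := by
    apply evaluationJointlyReflectsColimits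
    intro G
    exact isColimitOfPreserves ((ModSite.tensorBi O).obj G) hc
  exact (ObjectProperty.preservesFiniteLimits (J := ModSite.Mod O)
    (C := ModSite.Mod O)).prop_of_isColimit hc' (fun i => (hD i).1)

theorem isIso_shf_map_unit_whiskerLeft (N P : PMod O) :
    IsIso ((shf O).map (N ◁ (shfAdj O).unit.app P)) :=
  isIso_shf_map_whiskerLeft N _ (TensorLocal.locSurj_unit (𝟙 (ModSite.ringSh O).obj) P)
    (TensorLocal.locInj_unit (𝟙 (ModSite.ringSh O).obj) P)

/-- `a(a(P ⊗ Q) ⊗ R) ≅ a(P ⊗ a(Q ⊗ R))` for presheaves of modules. -/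
noncomputable def assocP (P Q R : PMod O) :
    (shf O).obj ((fgt O).obj ((shf O).obj (P ⊗ Q)) ⊗ R) ≅
      (shf O).obj (P ⊗ (fgt O).obj ((shf O).obj (Q ⊗ R))) :=
  (@asIso _ _ _ _ ((shf O).map ((shfAdj O).unit.app (P ⊗ Q) ▷ R))
      (isIso_shf_map_unit_whiskerRight O (P ⊗ Q) R)).symm ≪≫
    (shf O).mapIso (α_ P Q R) ≪≫
    @asIso _ _ _ _ ((shf O).map (P ◁ (shfAdj O).unit.app (Q ⊗ R)))
      (isIso_shf_map_unit_whiskerLeft O P (Q ⊗ R))

theorem assocP_naturality_left {P P' : PMod O} (f : P ⟶ P') (Q R : PMod O) :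
    (shf O).map ((fgt O).map ((shf O).map (f ▷ Q)) ▷ R) ≫ (assocP O P' Q R).hom =
      (assocP O P Q R).hom ≫ (shf O).map (f ▷ (fgt O).obj ((shf O).obj (Q ⊗ R))) := by
  have h1 := isIso_shf_map_unit_whiskerRight O (P ⊗ Q) R
  have h2 := isIso_shf_map_unit_whiskerRight O (P' ⊗ Q) R
  simp only [assocP, Iso.trans_hom, Iso.symm_hom, asIso_inv, asIso_hom, Functor.mapIso_hom,
    Category.assoc]
  rw [IsIso.eq_inv_comp, ← Category.assoc, ← Category.assoc, ← Category.assoc]
  rw [← Functor.map_comp, ← comp_whiskerRight]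
  have hu : (shfAdj O).unit.app (P ⊗ Q) ≫ (fgt O).map ((shf O).map (f ▷ Q)) =
      (f ▷ Q) ≫ (shfAdj O).unit.app (P' ⊗ Q) := ((shfAdj O).unit.naturality (f ▷ Q)).symm
  rw [hu, comp_whiskerRight, Functor.map_comp, Category.assoc, Category.assoc, Category.assoc,
    IsIso.hom_inv_id_assoc]
  simp only [← Functor.map_comp]
  congr 1
  rw [← Category.assoc, associator_naturality_left, Category.assoc, ← whisker_exchange]

/-- `(- ⊗ G) ⊗ F ≅ - ⊗ (G ⊗ F)`, clean form. -/
noncomputable def flipCompIsoAux (G F : ModSite.Mod O) :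
    (fgt O ⋙ tensorRight ((fgt O).obj G) ⋙ shf O) ⋙
        (fgt O ⋙ tensorRight ((fgt O).obj F) ⋙ shf O) ≅
      fgt O ⋙ tensorRight ((fgt O).obj (((ModSite.tensorBi O).obj G).obj F)) ⋙ shf O :=
  NatIso.ofComponents (fun M => assocP O ((fgt O).obj M) ((fgt O).obj G) ((fgt O).obj F))
    (fun f => assocP_naturality_left O ((fgt O).map f) ((fgt O).obj G) ((fgt O).obj F))

/-- `(- ⊗ G) ⊗ F ≅ - ⊗ (G ⊗ F)`. -/
noncomputable def flipCompIso (G F : ModSite.Mod O) :
    (ModSite.tensorBi O).flip.obj G ⋙ (ModSite.tensorBi O).flip.obj F ≅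
      (ModSite.tensorBi O).flip.obj (((ModSite.tensorBi O).obj G).obj F) :=
  NatIso.hcomp (flipObjIso O G) (flipObjIso O F) ≪≫ flipCompIsoAux O G F ≪≫
    (flipObjIso O _).symm

variable {O} in
/-- The tensor product of two flat modules is flat. -/
theorem isFlat_tensor (G F : ModSite.Mod O) (hG : ModSite.IsFlat G) (hF : ModSite.IsFlat F) :
    ModSite.IsFlat (((ModSite.tensorBi O).obj G).obj F) := by
  have := hG.1
  have := hF.1
  exact ⟨preservesFiniteLimits_of_natIso (flipCompIso O G F), inferInstance⟩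

end Groth.Agent.Lib.Helper13.ModSiteFlat
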