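import Mathlib
import Groth.Prelude.Def_ModSite
import Groth.Agent.Lib.Helper13.ModSiteFlat

/-!
# Flat generators for sheaves of modules on a small ringed site

* `additive_of_preservesFiniteColimits`, `preservesFiniteLimits_of_preservesMono`.
* `preservesFiniteLimits_tensorRight`: tensoring with a sectionwise flat presheaf is exact.
* `flipShfIso`: `- ⊗ a(P) ≅ a(fgt - ⊗ₚ P)`.
* `isFlat_shf_of_flat`, `isFlat_of_flat_sections`, `isFlat_of_iso`.
* `gen O X`: the sheafified free module on a representable, `isFlat_gen`.
* `exists_epi_of_isFlat`: every module is a quotient of a flat module.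
-/

set_option autoImplicit false
universe u
open CategoryTheory CategoryTheory.Limits Opposite MonoidalCategory
open Groth.Agent.Lib.Helper13 Groth.Agent.Lib.Helper13.ModSiteTensor
open Groth.Agent.Lib.Helper13.ModSiteFlat

namespace Groth.Agent.Lib.Helper13.ModSiteFlatGen

section General

variable {A B : Type*} [Category A] [Category B]

/-- A functor between abelian categories which preserves finite colimits is additive. -/
lemma additive_of_preservesFiniteColimits [Abelian A] [Abelian B] (F : A ⥤ B)
    [PreservesFiniteColimits F] : F.Additive := by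
  have : F.PreservesZeroMorphisms := inferInstance
  have : PreservesBinaryBiproducts F := preservesBinaryBiproducts_of_preservesBinaryCoproducts F
  exact Functor.additive_of_preservesBinaryBiproducts F

/-- A right exact functor between abelian categories which preserves monomorphisms is exact. -/
lemma preservesFiniteLimits_of_preservesMono [Abelian A] [Abelian B] (F : A ⥤ B)
    [PreservesFiniteColimits F] (h : ∀ {X Y : A} (f : X ⟶ Y), Mono f → Mono (F.map f)) :
    PreservesFiniteLimits F := by
  have := additive_of_preservesFiniteColimits F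
  rw [Functor.preservesFiniteLimits_iff_forall_exact_map_and_mono]
  intro S hS
  have := hS.mono_f
  exact ⟨((Functor.preservesFiniteColimits_iff_forall_exact_map_and_epi F).1 inferInstance S hS).1,
    h S.f inferInstance⟩

end General

section Presheaf

variable {C : Type u} [SmallCategory C] {R : Cᵒᵖ ⥤ CommRingCat.{u}}

/-- Tensoring with a sectionwise flat presheaf of modules is exact. -/
theorem preservesFiniteLimits_tensorRight (Q : PresheafOfModules.{u} (R ⋙ forget₂ _ _))
    (hQ : ∀ X : Cᵒᵖ, Module.Flat (R.obj X) (Q.obj X)) :
    PreservesFiniteLimits (tensorRight Q) := by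
  have : PreservesFiniteColimits (tensorRight Q) :=
    PreservesColimitsOfSize.preservesFiniteColimits.{u, u} _
  apply preservesFiniteLimits_of_preservesMono
  intro P P' f hf
  apply PresheafOfModules.mono_of_injective
  intro X
  have h1 : Function.Injective (f.app X).hom := PresheafOfModules.injective_of_mono f X
  have := hQ X
  exact Module.Flat.rTensor_preserves_injective_linearMap (R := R.obj X) (M := Q.obj X)
    (N := P.obj X) (P := P'.obj X) (f.app X).hom h1

end Presheaf

section Sheaf

variable {C : Type u} [SmallCategory C] {J : GrothendieckTopology C} (O : Sheaf J CommRingCat.{u})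

/-- `- ⊗ a(P) ≅ a(fgt - ⊗ₚ P)`. -/
noncomputable def flipShfIso (P : PMod O) :
    (ModSite.tensorBi O).flip.obj ((shf O).obj P) ≅ fgt O ⋙ tensorRight P ⋙ shf O := by
  let τ : tensorRight P ⋙ shf O ⟶ tensorRight ((fgt O).obj ((shf O).obj P)) ⋙ shf O :=
    Functor.whiskerRight ((tensoringRight (PMod O)).map ((shfAdj O).unit.app P)) (shf O)
  have hτ : IsIso τ := by
    apply (config := { allowSynthFailures := true }) NatIso.isIso_of_isIso_app
    intro M'
    exact isIso_shf_map_unit_whiskerLeft O M' P
  exact flipObjIso O ((shf O).obj P) ≪≫ Functor.isoWhiskerLeft (fgt O) (asIso τ).symm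

instance fgt_preservesFiniteLimits : PreservesFiniteLimits (fgt O) := by
  have : PreservesLimitsOfSize.{0, 0} (fgt O) := (shfAdj O).rightAdjoint_preservesLimits
  exact PreservesLimitsOfSize.preservesFiniteLimits.{0, 0} _

variable {O}

theorem isFlat_shf_of_flat (P : PMod O) (hP : ∀ X : Cᵒᵖ, Module.Flat (O.obj.obj X) (P.obj X)) :
    ModSite.IsFlat ((shf O).obj P) := by
  rw [isFlat_iff]
  have h1 := preservesFiniteLimits_tensorRight (R := O.obj) P hP
  have h2 : PreservesFiniteLimits (shf O) :=
    inferInstanceAs (PreservesFiniteLimits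
      (PresheafOfModules.sheafification.{u} (𝟙 (ModSite.ringSh O).obj)))
  have h3 : PreservesFiniteLimits (tensorRight P ⋙ shf O) := comp_preservesFiniteLimits _ _
  have h4 : PreservesFiniteLimits (fgt O ⋙ tensorRight P ⋙ shf O) :=
    comp_preservesFiniteLimits _ _
  exact preservesFiniteLimits_of_natIso (flipShfIso O P).symm

theorem isFlat_of_iso {F F' : ModSite.Mod O} (e : F ≅ F') (hF : ModSite.IsFlat F) :
    ModSite.IsFlat F' := by
  rw [isFlat_iff] at hF ⊢
  exact preservesFiniteLimits_of_natIso ((ModSite.tensorBi O).flip.mapIso e)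

/-- A sheaf of modules all of whose modules of sections are flat is flat. -/
theorem isFlat_of_flat_sections (M : ModSite.Mod O)
    (hM : ∀ X : Cᵒᵖ, Module.Flat (O.obj.obj X) (M.val.obj X)) : ModSite.IsFlat M := by
  have hc : IsIso (shfAdj O).counit :=
    inferInstanceAs (IsIso (PresheafOfModules.sheafificationAdjunction.{u}
      (𝟙 (ModSite.ringSh O).obj)).counit)
  exact isFlat_of_iso (asIso ((shfAdj O).counit.app M))
    (isFlat_shf_of_flat ((fgt O).obj M) hM)

variable (O)

/-- The sheafified free module on a representable presheaf. -/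
noncomputable def gen (X : C) : ModSite.Mod O :=
  (shf O).obj ((PresheafOfModules.free (O.obj ⋙ forget₂ CommRingCat.{u} RingCat.{u})).obj
    (yoneda.obj X))

theorem isFlat_gen (X : C) : ModSite.IsFlat (gen O X) := by
  apply isFlat_shf_of_flat
  intro V
  change Module.Flat (O.obj.obj V) (((yoneda.obj X).obj V) →₀ (O.obj.obj V))
  infer_instance

/-- Every module is a quotient of a flat module. -/
theorem exists_epi_of_isFlat (F : ModSite.Mod O) :
    ∃ (G : ModSite.Mod O) (π : G ⟶ F), ModSite.IsFlat G ∧ Epi π := by
  let ι : Type u := Σ X : C, (gen O X ⟶ F)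
  let D : ι → ModSite.Mod O := fun i => gen O i.1
  refine ⟨∐ D, Sigma.desc (fun i => i.2), ?_, ?_⟩
  · exact isFlat_of_isColimit (Discrete.functor D) (fun i => isFlat_gen O i.as.1) _
      (colimit.isColimit (Discrete.functor D))
  · constructor
    intro Z a b hab
    apply sepProp_isSeparating O
    rintro _ ⟨X⟩ h
    have h1 := Sigma.ι D ⟨X, h⟩ ≫= hab
    simp only [Sigma.ι_desc_assoc] at h1
    exact h1

end Sheaf

end Groth.Agent.Lib.Helper13.ModSiteFlatGen
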