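import Mathlib
import Groth.Agent.Lib.Helper13.ModSiteFlatGen

/-!
# Extension by zero for presheaves of modules on `Over X`, explicitly

For a presheaf of rings `R` on a small category `C`, `X : C` and a presheaf of modules `P` over
the restriction `SR X R` of `R` to `Over X`, we construct `shriek P`, with sections
`⨁_{φ : V ⟶ X} P(φ)` over `V`, show that it is left adjoint to restriction (`shriekAdj`), hence
isomorphic to Mathlib's abstract `PresheafOfModules.pullback` (`shriekIsoPullback`), and that it
is exact (`shriekFunctor_preservesFiniteLimits`, `pullback_preservesFiniteLimits`).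
-/

set_option autoImplicit false
universe u
open CategoryTheory CategoryTheory.Limits Opposite DirectSum

noncomputable section
open Classical

namespace Groth.Agent.Lib.Helper13.OverShriek

variable {C : Type u} [SmallCategory C] {X : C} {R : Cᵒᵖ ⥤ RingCat.{u}}

/-- The restricted presheaf of rings on `Over X`. -/
abbrev SR (X : C) (R : Cᵒᵖ ⥤ RingCat.{u}) : (Over X)ᵒᵖ ⥤ RingCat.{u} := (Over.forget X).op ⋙ R

variable (P : PresheafOfModules.{u} (SR X R))

/-- The component of `P` at `φ : V ⟶ X`, as an `R(V)`-module. -/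
abbrev cmp {V : C} (φ : V ⟶ X) : ModuleCat.{u} (R.obj (op V)) := P.obj (op (Over.mk φ))

/-- The total module `⨁_{φ : V ⟶ X} P(φ)`. -/
abbrev Tot (V : C) : Type u := ⨁ φ : V ⟶ X, cmp P φ

instance (V : C) : Module (R.obj (op V)) (Tot P V) := inferInstance

/-- The inclusion of the summand indexed by `Y.hom`. -/
def inj (Y : Over X) : P.obj (op Y) →+ Tot P Y.left :=
  DirectSum.of (fun φ : Y.left ⟶ X => cmp P φ) Y.hom

/-- restriction of a component along `k`. -/
def res {V' : C} (Y : Over X) (k : V' ⟶ Y.left) : P.obj (op Y) →+ cmp P (k ≫ Y.hom) :=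
  (P.map (Over.homMk k rfl : Over.mk (k ≫ Y.hom) ⟶ Y).op).hom.toAddMonoidHom

/-- The restriction map of the total module along `k : V' ⟶ V`. -/
def totMap {V V' : C} (k : V' ⟶ V) : Tot P V →+ Tot P V' :=
  DirectSum.toAddMonoid (fun φ : V ⟶ X =>
    (DirectSum.of (fun ψ : V' ⟶ X => cmp P ψ) (k ≫ φ)).comp (res P (Over.mk φ) k))

lemma totMap_of {V V' : C} (k : V' ⟶ V) (φ : V ⟶ X) (x : cmp P φ) :
    totMap P k (DirectSum.of (fun φ : V ⟶ X => cmp P φ) φ x) =
      DirectSum.of (fun ψ : V' ⟶ X => cmp P ψ) (k ≫ φ) (res P (Over.mk φ) k x) := by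
  simp [totMap]

/-- Key lemma: the restriction of a generator, in a form independent of the index. -/
lemma key (Y : Over X) {V' : C} (k : V' ⟶ Y.left) (ψ : V' ⟶ X) (h : k ≫ Y.hom = ψ)
    (x : P.obj (op Y)) :
    DirectSum.of (fun ψ : V' ⟶ X => cmp P ψ) (k ≫ Y.hom) (res P Y k x) =
      DirectSum.of (fun ψ : V' ⟶ X => cmp P ψ) ψ
        (P.map (Over.homMk k h : Over.mk ψ ⟶ Y).op x) := by
  subst h
  rfl

lemma totMap_id (V : C) (t : Tot P V) : totMap P (𝟙 V) t = t := by
  induction t using DirectSum.induction_on with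
  | zero => simp
  | of φ x =>
    rw [totMap_of]
    have h := key P (Over.mk φ) (𝟙 V) φ (Category.id_comp φ) x
    refine h.trans ?_
    have e : (Over.homMk (𝟙 V) (Category.id_comp φ) : Over.mk φ ⟶ Over.mk φ) = 𝟙 _ := by
      ext; rfl
    rw [e, op_id, P.map_id]
    rfl
  | add a b ha hb => rw [map_add, ha, hb]

lemma totMap_comp {V V' V'' : C} (k : V' ⟶ V) (k' : V'' ⟶ V') (t : Tot P V) :
    totMap P (k' ≫ k) t = totMap P k' (totMap P k t) := by
  induction t using DirectSum.induction_on with
  | zero => simp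
  | of φ x =>
    rw [totMap_of, totMap_of, totMap_of]
    have h := key P (Over.mk φ) (k' ≫ k) (k' ≫ k ≫ φ) (Category.assoc _ _ _) x
    refine h.trans ?_
    have e : (Over.homMk (k' ≫ k) (Category.assoc _ _ _) : Over.mk (k' ≫ k ≫ φ) ⟶ Over.mk φ) =
        (Over.homMk k' rfl : Over.mk (k' ≫ k ≫ φ) ⟶ Over.mk (k ≫ φ)) ≫
          (Over.homMk k rfl : Over.mk (k ≫ φ) ⟶ Over.mk φ) := by
      ext; rfl
    rw [e, op_comp, PresheafOfModules.map_comp_apply]
    rfl
  | add a b ha hb => rw [map_add, map_add, map_add, ha, hb]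

/-- The underlying presheaf of abelian groups of the extension by zero. -/
def shriekAb : Cᵒᵖ ⥤ Ab.{u} where
  obj W := AddCommGrpCat.of (Tot P W.unop)
  map g := AddCommGrpCat.ofHom (totMap P g.unop)
  map_id W := AddCommGrpCat.hom_ext (AddMonoidHom.ext fun t => totMap_id P W.unop t)
  map_comp g g' :=
    AddCommGrpCat.hom_ext (AddMonoidHom.ext fun t => totMap_comp P g.unop g'.unop t)

instance (W : Cᵒᵖ) : Module (R.obj W) ((shriekAb P).obj W) :=
  inferInstanceAs (Module (R.obj (op W.unop)) (Tot P W.unop))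

lemma res_smul {V' : C} (Y : Over X) (k : V' ⟶ Y.left) (r : (SR X R).obj (op Y))
    (x : P.obj (op Y)) :
    res P Y k (r • x) = ((R.map k.op).hom r) • res P Y k x :=
  P.map_smul (Over.homMk k rfl : Over.mk (k ≫ Y.hom) ⟶ Y).op r x

lemma totMap_smul {V V' : C} (k : V' ⟶ V) (r : R.obj (op V)) (t : Tot P V) :
    totMap P k (r • t) = (R.map k.op r) • totMap P k t := by
  induction t using DirectSum.induction_on with
  | zero => simp
  | of φ x =>
    rw [← DirectSum.of_smul, totMap_of, totMap_of, ← DirectSum.of_smul]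
    congr 1
    exact res_smul P (Over.mk φ) k r x
  | add a b ha hb => rw [smul_add, map_add, map_add, smul_add, ha, hb]

/-- The extension by zero of a presheaf of modules on `Over X`. -/
def shriek : PresheafOfModules.{u} R :=
  PresheafOfModules.ofPresheaf (shriekAb P) (fun W W' g r t => totMap_smul P g.unop r t)

lemma inj_injective (Y : Over X) : Function.Injective (inj P Y) :=
  DirectSum.of_injective (β := fun φ : Y.left ⟶ X => cmp P φ) Y.hom

lemma inj_apply (Y : Over X) (x : P.obj (op Y)) :
    inj P Y x = DirectSum.of (fun φ : Y.left ⟶ X => cmp P φ) Y.hom x := rfl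

lemma totMap_inj {Y' Y : Over X} (a : Y' ⟶ Y) (x : P.obj (op Y)) :
    totMap P a.left (inj P Y x) = inj P Y' (P.map a.op x) := by
  refine (totMap_of P a.left Y.hom x).trans ?_
  refine (key P Y a.left Y'.hom (Over.w a) x).trans ?_
  have e : (Over.homMk a.left (Over.w a) : Over.mk Y'.hom ⟶ Y) = a := by
    ext; rfl
  rw [e]
  rfl

/-- The restriction functor to `Over X`. -/
abbrev restrP (X : C) (R : Cᵒᵖ ⥤ RingCat.{u}) :
    PresheafOfModules.{u} R ⥤ PresheafOfModules.{u} (SR X R) :=
  PresheafOfModules.pushforward (F := Over.forget X) (R := R) (S := SR X R) (𝟙 _)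

variable {P} {N : PresheafOfModules.{u} R}

/-- The map `⨁ P(φ) → N(V)` induced by a morphism `P ⟶ N|_X`. -/
def desc (β : P ⟶ (restrP X R).obj N) (V : C) : Tot P V →+ N.obj (op V) :=
  DirectSum.toAddMonoid (fun φ : V ⟶ X =>
    ((β.app (op (Over.mk φ))).hom.toAddMonoidHom : cmp P φ →+ N.obj (op V)))

lemma desc_of (β : P ⟶ (restrP X R).obj N) {V : C} (φ : V ⟶ X) (x : cmp P φ) :
    desc β V (DirectSum.of (fun φ : V ⟶ X => cmp P φ) φ x) = β.app (op (Over.mk φ)) x :=
  DirectSum.toAddMonoid_of _ _ _

lemma desc_inj (β : P ⟶ (restrP X R).obj N) (Y : Over X) (x : P.obj (op Y)) :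
    desc β Y.left (inj P Y x) = β.app (op Y) x :=
  desc_of β Y.hom x

lemma desc_totMap (β : P ⟶ (restrP X R).obj N) {V V' : C} (k : V' ⟶ V) (t : Tot P V) :
    desc β V' (totMap P k t) = N.map k.op (desc β V t) := by
  induction t using DirectSum.induction_on with
  | zero =>
    rw [map_zero, map_zero, map_zero]
    exact (map_zero (N.map k.op).hom).symm
  | of φ x =>
    rw [totMap_of, desc_of, desc_of]
    exact PresheafOfModules.naturality_apply β
      (Over.homMk k rfl : Over.mk (k ≫ φ) ⟶ Over.mk φ).op x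
  | add a b ha hb =>
    rw [map_add, map_add, map_add, ha, hb]
    exact (map_add (N.map k.op).hom _ _).symm

lemma desc_smul (β : P ⟶ (restrP X R).obj N) {V : C} (r : R.obj (op V)) (t : Tot P V) :
    desc β V (r • t) = r • desc β V t := by
  induction t using DirectSum.induction_on with
  | zero => simp
  | of φ x =>
    rw [← DirectSum.of_smul, desc_of, desc_of]
    exact (β.app (op (Over.mk φ))).hom.map_smul r x
  | add a b ha hb => rw [smul_add, map_add, map_add, smul_add, ha, hb]

/-- `shriek P ⟶ N` from `P ⟶ N|_X`. -/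
def descHom (β : P ⟶ (restrP X R).obj N) : shriek P ⟶ N :=
  PresheafOfModules.homMk (M₁ := shriek P) (M₂ := N)
    { app := fun W => AddCommGrpCat.ofHom (desc β W.unop)
      naturality := fun W W' g =>
        AddCommGrpCat.hom_ext (AddMonoidHom.ext fun t => desc_totMap β g.unop t) }
    (fun W r t => desc_smul β r t)

lemma descHom_app_apply (β : P ⟶ (restrP X R).obj N) (W : Cᵒᵖ) (t : Tot P W.unop) :
    (descHom β).app W t = desc β W.unop t := rfl

/-- the underlying additive map of `P ⟶ N|_X` from `shriek P ⟶ N`. -/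
def restrAdd (α : shriek P ⟶ N) (Y : Over X) : P.obj (op Y) →+ N.obj (op Y.left) :=
  ((α.app (op Y.left)).hom.toAddMonoidHom : Tot P Y.left →+ N.obj (op Y.left)).comp (inj P Y)

lemma restrAdd_apply (α : shriek P ⟶ N) (Y : Over X) (x : P.obj (op Y)) :
    restrAdd α Y x = α.app (op Y.left) (inj P Y x) := rfl

lemma restrAdd_naturality (α : shriek P ⟶ N) {Y' Y : Over X} (a : Y' ⟶ Y) (x : P.obj (op Y)) :
    restrAdd α Y' (P.map a.op x) = N.map a.left.op (restrAdd α Y x) := by
  have h := PresheafOfModules.naturality_apply α a.left.op (inj P Y x)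
  exact (congrArg (fun t : Tot P Y'.left => (α.app (op Y'.left)).hom t)
    (totMap_inj P a x)).symm.trans h

lemma inj_smul (Y : Over X) (r : (SR X R).obj (op Y)) (x : P.obj (op Y)) :
    inj P Y (r • x) = (show R.obj (op Y.left) from r) • inj P Y x :=
  DirectSum.of_smul (R := R.obj (op Y.left)) (M := fun φ : Y.left ⟶ X => cmp P φ) Y.hom r x

/-- `P ⟶ N|_X` from `shriek P ⟶ N`. -/
def restrHom (α : shriek P ⟶ N) : P ⟶ (restrP X R).obj N :=
  PresheafOfModules.homMk (M₁ := P) (M₂ := (restrP X R).obj N)
    { app := fun Y => AddCommGrpCat.ofHom (restrAdd α Y.unop)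
      naturality := fun Y Y' a =>
        AddCommGrpCat.hom_ext (AddMonoidHom.ext fun x => restrAdd_naturality α a.unop x) }
    (fun Y r x => by
      change (α.app (op Y.unop.left)) (inj P Y.unop (r • x)) = _
      rw [inj_smul]
      exact (α.app (op Y.unop.left)).hom.map_smul _ _)

lemma restrHom_app_apply (α : shriek P ⟶ N) (Y : (Over X)ᵒᵖ) (x : P.obj Y) :
    (restrHom α).app Y x = α.app (op Y.unop.left) (inj P Y.unop x) := rfl

variable (P N) in
/-- The adjunction bijection `(shriek P ⟶ N) ≃ (P ⟶ N|_X)`. -/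
def homEquiv : (shriek P ⟶ N) ≃ (P ⟶ (restrP X R).obj N) where
  toFun := restrHom
  invFun := descHom
  left_inv α := by
    apply PresheafOfModules.hom_ext
    intro W
    apply ModuleCat.hom_ext
    apply LinearMap.toAddMonoidHom_injective
    apply DirectSum.addHom_ext
    intro φ x
    exact desc_of (restrHom α) φ x
  right_inv β := by
    apply PresheafOfModules.hom_ext
    intro Y
    ext x
    exact desc_inj β Y.unop x

lemma homEquiv_naturality_right {N' : PresheafOfModules.{u} R} (α : shriek P ⟶ N) (g : N ⟶ N') :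
    homEquiv P N' (α ≫ g) = homEquiv P N α ≫ (restrP X R).map g := rfl

variable (X R) in
/-- The extension by zero functor on presheaves of modules. -/
def shriekFunctor : PresheafOfModules.{u} (SR X R) ⥤ PresheafOfModules.{u} R :=
  Adjunction.leftAdjointOfEquiv (G := restrP X R) (F_obj := fun P => shriek P)
    (fun P N => homEquiv P N) (fun _ _ _ g α => homEquiv_naturality_right α g)

variable (X R) in
/-- Extension by zero is left adjoint to restriction. -/
def shriekAdj : shriekFunctor X R ⊣ restrP X R :=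
  Adjunction.adjunctionOfEquivLeft _ _

lemma shriekFunctor_map_app_inj {Q : PresheafOfModules.{u} (SR X R)} (f : P ⟶ Q) (Y : Over X)
    (x : P.obj (op Y)) :
    ((shriekFunctor X R).map f).app (op Y.left) (inj P Y x) = inj Q Y (f.app (op Y) x) := by
  change desc (f ≫ homEquiv Q (shriek Q) (𝟙 _)) Y.left (inj P Y x) = _
  rw [desc_inj]
  rfl

lemma shriekFunctor_map_app_eq {Q : PresheafOfModules.{u} (SR X R)} (f : P ⟶ Q) (V : C) :
    (((shriekFunctor X R).map f).app (op V)).hom.toAddMonoidHom =
      DirectSum.map (fun φ : V ⟶ X => ((f.app (op (Over.mk φ))).hom.toAddMonoidHom :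
        cmp P φ →+ cmp Q φ)) := by
  apply DirectSum.addHom_ext
  intro φ x
  refine (shriekFunctor_map_app_inj f (Over.mk φ) x).trans ?_
  exact (DirectSum.map_of (fun φ : V ⟶ X => ((f.app (op (Over.mk φ))).hom.toAddMonoidHom :
        cmp P φ →+ cmp Q φ)) φ x).symm

instance shriekFunctor_preservesMono {Q : PresheafOfModules.{u} (SR X R)} (f : P ⟶ Q) [Mono f] :
    Mono ((shriekFunctor X R).map f) := by
  apply PresheafOfModules.mono_of_injective
  intro W
  have h : Function.Injective (DirectSum.map (fun φ : W.unop ⟶ X =>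
      ((f.app (op (Over.mk φ))).hom.toAddMonoidHom : cmp P φ →+ cmp Q φ))) :=
    (DirectSum.map_injective _).2
      (fun φ => PresheafOfModules.injective_of_mono f (op (Over.mk φ)))
  have e := shriekFunctor_map_app_eq f W.unop
  intro a b hab
  apply h
  exact (DFunLike.congr_fun e a).symm.trans (hab.trans (DFunLike.congr_fun e b))

variable (X R)

instance shriekFunctor_preservesFiniteColimits : PreservesFiniteColimits (shriekFunctor X R) := by
  have : PreservesColimitsOfSize.{0, 0} (shriekFunctor X R) :=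
    (shriekAdj X R).leftAdjoint_preservesColimits
  exact PreservesColimitsOfSize.preservesFiniteColimits.{0, 0} _

instance shriekFunctor_preservesFiniteLimits : PreservesFiniteLimits (shriekFunctor X R) :=
  ModSiteFlatGen.preservesFiniteLimits_of_preservesMono _ (fun f _ => inferInstance)

/-- The explicit extension by zero is Mathlib's pullback of presheaves of modules. -/
def shriekIsoPullback :
    shriekFunctor X R ≅ PresheafOfModules.pullback.{u} (F := Over.forget X) (R := R)
      (S := SR X R) (𝟙 _) :=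
  Adjunction.leftAdjointUniq (shriekAdj X R)
    (PresheafOfModules.pullbackPushforwardAdjunction.{u} (F := Over.forget X) (R := R)
      (S := SR X R) (𝟙 _))

instance pullback_preservesFiniteLimits :
    PreservesFiniteLimits (PresheafOfModules.pullback.{u} (F := Over.forget X) (R := R)
      (S := SR X R) (𝟙 _)) :=
  preservesFiniteLimits_of_natIso (shriekIsoPullback X R)

end Groth.Agent.Lib.Helper13.OverShriek
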