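import Mathlib
import Groth.Agent.Lib.Helper13.OverShriek
import Groth.Agent.Lib.Helper13.TensorLocal

/-!
# Extension by zero `j_{U!}` of sheaves of modules over a sheaf of (not necessarily commutative)
rings on a small site: exactness and faithfulness

General-coefficient version of `ModSiteExtZero`.
-/

set_option autoImplicit false
universe u
open CategoryTheory CategoryTheory.Limits Opposite
open Groth.Agent.Lib.Helper13

namespace Groth.Agent.Lib.Helper13.ModShriekGen

variable {C : Type u} [SmallCategory C] {J : GrothendieckTopology C} (A : Sheaf J RingCat.{u})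
  (U : C)

/-- restriction to `C/U`. -/
noncomputable abbrev restrA : SheafOfModules.{u} A ⥤ SheafOfModules.{u} (A.over U) :=
  SheafOfModules.overFunctor A U

set_option backward.isDefEq.respectTransparency.types false in
instance isRightAdjoint_restrA : (restrA A U).IsRightAdjoint :=
  inferInstanceAs (SheafOfModules.pushforward.{u} (𝟙 (A.over U))).IsRightAdjoint

/-- extension by zero. -/
noncomputable abbrev extZeroA : SheafOfModules.{u} (A.over U) ⥤ SheafOfModules.{u} A :=
  SheafOfModules.pullback.{u} (𝟙 (A.over U))

/-- `j_! ⊣ j^*`. -/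
noncomputable abbrev extZeroAdjA : extZeroA A U ⊣ restrA A U :=
  SheafOfModules.pullbackPushforwardAdjunction.{u} (𝟙 (A.over U))

/-- forgetful functor to presheaves of modules. -/
noncomputable abbrev fgtA : SheafOfModules.{u} A ⥤ PresheafOfModules.{u} A.obj :=
  SheafOfModules.forget A ⋙ PresheafOfModules.restrictScalars (𝟙 A.obj)

/-- sheafification. -/
noncomputable abbrev shfA : PresheafOfModules.{u} A.obj ⥤ SheafOfModules.{u} A :=
  PresheafOfModules.sheafification.{u} (𝟙 A.obj)

/-- the sheafification adjunction. -/
noncomputable abbrev shfAdjA : shfA A ⊣ fgtA A :=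
  PresheafOfModules.sheafificationAdjunction.{u} (𝟙 A.obj)

variable {A} in
/-- Sections of a sheaf of modules agreeing on a covering sieve are equal. -/
theorem eq_of_cover (N : SheafOfModules.{u} A) {V : C} (S : Sieve V) (hS : S ∈ J V)
    (x y : N.val.obj (op V))
    (h : ∀ ⦃W : C⦄ (g : W ⟶ V), S g → N.val.map g.op x = N.val.map g.op y) : x = y := by
  have h1 : Presieve.IsSheaf J (N.val.presheaf ⋙ forget AddCommGrpCat) :=
    (isSheaf_iff_isSheaf_of_type _ _).1
      ((Presheaf.isSheaf_iff_isSheaf_forget J N.val.presheaf (forget _)).1 N.isSheaf)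
  exact (h1 S hS).isSeparatedFor.ext (fun W g hg => h g hg)

/-- the identity morphism of sheaves of rings defining `restr` and `extZero`. -/
abbrev idOver : A.over U ⟶
    ((Over.forget U).sheafPushforwardContinuous RingCat.{u} (J.over U) J).obj A :=
  𝟙 (A.over U)

instance isRightAdjoint_pushforward_idOver :
    (PresheafOfModules.pushforward.{u} (idOver A U).hom).IsRightAdjoint :=
  inferInstanceAs (PresheafOfModules.pushforward.{u} (F := Over.forget U)
    (R := A.obj) (S := OverShriek.SR U A.obj) (𝟙 _)).IsRightAdjoint

/-- `j_! ≅ a ∘ j_!^{pre} ∘ forget`. -/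
noncomputable def extZeroIso : extZeroA A U ≅
    SheafOfModules.forget.{u} (A.over U) ⋙
      PresheafOfModules.pullback.{u} (idOver A U).hom ⋙ shfA A :=
  SheafOfModules.pullbackIso.{u} (idOver A U)

/-- Extension by zero of sheaves of modules is exact. -/
theorem extZero_preservesFiniteLimits : PreservesFiniteLimits (extZeroA A U) := by
  have h1 : PreservesFiniteLimits
      (PresheafOfModules.pullback.{u} (idOver A U).hom) :=
    OverShriek.pullback_preservesFiniteLimits U A.obj
  have h2 : PreservesFiniteLimits (shfA A) :=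
    inferInstanceAs (PreservesFiniteLimits
      (PresheafOfModules.sheafification.{u} (𝟙 A.obj)))
  have h3 : PreservesFiniteLimits (SheafOfModules.forget.{u} (A.over U)) :=
    inferInstance
  have h4 : PreservesFiniteLimits
      (PresheafOfModules.pullback.{u} (idOver A U).hom ⋙ shfA A) :=
    comp_preservesFiniteLimits _ _
  have h5 : PreservesFiniteLimits (SheafOfModules.forget.{u} (A.over U) ⋙
      PresheafOfModules.pullback.{u} (idOver A U).hom ⋙ shfA A) :=
    comp_preservesFiniteLimits _ _
  exact @preservesFiniteLimits_of_natIso _ _ _ _ _ _ (extZeroIso A U).symm h5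

end Groth.Agent.Lib.Helper13.ModShriekGen

namespace Groth.Agent.Lib.Helper13.ModShriekGen

variable {C : Type u} [SmallCategory C] {J : GrothendieckTopology C} (A : Sheaf J RingCat.{u})
  (U : C)

/-- forgetful functor from sheaves of modules on `C/U` to presheaves of modules. -/
noncomputable abbrev fgtU : SheafOfModules.{u} (A.over U) ⥤
    PresheafOfModules.{u} (OverShriek.SR U A.obj) :=
  SheafOfModules.forget.{u} (A.over U)

/-- `(M ↦ M|_U)` on presheaves, after forgetting, is forgetting after restricting. -/
noncomputable def comm2 : 𝟭 (SheafOfModules.{u} A) ⋙ (fgtA A ⋙ OverShriek.restrP U A.obj) ≅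
    restrA A U ⋙ fgtU A U :=
  NatIso.ofComponents (fun M => Iso.refl _)

/-- The explicit left adjoint of restriction. -/
noncomputable abbrev shriekL : SheafOfModules.{u} (A.over U) ⥤ SheafOfModules.{u} A :=
  fgtU A U ⋙ OverShriek.shriekFunctor U A.obj ⋙ shfA A

noncomputable def adjL : shriekL A U ⊣ restrA A U :=
  ((OverShriek.shriekAdj U A.obj).comp (shfAdjA A)).restrictFullyFaithful
    (iC := fgtU A U) (iD := 𝟭 _)
    (SheafOfModules.fullyFaithfulForget _) (Functor.FullyFaithful.id _)
    (Functor.rightUnitor _).symm (comm2 A U)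

end Groth.Agent.Lib.Helper13.ModShriekGen

namespace Groth.Agent.Lib.Helper13.ModShriekGen

variable {C : Type u} [SmallCategory C] {J : GrothendieckTopology C} (A : Sheaf J RingCat.{u})
  (U : C)

lemma fgtU_map_unit (G : SheafOfModules.{u} (A.over U)) :
    (fgtU A U).map ((adjL A U).unit.app G) =
      OverShriek.restrHom ((shfAdjA A).unit.app (OverShriek.shriek ((fgtU A U).obj G))) := by
  have h := Adjunction.map_restrictFullyFaithful_unit_app
    ((OverShriek.shriekAdj U A.obj).comp (shfAdjA A))
    (iC := fgtU A U) (iD := 𝟭 _)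
    (SheafOfModules.fullyFaithfulForget _) (Functor.FullyFaithful.id _)
    (Functor.rightUnitor _).symm (comm2 A U) G
  delta adjL
  refine h.trans ?_
  apply PresheafOfModules.hom_ext
  intro Y
  ext x
  rfl

end Groth.Agent.Lib.Helper13.ModShriekGen

namespace Groth.Agent.Lib.Helper13.ModShriekGen


variable {C : Type u} [SmallCategory C] {J : GrothendieckTopology C} (A : Sheaf J RingCat.{u})
  (U : C)

/-- Claim A: `x ↦ η (inj x)` is injective when `G` is a sheaf. -/
lemma unit_inj_eq_zero (G : SheafOfModules.{u} (A.over U)) (Y : Over U) (x : G.val.obj (op Y))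
    (hx : ((shfAdjA A).unit.app (OverShriek.shriek ((fgtU A U).obj G))).app (op Y.left)
      (OverShriek.inj ((fgtU A U).obj G) Y x) = 0) : x = 0 := by
  obtain ⟨S, hS, h⟩ := TensorLocal.locInj_unit (𝟙 A.obj)
    (OverShriek.shriek ((fgtU A U).obj G)) Y.left _ hx
  have key : ∀ ⦃V : C⦄ (g : V ⟶ Y.left), S g → ∀ (ψ : V ⟶ U) (hψ : g ≫ Y.hom = ψ),
      G.val.map (Over.homMk g hψ : Over.mk ψ ⟶ Y).op x = 0 := by
    intro V g hg ψ hψ
    subst hψ
    have h1 := h g hg
    have h2 : OverShriek.totMap ((fgtU A U).obj G) g (OverShriek.inj ((fgtU A U).obj G) Y x) = 0 := h1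
    have h3 := (OverShriek.totMap_inj ((fgtU A U).obj G)
      (Over.homMk g rfl : Over.mk (g ≫ Y.hom) ⟶ Y) x).symm.trans h2
    exact OverShriek.inj_injective _ _ (h3.trans (map_zero _).symm)
  refine eq_of_cover G ((Sieve.overEquiv Y).symm S)
    (J.overEquiv_symm_mem_over Y S hS) x 0 ?_
  intro Y' a ha
  rw [Sieve.overEquiv_symm_iff] at ha
  have h4 := key a.left ha Y'.hom (Over.w a)
  have e : (Over.homMk a.left (Over.w a) : Over.mk Y'.hom ⟶ Y) = a := by
    ext; rfl
  rw [e] at h4
  exact h4.trans (map_zero (G.val.map a.op).hom).symm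

end Groth.Agent.Lib.Helper13.ModShriekGen

namespace Groth.Agent.Lib.Helper13.ModShriekGen

variable {C : Type u} [SmallCategory C] {J : GrothendieckTopology C} (A : Sheaf J RingCat.{u})
  (U : C)

instance mono_adjL_unit (G : SheafOfModules.{u} (A.over U)) : Mono ((adjL A U).unit.app G) := by
  have : Mono ((fgtU A U).map ((adjL A U).unit.app G)) := by
    rw [fgtU_map_unit]
    apply PresheafOfModules.mono_of_injective
    intro Y
    rw [injective_iff_map_eq_zero]
    intro x hx
    exact unit_inj_eq_zero A U G Y.unop x hx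
  have hf : (fgtU A U).Faithful := (SheafOfModules.fullyFaithfulForget _).faithful
  exact (fgtU A U).mono_of_mono_map this

instance mono_extZeroAdj_unit (G : SheafOfModules.{u} (A.over U)) :
    Mono ((extZeroAdjA A U).unit.app G) := by
  have h := Adjunction.unit_leftAdjointUniq_hom_app (extZeroAdjA A U) (adjL A U) G
  have : Mono ((extZeroAdjA A U).unit.app G ≫ (restrA A U).map
      ((Adjunction.leftAdjointUniq (extZeroAdjA A U) (adjL A U)).hom.app G)) := by
    rw [h]; infer_instance
  exact mono_of_mono _ ((restrA A U).map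
      ((Adjunction.leftAdjointUniq (extZeroAdjA A U) (adjL A U)).hom.app G))

instance faithful_extZero : (extZeroA A U).Faithful :=
  (extZeroAdjA A U).faithful_L_of_mono_unit_app

/-- `j_!` reflects exactness. -/
theorem exact_of_exact_map_extZero (S : ShortComplex (SheafOfModules.{u} (A.over U)))
    (h : (S.map (extZeroA A U)).Exact) : S.Exact := by
  have h1 := extZero_preservesFiniteLimits A U
  have h2 : PreservesFiniteColimits (extZeroA A U) := by
    have : PreservesColimitsOfSize.{0, 0} (extZeroA A U) :=
      (extZeroAdjA A U).leftAdjoint_preservesColimits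
    exact PreservesColimitsOfSize.preservesFiniteColimits.{0, 0} _
  have ha : (extZeroA A U).Additive :=
    ModSiteFlatGen.additive_of_preservesFiniteColimits _
  have h3 : (extZeroA A U).PreservesHomology :=
    ((Functor.exact_tfae (extZeroA A U)).out 3 2).1 (And.intro h1 h2)
  exact (ShortComplex.exact_map_iff_of_faithful S (extZeroA A U)).1 h

end Groth.Agent.Lib.Helper13.ModShriekGen
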