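import Mathlib
import Groth.Agent.Lib.Helper13.ModShriekGen

/-!
# Restriction along a monomorphism is surjective on injective sheaves of modules

`genA O U` is the sheafified free presheaf of modules on `yoneda U`; maps out of it are sections
over `U`, naturally in `U`; a monomorphism `U' ⟶ U` induces a monomorphism `genA O U' ⟶ genA O U`.
-/
set_option autoImplicit false
universe u
open CategoryTheory CategoryTheory.Limits Opposite
open Groth.Agent.Lib.Helper13.ModShriekGen

noncomputable section

namespace Groth.Agent.Lib.Helper13.InjRestrSurj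

section Presheaf

variable {C : Type u} [SmallCategory C] {R : Cᵒᵖ ⥤ RingCat.{u}}

lemma freeYonedaEquiv_apply {M : PresheafOfModules.{u} R} {U : C}
    (g : (PresheafOfModules.free R).obj (yoneda.obj U) ⟶ M) :
    PresheafOfModules.freeYonedaEquiv g = g.app (op U) (ModuleCat.freeMk (𝟙 U)) := rfl

lemma freeYonedaEquiv_map {M : PresheafOfModules.{u} R} {U U' : C} (a : U' ⟶ U)
    (g : (PresheafOfModules.free R).obj (yoneda.obj U) ⟶ M) :
    PresheafOfModules.freeYonedaEquiv ((PresheafOfModules.free R).map (yoneda.map a) ≫ g) =
      M.map a.op (PresheafOfModules.freeYonedaEquiv g) := by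
  rw [freeYonedaEquiv_apply, freeYonedaEquiv_apply]
  have h1 := PresheafOfModules.naturality_apply g a.op (ModuleCat.freeMk (𝟙 U))
  rw [← h1]
  change g.app (op U') (((PresheafOfModules.free R).map (yoneda.map a)).app (op U')
    (ModuleCat.freeMk (𝟙 U'))) = _
  congr 1
  have e1 : ((PresheafOfModules.free R).map (yoneda.map a)).app (op U')
      (ModuleCat.freeMk (𝟙 U')) = ModuleCat.freeMk ((yoneda.map a).app (op U') (𝟙 U')) :=
    ModuleCat.free_map_apply _ _
  have e2 : (((PresheafOfModules.free R).obj (yoneda.obj U)).map a.op)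
      (ModuleCat.freeMk (𝟙 U)) = ModuleCat.freeMk ((yoneda.obj U).map a.op (𝟙 U)) :=
    ModuleCat.freeDesc_apply _ _
  rw [e1, e2]
  congr 1
  simp

instance mono_free_map_yoneda {U U' : C} (a : U' ⟶ U) [Mono a] :
    Mono ((PresheafOfModules.free R).map (yoneda.map a)) := by
  apply PresheafOfModules.mono_of_injective
  intro V
  have hinj : Function.Injective ((yoneda.map a).app V) := by
    intro f g h
    exact (cancel_mono a).1 h
  exact Finsupp.mapDomain_injective hinj

end Presheaf

section Sheaf

variable {C : Type u} [SmallCategory C] {J : GrothendieckTopology C} (O : Sheaf J RingCat.{u})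

/-- the free sheaf of modules generated by a section over `U`. -/
abbrev genA (U : C) : SheafOfModules.{u} O :=
  (shfA O).obj ((PresheafOfModules.free O.obj).obj (yoneda.obj U))

/-- functoriality of `genA`. -/
abbrev genMap {U U' : C} (a : U' ⟶ U) : genA O U' ⟶ genA O U :=
  (shfA O).map ((PresheafOfModules.free O.obj).map (yoneda.map a))

instance shfA_preservesFiniteLimits : PreservesFiniteLimits (shfA O) :=
  inferInstanceAs (PreservesFiniteLimits (PresheafOfModules.sheafification.{u} (𝟙 O.obj)))

instance mono_genMap {U U' : C} (a : U' ⟶ U) [Mono a] : Mono (genMap O a) := by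
  have h1 : Mono ((PresheafOfModules.free O.obj).map (yoneda.map a)) := mono_free_map_yoneda a
  have h2 : PreservesFiniteLimits (shfA O) := shfA_preservesFiniteLimits O
  exact Functor.map_mono (shfA O) _

/-- maps out of `genA O U` are sections over `U`. -/
def genHomEquivA (U : C) (M : SheafOfModules.{u} O) :
    (genA O U ⟶ M) ≃ M.val.obj (op U) :=
  ((shfAdjA O).homEquiv _ M).trans PresheafOfModules.freeYonedaEquiv

lemma genHomEquivA_map {U U' : C} (a : U' ⟶ U) (M : SheafOfModules.{u} O)
    (f : genA O U ⟶ M) :
    genHomEquivA O U' M (genMap O a ≫ f) = M.val.map a.op (genHomEquivA O U M f) := by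
  change PresheafOfModules.freeYonedaEquiv ((shfAdjA O).homEquiv _ M (genMap O a ≫ f)) = _
  rw [Adjunction.homEquiv_naturality_left, freeYonedaEquiv_map]
  rfl

theorem restriction_surjective (I : SheafOfModules.{u} O) [Injective I]
    {U U' : C} (a : U' ⟶ U) [Mono a] : Function.Surjective (I.val.map a.op) := by
  intro y
  let g' : genA O U' ⟶ I := (genHomEquivA O U' I).symm y
  let g : genA O U ⟶ I := Injective.factorThru g' (genMap O a)
  refine ⟨genHomEquivA O U I g, ?_⟩
  rw [← genHomEquivA_map]
  have : genMap O a ≫ g = g' := Injective.comp_factorThru g' (genMap O a)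
  rw [this]
  exact (genHomEquivA O U' I).apply_symm_apply y

end Sheaf

end Groth.Agent.Lib.Helper13.InjRestrSurj
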