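import Mathlib
import Groth.Agent.Lib.Helper13.InjRestrSurj

/-!
# Sheaves of modules over a sheaf of rings on a small site form a Grothendieck abelian category

* exact filtered colimits for presheaves of modules (via `toPresheaf`) and sheaves of modules
  (via the reflective sheafification adjunction);
* `genA_isSeparating`: the sheafified free modules on representables separate;
* `isGrothendieckAbelian`, `enoughInjectives`.
-/
set_option autoImplicit false
universe u
open CategoryTheory CategoryTheory.Limits Opposite
open Groth.Agent.Lib.Helper13.ModShriekGen Groth.Agent.Lib.Helper13.InjRestrSurj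

noncomputable section

namespace Groth.Agent.Lib.Helper13.ModGrothendieck

variable {C : Type u} [SmallCategory C]

instance presheaf_reflectsFiniteLimits (R₀ : Cᵒᵖ ⥤ RingCat.{u}) :
    ReflectsFiniteLimits (PresheafOfModules.toPresheaf.{u} R₀) := by
  constructor
  intro K _ _
  exact reflectsLimitsOfShape_of_reflectsIsomorphisms

instance presheaf_hasExactColimitsOfShape (R₀ : Cᵒᵖ ⥤ RingCat.{u}) (K : Type u) [SmallCategory K]
    [IsFiltered K] : HasExactColimitsOfShape K (PresheafOfModules.{u} R₀) :=
  HasExactColimitsOfShape.domain_of_functor K (PresheafOfModules.toPresheaf.{u} R₀)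

variable {J : GrothendieckTopology C} (O : Sheaf J RingCat.{u})

instance fgtA_full : (fgtA O).Full := inferInstance
instance fgtA_faithful : (fgtA O).Faithful := inferInstance

instance sheaf_hasExactColimitsOfShape (K : Type u) [SmallCategory K]
    [IsFiltered K] : HasExactColimitsOfShape K (SheafOfModules.{u} O) :=
  (shfAdjA O).hasExactColimitsOfShape K

lemma genHomEquivA_naturality (U : C) {M N : SheafOfModules.{u} O} (h : genA O U ⟶ M)
    (f : M ⟶ N) :
    genHomEquivA O U N (h ≫ f) = f.val.app (op U) (genHomEquivA O U M h) := by
  change PresheafOfModules.freeYonedaEquiv ((shfAdjA O).homEquiv _ N (h ≫ f)) = _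
  rw [Adjunction.homEquiv_naturality_right, PresheafOfModules.freeYonedaEquiv_comp]
  rfl

theorem genA_isSeparating :
    (ObjectProperty.ofObj fun U : C => genA O U).IsSeparating := by
  intro M N f g h
  have key : ∀ (U : C) (t : M.val.obj (op U)), f.val.app (op U) t = g.val.app (op U) t := by
    intro U t
    have h1 := h (genA O U) ⟨U⟩ ((genHomEquivA O U M).symm t)
    have h2 := congrArg (genHomEquivA O U N) h1
    rw [genHomEquivA_naturality, genHomEquivA_naturality, Equiv.apply_symm_apply] at h2
    exact h2
  apply SheafOfModules.hom_ext
  apply PresheafOfModules.hom_ext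
  intro X
  induction X using Opposite.rec with
  | _ U =>
    ext t
    exact key U t

instance hasSeparator : HasSeparator (SheafOfModules.{u} O) :=
  ⟨∐ (fun U : C => genA O U), (isSeparator_sigma _).2 (genA_isSeparating O)⟩

theorem isGrothendieckAbelian : IsGrothendieckAbelian.{u} (SheafOfModules.{u} O) where
  ab5OfSize := ⟨fun K _ _ => sheaf_hasExactColimitsOfShape O K⟩

theorem enoughInjectives : EnoughInjectives (SheafOfModules.{u} O) := by
  have := isGrothendieckAbelian O
  infer_instance

end Groth.Agent.Lib.Helper13.ModGrothendieck
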