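import Mathlib
import Groth.Prelude.Def_ModSite
import Groth.Agent.Lib.Helper13.ModSiteFlatGen

/-!
# Short exact sequences and flatness for sheaves of modules on a small ringed site

* `SnakeMono.mono_f_of_snake`: a consequence of the snake lemma.
* `tensor_shortExact_of_isFlat`: tensoring a short exact sequence with flat right-hand term
  stays short exact.
* `isFlat_X₁`, `isFlat_X₂`: two-out-of-three for flatness in short exact sequences.
-/

set_option autoImplicit false
universe u
open CategoryTheory CategoryTheory.Limits Opposite MonoidalCategory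
open Groth.Agent.Lib.Helper13 Groth.Agent.Lib.Helper13.ModSiteTensor
open Groth.Agent.Lib.Helper13.ModSiteFlat Groth.Agent.Lib.Helper13.ModSiteFlatGen

namespace Groth.Agent.Lib.Helper13.SnakeMono

variable {C : Type*} [Category C] [Abelian C]

/-- From the snake lemma: in a diagram with exact rows `L₁ → L₂ → L₃` (columns being cokernel
sequences), if the right-hand vertical map of `L₁ ⟶ L₂` is a monomorphism then the bottom left
horizontal map is a monomorphism. -/
theorem mono_f_of_snake {L₁ L₂ L₃ : ShortComplex C} (v₁₂ : L₁ ⟶ L₂) (v₂₃ : L₂ ⟶ L₃)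
    (w : v₁₂ ≫ v₂₃ = 0)
    (h₁ : IsColimit (CokernelCofork.ofπ (f := v₁₂.τ₁) v₂₃.τ₁
      (by rw [← ShortComplex.comp_τ₁, w, ShortComplex.zero_τ₁])))
    (h₂ : IsColimit (CokernelCofork.ofπ (f := v₁₂.τ₂) v₂₃.τ₂
      (by rw [← ShortComplex.comp_τ₂, w, ShortComplex.zero_τ₂])))
    (h₃ : IsColimit (CokernelCofork.ofπ (f := v₁₂.τ₃) v₂₃.τ₃
      (by rw [← ShortComplex.comp_τ₃, w, ShortComplex.zero_τ₃])))
    (hL₁ : L₁.Exact) (hg : Epi L₁.g) (hL₂ : L₂.Exact) (hf : Mono L₂.f) (hv : Mono v₁₂.τ₃) :
    Mono L₃.f := by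
  let S : ShortComplex.SnakeInput C :=
    { L₀ := kernel v₁₂
      L₁ := L₁
      L₂ := L₂
      L₃ := L₃
      v₀₁ := kernel.ι v₁₂
      v₁₂ := v₁₂
      v₂₃ := v₂₃
      w₀₂ := kernel.condition _
      w₁₃ := w
      h₀ := kernelIsKernel v₁₂
      h₃ := by
        apply ShortComplex.isColimitOfIsColimitπ <;>
          apply (CokernelCofork.isColimitMapCoconeEquiv _ _).2
        · exact h₁
        · exact h₂
        · exact h₃
      L₁_exact := hL₁
      epi_L₁_g := hg
      L₂_exact := hL₂
      mono_L₂_f := hf }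
  have hz : S.v₀₁.τ₃ = 0 := by
    have h := S.w₀₂_τ₃
    have : Mono S.v₁₂.τ₃ := hv
    exact (cancel_mono S.v₁₂.τ₃).1 (h.trans zero_comp.symm)
  have hZ : IsZero S.L₀.X₃ := by
    have : Mono S.v₀₁.τ₃ := S.mono_v₀₁_τ₃
    exact IsZero.of_mono_eq_zero _ hz
  have hδ : S.L₂'.f = 0 := hZ.eq_of_src _ _
  exact S.L₂'_exact.mono_g hδ

end Groth.Agent.Lib.Helper13.SnakeMono

namespace Groth.Agent.Lib.Helper13.ModSiteFlatSES

variable {C : Type u} [SmallCategory C] {J : GrothendieckTopology C} {O : Sheaf J CommRingCat.{u}}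

instance additive_flip (G : ModSite.Mod O) : ((ModSite.tensorBi O).flip.obj G).Additive :=
  additive_of_preservesFiniteColimits _

instance additive_obj (G : ModSite.Mod O) : ((ModSite.tensorBi O).obj G).Additive :=
  additive_of_preservesFiniteColimits _

theorem preservesFiniteLimits_obj_of_isFlat {F : ModSite.Mod O} (hF : ModSite.IsFlat F) :
    PreservesFiniteLimits ((ModSite.tensorBi O).obj F) := by
  have := hF.1
  exact preservesFiniteLimits_of_natIso (objIsoFlipObj O F).symm

/-- flatness from preservation of monomorphisms. -/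
theorem isFlat_of_mono (F : ModSite.Mod O)
    (h : ∀ {G' G : ModSite.Mod O} (a : G' ⟶ G), Mono a →
      Mono (((ModSite.tensorBi O).map a).app F)) : ModSite.IsFlat F := by
  rw [isFlat_iff]
  exact preservesFiniteLimits_of_preservesMono _ (fun a ha => h a ha)

theorem mono_map_app_of_isFlat {F : ModSite.Mod O} (hF : ModSite.IsFlat F)
    {G' G : ModSite.Mod O} (a : G' ⟶ G) [Mono a] : Mono (((ModSite.tensorBi O).map a).app F) := by
  have := hF.1
  exact inferInstanceAs (Mono (((ModSite.tensorBi O).flip.obj F).map a))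

theorem mono_obj_map_of_isFlat {F : ModSite.Mod O} (hF : ModSite.IsFlat F)
    {G' G : ModSite.Mod O} (a : G' ⟶ G) [Mono a] : Mono (((ModSite.tensorBi O).obj F).map a) := by
  have := preservesFiniteLimits_obj_of_isFlat hF
  infer_instance

/-- Tensoring (on the right) a short exact sequence whose right-hand term is flat gives a
short exact sequence. -/
theorem tensor_shortExact_of_isFlat (S : ShortComplex (ModSite.Mod O)) (hS : S.ShortExact)
    (hF : ModSite.IsFlat S.X₃) (G : ModSite.Mod O) :
    (S.map ((ModSite.tensorBi O).flip.obj G)).ShortExact := by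
  obtain ⟨L, π, hL, hπ⟩ := exists_epi_of_isFlat O G
  let T := ModSite.tensorBi O
  let i := kernel.ι π
  have hcok := Abelian.epiIsCokernelOfKernel _ (kernelIsKernel π)
  have hr : ∀ (M : ModSite.Mod O),
      (S.map (T.flip.obj M)).Exact ∧ Epi ((T.flip.obj M).map S.g) := fun M =>
    (Functor.preservesFiniteColimits_iff_forall_exact_map_and_epi (T.flip.obj M)).1
      inferInstance S hS
  have hL1 := hL.1
  have hL₂ : (S.map (T.flip.obj L)).ShortExact := hS.map_of_exact (T.flip.obj L)
  have w : S.mapNatTrans (T.flip.map i) ≫ S.mapNatTrans (T.flip.map π) = 0 := by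
    have h0 : T.flip.map i ≫ T.flip.map π = 0 := by
      rw [← Functor.map_comp, kernel.condition, Functor.map_zero]
    apply ShortComplex.hom_ext
    · exact (NatTrans.congr_app h0 S.X₁)
    · exact (NatTrans.congr_app h0 S.X₂)
    · exact (NatTrans.congr_app h0 S.X₃)
  have hm : Mono ((S.map (T.flip.obj G)).f) := by
    refine SnakeMono.mono_f_of_snake (S.mapNatTrans (T.flip.map i)) (S.mapNatTrans (T.flip.map π)) w
      (CokernelCofork.mapIsColimit _ hcok (T.obj S.X₁))
      (CokernelCofork.mapIsColimit _ hcok (T.obj S.X₂))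
      (CokernelCofork.mapIsColimit _ hcok (T.obj S.X₃))
      (hr _).1 (hr _).2 hL₂.exact hL₂.mono_f ?_
    exact mono_obj_map_of_isFlat hF i
  have he : Epi ((S.map (T.flip.obj G)).g) := (hr G).2
  exact ShortComplex.ShortExact.mk' (hr G).1 hm he

/-- Same, for tensoring on the left. -/
theorem tensor_shortExact_of_isFlat' (S : ShortComplex (ModSite.Mod O)) (hS : S.ShortExact)
    (hF : ModSite.IsFlat S.X₃) (G : ModSite.Mod O) :
    (S.map ((ModSite.tensorBi O).obj G)).ShortExact :=
  ShortComplex.shortExact_of_iso (S.mapNatIso (objIsoFlipObj O G).symm)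
    (tensor_shortExact_of_isFlat S hS hF G)

/-- In a short exact sequence with flat middle and right-hand terms, the left-hand term is
flat. -/
theorem isFlat_X₁ (S : ShortComplex (ModSite.Mod O)) (hS : S.ShortExact)
    (h₁ : ModSite.IsFlat S.X₂) (h₀ : ModSite.IsFlat S.X₃) : ModSite.IsFlat S.X₁ := by
  apply isFlat_of_mono
  intro G' G a ha
  have hnat : ((ModSite.tensorBi O).obj G').map S.f ≫ ((ModSite.tensorBi O).map a).app S.X₂ =
      ((ModSite.tensorBi O).map a).app S.X₁ ≫ ((ModSite.tensorBi O).obj G).map S.f :=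
    ((ModSite.tensorBi O).map a).naturality S.f
  have m1 : Mono (((ModSite.tensorBi O).obj G').map S.f) :=
    (tensor_shortExact_of_isFlat' S hS h₀ G').mono_f
  have m2 : Mono (((ModSite.tensorBi O).map a).app S.X₂) := mono_map_app_of_isFlat h₁ a
  have m3 : Mono (((ModSite.tensorBi O).map a).app S.X₁ ≫ ((ModSite.tensorBi O).obj G).map S.f) := by
    rw [← hnat]
    exact mono_comp _ _
  exact mono_of_mono _ (((ModSite.tensorBi O).obj G).map S.f)

/-- In a short exact sequence with flat outer terms, the middle term is flat. -/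
theorem isFlat_X₂ (S : ShortComplex (ModSite.Mod O)) (hS : S.ShortExact)
    (h₂ : ModSite.IsFlat S.X₁) (h₀ : ModSite.IsFlat S.X₃) : ModSite.IsFlat S.X₂ := by
  apply isFlat_of_mono
  intro G' G a ha
  let φ : S.map ((ModSite.tensorBi O).obj G') ⟶ S.map ((ModSite.tensorBi O).obj G) :=
    S.mapNatTrans ((ModSite.tensorBi O).map a)
  have e1 := tensor_shortExact_of_isFlat' S hS h₀ G'
  have e2 := tensor_shortExact_of_isFlat' S hS h₀ G
  have := e1.mono_f
  have := e2.mono_f
  have : Mono φ.τ₁ := mono_map_app_of_isFlat h₂ a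
  have : Mono φ.τ₃ := mono_map_app_of_isFlat h₀ a
  exact ShortComplex.mono_τ₂_of_exact_of_mono φ e1.exact

end Groth.Agent.Lib.Helper13.ModSiteFlatSES
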