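import Mathlib
import Groth.Prelude.Def_ModSite
import Groth.Agent.Lib.Helper13.ModSiteFlatGen

/-!
# The free module `j_{X!} O_X` on an object of a small ringed site

* `secEquiv`: global sections of `M|_X` are `M(X)`.
* `freeOnHomEquiv`: `(freeOn O X ⟶ M) ≃ M(X)`, natural in `M`.
* `genHomEquiv`: `(gen O X ⟶ M) ≃ M(X)`, natural in `M`.
* `isoOfCorepr`: Yoneda for corepresenting objects.
* `freeOnIsoGen : freeOn O X ≅ gen O X`; `isFlat_freeOn`.
* `eq_of_cover`: separatedness of sheaves of modules, elementwise.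
* `freeOn_isSeparating`, `freeOn_isDetecting`.
-/

set_option autoImplicit false
universe u
open CategoryTheory CategoryTheory.Limits Opposite MonoidalCategory
open Groth.Agent.Lib.Helper13 Groth.Agent.Lib.Helper13.ModSiteTensor
open Groth.Agent.Lib.Helper13.ModSiteFlat Groth.Agent.Lib.Helper13.ModSiteFlatGen

namespace Groth.Agent.Lib.Helper13.ModSiteFreeOn

section Yoneda

variable {A : Type*} [Category A] {X Y : A} {F : A → Type*}
  (Fmap : ∀ {M N : A}, (M ⟶ N) → F M → F N)
  (eX : ∀ M, (X ⟶ M) ≃ F M) (eY : ∀ M, (Y ⟶ M) ≃ F M)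
  (hX : ∀ {M N : A} (h : X ⟶ M) (f : M ⟶ N), eX N (h ≫ f) = Fmap f (eX M h))
  (hY : ∀ {M N : A} (h : Y ⟶ M) (f : M ⟶ N), eY N (h ≫ f) = Fmap f (eY M h))

/-- Two objects corepresenting the same functor are isomorphic. -/
def isoOfCorepr : X ≅ Y where
  hom := (eX Y).symm (eY Y (𝟙 Y))
  inv := (eY X).symm (eX X (𝟙 X))
  hom_inv_id := by
    apply (eX X).injective
    rw [hX, Equiv.apply_symm_apply, ← hY, Category.id_comp, Equiv.apply_symm_apply]
  inv_hom_id := by
    apply (eY Y).injective
    rw [hY, Equiv.apply_symm_apply, ← hX, Category.id_comp, Equiv.apply_symm_apply]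

end Yoneda

variable {C : Type u} [SmallCategory C] {J : GrothendieckTopology C} (O : Sheaf J CommRingCat.{u})

/-- Global sections of `M|_X` on `C/X` are the sections of `M` over `X`. -/
noncomputable def secEquiv (X : C) (M : ModSite.Mod O) :
    ((ModSite.restr O X).obj M).sections ≃ M.val.obj (op X) where
  toFun s := s.val (op (Over.mk (𝟙 X)))
  invFun x := PresheafOfModules.sectionsMk (M := ((ModSite.restr O X).obj M).val)
    (fun Y => M.val.map (Y.unop.hom).op x) (by
      intro Y Y' g
      change M.val.map (g.unop.left).op (M.val.map (Y.unop.hom).op x) =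
        M.val.map (Y'.unop.hom).op x
      rw [← PresheafOfModules.map_comp_apply, ← op_comp, Over.w])
  left_inv s := by
    apply PresheafOfModules.sections_ext
    intro Y
    have h := PresheafOfModules.sections_property s
      (X := op (Over.mk (𝟙 X))) (Y := Y) (Over.homMk Y.unop.hom : Y.unop ⟶ Over.mk (𝟙 X)).op
    exact h
  right_inv x := by
    change M.val.map (𝟙 X).op x = x
    rw [op_id, M.val.map_id]
    rfl

/-- `Hom(j_{X!} O_X, M) = M(X)`. -/
noncomputable def freeOnHomEquiv (X : C) (M : ModSite.Mod O) :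
    (ModSite.freeOn O X ⟶ M) ≃ M.val.obj (op X) :=
  ((ModSite.extZeroAdj O X).homEquiv _ M).trans
    (((ModSite.restr O X).obj M).unitHomEquiv.trans (secEquiv O X M))

lemma freeOnHomEquiv_naturality (X : C) {M N : ModSite.Mod O} (h : ModSite.freeOn O X ⟶ M)
    (f : M ⟶ N) :
    freeOnHomEquiv O X N (h ≫ f) = f.val.app (op X) (freeOnHomEquiv O X M h) := by
  simp only [freeOnHomEquiv, Equiv.trans_apply, Adjunction.homEquiv_naturality_right]
  rw [SheafOfModules.unitHomEquiv_comp_apply]
  rfl

/-- `Hom(gen O X, M) = M(X)`. -/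
noncomputable def genHomEquiv (X : C) (M : ModSite.Mod O) :
    (gen O X ⟶ M) ≃ M.val.obj (op X) :=
  ((shfAdj O).homEquiv _ M).trans PresheafOfModules.freeYonedaEquiv

lemma genHomEquiv_naturality (X : C) {M N : ModSite.Mod O} (h : gen O X ⟶ M) (f : M ⟶ N) :
    genHomEquiv O X N (h ≫ f) = f.val.app (op X) (genHomEquiv O X M h) := by
  change PresheafOfModules.freeYonedaEquiv ((shfAdj O).homEquiv _ N (h ≫ f)) = _
  rw [Adjunction.homEquiv_naturality_right, PresheafOfModules.freeYonedaEquiv_comp]
  rfl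

/-- The free module on `X` is the sheafified free presheaf of modules on `yoneda X`. -/
noncomputable def freeOnIsoGen (X : C) : ModSite.freeOn O X ≅ gen O X :=
  isoOfCorepr (F := fun M : ModSite.Mod O => M.val.obj (op X))
    (fun f x => f.val.app (op X) x)
    (freeOnHomEquiv O X) (genHomEquiv O X)
    (fun h f => freeOnHomEquiv_naturality O X h f)
    (fun h f => genHomEquiv_naturality O X h f)

theorem isFlat_freeOn (X : C) : ModSite.IsFlat (ModSite.freeOn O X) :=
  isFlat_of_iso (freeOnIsoGen O X).symm (isFlat_gen O X)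

variable {O}

/-- Sections of a sheaf of modules agreeing on a covering sieve are equal. -/
theorem eq_of_cover (N : ModSite.Mod O) {U : C} (S : Sieve U) (hS : S ∈ J U)
    (x y : N.val.obj (op U))
    (h : ∀ ⦃V : C⦄ (g : V ⟶ U), S g → N.val.map g.op x = N.val.map g.op y) : x = y := by
  have h1 : Presieve.IsSheaf J (N.val.presheaf ⋙ forget AddCommGrpCat) :=
    (isSheaf_iff_isSheaf_of_type _ _).1
      ((Presheaf.isSheaf_iff_isSheaf_forget J N.val.presheaf (forget _)).1 N.isSheaf)
  exact (h1 S hS).isSeparatedFor.ext (fun V g hg => h g hg)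

variable (O)

theorem freeOn_isSeparating (G : Set C)
    (hG : ∀ X : C, ∃ (ι : Type u) (Y : ι → C) (f : ∀ i, Y i ⟶ X),
      Sieve.ofArrows Y f ∈ J X ∧ ∀ i, Y i ∈ G) :
    (ObjectProperty.ofObj fun X : G => ModSite.freeOn O (X : C)).IsSeparating := by
  intro M N f g h
  have key : ∀ (X : C), X ∈ G → ∀ t : M.val.obj (op X),
      f.val.app (op X) t = g.val.app (op X) t := by
    intro X hX t
    have h1 := h _ (ObjectProperty.ofObj_apply _ (⟨X, hX⟩ : G)) ((freeOnHomEquiv O X M).symm t)
    have h2 := congrArg (freeOnHomEquiv O X N) h1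
    rw [freeOnHomEquiv_naturality, freeOnHomEquiv_naturality, Equiv.apply_symm_apply] at h2
    exact h2
  apply SheafOfModules.hom_ext
  apply PresheafOfModules.hom_ext
  intro V
  ext s
  obtain ⟨ι, Y, φ, hcov, hY⟩ := hG V.unop
  refine eq_of_cover N (Sieve.ofArrows Y φ) hcov _ _ ?_
  intro W k hk
  obtain ⟨i, a, rfl⟩ := (Sieve.mem_ofArrows_iff _ _ _).1 hk
  have e1 : N.val.map (a ≫ φ i).op (f.val.app V s) =
      N.val.map a.op (N.val.map (φ i).op (f.val.app V s)) := by
    rw [op_comp]; exact PresheafOfModules.map_comp_apply _ _ _ _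
  have e2 : N.val.map (a ≫ φ i).op (g.val.app V s) =
      N.val.map a.op (N.val.map (φ i).op (g.val.app V s)) := by
    rw [op_comp]; exact PresheafOfModules.map_comp_apply _ _ _ _
  rw [e1, e2]
  congr 1
  have n1 := PresheafOfModules.naturality_apply f.val (φ i).op s
  have n2 := PresheafOfModules.naturality_apply g.val (φ i).op s
  rw [← n1, ← n2]
  exact key (Y i) (hY i) _

theorem freeOn_isDetecting (G : Set C)
    (hG : ∀ X : C, ∃ (ι : Type u) (Y : ι → C) (f : ∀ i, Y i ⟶ X),
      Sieve.ofArrows Y f ∈ J X ∧ ∀ i, Y i ∈ G) :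
    (ObjectProperty.ofObj fun X : G => ModSite.freeOn O (X : C)).IsDetecting :=
  (freeOn_isSeparating O G hG).isDetecting

end Groth.Agent.Lib.Helper13.ModSiteFreeOn
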