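import Mathlib
import Groth.Prelude.Def_ModSite
import Groth.Agent.Lib.Helper13.OverShriek
import Groth.Agent.Lib.Helper13.ModSiteFreeOn

/-!
# Extension by zero `j_{U!}` of sheaves of modules on a small ringed site

* `extZeroIso`: `j_! ≅ forget ⋙ (presheaf pullback) ⋙ sheafify`.
* `extZero_preservesFiniteLimits`: `j_!` is exact.
* `adjL`: the explicit adjunction `forget ⋙ shriek ⋙ sheafify ⊣ restr`, `fgtU_map_unit`.
* `mono_extZeroAdj_unit`, `faithful_extZero`, `exact_of_exact_map_extZero`.
-/

set_option autoImplicit false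
universe u
open CategoryTheory CategoryTheory.Limits Opposite
open Groth.Agent.Lib.Helper13 Groth.Agent.Lib.Helper13.ModSiteTensor

namespace Groth.Agent.Lib.Helper13.ModSiteExtZero

variable {C : Type u} [SmallCategory C] {J : GrothendieckTopology C} (O : Sheaf J CommRingCat.{u})
  (U : C)

/-- the identity morphism of sheaves of rings defining `restr` and `extZero`. -/
abbrev idOver : (ModSite.ringSh O).over U ⟶
    ((Over.forget U).sheafPushforwardContinuous RingCat.{u} (J.over U) J).obj (ModSite.ringSh O) :=
  𝟙 ((ModSite.ringSh O).over U)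

instance isRightAdjoint_pushforward_idOver :
    (PresheafOfModules.pushforward.{u} (idOver O U).hom).IsRightAdjoint :=
  inferInstanceAs (PresheafOfModules.pushforward.{u} (F := Over.forget U)
    (R := (ModSite.ringSh O).obj) (S := OverShriek.SR U (ModSite.ringSh O).obj) (𝟙 _)).IsRightAdjoint

/-- `j_! ≅ a ∘ j_!^{pre} ∘ forget`. -/
noncomputable def extZeroIso : ModSite.extZero O U ≅
    SheafOfModules.forget.{u} ((ModSite.ringSh O).over U) ⋙
      PresheafOfModules.pullback.{u} (idOver O U).hom ⋙ ModSite.sheafify O :=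
  SheafOfModules.pullbackIso.{u} (idOver O U)

/-- Extension by zero of sheaves of modules is exact. -/
theorem extZero_preservesFiniteLimits : PreservesFiniteLimits (ModSite.extZero O U) := by
  have h1 : PreservesFiniteLimits
      (PresheafOfModules.pullback.{u} (idOver O U).hom) :=
    OverShriek.pullback_preservesFiniteLimits U (ModSite.ringSh O).obj
  have h2 : PreservesFiniteLimits (ModSite.sheafify O) :=
    inferInstanceAs (PreservesFiniteLimits
      (PresheafOfModules.sheafification.{u} (𝟙 (ModSite.ringSh O).obj)))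
  have h3 : PreservesFiniteLimits (SheafOfModules.forget.{u} ((ModSite.ringSh O).over U)) :=
    inferInstance
  have h4 : PreservesFiniteLimits
      (PresheafOfModules.pullback.{u} (idOver O U).hom ⋙ ModSite.sheafify O) :=
    comp_preservesFiniteLimits _ _
  have h5 : PreservesFiniteLimits (SheafOfModules.forget.{u} ((ModSite.ringSh O).over U) ⋙
      PresheafOfModules.pullback.{u} (idOver O U).hom ⋙ ModSite.sheafify O) :=
    comp_preservesFiniteLimits _ _
  exact @preservesFiniteLimits_of_natIso _ _ _ _ _ _ (extZeroIso O U).symm h5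

end Groth.Agent.Lib.Helper13.ModSiteExtZero

namespace Groth.Agent.Lib.Helper13.ModSiteExtZero

variable {C : Type u} [SmallCategory C] {J : GrothendieckTopology C} (O : Sheaf J CommRingCat.{u})
  (U : C)

/-- forgetful functor from sheaves of modules on `C/U` to presheaves of modules. -/
noncomputable abbrev fgtU : ModSite.Mod (O.over U) ⥤
    PresheafOfModules.{u} (OverShriek.SR U (ModSite.ringSh O).obj) :=
  SheafOfModules.forget.{u} ((ModSite.ringSh O).over U)

/-- `(M ↦ M|_U)` on presheaves, after forgetting, is forgetting after restricting. -/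
noncomputable def comm2 : 𝟭 (ModSite.Mod O) ⋙ (fgt O ⋙ OverShriek.restrP U (ModSite.ringSh O).obj) ≅
    ModSite.restr O U ⋙ fgtU O U :=
  NatIso.ofComponents (fun M => Iso.refl _)

/-- The explicit left adjoint of restriction. -/
noncomputable abbrev shriekL : ModSite.Mod (O.over U) ⥤ ModSite.Mod O :=
  fgtU O U ⋙ OverShriek.shriekFunctor U (ModSite.ringSh O).obj ⋙ shf O

noncomputable def adjL : shriekL O U ⊣ ModSite.restr O U :=
  ((OverShriek.shriekAdj U (ModSite.ringSh O).obj).comp (shfAdj O)).restrictFullyFaithful
    (iC := fgtU O U) (iD := 𝟭 _)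
    (SheafOfModules.fullyFaithfulForget _) (Functor.FullyFaithful.id _)
    (Functor.rightUnitor _).symm (comm2 O U)

end Groth.Agent.Lib.Helper13.ModSiteExtZero

namespace Groth.Agent.Lib.Helper13.ModSiteExtZero

variable {C : Type u} [SmallCategory C] {J : GrothendieckTopology C} (O : Sheaf J CommRingCat.{u})
  (U : C)

lemma fgtU_map_unit (G : ModSite.Mod (O.over U)) :
    (fgtU O U).map ((adjL O U).unit.app G) =
      OverShriek.restrHom ((shfAdj O).unit.app (OverShriek.shriek ((fgtU O U).obj G))) := by
  have h := Adjunction.map_restrictFullyFaithful_unit_app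
    ((OverShriek.shriekAdj U (ModSite.ringSh O).obj).comp (shfAdj O))
    (iC := fgtU O U) (iD := 𝟭 _)
    (SheafOfModules.fullyFaithfulForget _) (Functor.FullyFaithful.id _)
    (Functor.rightUnitor _).symm (comm2 O U) G
  delta adjL
  refine h.trans ?_
  apply PresheafOfModules.hom_ext
  intro Y
  ext x
  rfl

end Groth.Agent.Lib.Helper13.ModSiteExtZero

namespace Groth.Agent.Lib.Helper13.ModSiteExtZero

open Groth.Agent.Lib.Helper13.ModSiteFreeOn

variable {C : Type u} [SmallCategory C] {J : GrothendieckTopology C} (O : Sheaf J CommRingCat.{u})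
  (U : C)

/-- Claim A: `x ↦ η (inj x)` is injective when `G` is a sheaf. -/
lemma unit_inj_eq_zero (G : ModSite.Mod (O.over U)) (Y : Over U) (x : G.val.obj (op Y))
    (hx : ((shfAdj O).unit.app (OverShriek.shriek ((fgtU O U).obj G))).app (op Y.left)
      (OverShriek.inj ((fgtU O U).obj G) Y x) = 0) : x = 0 := by
  obtain ⟨S, hS, h⟩ := TensorLocal.locInj_unit (𝟙 (ModSite.ringSh O).obj)
    (OverShriek.shriek ((fgtU O U).obj G)) Y.left _ hx
  have key : ∀ ⦃V : C⦄ (g : V ⟶ Y.left), S g → ∀ (ψ : V ⟶ U) (hψ : g ≫ Y.hom = ψ),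
      G.val.map (Over.homMk g hψ : Over.mk ψ ⟶ Y).op x = 0 := by
    intro V g hg ψ hψ
    subst hψ
    have h1 := h g hg
    have h2 : OverShriek.totMap ((fgtU O U).obj G) g (OverShriek.inj ((fgtU O U).obj G) Y x) = 0 := h1
    have h3 := (OverShriek.totMap_inj ((fgtU O U).obj G)
      (Over.homMk g rfl : Over.mk (g ≫ Y.hom) ⟶ Y) x).symm.trans h2
    exact OverShriek.inj_injective _ _ (h3.trans (map_zero _).symm)
  refine eq_of_cover (O := O.over U) G ((Sieve.overEquiv Y).symm S)
    (J.overEquiv_symm_mem_over Y S hS) x 0 ?_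
  intro Y' a ha
  rw [Sieve.overEquiv_symm_iff] at ha
  have h4 := key a.left ha Y'.hom (Over.w a)
  have e : (Over.homMk a.left (Over.w a) : Over.mk Y'.hom ⟶ Y) = a := by
    ext; rfl
  rw [e] at h4
  exact h4.trans (map_zero (G.val.map a.op).hom).symm

end Groth.Agent.Lib.Helper13.ModSiteExtZero

namespace Groth.Agent.Lib.Helper13.ModSiteExtZero

variable {C : Type u} [SmallCategory C] {J : GrothendieckTopology C} (O : Sheaf J CommRingCat.{u})
  (U : C)

instance mono_adjL_unit (G : ModSite.Mod (O.over U)) : Mono ((adjL O U).unit.app G) := by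
  have : Mono ((fgtU O U).map ((adjL O U).unit.app G)) := by
    rw [fgtU_map_unit]
    apply PresheafOfModules.mono_of_injective
    intro Y
    rw [injective_iff_map_eq_zero]
    intro x hx
    exact unit_inj_eq_zero O U G Y.unop x hx
  have hf : (fgtU O U).Faithful := (SheafOfModules.fullyFaithfulForget _).faithful
  exact (fgtU O U).mono_of_mono_map this

instance mono_extZeroAdj_unit (G : ModSite.Mod (O.over U)) :
    Mono ((ModSite.extZeroAdj O U).unit.app G) := by
  have h := Adjunction.unit_leftAdjointUniq_hom_app (ModSite.extZeroAdj O U) (adjL O U) G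
  have : Mono ((ModSite.extZeroAdj O U).unit.app G ≫ (ModSite.restr O U).map
      ((Adjunction.leftAdjointUniq (ModSite.extZeroAdj O U) (adjL O U)).hom.app G)) := by
    rw [h]; infer_instance
  exact mono_of_mono _ ((ModSite.restr O U).map
      ((Adjunction.leftAdjointUniq (ModSite.extZeroAdj O U) (adjL O U)).hom.app G))

instance faithful_extZero : (ModSite.extZero O U).Faithful :=
  (ModSite.extZeroAdj O U).faithful_L_of_mono_unit_app

/-- `j_!` reflects exactness. -/
theorem exact_of_exact_map_extZero (S : ShortComplex (ModSite.Mod (O.over U)))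
    (h : (S.map (ModSite.extZero O U)).Exact) : S.Exact := by
  have h1 := extZero_preservesFiniteLimits O U
  have h2 : PreservesFiniteColimits (ModSite.extZero O U) := by
    have : PreservesColimitsOfSize.{0, 0} (ModSite.extZero O U) :=
      (ModSite.extZeroAdj O U).leftAdjoint_preservesColimits
    exact PreservesColimitsOfSize.preservesFiniteColimits.{0, 0} _
  have ha : (ModSite.extZero O U).Additive :=
    ModSiteFlatGen.additive_of_preservesFiniteColimits _
  have h3 : (ModSite.extZero O U).PreservesHomology :=
    ((Functor.exact_tfae (ModSite.extZero O U)).out 3 2).1 (And.intro h1 h2)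
  exact (ShortComplex.exact_map_iff_of_faithful S (ModSite.extZero O U)).1 h

end Groth.Agent.Lib.Helper13.ModSiteExtZero
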