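import Mathlib
import Groth.Prelude.Def_ModSite
import Groth.Agent.Lib.Helper13.ModSiteExtZero

/-!
# Restriction to `C/U` of sheaves of modules, sheafification and tensor products

* `restrPM O U`: restriction of presheaves of modules.
* `restrTensorIso`: `(P ⊗ Q)|_U ≅ P|_U ⊗ Q|_U` for presheaves; natural.
* `locSurj_restrPM`, `locInj_restrPM`.
* `fgtRestrIso`, `restrShfIso`: sheafification commutes with restriction.
* `restrTensorApp`: `(M ⊗ N)|_U ≅ M|_U ⊗ N|_U` for sheaves; natural.
-/

set_option autoImplicit false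
universe u
open CategoryTheory CategoryTheory.Limits Opposite MonoidalCategory TensorProduct
open Groth.Agent.Lib.Helper13 Groth.Agent.Lib.Helper13.ModSiteTensor
open Groth.Agent.Lib.Helper13.TensorLocal

namespace Groth.Agent.Lib.Helper13.ModSiteRestr

variable {C : Type u} [SmallCategory C] {J : GrothendieckTopology C} (O : Sheaf J CommRingCat.{u})
  (U : C)

/-- restriction of presheaves of modules to `C/U`, typed for the tensor structure. -/
noncomputable abbrev restrPM : PMod O ⥤ PMod (O.over U) :=
  OverShriek.restrP U (ModSite.ringSh O).obj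

/-- restriction commutes with the tensor product of presheaves of modules. -/
noncomputable def restrTensorIso (P Q : PMod O) :
    (restrPM O U).obj (P ⊗ Q) ≅ (restrPM O U).obj P ⊗ (restrPM O U).obj Q :=
  PresheafOfModules.isoMk (fun Y => Iso.refl _) (by
    intro Y Y' a
    apply ModuleCat.hom_ext
    apply LinearMap.ext
    intro t
    change ↑(P.obj (op Y.unop.left)) ⊗[O.obj.obj (op Y.unop.left)] ↑(Q.obj (op Y.unop.left)) at t
    induction t using TensorProduct.induction_on with
    | zero => exact (map_zero _).trans (map_zero _).symm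
    | tmul p q => rfl
    | add x y hx hy =>
      exact (map_add _ x y).trans ((congrArg₂ (· + ·) hx hy).trans (map_add _ x y).symm))

lemma restrTensorIso_naturality {P P' Q Q' : PMod O} (f : P ⟶ P') (g : Q ⟶ Q') :
    (restrPM O U).map (f ⊗ₘ g) ≫ (restrTensorIso O U P' Q').hom =
      (restrTensorIso O U P Q).hom ≫ ((restrPM O U).map f ⊗ₘ (restrPM O U).map g) := by
  apply PresheafOfModules.hom_ext
  intro Y
  apply ModuleCat.hom_ext
  apply LinearMap.ext
  intro t
  change ↑(P.obj (op Y.unop.left)) ⊗[O.obj.obj (op Y.unop.left)] ↑(Q.obj (op Y.unop.left)) at t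
  induction t using TensorProduct.induction_on with
  | zero => exact (map_zero _).trans (map_zero _).symm
  | tmul p q => rfl
  | add x y hx hy =>
    exact (map_add _ x y).trans ((congrArg₂ (· + ·) hx hy).trans (map_add _ x y).symm)

variable {O}

lemma locSurj_restrPM {P P' : PMod O} (f : P ⟶ P') (hf : LocSurj J f) :
    LocSurj (J.over U) ((restrPM O U).map f) := by
  intro Y s
  obtain ⟨S, hS, h⟩ := hf Y.left s
  refine ⟨(Sieve.overEquiv Y).symm S, J.overEquiv_symm_mem_over Y S hS, ?_⟩
  intro Y' a ha
  rw [Sieve.overEquiv_symm_iff] at ha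
  obtain ⟨t, ht⟩ := h a.left ha
  exact ⟨t, ht⟩

lemma locInj_restrPM {P P' : PMod O} (f : P ⟶ P') (hf : LocInj J f) :
    LocInj (J.over U) ((restrPM O U).map f) := by
  intro Y s hs
  obtain ⟨S, hS, h⟩ := hf Y.left s hs
  refine ⟨(Sieve.overEquiv Y).symm S, J.overEquiv_symm_mem_over Y S hS, ?_⟩
  intro Y' a ha
  rw [Sieve.overEquiv_symm_iff] at ha
  exact h a.left ha

variable (O)

/-- `(M|_U)` as a presheaf is the restriction of the presheaf `M`. -/
noncomputable def fgtRestrIso : ModSite.restr O U ⋙ fgt (O.over U) ≅ fgt O ⋙ restrPM O U :=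
  NatIso.ofComponents (fun M => Iso.refl _)

theorem isIso_shf_restrPM_unit (P : PMod O) :
    IsIso ((shf (O.over U)).map ((restrPM O U).map ((shfAdj O).unit.app P))) :=
  isIso_sheafification_map (𝟙 (ModSite.ringSh (O.over U)).obj) _
    (locSurj_restrPM U _ (locSurj_unit (𝟙 (ModSite.ringSh O).obj) P))
    (locInj_restrPM U _ (locInj_unit (𝟙 (ModSite.ringSh O).obj) P))

theorem isIso_counit_app (N : ModSite.Mod O) : IsIso ((shfAdj O).counit.app N) := by
  have hc : IsIso (shfAdj O).counit :=
    inferInstanceAs (IsIso (PresheafOfModules.sheafificationAdjunction.{u}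
      (𝟙 (ModSite.ringSh O).obj)).counit)
  infer_instance

/-- `a_U(P|_U) ≅ (aP)|_U`. -/
noncomputable def restrShfApp (P : PMod O) :
    (shf (O.over U)).obj ((restrPM O U).obj P) ≅ (ModSite.restr O U).obj ((shf O).obj P) :=
  @asIso _ _ _ _ ((shf (O.over U)).map ((restrPM O U).map ((shfAdj O).unit.app P)))
      (isIso_shf_restrPM_unit O U P) ≪≫
    (shf (O.over U)).mapIso ((fgtRestrIso O U).symm.app ((shf O).obj P)) ≪≫
    @asIso _ _ _ _ ((shfAdj (O.over U)).counit.app ((ModSite.restr O U).obj ((shf O).obj P)))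
      (isIso_counit_app (O.over U) _)

lemma restrShfApp_naturality {P P' : PMod O} (f : P ⟶ P') :
    (shf (O.over U)).map ((restrPM O U).map f) ≫ (restrShfApp O U P').hom =
      (restrShfApp O U P).hom ≫ (ModSite.restr O U).map ((shf O).map f) := by
  simp only [restrShfApp, Iso.trans_hom, asIso_hom, Functor.mapIso_hom, Iso.app_hom,
    Category.assoc]
  have h1 : (restrPM O U).map f ≫ (restrPM O U).map ((shfAdj O).unit.app P') =
      (restrPM O U).map ((shfAdj O).unit.app P) ≫
        (restrPM O U).map ((fgt O).map ((shf O).map f)) := by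
    rw [← Functor.map_comp, ← Functor.map_comp]
    congr 1
    exact (shfAdj O).unit.naturality f
  have h2 : (restrPM O U).map ((fgt O).map ((shf O).map f)) ≫
      (fgtRestrIso O U).symm.hom.app ((shf O).obj P') =
      (fgtRestrIso O U).symm.hom.app ((shf O).obj P) ≫
        (fgt (O.over U)).map ((ModSite.restr O U).map ((shf O).map f)) :=
    (fgtRestrIso O U).symm.hom.naturality ((shf O).map f)
  have h3 := (shfAdj (O.over U)).counit.naturality ((ModSite.restr O U).map ((shf O).map f))
  rw [← Functor.map_comp_assoc, h1, Functor.map_comp_assoc, ← Functor.map_comp_assoc _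
    ((restrPM O U).map ((fgt O).map ((shf O).map f))), h2, Functor.map_comp_assoc]
  congr 2

/-- Sheafification commutes with restriction to `C/U`. -/
noncomputable def restrShfIso :
    restrPM O U ⋙ shf (O.over U) ≅ shf O ⋙ ModSite.restr O U :=
  NatIso.ofComponents (fun P => restrShfApp O U P) (fun f => restrShfApp_naturality O U f)

/-- Restriction to `C/U` commutes with the tensor product of sheaves of modules. -/
noncomputable def restrTensorApp (M N : ModSite.Mod O) :
    (ModSite.restr O U).obj ((shf O).obj ((fgt O).obj M ⊗ (fgt O).obj N)) ≅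
      (shf (O.over U)).obj ((fgt (O.over U)).obj ((ModSite.restr O U).obj M) ⊗
        (fgt (O.over U)).obj ((ModSite.restr O U).obj N)) :=
  (restrShfApp O U ((fgt O).obj M ⊗ (fgt O).obj N)).symm ≪≫
    (shf (O.over U)).mapIso (restrTensorIso O U ((fgt O).obj M) ((fgt O).obj N)) ≪≫
    (shf (O.over U)).mapIso
      (((fgtRestrIso O U).symm.app M) ⊗ᵢ ((fgtRestrIso O U).symm.app N))

lemma restrTensorApp_naturality {M M' N N' : ModSite.Mod O} (f : M ⟶ M') (g : N ⟶ N') :
    (ModSite.restr O U).map ((shf O).map ((fgt O).map f ⊗ₘ (fgt O).map g)) ≫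
        (restrTensorApp O U M' N').hom =
      (restrTensorApp O U M N).hom ≫
        (shf (O.over U)).map ((fgt (O.over U)).map ((ModSite.restr O U).map f) ⊗ₘ
          (fgt (O.over U)).map ((ModSite.restr O U).map g)) := by
  have h1 := restrShfApp_naturality O U ((fgt O).map f ⊗ₘ (fgt O).map g)
  have h1' : (ModSite.restr O U).map ((shf O).map ((fgt O).map f ⊗ₘ (fgt O).map g)) ≫
      (restrShfApp O U ((fgt O).obj M' ⊗ (fgt O).obj N')).inv =
      (restrShfApp O U ((fgt O).obj M ⊗ (fgt O).obj N)).inv ≫
        (shf (O.over U)).map ((restrPM O U).map ((fgt O).map f ⊗ₘ (fgt O).map g)) := by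
    rw [Iso.comp_inv_eq, Category.assoc, h1, Iso.inv_hom_id_assoc]
  have h2 := restrTensorIso_naturality O U ((fgt O).map f) ((fgt O).map g)
  have h3 : ((restrPM O U).map ((fgt O).map f) ⊗ₘ (restrPM O U).map ((fgt O).map g)) ≫
      (((fgtRestrIso O U).symm.app M') ⊗ᵢ ((fgtRestrIso O U).symm.app N')).hom =
      (((fgtRestrIso O U).symm.app M) ⊗ᵢ ((fgtRestrIso O U).symm.app N)).hom ≫
        ((fgt (O.over U)).map ((ModSite.restr O U).map f) ⊗ₘ
          (fgt (O.over U)).map ((ModSite.restr O U).map g)) := by
    simp only [tensorIso_hom, Iso.app_hom, tensorHom_comp_tensorHom]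
    congr 1
  simp only [restrTensorApp, Iso.trans_hom, Iso.symm_hom, Functor.mapIso_hom, Category.assoc]
  rw [← Category.assoc, h1', Category.assoc]
  congr 1
  rw [← Category.assoc, ← Functor.map_comp, h2, Functor.map_comp, Category.assoc]
  congr 1
  rw [← Functor.map_comp, h3, Functor.map_comp]

end Groth.Agent.Lib.Helper13.ModSiteRestr
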