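import Mathlib
import Groth.Prelude.Def_ModSite
import Groth.Agent.Lib.Helper13.ModSiteRestr
import Groth.Agent.Lib.Helper13.ModSiteFlatSES

/-!
# The projection formula for extension by zero of sheaves of modules on a small ringed site

* `projHom`: the presheaf-level projection morphism `j_!(A ⊗ B|_U) ⟶ j_! A ⊗ B`; it is an
  isomorphism (`isIso_projHom`), natural in both variables.
* `shfExtZeroIso`: sheafification commutes with `j_!`.
* `projIsoRight`, `projIsoLeft`: the projection formula for sheaves, natural in either variable.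
* `isFlat_extZero`, `isFlat_restr`: `j_!` and `j^*` preserve flatness.
-/

set_option autoImplicit false
universe u
open CategoryTheory CategoryTheory.Limits Opposite MonoidalCategory DirectSum
open Groth.Agent.Lib.Helper13 Groth.Agent.Lib.Helper13.ModSiteTensor
open Groth.Agent.Lib.Helper13.TensorLocal Groth.Agent.Lib.Helper13.ModSiteRestr

noncomputable section
open Classical

namespace Groth.Agent.Lib.Helper13.ModSiteProj

section General

variable {C : Type u} [SmallCategory C] {X : C} {R : Cᵒᵖ ⥤ RingCat.{u}}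

open OverShriek in
lemma shriek_hom_ext {P : PresheafOfModules.{u} (SR X R)} {N : PresheafOfModules.{u} R}
    (f g : shriek P ⟶ N)
    (h : ∀ (Y : Over X) (x : P.obj (op Y)),
      f.app (op Y.left) (inj P Y x) = g.app (op Y.left) (inj P Y x)) : f = g := by
  apply (homEquiv P N).injective
  apply PresheafOfModules.hom_ext
  intro Y
  ext x
  exact h Y.unop x

lemma isIso_of_bijective {R : Cᵒᵖ ⥤ RingCat.{u}} {M N : PresheafOfModules.{u} R} (f : M ⟶ N)
    (h : ∀ W, Function.Bijective (f.app W)) : IsIso f := by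
  have : IsIso ((PresheafOfModules.toPresheaf R).map f) := by
    rw [NatTrans.isIso_iff_isIso_app]
    intro W
    exact (ConcreteCategory.isIso_iff_bijective _).2 (h W)
  exact isIso_of_reflects_iso f (PresheafOfModules.toPresheaf R)

open TensorProduct in
lemma bijective_of_generators {R : Type u} [CommRing R] {ι : Type u} [DecidableEq ι]
    (M : ι → Type u) [∀ i, AddCommGroup (M i)] [∀ i, Module R (M i)]
    (N : Type u) [AddCommGroup N] [Module R N]
    (g : (⨁ i, M i ⊗[R] N) →+ (⨁ i, M i) ⊗[R] N)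
    (hg : ∀ (i : ι) (m : M i) (n : N),
      g (DirectSum.of (fun i => M i ⊗[R] N) i (m ⊗ₜ[R] n)) = (DirectSum.of M i m) ⊗ₜ[R] n) :
    Function.Bijective g := by
  have h : ∀ t, g t = (TensorProduct.directSumLeft R R M N).symm t := by
    intro t
    induction t using DirectSum.induction_on with
    | zero => rw [map_zero, map_zero]
    | of i x =>
      induction x using TensorProduct.induction_on with
      | zero => rw [map_zero, map_zero, map_zero]
      | tmul m n =>
        rw [hg]
        exact (TensorProduct.directSumLeft_symm_lof_tmul R R i m n).symm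
      | add x y hx hy => rw [map_add, map_add, map_add, hx, hy]
    | add x y hx hy => rw [map_add, map_add, hx, hy]
  have h' : (g : _ → _) = (TensorProduct.directSumLeft R R M N).symm := funext h
  rw [h']
  exact (TensorProduct.directSumLeft R R M N).symm.bijective

lemma tensor_addHom_ext {R : Type u} [CommRing R] {M N : Type u} [AddCommGroup M]
    [AddCommGroup N] [Module R M] [Module R N] {P : Type u} [AddCommGroup P]
    (F G : TensorProduct R M N →+ P) (h : ∀ m n, F (m ⊗ₜ[R] n) = G (m ⊗ₜ[R] n)) : F = G := by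
  apply AddMonoidHom.ext
  intro t
  induction t using TensorProduct.induction_on with
  | zero => rw [map_zero, map_zero]
  | tmul m n => exact h m n
  | add x y hx hy => rw [map_add, map_add, hx, hy]

end General

variable {C : Type u} [SmallCategory C] {J : GrothendieckTopology C} (O : Sheaf J CommRingCat.{u})
  (U : C)

/-- presheaf-level extension by zero, typed for the tensor structure. -/
abbrev shriekPM : PMod (O.over U) ⥤ PMod O :=
  OverShriek.shriekFunctor U (ModSite.ringSh O).obj

/-- the unit `A ⟶ (j_! A)|_U` at presheaf level. -/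
def unitPM (A : PMod (O.over U)) : A ⟶ (restrPM O U).obj ((shriekPM O U).obj A) :=
  OverShriek.restrHom (𝟙 (OverShriek.shriek (R := (ModSite.ringSh O).obj) A))

variable (A : PMod (O.over U)) (B : PMod O)

/-- adjoint of the projection formula morphism. -/
def projPre : (A ⊗ (restrPM O U).obj B : PMod (O.over U)) ⟶
    (restrPM O U).obj ((shriekPM O U).obj A ⊗ B : PMod O) :=
  (unitPM O U A ⊗ₘ 𝟙 ((restrPM O U).obj B)) ≫ (restrTensorIso O U ((shriekPM O U).obj A) B).inv

/-- the projection formula morphism at presheaf level. -/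
def projHom : (shriekPM O U).obj (A ⊗ (restrPM O U).obj B : PMod (O.over U)) ⟶
    ((shriekPM O U).obj A ⊗ B : PMod O) :=
  OverShriek.descHom (projPre O U A B)

lemma projHom_app_inj_tmul (Y : Over U) (a : A.obj (op Y))
    (b : ((restrPM O U).obj B).obj (op Y)) :
    (projHom O U A B).app (op Y.left)
      (OverShriek.inj (X := U) (R := (ModSite.ringSh O).obj)
        (A ⊗ (restrPM O U).obj B : PMod (O.over U)) Y
        (a ⊗ₜ[(O.over U).obj.obj (op Y)] b)) =
      ((OverShriek.inj (X := U) (R := (ModSite.ringSh O).obj) A Y a :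
          ((shriekPM O U).obj A).obj (op Y.left)) ⊗ₜ[O.obj.obj (op Y.left)]
        (show B.obj (op Y.left) from b)) := by
  refine (OverShriek.desc_inj (X := U) (R := (ModSite.ringSh O).obj) (projPre O U A B) Y _).trans ?_
  rfl

lemma projHom_bijective (V : C) : Function.Bijective ((projHom O U A B).app (op V)) := by
  let inst1 : ∀ φ : V ⟶ U, Module (O.obj.obj (op V))
      (OverShriek.cmp (X := U) (R := (ModSite.ringSh O).obj) A φ) :=
    fun φ => (A.obj (op (Over.mk φ))).isModule
  let g : (⨁ (i : V ⟶ U), TensorProduct ↑(O.obj.obj (op V))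
        ↑(OverShriek.cmp (X := U) (R := (ModSite.ringSh O).obj) A i) ↑(B.obj (op V))) →+
      TensorProduct (↑(O.obj.obj (op V)))
        (⨁ (i : V ⟶ U), ↑(OverShriek.cmp (X := U) (R := (ModSite.ringSh O).obj) A i))
        ↑(B.obj (op V)) :=
    ((projHom O U A B).app (op V)).hom.toAddMonoidHom
  exact bijective_of_generators (R := O.obj.obj (op V))
    (M := fun φ : V ⟶ U => OverShriek.cmp (X := U) (R := (ModSite.ringSh O).obj) A φ)
    (N := B.obj (op V)) g
    (fun φ a b => projHom_app_inj_tmul O U A B (Over.mk φ) a b)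

instance isIso_projHom : IsIso (projHom O U A B) :=
  isIso_of_bijective _ (fun W => projHom_bijective O U A B W.unop)

lemma shriek_tensor_hom_ext {N : PMod O} (A B' : PMod (O.over U))
    (f g : (shriekPM O U).obj (A ⊗ B' : PMod (O.over U)) ⟶ N)
    (h : ∀ (Y : Over U) (a : A.obj (op Y)) (b : B'.obj (op Y)),
      f.app (op Y.left) (OverShriek.inj (X := U) (R := (ModSite.ringSh O).obj)
        (A ⊗ B' : PMod (O.over U)) Y (a ⊗ₜ[(O.over U).obj.obj (op Y)] b)) =
      g.app (op Y.left) (OverShriek.inj (X := U) (R := (ModSite.ringSh O).obj)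
        (A ⊗ B' : PMod (O.over U)) Y (a ⊗ₜ[(O.over U).obj.obj (op Y)] b))) : f = g := by
  apply shriek_hom_ext
  intro Y
  let F : TensorProduct ((O.over U).obj.obj (op Y)) (A.obj (op Y)) (B'.obj (op Y)) →+
      N.obj (op Y.left) :=
    (f.app (op Y.left)).hom.toAddMonoidHom.comp
      (OverShriek.inj (X := U) (R := (ModSite.ringSh O).obj) (A ⊗ B' : PMod (O.over U)) Y)
  let G : TensorProduct ((O.over U).obj.obj (op Y)) (A.obj (op Y)) (B'.obj (op Y)) →+
      N.obj (op Y.left) :=
    (g.app (op Y.left)).hom.toAddMonoidHom.comp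
      (OverShriek.inj (X := U) (R := (ModSite.ringSh O).obj) (A ⊗ B' : PMod (O.over U)) Y)
  have key : F = G := tensor_addHom_ext F G (h Y)
  intro x
  exact DFunLike.congr_fun key x

variable {B} in
lemma projHom_naturality_right {B' : PMod O} (g : B ⟶ B') :
    (shriekPM O U).map (A ◁ (restrPM O U).map g) ≫ projHom O U A B' =
      projHom O U A B ≫ ((shriekPM O U).obj A ◁ g) := by
  apply shriek_tensor_hom_ext
  intro Y a b
  have h1 := OverShriek.shriekFunctor_map_app_inj (X := U) (R := (ModSite.ringSh O).obj)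
    (A ◁ (restrPM O U).map g) Y (a ⊗ₜ[(O.over U).obj.obj (op Y)] b)
  have h2 := projHom_app_inj_tmul O U A B' Y a (((restrPM O U).map g).app (op Y) b)
  have h3 := projHom_app_inj_tmul O U A B Y a b
  refine (congrArg (fun t => (projHom O U A B').app (op Y.left) t) h1).trans ?_
  refine Eq.trans ?_ (congrArg (fun t => ((shriekPM O U).obj A ◁ g).app (op Y.left) t) h3).symm
  exact h2

variable {A} in
lemma projHom_naturality_left {A' : PMod (O.over U)} (f : A ⟶ A') :
    (shriekPM O U).map (f ▷ (restrPM O U).obj B) ≫ projHom O U A' B =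
      projHom O U A B ≫ ((shriekPM O U).map f ▷ B) := by
  apply shriek_tensor_hom_ext
  intro Y a b
  have h1 := OverShriek.shriekFunctor_map_app_inj (X := U) (R := (ModSite.ringSh O).obj)
    (f ▷ (restrPM O U).obj B) Y (a ⊗ₜ[(O.over U).obj.obj (op Y)] b)
  have h2 := projHom_app_inj_tmul O U A' B Y (f.app (op Y) a) b
  have h3 := projHom_app_inj_tmul O U A B Y a b
  have h4 := OverShriek.shriekFunctor_map_app_inj (X := U) (R := (ModSite.ringSh O).obj) f Y a
  refine (congrArg (fun t => (projHom O U A' B).app (op Y.left) t) h1).trans ?_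
  refine Eq.trans ?_ (congrArg (fun t => ((shriekPM O U).map f ▷ B).app (op Y.left) t) h3).symm
  refine h2.trans ?_
  exact congrArg (fun t : ((shriekPM O U).obj A').obj (op Y.left) =>
    t ⊗ₜ[O.obj.obj (op Y.left)] (show B.obj (op Y.left) from b)) h4.symm

/-! ### Sheaf level -/

open ModSiteExtZero ModSiteFlat

/-- `a_U ⋙ j_! ≅ j_!^{pre} ⋙ a`. -/
def shfExtZeroIso : shf (O.over U) ⋙ ModSite.extZero O U ≅ shriekPM O U ⋙ shf O :=
  SheafOfModules.sheafificationCompPullback.{u} (idOver O U) ≪≫
    Functor.isoWhiskerRight (OverShriek.shriekIsoPullback U (ModSite.ringSh O).obj).symm (shf O)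

/-- the explicit `j_!` agrees with the abstract one. -/
def shriekLIso : shriekL O U ≅ ModSite.extZero O U :=
  Adjunction.leftAdjointUniq (adjL O U) (ModSite.extZeroAdj O U)

/-- presheaf projection formula, natural in the `C`-variable. -/
def projNatIsoRight : restrPM O U ⋙ tensorLeft A ⋙ shriekPM O U ≅
    tensorLeft ((shriekPM O U).obj A) :=
  NatIso.ofComponents (fun B => asIso (projHom O U A B))
    (fun g => projHom_naturality_right O U A g)

/-- presheaf projection formula, natural in the `C/U`-variable. -/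
def projNatIsoLeft : tensorRight ((restrPM O U).obj B) ⋙ shriekPM O U ≅
    shriekPM O U ⋙ tensorRight B :=
  NatIso.ofComponents (fun A => asIso (projHom O U A B))
    (fun f => projHom_naturality_left O U B f)

/-- `X ⊗ -` and `a X ⊗ -` agree after sheafification. -/
def unitLeftIso (X : PMod O) :
    tensorLeft X ⋙ shf O ≅ tensorLeft ((fgt O).obj ((shf O).obj X)) ⋙ shf O :=
  NatIso.ofComponents
    (fun B => @asIso _ _ _ _ ((shf O).map ((shfAdj O).unit.app X ▷ B))
      (isIso_shf_map_unit_whiskerRight O X B))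
    (fun {B B'} g => by
      change (shf O).map (X ◁ g) ≫ (shf O).map ((shfAdj O).unit.app X ▷ B') =
        (shf O).map ((shfAdj O).unit.app X ▷ B) ≫ (shf O).map (_ ◁ g)
      rw [← Functor.map_comp, ← Functor.map_comp, whisker_exchange])

/-- `- ⊗ B` and `a(-) ⊗ B` agree after sheafification. -/
def unitRightIso (B : PMod O) :
    tensorRight B ⋙ shf O ≅ (shf O ⋙ fgt O) ⋙ tensorRight B ⋙ shf O :=
  (Functor.leftUnitor _).symm ≪≫
    @asIso _ _ _ _ (Functor.whiskerRight (shfAdj O).unit (tensorRight B ⋙ shf O)) (by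
      apply (config := { allowSynthFailures := true }) NatIso.isIso_of_isIso_app
      intro X
      exact isIso_shf_map_unit_whiskerRight O X B)

/-- `a j_!^{pre}` of the underlying presheaf is `j_!`. -/
def shfShriekFgtIso : fgt (O.over U) ⋙ shriekPM O U ⋙ shf O ≅ ModSite.extZero O U :=
  Functor.isoWhiskerLeft (fgt (O.over U)) (shfExtZeroIso O U).symm ≪≫
    (Functor.associator _ _ _).symm ≪≫
    Functor.isoWhiskerRight (@asIso _ _ _ _ (shfAdj (O.over U)).counit
      (inferInstanceAs (IsIso (PresheafOfModules.sheafificationAdjunction.{u}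
        (𝟙 (ModSite.ringSh (O.over U)).obj)).counit))) (ModSite.extZero O U) ≪≫
    Functor.leftUnitor _

/-- The projection formula `j_!(P ⊗ j^* N) ≅ j_! P ⊗ N`, natural in `N`. -/
def projIsoRight (P : ModSite.Mod (O.over U)) :
    ModSite.restr O U ⋙ (ModSite.tensorBi (O.over U)).obj P ⋙ ModSite.extZero O U ≅
      (ModSite.tensorBi O).obj ((ModSite.extZero O U).obj P) :=
  let A : PMod (O.over U) := (fgt (O.over U)).obj P
  let s1 : ModSite.restr O U ⋙ (ModSite.tensorBi (O.over U)).obj P ⋙ ModSite.extZero O U ≅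
      ModSite.restr O U ⋙ (fgt (O.over U) ⋙ tensorLeft A ⋙ shf (O.over U)) ⋙
        ModSite.extZero O U :=
    Functor.isoWhiskerLeft _ (Functor.isoWhiskerRight (objIso (O.over U) P) _)
  let s3 : (ModSite.restr O U ⋙ fgt (O.over U)) ⋙ tensorLeft A ⋙
        (shf (O.over U) ⋙ ModSite.extZero O U) ≅
      (fgt O ⋙ restrPM O U) ⋙ tensorLeft A ⋙ (shriekPM O U ⋙ shf O) :=
    NatIso.hcomp (fgtRestrIso O U) (Functor.isoWhiskerLeft (tensorLeft A) (shfExtZeroIso O U))
  let s5 : fgt O ⋙ (restrPM O U ⋙ tensorLeft A ⋙ shriekPM O U) ⋙ shf O ≅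
      fgt O ⋙ tensorLeft ((shriekPM O U).obj A) ⋙ shf O :=
    Functor.isoWhiskerLeft _ (Functor.isoWhiskerRight (projNatIsoRight O U A) _)
  let s6 : fgt O ⋙ tensorLeft ((shriekPM O U).obj A) ⋙ shf O ≅
      fgt O ⋙ tensorLeft ((fgt O).obj ((shf O).obj ((shriekPM O U).obj A))) ⋙ shf O :=
    Functor.isoWhiskerLeft _ (unitLeftIso O ((shriekPM O U).obj A))
  let s7 : fgt O ⋙ tensorLeft ((fgt O).obj ((shf O).obj ((shriekPM O U).obj A))) ⋙ shf O ≅
      fgt O ⋙ tensorLeft ((fgt O).obj ((ModSite.extZero O U).obj P)) ⋙ shf O :=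
    Functor.isoWhiskerLeft _ (Functor.isoWhiskerRight
      ((tensoringLeft (PMod O)).mapIso ((fgt O).mapIso ((shfShriekFgtIso O U).app P))) _)
  s1 ≪≫ (Iso.refl _ : _ ≅ (ModSite.restr O U ⋙ fgt (O.over U)) ⋙ tensorLeft A ⋙
        (shf (O.over U) ⋙ ModSite.extZero O U)) ≪≫ s3 ≪≫
    (Iso.refl _ : _ ≅ fgt O ⋙ (restrPM O U ⋙ tensorLeft A ⋙ shriekPM O U) ⋙ shf O) ≪≫
    s5 ≪≫ s6 ≪≫ s7 ≪≫ (objIso O ((ModSite.extZero O U).obj P)).symm

/-- The projection formula `j_!(P ⊗ j^* N) ≅ j_! P ⊗ N`, natural in `P`. -/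
def projIsoLeft (N : ModSite.Mod O) :
    (ModSite.tensorBi (O.over U)).flip.obj ((ModSite.restr O U).obj N) ⋙ ModSite.extZero O U ≅
      ModSite.extZero O U ⋙ (ModSite.tensorBi O).flip.obj N :=
  let B : PMod O := (fgt O).obj N
  let t1 : (ModSite.tensorBi (O.over U)).flip.obj ((ModSite.restr O U).obj N) ⋙
        ModSite.extZero O U ≅
      (fgt (O.over U) ⋙ tensorRight ((fgt (O.over U)).obj ((ModSite.restr O U).obj N)) ⋙
        shf (O.over U)) ⋙ ModSite.extZero O U :=
    Functor.isoWhiskerRight (flipObjIso (O.over U) ((ModSite.restr O U).obj N)) _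
  let t2 : fgt (O.over U) ⋙ tensorRight ((fgt (O.over U)).obj ((ModSite.restr O U).obj N)) ⋙
        (shf (O.over U) ⋙ ModSite.extZero O U) ≅
      fgt (O.over U) ⋙ tensorRight ((restrPM O U).obj B) ⋙ (shriekPM O U ⋙ shf O) :=
    Functor.isoWhiskerLeft _ (NatIso.hcomp
      ((tensoringRight (PMod (O.over U))).mapIso ((fgtRestrIso O U).app N))
      (shfExtZeroIso O U))
  let t4 : fgt (O.over U) ⋙ (tensorRight ((restrPM O U).obj B) ⋙ shriekPM O U) ⋙ shf O ≅
      fgt (O.over U) ⋙ (shriekPM O U ⋙ tensorRight B) ⋙ shf O :=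
    Functor.isoWhiskerLeft _ (Functor.isoWhiskerRight (projNatIsoLeft O U B) _)
  let t5 : fgt (O.over U) ⋙ shriekPM O U ⋙ (tensorRight B ⋙ shf O) ≅
      fgt (O.over U) ⋙ shriekPM O U ⋙ ((shf O ⋙ fgt O) ⋙ tensorRight B ⋙ shf O) :=
    Functor.isoWhiskerLeft _ (Functor.isoWhiskerLeft _ (unitRightIso O B))
  let t6 : (fgt (O.over U) ⋙ shriekPM O U ⋙ shf O) ⋙ (fgt O ⋙ tensorRight B ⋙ shf O) ≅
      ModSite.extZero O U ⋙ (ModSite.tensorBi O).flip.obj N :=
    NatIso.hcomp (shfShriekFgtIso O U) (flipObjIso O N).symm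
  t1 ≪≫ (Iso.refl _ : _ ≅ fgt (O.over U) ⋙
        tensorRight ((fgt (O.over U)).obj ((ModSite.restr O U).obj N)) ⋙
        (shf (O.over U) ⋙ ModSite.extZero O U)) ≪≫ t2 ≪≫
    (Iso.refl _ : _ ≅ fgt (O.over U) ⋙
        (tensorRight ((restrPM O U).obj B) ⋙ shriekPM O U) ⋙ shf O) ≪≫ t4 ≪≫
    (Iso.refl _ : _ ≅ fgt (O.over U) ⋙ shriekPM O U ⋙ (tensorRight B ⋙ shf O)) ≪≫ t5 ≪≫
    (Iso.refl _ : _ ≅ (fgt (O.over U) ⋙ shriekPM O U ⋙ shf O) ⋙
        (fgt O ⋙ tensorRight B ⋙ shf O)) ≪≫ t6

/-- The projection formula. -/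
def projectionFormula (P : ModSite.Mod (O.over U)) (N : ModSite.Mod O) :
    (ModSite.extZero O U).obj
        (((ModSite.tensorBi (O.over U)).obj P).obj ((ModSite.restr O U).obj N)) ≅
      ((ModSite.tensorBi O).obj ((ModSite.extZero O U).obj P)).obj N :=
  (projIsoRight O U P).app N

instance restr_preservesFiniteLimits : PreservesFiniteLimits (ModSite.restr O U) := by
  have : PreservesLimitsOfSize.{0, 0} (ModSite.restr O U) :=
    (ModSite.extZeroAdj O U).rightAdjoint_preservesLimits
  exact PreservesLimitsOfSize.preservesFiniteLimits.{0, 0} _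

open ModSiteFlatSES ModSiteFlatGen in
/-- Extension by zero of a flat module is flat. -/
theorem isFlat_extZero (M : ModSite.Mod (O.over U)) (hM : ModSite.IsFlat M) :
    ModSite.IsFlat ((ModSite.extZero O U).obj M) := by
  rw [isFlat_iff]
  have h1 : PreservesFiniteLimits ((ModSite.tensorBi (O.over U)).obj M) :=
    preservesFiniteLimits_obj_of_isFlat hM
  have h2 := extZero_preservesFiniteLimits O U
  have h3 : PreservesFiniteLimits ((ModSite.tensorBi (O.over U)).obj M ⋙ ModSite.extZero O U) :=
    comp_preservesFiniteLimits _ _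
  have h4 : PreservesFiniteLimits (ModSite.restr O U ⋙ (ModSite.tensorBi (O.over U)).obj M ⋙
      ModSite.extZero O U) := comp_preservesFiniteLimits _ _
  have h5 : PreservesFiniteLimits ((ModSite.tensorBi O).obj ((ModSite.extZero O U).obj M)) :=
    preservesFiniteLimits_of_natIso (projIsoRight O U M)
  exact preservesFiniteLimits_of_natIso (objIsoFlipObj O ((ModSite.extZero O U).obj M))

open ModSiteFlatSES ModSiteFlatGen in
/-- Restriction of a flat module is flat. -/
theorem isFlat_restr (M : ModSite.Mod O) (hM : ModSite.IsFlat M) :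
    ModSite.IsFlat ((ModSite.restr O U).obj M) := by
  rw [isFlat_iff]
  have h1 := hM.1
  have h2 := extZero_preservesFiniteLimits O U
  have h3 : PreservesFiniteLimits (ModSite.extZero O U ⋙ (ModSite.tensorBi O).flip.obj M) :=
    comp_preservesFiniteLimits _ _
  have h4 : PreservesFiniteLimits
      ((ModSite.tensorBi (O.over U)).flip.obj ((ModSite.restr O U).obj M) ⋙
        ModSite.extZero O U) :=
    preservesFiniteLimits_of_natIso (projIsoLeft O U M).symm
  apply preservesFiniteLimits_of_preservesMono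
  intro X Y a ha
  have h5 : Mono (((ModSite.tensorBi (O.over U)).flip.obj ((ModSite.restr O U).obj M) ⋙
      ModSite.extZero O U).map a) := inferInstance
  exact (ModSite.extZero O U).mono_of_mono_map h5

end Groth.Agent.Lib.Helper13.ModSiteProj
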