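import Mathlib
import Groth.Agent.Lib.Helper13.KInjCompute
import Groth.Agent.Lib.Helper2.KInj.Main
import Groth.Agent.Lib.Helper13.ModGrothendieck
import Groth.Agent.Lib.Helper2.RestrExact
import Groth.Prelude.Def_CxOX

/-!
# K-injective complexes of modules on schemes (helper13)
-/

set_option autoImplicit false
universe u

namespace Groth.Agent.Lib.Helper13.KInjSch

open CategoryTheory CategoryTheory.Limits AlgebraicGeometry
open Groth.Agent.Lib.Helper13.KInjCompute

lemma hasKInjInj (X : Scheme.{u}) : HasKInjInj X.Modules := by
  haveI : IsGrothendieckAbelian.{u} X.Modules :=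
    Groth.Agent.Lib.Helper13.ModGrothendieck.isGrothendieckAbelian X.ringCatSheaf
  intro K
  obtain ⟨I, f, h1, h2, -, h4⟩ := Groth.Agent.Lib.Helper2.KInj.exists_kInjective_resolution K
  exact ⟨I, f, h1, h2, h4⟩

lemma hasKInj (X : Scheme.{u}) : HasKInj X.Modules := (hasKInjInj X).hasKInj

/-- extension by zero along an open subscheme is left exact -/
instance preservesFiniteLimits_extZero {X : Scheme.{u}} (W : X.Opens) :
    PreservesFiniteLimits (CxOX.extZero W.ι) := by
  have h1 := Groth.Agent.Lib.Helper2.RestrExact.extZero_preservesFiniteLimits X.sheaf W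
  haveI : PreservesLimitsOfSize.{0, 0} (Scheme.Modules.overEquiv W).inverse := inferInstance
  have h0 : PreservesFiniteLimits (Scheme.Modules.overEquiv W).inverse :=
    PreservesLimitsOfSize.preservesFiniteLimits _
  exact @preservesFiniteLimits_of_natIso _ _ _ _ _ _ (CxOX.extZeroIsoSite W).symm
    (@comp_preservesFiniteLimits _ _ _ _ _ _ _ _ h0 h1)

/-- restriction to an open subscheme preserves K-injective complexes -/
lemma isKInjective_restrict {X : Scheme.{u}} (W : X.Opens) (I : CochainComplex X.Modules ℤ)
    (hI : I.IsKInjective) :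
    CochainComplex.IsKInjective
      (((Scheme.Modules.restrictFunctor W.ι).mapHomologicalComplex (ComplexShape.up ℤ)).obj I) :=
  isKInjective_map (CxOX.extZeroAdj W.ι) I hI

/-- restriction to an open subscheme preserves injective modules -/
lemma injective_restrict {X : Scheme.{u}} (W : X.Opens) (I : X.Modules) (hI : Injective I) :
    Injective ((Scheme.Modules.restrictFunctor W.ι).obj I) := by
  haveI : (CxOX.extZero W.ι).PreservesMonomorphisms := inferInstance
  exact Injective.injective_of_adjoint (CxOX.extZeroAdj W.ι) I

end Groth.Agent.Lib.Helper13.KInjSch
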