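import Groth.Agent.Lib.Helper13.RelMV
import Groth.Agent.Lib.Helper13.InjRestrSurj
import Groth.Agent.Lib.Helper3.QCProps
import Groth.Prelude.Def_Coh

/-!
# Relative Mayer–Vietoris for modules on schemes (helper13)

For `f : X ⟶ S`, an open `V ⊆ S` and an open `W ⊆ X` we consider the functor
`G W = j_* j^* ⋙ f_* ⋙ (-)|_V : X.Modules ⥤ V.Modules` (`j : W ⟶ X` the inclusion), whose sections over
`A ⊆ V` are `M(W ∩ f⁻¹ A)`, together with the restriction transformations `ρ : G W ⟶ G W'` for `W' ≤ W`.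
The square for `W₁ ⊔ W₂, W₁, W₂, W₁ ⊓ W₂` is objectwise a pullback, and `ρ` is epi on injective modules,
so `RelMV.exists_delta` applies.
-/

set_option autoImplicit false
universe u

namespace Groth.Agent.Lib.Helper13.RelMVMod

open CategoryTheory CategoryTheory.Limits AlgebraicGeometry Opposite TopologicalSpace
open AlgebraicGeometry.Scheme.Modules

variable {X : Scheme.{u}}

/-- `W ∩ A` in the form in which it appears in the sections of `j_* j^* M`. -/
abbrev cap (W A : X.Opens) : X.Opens := W.ι ''ᵁ (W.ι ⁻¹ᵁ A)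

lemma cap_eq (W A : X.Opens) : cap W A = W ⊓ A := by
  rw [cap, Scheme.Hom.image_preimage_eq_opensRange_inf, Scheme.Opens.opensRange_ι]

lemma cap_le (W A : X.Opens) : cap W A ≤ A := W.ι.image_preimage_le A

lemma cap_mono {W W' : X.Opens} (h : W' ≤ W) (A : X.Opens) : cap W' A ≤ cap W A := by
  rw [cap_eq, cap_eq]
  exact inf_le_inf_right A h

lemma cap_cap {W W' : X.Opens} (h : W' ≤ W) (A : X.Opens) : cap W (cap W' A) = cap W' A := by
  rw [cap_eq, cap_eq]
  exact inf_eq_right.mpr (inf_le_left.trans h)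

/-- restriction maps along equalities of opens are isomorphisms. -/
lemma isIso_map_of_eq (M : X.Modules) {A B : X.Opens} (h : A ≤ B) (h' : A = B) :
    IsIso (M.presheaf.map (homOfLE h).op) := by
  haveI : IsIso (homOfLE h) :=
    ⟨⟨homOfLE h'.symm.le, Subsingleton.elim _ _, Subsingleton.elim _ _⟩⟩
  infer_instance

/-- `j_* j^*` for the inclusion `j` of the open `W`. -/
noncomputable abbrev H (W : X.Opens) : X.Modules ⥤ X.Modules :=
  restrictFunctor W.ι ⋙ pushforward W.ι

/-- the unit `M ⟶ j_* j^* M`. -/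
noncomputable abbrev η (W : X.Opens) : 𝟭 X.Modules ⟶ H W := (restrictAdjunction W.ι).unit

lemma η_app_app (W : X.Opens) (M : X.Modules) (A : X.Opens) :
    ((η W).app M).app A = M.presheaf.map (homOfLE (cap_le W A)).op := rfl

lemma H_map_app (W : X.Opens) {M N : X.Modules} (φ : M ⟶ N) (A : X.Opens) :
    ((H W).map φ).app A = φ.app (cap W A) := rfl

lemma isIso_H_map_η {W W' : X.Opens} (h : W' ≤ W) (M : X.Modules) :
    IsIso ((H W').map ((η W).app M)) := by
  rw [Hom.isIso_iff_isIso_app]
  intro A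
  rw [H_map_app, η_app_app]
  exact isIso_map_of_eq M _ (cap_cap h A)

/-- the restriction map `j_* j^* M ⟶ j'_* j'^* M` for `W' ≤ W`. -/
noncomputable def rhoHApp {W W' : X.Opens} (h : W' ≤ W) (M : X.Modules) :
    (H W).obj M ⟶ (H W').obj M :=
  haveI := isIso_H_map_η h M
  (η W').app ((H W).obj M) ≫ inv ((H W').map ((η W).app M))

lemma rhoHApp_app {W W' : X.Opens} (h : W' ≤ W) (M : X.Modules) (A : X.Opens) :
    (rhoHApp h M).app A = M.presheaf.map (homOfLE (cap_mono h A)).op := by
  haveI := isIso_H_map_η h M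
  have e : (rhoHApp h M).app A = ((η W').app ((H W).obj M)).app A ≫
      inv (((H W').map ((η W).app M)).app A) := by
    rw [← inv_app]
    rfl
  rw [e, IsIso.comp_inv_eq, H_map_app, η_app_app, η_app_app]
  change M.presheaf.map _ = M.presheaf.map _ ≫ M.presheaf.map _
  rw [← Functor.map_comp]
  rfl

/-- the restriction transformation `j_* j^* ⟶ j'_* j'^*` for `W' ≤ W`. -/
noncomputable def rhoH {W W' : X.Opens} (h : W' ≤ W) : H W ⟶ H W' where
  app M := rhoHApp h M
  naturality M N φ := by
    apply Scheme.Modules.hom_ext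
    intro A
    rw [Hom.comp_app, Hom.comp_app, rhoHApp_app, rhoHApp_app, H_map_app, H_map_app]
    exact (φ.mapPresheaf.naturality (homOfLE (cap_mono h A)).op).symm

variable {S : Scheme.{u}} (f : X ⟶ S) (V : S.Opens)

/-- `f_*` followed by restriction to `V`. -/
noncomputable abbrev Q : X.Modules ⥤ (V : Scheme.{u}).Modules :=
  pushforward f ⋙ restrictFunctor V.ι

/-- `M ↦ (f_* j_* j^* M)|_V`. -/
noncomputable abbrev G (W : X.Opens) : X.Modules ⥤ (V : Scheme.{u}).Modules := H W ⋙ Q f V

/-- the open of `X` over an open `A` of `V`. -/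
abbrev pre (A : (V : Scheme.{u}).Opens) : X.Opens := f ⁻¹ᵁ (V.ι ''ᵁ A)

/-- the restriction transformation `G W ⟶ G W'` for `W' ≤ W`. -/
noncomputable def rho {W W' : X.Opens} (h : W' ≤ W) : G f V W ⟶ G f V W' :=
  Functor.whiskerRight (rhoH h) (Q f V)

lemma rho_app_app {W W' : X.Opens} (h : W' ≤ W) (M : X.Modules) (A : (V : Scheme.{u}).Opens) :
    ((rho f V h).app M).app A = M.presheaf.map (homOfLE (cap_mono h (pre f V A))).op :=
  rhoHApp_app h M (pre f V A)

instance pushforward_pfl {Y Z : Scheme.{u}} (g : Y ⟶ Z) : PreservesFiniteLimits (pushforward g) := by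
  have : PreservesLimitsOfSize.{0, 0} (pushforward g) :=
    (pullbackPushforwardAdjunction g).rightAdjoint_preservesLimits
  exact PreservesLimitsOfSize.preservesFiniteLimits _

instance restrictFunctor_pfc {Y Z : Scheme.{u}} (j : Y ⟶ Z) [IsOpenImmersion j] :
    PreservesFiniteColimits (restrictFunctor j) := by
  have : PreservesColimitsOfSize.{0, 0} (restrictFunctor j) :=
    (restrictAdjunction j).leftAdjoint_preservesColimits
  exact PreservesColimitsOfSize.preservesFiniteColimits _

/-- the Mayer–Vietoris square of the functors `G W` is objectwise a pullback. -/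
lemma isPullback_rho (W₁ W₂ : X.Opens) (M : X.Modules) :
    IsPullback ((rho f V (le_sup_left : W₁ ≤ W₁ ⊔ W₂)).app M)
      ((rho f V (le_sup_right : W₂ ≤ W₁ ⊔ W₂)).app M)
      ((rho f V (inf_le_left : W₁ ⊓ W₂ ≤ W₁)).app M)
      ((rho f V (inf_le_right : W₁ ⊓ W₂ ≤ W₂)).app M) := by
  haveI : ReflectsLimitsOfShape WalkingCospan (Scheme.Modules.toPresheaf (V : Scheme.{u})) :=
    reflectsLimitsOfShape_of_reflectsIsomorphisms
  refine IsPullback.of_map_of_faithful (Scheme.Modules.toPresheaf (V : Scheme.{u}))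
    (IsPullback.of_forall_isPullback_app fun A => ?_)
  change IsPullback (((rho f V (le_sup_left : W₁ ≤ W₁ ⊔ W₂)).app M).app A.unop)
    (((rho f V (le_sup_right : W₂ ≤ W₁ ⊔ W₂)).app M).app A.unop)
    (((rho f V (inf_le_left : W₁ ⊓ W₂ ≤ W₁)).app M).app A.unop)
    (((rho f V (inf_le_right : W₁ ⊓ W₂ ≤ W₂)).app M).app A.unop)
  rw [rho_app_app, rho_app_app, rho_app_app, rho_app_app]
  refine RelMV.isPullback_of_sup_inf (Coh.toAb M) _ _ _ _ ?_ ?_
  · rw [cap_eq, cap_eq, cap_eq]
    exact le_of_eq (inf_sup_right _ _ _)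
  · rw [cap_eq, cap_eq, cap_eq]
    exact le_of_eq (inf_inf_distrib_right _ _ _).symm

/-- restriction maps of injective modules are epi. -/
lemma epi_rho_of_injective {W W' : X.Opens} (h : W' ≤ W) (I : X.Modules) (hI : Injective I) :
    Epi ((rho f V h).app I) := by
  apply Groth.Agent.Lib.Helper3.QCProps.epi_of_app_surjective
  intro A
  rw [rho_app_app]
  haveI : Mono (homOfLE (cap_mono h (pre f V A))) := ⟨fun _ _ _ => Subsingleton.elim _ _⟩
  exact @Groth.Agent.Lib.Helper13.InjRestrSurj.restriction_surjective _ _ _ X.ringCatSheaf I hI _ _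
    (homOfLE (cap_mono h (pre f V A))) inferInstance

end Groth.Agent.Lib.Helper13.RelMVMod
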