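import Mathlib
import Groth.Agent.Lib.Helper13.KInjSch
import Groth.Agent.Lib.Helper13.RelMVMod
import Groth.Prelude.Def_DCoh3

/-!
# Mayer–Vietoris triangles via K-injective resolutions (helper13)
-/

set_option autoImplicit false
set_option backward.isDefEq.respectTransparency false
universe v₁ v₂ u₁ u₂ u

attribute [local instance] HasDerivedCategory.standard

namespace Groth.Agent.Lib.Helper13.KInjMV

open CategoryTheory CategoryTheory.Limits AlgebraicGeometry Pretriangulated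
open Groth.Agent.Lib.Helper13.KInjCompute

section Tri

variable {C : Type*} [Category C] [Preadditive C] [HasZeroObject C] [HasShift C ℤ]
  [∀ n : ℤ, (shiftFunctor C n).Additive] [Pretriangulated C]

lemma exists_triangle_of_iso (T : Triangle C) (hT : T ∈ distTriang C) {X₁ X₂ X₃ : C}
    (e₁ : T.obj₁ ≅ X₁) (e₂ : T.obj₂ ≅ X₂) (e₃ : T.obj₃ ≅ X₃) :
    ∃ (a : X₁ ⟶ X₂) (b : X₂ ⟶ X₃) (c : X₃ ⟶ X₁⟦(1 : ℤ)⟧),
      Triangle.mk a b c ∈ distTriang C := by
  refine ⟨e₁.inv ≫ T.mor₁ ≫ e₂.hom, e₂.inv ≫ T.mor₂ ≫ e₃.hom,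
    e₃.inv ≫ T.mor₃ ≫ e₁.hom⟦(1 : ℤ)⟧', ?_⟩
  refine isomorphic_distinguished _ hT _ (Triangle.isoMk _ _ e₁.symm e₂.symm e₃.symm ?_ ?_ ?_)
  · simp
  · simp
  · simp [← Functor.map_comp]

end Tri

section General

variable {A : Type u₁} [Category.{v₁} A] [Abelian A] {B : Type u₂} [Category.{v₂} B] [Abelian B]
  {Φ₀ Φ₁ Φ₂ Φ₃ : A ⥤ B} [Φ₀.Additive] [Φ₁.Additive] [Φ₂.Additive] [Φ₃.Additive]
  (a₁ : Φ₀ ⟶ Φ₁) (a₂ : Φ₀ ⟶ Φ₂) (b₁ : Φ₁ ⟶ Φ₃) (b₂ : Φ₂ ⟶ Φ₃) (I : CochainComplex A ℤ)
  (hpb : ∀ n, IsPullback (a₁.app (I.X n)) (a₂.app (I.X n)) (b₁.app (I.X n)) (b₂.app (I.X n)))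

/-- the Mayer–Vietoris short complex of complexes -/
noncomputable def mvSC : ShortComplex (CochainComplex B ℤ) where
  X₁ := (Φ₀.mapHomologicalComplex (ComplexShape.up ℤ)).obj I
  X₂ := (Φ₁.mapHomologicalComplex (ComplexShape.up ℤ)).obj I ⊞
    (Φ₂.mapHomologicalComplex (ComplexShape.up ℤ)).obj I
  X₃ := (Φ₃.mapHomologicalComplex (ComplexShape.up ℤ)).obj I
  f := biprod.lift ((NatTrans.mapHomologicalComplex a₁ (ComplexShape.up ℤ)).app I)
    ((NatTrans.mapHomologicalComplex a₂ (ComplexShape.up ℤ)).app I)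
  g := biprod.desc ((NatTrans.mapHomologicalComplex b₁ (ComplexShape.up ℤ)).app I)
    (-(NatTrans.mapHomologicalComplex b₂ (ComplexShape.up ℤ)).app I)
  zero := by
    rw [biprod.lift_desc]
    ext n
    have := (hpb n).w
    simp [this]

lemma shortExact_shortComplex' {X₁ X₂ X₃ X₄ : B} {fst : X₁ ⟶ X₂} {snd : X₁ ⟶ X₃} {f : X₂ ⟶ X₄}
    {g : X₃ ⟶ X₄} (h : IsPullback fst snd f g) [Epi f] : h.shortComplex'.ShortExact := by
  haveI := h.mono_shortComplex'_f
  haveI : Epi h.shortComplex'.g := by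
    have e : biprod.inl ≫ h.shortComplex'.g = f := by simp
    exact epi_of_epi_fac e
  exact { exact := h.exact_shortComplex' }

lemma aux_lift {K L M : CochainComplex B ℤ} (x : K ⟶ L) (y : K ⟶ M) (n : ℤ) :
    (biprod.lift x y).f n ≫ biprod.lift ((biprod.fst : L ⊞ M ⟶ L).f n)
      ((biprod.snd : L ⊞ M ⟶ M).f n) = biprod.lift (x.f n) (y.f n) := by
  apply biprod.hom_ext
  · rw [Category.assoc, biprod.lift_fst, biprod.lift_fst, ← HomologicalComplex.comp_f,
      biprod.lift_fst]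
  · rw [Category.assoc, biprod.lift_snd, biprod.lift_snd, ← HomologicalComplex.comp_f,
      biprod.lift_snd]

lemma mvSC_shortExact (hepi : ∀ n, Epi (b₁.app (I.X n))) :
    (mvSC a₁ a₂ b₁ b₂ I hpb).ShortExact := by
  refine HomologicalComplex.shortExact_of_degreewise_shortExact _ (fun n => ?_)
  haveI := hepi n
  have hS := shortExact_shortComplex' (hpb n)
  have e : (mvSC a₁ a₂ b₁ b₂ I hpb).map (HomologicalComplex.eval B (ComplexShape.up ℤ) n) ≅
      (hpb n).shortComplex' := by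
    refine ShortComplex.isoMk (Iso.refl _)
      ((HomologicalComplex.eval B (ComplexShape.up ℤ) n).mapBiprod _ _) (Iso.refl _) ?_ ?_
    · exact (Category.id_comp _).trans
        (aux_lift ((NatTrans.mapHomologicalComplex a₁ (ComplexShape.up ℤ)).app I)
          ((NatTrans.mapHomologicalComplex a₂ (ComplexShape.up ℤ)).app I) n).symm
    · rw [← Iso.eq_inv_comp]
      apply biprod.hom_ext'
      · simp [mvSC, Functor.mapBiprod_inv, ← Functor.map_comp]
      · simp [mvSC, Functor.mapBiprod_inv, ← Functor.map_comp]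
  exact ShortComplex.shortExact_of_iso e.symm hS

include a₁ a₂ b₁ b₂ hpb in
theorem exists_triangle (hepi : ∀ n, Epi (b₁.app (I.X n))) :
    ∃ (a : DerivedCategory.Q.obj ((Φ₀.mapHomologicalComplex (ComplexShape.up ℤ)).obj I) ⟶
          DerivedCategory.Q.obj ((Φ₁.mapHomologicalComplex (ComplexShape.up ℤ)).obj I) ⊞
            DerivedCategory.Q.obj ((Φ₂.mapHomologicalComplex (ComplexShape.up ℤ)).obj I))
      (b : DerivedCategory.Q.obj ((Φ₁.mapHomologicalComplex (ComplexShape.up ℤ)).obj I) ⊞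
            DerivedCategory.Q.obj ((Φ₂.mapHomologicalComplex (ComplexShape.up ℤ)).obj I) ⟶
          DerivedCategory.Q.obj ((Φ₃.mapHomologicalComplex (ComplexShape.up ℤ)).obj I))
      (c : DerivedCategory.Q.obj ((Φ₃.mapHomologicalComplex (ComplexShape.up ℤ)).obj I) ⟶
          (DerivedCategory.Q.obj ((Φ₀.mapHomologicalComplex (ComplexShape.up ℤ)).obj I))⟦(1 : ℤ)⟧),
      Triangle.mk a b c ∈ distTriang (DerivedCategory B) := by
  haveI : PreservesBinaryBiproducts (DerivedCategory.Q : CochainComplex B ℤ ⥤ _) :=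
    preservesBinaryBiproducts_of_preservesBiproducts _
  exact exists_triangle_of_iso _
    (DerivedCategory.triangleOfSES_distinguished (mvSC_shortExact a₁ a₂ b₁ b₂ I hpb hepi))
    (Iso.refl _) (DerivedCategory.Q.mapBiprod _ _) (Iso.refl _)

end General

section Sch

open Groth.Agent.Lib.Helper13.RelMVMod AlgebraicGeometry.Scheme.Modules

variable {X : Scheme.{u}}

lemma rhoH_app_app {W W' : X.Opens} (h : W' ≤ W) (M : X.Modules) (A : X.Opens) :
    ((rhoH h).app M).app A = M.presheaf.map (homOfLE (cap_mono h A)).op :=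
  rhoHApp_app h M A

lemma isPullback_H (U V : X.Opens) (hUV : U ⊔ V = ⊤) (M : X.Modules) :
    IsPullback ((η U).app M) ((η V).app M)
      ((rhoH (inf_le_left : U ⊓ V ≤ U)).app M) ((rhoH (inf_le_right : U ⊓ V ≤ V)).app M) := by
  haveI : ReflectsLimitsOfShape WalkingCospan (Scheme.Modules.toPresheaf X) :=
    reflectsLimitsOfShape_of_reflectsIsomorphisms
  refine IsPullback.of_map_of_faithful (Scheme.Modules.toPresheaf X)
    (IsPullback.of_forall_isPullback_app fun A => ?_)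
  change IsPullback (((η U).app M).app A.unop) (((η V).app M).app A.unop)
    (((rhoH (inf_le_left : U ⊓ V ≤ U)).app M).app A.unop)
    (((rhoH (inf_le_right : U ⊓ V ≤ V)).app M).app A.unop)
  rw [η_app_app, η_app_app, rhoH_app_app, rhoH_app_app]
  refine RelMV.isPullback_of_sup_inf (Coh.toAb M) _ _ _ _ ?_ ?_
  · exact le_of_eq (by rw [cap_eq, cap_eq, ← inf_sup_right, hUV, top_inf_eq])
  · rw [cap_eq, cap_eq, cap_eq]
    exact le_of_eq (inf_inf_distrib_right _ _ _).symm

lemma surjective_rhoH_of_injective {W W' : X.Opens} (h : W' ≤ W) (J : X.Modules) (hJ : Injective J)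
    (A : X.Opens) : Function.Surjective (((rhoH h).app J).app A) := by
  rw [rhoH_app_app]
  haveI : Mono (homOfLE (cap_mono h A)) := ⟨fun _ _ _ => Subsingleton.elim _ _⟩
  exact @Groth.Agent.Lib.Helper13.InjRestrSurj.restriction_surjective _ _ _ X.ringCatSheaf J hJ _ _
    (homOfLE (cap_mono h A)) inferInstance

lemma epi_rhoH_of_injective {W W' : X.Opens} (h : W' ≤ W) (J : X.Modules) (hJ : Injective J) :
    Epi ((rhoH h).app J) :=
  Groth.Agent.Lib.Helper3.QCProps.epi_of_app_surjective _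
    (surjective_rhoH_of_injective h J hJ)

lemma epi_pushforward_rhoH_of_injective {Y : Scheme.{u}} (f : X ⟶ Y) {W W' : X.Opens} (h : W' ≤ W)
    (J : X.Modules) (hJ : Injective J) : Epi ((pushforward f).map ((rhoH h).app J)) :=
  Groth.Agent.Lib.Helper3.QCProps.epi_of_app_surjective _
    (fun A => surjective_rhoH_of_injective h J hJ (f ⁻¹ᵁ A))

instance preservesFiniteLimits_gammaAb : PreservesFiniteLimits (DCoh.gammaAb X) := by
  have i1 : PreservesFiniteLimits (Scheme.Modules.toPresheaf X) :=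
    PreservesLimits.preservesFiniteLimits _
  have i2 : PreservesFiniteLimits
      ((evaluation (TopologicalSpace.Opens ↥X)ᵒᵖ Ab).obj (Opposite.op ⊤)) :=
    PreservesLimits.preservesFiniteLimits _
  exact comp_preservesFiniteLimits _ _

lemma epi_gammaAb_rhoH_of_injective {W W' : X.Opens} (h : W' ≤ W)
    (J : X.Modules) (hJ : Injective J) : Epi ((DCoh.gammaAb X).map ((rhoH h).app J)) :=
  (AddCommGrpCat.epi_iff_surjective _).2 (surjective_rhoH_of_injective h J hJ ⊤)

/-- `RF((Q I)|_W) ≅ Q(F(I|_W))` for `I` K-injective. -/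
noncomputable def isoRestrict (W : X.Opens) {B : Type u₂} [Category.{v₂} B] [Abelian B]
    (F : (W : Scheme.{u}).Modules ⥤ B) [F.Additive]
    [(Fh F).HasRightDerivedFunctor
      (HomotopyCategory.quasiIso (W : Scheme.{u}).Modules (ComplexShape.up ℤ))]
    [PreservesFiniteLimits (Scheme.Modules.restrictFunctor W.ι)]
    (I : CochainComplex X.Modules ℤ) (hI : I.IsKInjective) {E : DCoh.D X}
    (e : E ≅ DerivedCategory.Q.obj I) :
    (RF F).obj ((DCoh.restrictD W.ι).obj E) ≅
      DerivedCategory.Q.obj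
        (((Scheme.Modules.restrictFunctor W.ι ⋙ F).mapHomologicalComplex (ComplexShape.up ℤ)).obj I) :=
  (RF F).mapIso ((DCoh.restrictD W.ι).mapIso e ≪≫
      (Scheme.Modules.restrictFunctor W.ι).mapDerivedCategoryFactors.app I) ≪≫
    KInjCompute.iso F (Groth.Agent.Lib.Helper13.KInjSch.hasKInj (W : Scheme.{u})) _
      (Groth.Agent.Lib.Helper13.KInjSch.isKInjective_restrict W I hI) ≪≫
    DerivedCategory.Q.mapIso (HomologicalComplex.Hom.isoOfComponents (fun _ => Iso.refl _)
      (fun i j _ => by simp))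

end Sch

end Groth.Agent.Lib.Helper13.KInjMV
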