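import Mathlib
import Groth.Agent.Lib.Helper13.KInjMV
import Groth.Agent.Lib.Helper3.PbBasic

/-!
# Recognising right derived functors via K-injective complexes; `Rf_*` and restriction (helper13)
-/

set_option autoImplicit false
set_option backward.isDefEq.respectTransparency false
universe v₁ v₂ u₁ u₂ u

attribute [local instance] HasDerivedCategory.standard

namespace Groth.Agent.Lib.Helper13.KInjDerived

open CategoryTheory CategoryTheory.Limits AlgebraicGeometry
open Groth.Agent.Lib.Helper13.KInjCompute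

section General

variable {A : Type u₁} [Category.{v₁} A] [Abelian A]

lemma isKInjective_of_isLocal (I : CochainComplex A ℤ)
    (h : (HomotopyCategory.quasiIso A (ComplexShape.up ℤ)).isLocal
      ((HomotopyCategory.quotient A (ComplexShape.up ℤ)).obj I)) : I.IsKInjective := by
  rw [CochainComplex.isKInjective_iff_rightOrthogonal]
  rw [HomotopyCategory.quasiIso_eq_trW_subcategoryAcyclic, ObjectProperty.isLocal_trW] at h
  exact h

lemma isRightDerivedFunctor_of_isIso (hK : HasKInj A) {H : Type u₂} [Category.{v₂} H]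
    (F : HomotopyCategory A (ComplexShape.up ℤ) ⥤ H) (RF : DerivedCategory A ⥤ H)
    (α : F ⟶ DerivedCategory.Qh ⋙ RF)
    (hα : ∀ I : CochainComplex A ℤ, I.IsKInjective →
      IsIso (α.app ((HomotopyCategory.quotient A (ComplexShape.up ℤ)).obj I))) :
    RF.IsRightDerivedFunctor α (HomotopyCategory.quasiIso A (ComplexShape.up ℤ)) := by
  have hres := Groth.Agent.Lib.Helper2.exists_local_resolution hK
  haveI := Groth.Agent.Lib.Helper2.LocalRes.isRightDerivabilityStructure _ hres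
  refine (Groth.Agent.Lib.Helper2.LocalRes.derives
    (HomotopyCategory.quasiIso A (ComplexShape.up ℤ)) F).isRightDerivedFunctor_of_isIso α
      (fun X₁ => ?_)
  obtain ⟨I, hI⟩ := HomotopyCategory.quotient_obj_surjective X₁.obj
  have hloc := X₁.property
  rw [← hI] at hloc
  have := hα I (isKInjective_of_isLocal I hloc)
  change IsIso (α.app X₁.obj)
  rw [← hI]
  exact this

end General

section Sch

open Groth.Agent.Lib.Helper13.RelMVMod AlgebraicGeometry.Scheme.Modules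

variable {X Y : Scheme.{u}} (f : X ⟶ Y) (V : Y.Opens)

lemma isIso_map_η (M : X.Modules) :
    IsIso ((pushforward f ⋙ restrictFunctor V.ι).map ((η (f ⁻¹ᵁ V)).app M)) := by
  rw [Hom.isIso_iff_isIso_app]
  intro A
  change IsIso (((η (f ⁻¹ᵁ V)).app M).app (f ⁻¹ᵁ (V.ι ''ᵁ A)))
  rw [η_app_app]
  refine isIso_map_of_eq M _ ?_
  rw [cap_eq]
  exact inf_eq_right.mpr (f.preimage_mono (V.ι_image_le A))

instance : IsIso (Functor.whiskerRight (η (f ⁻¹ᵁ V)) (pushforward f ⋙ restrictFunctor V.ι)) := by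
  haveI : ∀ M, IsIso ((Functor.whiskerRight (η (f ⁻¹ᵁ V))
      (pushforward f ⋙ restrictFunctor V.ι)).app M) := fun M => isIso_map_η f V M
  exact NatIso.isIso_of_isIso_app _

/-- `(f_* M)|_V ≅ (f|_V)_* (M|_{f⁻¹V})` -/
noncomputable def pushRestrictIso :
    pushforward f ⋙ restrictFunctor V.ι ≅
      restrictFunctor (f ⁻¹ᵁ V).ι ⋙ pushforward (f ∣_ V) :=
  (show pushforward f ⋙ restrictFunctor V.ι ≅
      H (f ⁻¹ᵁ V) ⋙ (pushforward f ⋙ restrictFunctor V.ι) from
    (Functor.leftUnitor _).symm ≪≫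
      asIso (Functor.whiskerRight (η (f ⁻¹ᵁ V)) (pushforward f ⋙ restrictFunctor V.ι))) ≪≫
  (show H (f ⁻¹ᵁ V) ⋙ (pushforward f ⋙ restrictFunctor V.ι) ≅
      restrictFunctor (f ⁻¹ᵁ V).ι ⋙ ((pushforward (f ∣_ V) ⋙ pushforward V.ι) ⋙
        restrictFunctor V.ι) from
    Functor.isoWhiskerLeft (restrictFunctor (f ⁻¹ᵁ V).ι)
      (Functor.isoWhiskerRight (Groth.Agent.Lib.Helper3.PbBasic.isoG f V) (restrictFunctor V.ι))) ≪≫
  (show restrictFunctor (f ⁻¹ᵁ V).ι ⋙ ((pushforward (f ∣_ V) ⋙ pushforward V.ι) ⋙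
        restrictFunctor V.ι) ≅ restrictFunctor (f ⁻¹ᵁ V).ι ⋙ pushforward (f ∣_ V) from
    Functor.isoWhiskerLeft (restrictFunctor (f ⁻¹ᵁ V).ι ⋙ pushforward (f ∣_ V))
      (asIso (restrictAdjunction V.ι).counit) ≪≫ Functor.rightUnitor _)

variable [DCoh.HasRpush f] [DCoh.HasRpush (f ∣_ V)]
  [PreservesFiniteLimits (Scheme.Modules.restrictFunctor V.ι)]
  [PreservesFiniteLimits (Scheme.Modules.restrictFunctor (f ⁻¹ᵁ V).ι)]

/-- the first functor on homotopy categories -/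
noncomputable abbrev F₁ : HomotopyCategory X.Modules (ComplexShape.up ℤ) ⥤ DCoh.D (V : Scheme.{u}) :=
  DCoh.pushKh f ⋙ DCoh.restrictD V.ι

/-- the second functor on homotopy categories -/
noncomputable abbrev F₂ : HomotopyCategory X.Modules (ComplexShape.up ℤ) ⥤ DCoh.D (V : Scheme.{u}) :=
  (restrictFunctor (f ⁻¹ᵁ V).ι).mapHomotopyCategory (ComplexShape.up ℤ) ⋙ DCoh.pushKh (f ∣_ V)

/-- the comparison of the two functors -/
noncomputable def τ : F₁ f V ≅ F₂ f V :=
  (show F₁ f V ≅ (pushforward f).mapHomotopyCategory (ComplexShape.up ℤ) ⋙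
      ((restrictFunctor V.ι).mapHomotopyCategory (ComplexShape.up ℤ) ⋙ DerivedCategory.Qh) from
    Functor.isoWhiskerLeft ((pushforward f).mapHomotopyCategory (ComplexShape.up ℤ))
      (restrictFunctor V.ι).mapDerivedCategoryFactorsh) ≪≫
  (show (pushforward f).mapHomotopyCategory (ComplexShape.up ℤ) ⋙
      ((restrictFunctor V.ι).mapHomotopyCategory (ComplexShape.up ℤ) ⋙ DerivedCategory.Qh) ≅
      F₂ f V from
    Functor.isoWhiskerRight
      (Functor.mapHomotopyCategoryCompIso (pushRestrictIso f V) (ComplexShape.up ℤ) ≪≫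
        (Functor.mapHomotopyCategoryCompIso
          (Iso.refl (restrictFunctor (f ⁻¹ᵁ V).ι ⋙ pushforward (f ∣_ V)))
          (ComplexShape.up ℤ)).symm) DerivedCategory.Qh)

/-- the first unit -/
noncomputable def α₁ : F₁ f V ⟶ DerivedCategory.Qh ⋙ (DCoh.Rpush f ⋙ DCoh.restrictD V.ι) :=
  Functor.whiskerRight ((DCoh.pushKh f).totalRightDerivedUnit DerivedCategory.Qh
    (HomotopyCategory.quasiIso X.Modules (ComplexShape.up ℤ))) (DCoh.restrictD V.ι)

/-- the second unit -/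
noncomputable def α₂ : F₂ f V ⟶ DerivedCategory.Qh ⋙
    (DCoh.restrictD (f ⁻¹ᵁ V).ι ⋙ DCoh.Rpush (f ∣_ V)) :=
  (show F₂ f V ⟶ ((restrictFunctor (f ⁻¹ᵁ V).ι).mapHomotopyCategory (ComplexShape.up ℤ) ⋙
      DerivedCategory.Qh) ⋙ DCoh.Rpush (f ∣_ V) from
    Functor.whiskerLeft ((restrictFunctor (f ⁻¹ᵁ V).ι).mapHomotopyCategory (ComplexShape.up ℤ))
      ((DCoh.pushKh (f ∣_ V)).totalRightDerivedUnit DerivedCategory.Qh
        (HomotopyCategory.quasiIso (f ⁻¹ᵁ V : Scheme.{u}).Modules (ComplexShape.up ℤ)))) ≫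
  Functor.whiskerRight (restrictFunctor (f ⁻¹ᵁ V).ι).mapDerivedCategoryFactorsh.inv
    (DCoh.Rpush (f ∣_ V))

instance isRightDerivedFunctor₁ :
    (DCoh.Rpush f ⋙ DCoh.restrictD V.ι).IsRightDerivedFunctor (α₁ f V)
      (HomotopyCategory.quasiIso X.Modules (ComplexShape.up ℤ)) := by
  refine isRightDerivedFunctor_of_isIso (Groth.Agent.Lib.Helper13.KInjSch.hasKInj X) _ _ _
    (fun I hI => ?_)
  haveI : IsIso (u (pushforward f) I) :=
    isIso_u (pushforward f) (Groth.Agent.Lib.Helper13.KInjSch.hasKInj X) I hI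
  change IsIso ((DCoh.restrictD V.ι).map (u (pushforward f) I))
  infer_instance

instance isRightDerivedFunctor₂ :
    (DCoh.restrictD (f ⁻¹ᵁ V).ι ⋙ DCoh.Rpush (f ∣_ V)).IsRightDerivedFunctor (α₂ f V)
      (HomotopyCategory.quasiIso X.Modules (ComplexShape.up ℤ)) := by
  refine isRightDerivedFunctor_of_isIso (Groth.Agent.Lib.Helper13.KInjSch.hasKInj X) _ _ _
    (fun I hI => ?_)
  haveI : IsIso (u (pushforward (f ∣_ V))
      (((restrictFunctor (f ⁻¹ᵁ V).ι).mapHomologicalComplex (ComplexShape.up ℤ)).obj I)) :=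
    isIso_u (pushforward (f ∣_ V))
      (Groth.Agent.Lib.Helper13.KInjSch.hasKInj (f ⁻¹ᵁ V : Scheme.{u})) _
      (Groth.Agent.Lib.Helper13.KInjSch.isKInjective_restrict (f ⁻¹ᵁ V) I hI)
  change IsIso (u (pushforward (f ∣_ V))
      (((restrictFunctor (f ⁻¹ᵁ V).ι).mapHomologicalComplex (ComplexShape.up ℤ)).obj I) ≫
    (DCoh.Rpush (f ∣_ V)).map ((restrictFunctor (f ⁻¹ᵁ V).ι).mapDerivedCategoryFactorsh.inv.app
      ((HomotopyCategory.quotient X.Modules (ComplexShape.up ℤ)).obj I)))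
  infer_instance

/-- `(Rf_* E)|_V ≅ R(f|_V)_*(E|_{f⁻¹V})`, naturally in `E`. -/
theorem nonempty_rpush_restrict_iso :
    Nonempty (DCoh.Rpush f ⋙ DCoh.restrictD V.ι ≅
      DCoh.restrictD (f ⁻¹ᵁ V).ι ⋙ DCoh.Rpush (f ∣_ V)) :=
  ⟨Functor.rightDerivedNatIso _ _ (α₁ f V) (α₂ f V)
    (HomotopyCategory.quasiIso X.Modules (ComplexShape.up ℤ)) (τ f V)⟩

end Sch

end Groth.Agent.Lib.Helper13.KInjDerived
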