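import Groth.Agent.Lib.Helper13.StalkFBC1
import Groth.Agent.Lib.Helper13.KInjDerived
import Groth.Agent.Lib.Helper13.KInjSch
import Groth.Agent.Lib.Helper3.Reduced

/-!
# The stalk form of flat base change over a general base (helper13)

`f : X ⟶ Y` quasi-compact and separated, `y : Y`, `X₁ = X ×_Y Spec O_{Y,y}`: for quasi-coherent `F`
on `X`, `(R^p f_* F)_y ≃ H^p(X₁, g^* F)`, `O_{Y,y}`-linearly.  Reduction to an affine open
neighbourhood of `y`.
-/

set_option autoImplicit false
set_option linter.style.haveILetI false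
universe u
open CategoryTheory CategoryTheory.Limits Opposite TopologicalSpace AlgebraicGeometry
open Scheme.Modules

noncomputable section

namespace Groth.Agent.Lib.Helper13.StalkFBC2

open Groth.Agent.Lib.Helper3 Groth.Agent.Lib.Helper23.T2 Groth.Agent.Lib.Helper2
  Groth.Agent.Lib.Helper13.StalkFBC0

/-! ### the stalk of a restriction to an open subscheme, semilinearly -/

section Restrict

variable {U Y : Scheme.{u}} (j : U ⟶ Y) [IsOpenImmersion j] (M : Y.Modules) (x : U)

theorem smul_restrict (W : U.Opens) (r : Γ(U, W)) (t : Γ((restrictFunctor j).obj M, W)) :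
    (r • t : Γ((restrictFunctor j).obj M, W)) =
      (((j.appIso W).inv.hom r) • (show Γ(M, j ''ᵁ W) from t) : Γ(M, j ''ᵁ W)) := rfl

/-- the stalk of the restriction -/
def rStalk : ((restrictFunctor j).obj M).presheaf.stalk x ≃+ M.presheaf.stalk (j x) :=
  ((restrictStalkNatIso j x).app M).addCommGroupIsoToAddEquiv

theorem mem_image (W : U.Opens) (hx : x ∈ W) : j x ∈ j ''ᵁ W := ⟨x, hx, rfl⟩

theorem rStalk_germ (W : U.Opens) (hx : x ∈ W) (t : Γ((restrictFunctor j).obj M, W)) :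
    rStalk j M x (((restrictFunctor j).obj M).presheaf.germ W x hx t) =
      M.presheaf.germ (j ''ᵁ W) (j x) (mem_image j x W hx) (show Γ(M, j ''ᵁ W) from t) := by
  have h := germ_restrictStalkNatIso_hom_app j x M hx
  exact congr($h t)

/-- the inverse of the stalk map of an open immersion -/
def ρj : U.presheaf.stalk x ≃+* Y.presheaf.stalk (j x) :=
  (asIso (j.stalkMap x)).symm.commRingCatIsoToRingEquiv

theorem stalkMap_ρj (c : U.presheaf.stalk x) : j.stalkMap x (ρj j x c) = c := by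
  change ((asIso (j.stalkMap x)).inv ≫ (asIso (j.stalkMap x)).hom) c = c
  rw [Iso.inv_hom_id]
  rfl

theorem ρj_stalkMap (d : Y.presheaf.stalk (j x)) : ρj j x (j.stalkMap x d) = d := by
  change ((asIso (j.stalkMap x)).hom ≫ (asIso (j.stalkMap x)).inv) d = d
  rw [Iso.hom_inv_id]
  rfl

theorem ρj_germ (W : U.Opens) (hx : x ∈ W) (r : Γ(U, W)) :
    ρj j x (U.presheaf.germ W x hx r) =
      Y.presheaf.germ (j ''ᵁ W) (j x) (mem_image j x W hx) ((j.appIso W).inv.hom r) := by
  have h : j.stalkMap x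
      (Y.presheaf.germ (j ''ᵁ W) (j x) (mem_image j x W hx) ((j.appIso W).inv.hom r)) =
      U.presheaf.germ W x hx r := by
    rw [Scheme.Hom.germ_stalkMap_apply]
    erw [Scheme.Hom.appIso_inv_app_apply]
    exact TopCat.Presheaf.germ_res_apply U.presheaf (eqToHom (j.preimage_image_eq W)) x
      (show x ∈ j ⁻¹ᵁ j ''ᵁ W from mem_image j x W hx) r
  rw [← h, ρj_stalkMap]

theorem exists_common_germ {X : Scheme.{u}} (N : X.Modules) (x : X) (c : X.presheaf.stalk x)
    (m : N.presheaf.stalk x) :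
    ∃ (W : X.Opens) (hx : x ∈ W) (r : Γ(X, W)) (s : Γ(N, W)),
      X.presheaf.germ W x hx r = c ∧ N.presheaf.germ W x hx s = m := by
  obtain ⟨W₁, h₁, r, rfl⟩ := TopCat.Presheaf.exists_germ_eq X.presheaf c
  obtain ⟨W₂, h₂, s, rfl⟩ := TopCat.Presheaf.exists_germ_eq N.presheaf m
  refine ⟨W₁ ⊓ W₂, ⟨h₁, h₂⟩, X.presheaf.map (homOfLE inf_le_left).op r,
    N.presheaf.map (homOfLE inf_le_right).op s, ?_, ?_⟩
  · exact TopCat.Presheaf.germ_res_apply _ _ _ _ _
  · exact TopCat.Presheaf.germ_res_apply _ _ _ _ _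

/-- the stalk of the restriction is semilinear for the inverse of the stalk map. -/
theorem rStalk_smul (c : U.presheaf.stalk x) (m : ((restrictFunctor j).obj M).presheaf.stalk x) :
    rStalk j M x (c • m) = ρj j x c • rStalk j M x m := by
  obtain ⟨W, hx, r, s, rfl, rfl⟩ := exists_common_germ ((restrictFunctor j).obj M) x c m
  rw [← QS.germ_smul, rStalk_germ, rStalk_germ, ρj_germ]
  exact QS.germ_smul (U := j ''ᵁ W) M (j x) (mem_image j x W hx) ((j.appIso W).inv.hom r) s

end Restrict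

/-! ### the reduction -/

section Main

variable {X Y X₁ : Scheme.{u}} (f : X ⟶ Y) [QuasiCompact f] [IsSeparated f] (y : Y)
  [X₁.Over (Spec (CommRingCat.of (Y.presheaf.stalk y)))] (g : X₁ ⟶ X)
  (hsq : IsPullback g (X₁ ↘ Spec (CommRingCat.of (Y.presheaf.stalk y))) f (Y.fromSpecStalk y))

set_option backward.isDefEq.respectTransparency false in
include hsq in
/-- **Stalk form of flat base change**: `(R^p f_* F)_y ≃ H^p(X ×_Y Spec O_{Y,y}, g^* F)`,
`O_{Y,y}`-linearly. -/
theorem exists_stalk_equiv (p : ℕ) (F : X.Modules) [F.IsQuasicoherent] :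
    ∃ e : ((((Scheme.Modules.pushforward f).rightDerived p).obj F).presheaf.stalk y) ≃+
        Coh.HH X₁ ((Scheme.Modules.pullback g).obj F) p,
      ∀ (c : Y.presheaf.stalk y)
        (x : (((Scheme.Modules.pushforward f).rightDerived p).obj F).presheaf.stalk y),
        e (c • x) = c • e x := by
  obtain ⟨V, hV, hyV⟩ := QCProps.exists_affine_nbhd y
  haveI : IsAffine (V : Scheme.{u}) := hV
  let y' : (V : Scheme.{u}) := ⟨y, hyV⟩
  let ρ : (V : Scheme.{u}).presheaf.stalk y' ≃+* Y.presheaf.stalk y := ρj V.ι y'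
  let jj : Spec (CommRingCat.of (Y.presheaf.stalk y)) ⟶ (V : Scheme.{u}) :=
    V.fromSpecStalkOfMem y hyV
  have hjj : jj = Spec.map (CommRingCat.ofHom ρ.toRingHom) ≫
      (V : Scheme.{u}).fromSpecStalk y' := rfl
  have hjι : jj ≫ V.ι = Y.fromSpecStalk y := V.fromSpecStalkOfMem_ι y hyV
  haveI : Flat jj := by
    haveI h1 : Flat ((V : Scheme.{u}).fromSpecStalk y') :=
      Groth.Agent.Lib.Helper3.flat_fromSpecStalk _ _
    haveI h2 : IsIso (CommRingCat.ofHom ρ.toRingHom) := ρ.toCommRingCatIso.isIso_hom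
    haveI h3 : IsIso (Spec.map (CommRingCat.ofHom ρ.toRingHom)) := inferInstance
    rw [hjj]
    infer_instance
  have hmr := isPullback_morphismRestrict f V
  let gV : X₁ ⟶ ((f ⁻¹ᵁ V : X.Opens) : Scheme.{u}) :=
    hmr.lift ((X₁ ↘ Spec (CommRingCat.of (Y.presheaf.stalk y))) ≫ jj) g (by
      rw [Category.assoc, hjι]; exact hsq.w.symm)
  have hgV1 : gV ≫ (f ∣_ V) = (X₁ ↘ Spec (CommRingCat.of (Y.presheaf.stalk y))) ≫ jj :=
    hmr.lift_fst _ _ _
  have hgV2 : gV ≫ (f ⁻¹ᵁ V).ι = g := hmr.lift_snd _ _ _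
  have hsqV : IsPullback gV (X₁ ↘ Spec (CommRingCat.of (Y.presheaf.stalk y))) (f ∣_ V) jj := by
    refine IsPullback.of_right ?_ hgV1 hmr.flip
    rw [hgV2, hjι]
    exact hsq
  haveI : ((restrictFunctor (f ⁻¹ᵁ V).ι).obj F).IsQuasicoherent :=
    Scheme.Modules.isQuasicoherent_restrictFunctor _ F
  obtain ⟨e₁, he₁⟩ := StalkFBC1.exists_stalk_equiv (f ∣_ V) y' ρ gV jj hjj hsqV p
    ((restrictFunctor (f ⁻¹ᵁ V).ι).obj F)
  -- the stalk side
  let eR := DerivedCommute.rightDerivedBaseChangeObjIso (Scheme.Modules.pushforward f)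
    (restrictFunctor V.ι) (restrictFunctor (f ⁻¹ᵁ V).ι)
    (fun J hJ => KInjSch.injective_restrict _ J hJ)
    (Scheme.Modules.pushforward (f ∣_ V)) (KInjDerived.pushRestrictIso f V) p F
  let t₂ := ((Stk.Φ y').mapIso eR).toLinearEquiv
  let r : ((restrictFunctor V.ι).obj
      (((Scheme.Modules.pushforward f).rightDerived p).obj F)).presheaf.stalk y' ≃+
      (((Scheme.Modules.pushforward f).rightDerived p).obj F).presheaf.stalk y :=
    rStalk V.ι (((Scheme.Modules.pushforward f).rightDerived p).obj F) y'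
  have hr : ∀ (c : (V : Scheme.{u}).presheaf.stalk y') m, r (c • m) = ρ c • r m :=
    fun c m => rStalk_smul V.ι _ y' c m
  -- the cohomology side
  let iso : (Scheme.Modules.pullback gV).obj ((restrictFunctor (f ⁻¹ᵁ V).ι).obj F) ≅
      (Scheme.Modules.pullback g).obj F :=
    (Scheme.Modules.pullback gV).mapIso ((restrictFunctorIsoPullback (f ⁻¹ᵁ V).ι).app F) ≪≫
      (Scheme.Modules.pullbackComp gV (f ⁻¹ᵁ V).ι).app F ≪≫
      (Scheme.Modules.pullbackCongr hgV2).app F
  let h := HmapEquiv iso p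
  refine ⟨r.symm.trans (t₂.toAddEquiv.trans (e₁.trans h.toAddEquiv)), fun c x => ?_⟩
  have h1 : r.symm (c • x) = ρ.symm c • r.symm x := by
    apply r.injective
    rw [hr, AddEquiv.apply_symm_apply, AddEquiv.apply_symm_apply, RingEquiv.apply_symm_apply]
  change h (e₁ (t₂ (r.symm (c • x)))) = c • h (e₁ (t₂ (r.symm x)))
  rw [h1, t₂.map_smul, he₁, RingEquiv.apply_symm_apply]
  exact h.map_smul (Coh.toGlobal (X₁ ↘ Spec (CommRingCat.of (Y.presheaf.stalk y))) c) _

end Main

end Groth.Agent.Lib.Helper13.StalkFBC2
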