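import Groth.Agent.Lib.Helper3.QCExtend
import Groth.Agent.Lib.Helper3.InvGen

/-!
# Finite type quasi-coherent submodules containing finitely many local sections

On a quasi-compact quasi-separated scheme, finitely many sections of a quasi-coherent module `K`
over quasi-compact opens lie in a quasi-coherent submodule of finite type.
-/

set_option autoImplicit false
universe u
open CategoryTheory CategoryTheory.Limits AlgebraicGeometry TopologicalSpace Opposite
open Scheme.Modules ZeroObject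

namespace Groth.Agent.Lib.Helper13.FTApprox

open Groth.Agent.Lib.Helper3 Groth.Agent.Lib.Helper3.QCSec Groth.Agent.Lib.Helper3.QCExtend

variable {X : Scheme.{u}}

theorem isFiniteType_biprod (K₁ K₂ : X.Modules) [K₁.IsQuasicoherent] [K₂.IsQuasicoherent]
    [K₁.IsFiniteType] [K₂.IsFiniteType] :
    SheafOfModules.IsFiniteType (R := X.ringCatSheaf) (K₁ ⊞ K₂ : X.Modules) := by
  haveI : (K₁ ⊞ K₂ : X.Modules).IsQuasicoherent := QCLim.isQuasicoherent_biprod K₁ K₂
  rw [QCProps.isFiniteType_iff_finite_sections]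
  intro U hU
  haveI : Module.Finite Γ(X, U) Γ(K₁, U) := QCProps.finite_sections K₁ hU
  haveI : Module.Finite Γ(X, U) Γ(K₂, U) := QCProps.finite_sections K₂ hU
  let f : (Γ(K₁, U) × Γ(K₂, U)) →ₗ[Γ(X, U)] Γ((K₁ ⊞ K₂ : X.Modules), U) :=
    (QCProps.appₗ (biprod.inl : K₁ ⟶ (K₁ ⊞ K₂ : X.Modules)) U).coprod
      (QCProps.appₗ (biprod.inr : K₂ ⟶ (K₁ ⊞ K₂ : X.Modules)) U)
  apply Module.Finite.of_surjective f
  intro x
  refine ⟨((biprod.fst : (K₁ ⊞ K₂ : X.Modules) ⟶ K₁).app U x,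
    (biprod.snd : (K₁ ⊞ K₂ : X.Modules) ⟶ K₂).app U x), ?_⟩
  have htot : (biprod.fst ≫ biprod.inl + biprod.snd ≫ biprod.inr :
      (K₁ ⊞ K₂ : X.Modules) ⟶ (K₁ ⊞ K₂ : X.Modules)) = 𝟙 _ := biprod.total
  have h1 := congrArg (fun φ : (K₁ ⊞ K₂ : X.Modules) ⟶ (K₁ ⊞ K₂ : X.Modules) => φ.app U x) htot
  exact h1

theorem exists_sum {K K₁ K₂ : X.Modules} [K.IsQuasicoherent] [K₁.IsQuasicoherent]
    [K₂.IsQuasicoherent] [K₁.IsFiniteType] [K₂.IsFiniteType] (m₁ : K₁ ⟶ K) (m₂ : K₂ ⟶ K) :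
    ∃ (K' : X.Modules) (m : K' ⟶ K) (j₁ : K₁ ⟶ K') (j₂ : K₂ ⟶ K'), Mono m ∧
      K'.IsQuasicoherent ∧ K'.IsFiniteType ∧ j₁ ≫ m = m₁ ∧ j₂ ≫ m = m₂ := by
  let φ : (K₁ ⊞ K₂ : X.Modules) ⟶ K := biprod.desc m₁ m₂
  haveI : (K₁ ⊞ K₂ : X.Modules).IsQuasicoherent := QCLim.isQuasicoherent_biprod K₁ K₂
  haveI : (K₁ ⊞ K₂ : X.Modules).IsFiniteType := isFiniteType_biprod K₁ K₂
  haveI : (cokernel φ).IsQuasicoherent := QCProps.isQuasicoherent_cokernel φ
  refine ⟨Abelian.image φ, Abelian.image.ι φ, biprod.inl ≫ Abelian.factorThruImage φ,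
    biprod.inr ≫ Abelian.factorThruImage φ, inferInstance,
    QCProps.isQuasicoherent_kernel (cokernel.π φ),
    QCProps.isFiniteType_of_epi (Abelian.factorThruImage φ), ?_, ?_⟩
  · rw [Category.assoc, Abelian.image.fac, biprod.inl_desc]
  · rw [Category.assoc, Abelian.image.fac, biprod.inr_desc]

theorem exists_ft_sub_of_section [CompactSpace X] [QuasiSeparatedSpace X] (K : X.Modules)
    [K.IsQuasicoherent] {W : X.Opens} (hW : IsAffineOpen W) (c : Γ(K, W)) :
    ∃ (K' : X.Modules) (m : K' ⟶ K), Mono m ∧ K'.IsQuasicoherent ∧ K'.IsFiniteType ∧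
      ∃ y : Γ(K', W), m.app W y = c := by
  let s : PUnit.{u + 1} → Γ(K, W) := fun _ => c
  let σ := sigmaMap K W s
  haveI : (freeMod (W : Scheme.{u}) PUnit.{u + 1}).IsQuasicoherent := isQuasicoherent_freeMod _ _
  haveI : (freeMod (W : Scheme.{u}) PUnit.{u + 1}).IsFiniteType := isFiniteType_freeMod _ _
  haveI : (K.restrict W.ι).IsQuasicoherent := Scheme.Modules.isQuasicoherent_restrictFunctor W.ι K
  haveI hcok : (cokernel σ).IsQuasicoherent := QCProps.isQuasicoherent_cokernel σ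
  haveI hF'q : (Abelian.image σ).IsQuasicoherent := QCProps.isQuasicoherent_kernel (cokernel.π σ)
  have hF'ft : (Abelian.image σ).IsFiniteType :=
    QCProps.isFiniteType_of_epi (Abelian.factorThruImage σ)
  obtain ⟨F, i, e, hmono, hq, hft, hcomp⟩ := exists_finiteType_extension W hW.isCompact K
    (Abelian.image σ) hF'ft (Abelian.image.ι σ)
  refine ⟨F, i, hmono, hq, hft, ?_⟩
  let D : (W : Scheme.{u}).Opens := ⊤
  let g0 : Γ(freeMod (W : Scheme.{u}) PUnit.{u + 1}, D) :=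
    (SheafOfModules.freeSection PUnit.unit).val (op D)
  let z : Γ(Abelian.image σ, D) := (Abelian.factorThruImage σ).app D g0
  have hz : (Abelian.image.ι σ).app D z =
      (show Γ(K.restrict W.ι, D) from res K (W.ι_image_le D) c) := by
    have h1 : (Abelian.factorThruImage σ ≫ Abelian.image.ι σ).app D g0 = σ.app D g0 := by
      rw [Abelian.image.fac]
    exact h1.trans (sigmaMap_app_freeSection K W s PUnit.unit D)
  let y0 : Γ(F.restrict W.ι, D) := e.inv.app D z
  have hy0 : ((restrictFunctor W.ι).map i).app D y0 =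
      (show Γ(K.restrict W.ι, D) from res K (W.ι_image_le D) c) := by
    rw [← hcomp]
    change (Abelian.image.ι σ).app D (e.hom.app D (e.inv.app D z)) = _
    have h2 : e.hom.app D (e.inv.app D z) = z :=
      congrArg (fun φ : Abelian.image σ ⟶ Abelian.image σ => φ.app D z) e.inv_hom_id
    rw [h2, hz]
  have hy0' : i.app (W.ι ''ᵁ D) (show Γ(F, W.ι ''ᵁ D) from y0) = res K (W.ι_image_le D) c := hy0
  have hDW : W ≤ W.ι ''ᵁ D := le_of_eq W.ι_image_top.symm
  refine ⟨res F hDW (show Γ(F, W.ι ''ᵁ D) from y0), ?_⟩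
  rw [QCExact.app_res', hy0', res_res, res_self]

theorem exists_ft_sub_of_affine_sections [CompactSpace X] [QuasiSeparatedSpace X] (K : X.Modules)
    [K.IsQuasicoherent] (α : Type u) [Finite α] :
    ∀ (W : α → X.Opens) (_ : ∀ a, IsAffineOpen (W a)) (c : ∀ a, Γ(K, W a)),
      ∃ (K' : X.Modules) (m : K' ⟶ K), Mono m ∧ K'.IsQuasicoherent ∧ K'.IsFiniteType ∧
        ∀ a, ∃ y : Γ(K', W a), m.app (W a) y = c a := by
  refine Finite.induction_empty_option
    (P := fun α : Type u => ∀ (W : α → X.Opens) (_ : ∀ a, IsAffineOpen (W a))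
      (c : ∀ a, Γ(K, W a)),
      ∃ (K' : X.Modules) (m : K' ⟶ K), Mono m ∧ K'.IsQuasicoherent ∧ K'.IsFiniteType ∧
        ∀ a, ∃ y : Γ(K', W a), m.app (W a) y = c a) ?_ ?_ ?_ α
  · intro α β e h W hW c
    obtain ⟨K', m, h1, h2, h3, h4⟩ := h (fun a => W (e a)) (fun a => hW (e a)) (fun a => c (e a))
    refine ⟨K', m, h1, h2, h3, fun b => ?_⟩
    obtain ⟨a, rfl⟩ := e.surjective b
    exact h4 a
  · intro W hW c
    refine ⟨(0 : X.Modules), (0 : (0 : X.Modules) ⟶ K), inferInstance,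
      QCOpen.isQuasicoherent_of_isZero (isZero_zero _),
      QCOpen.isFiniteType_of_isZero (isZero_zero _), fun a => a.elim⟩
  · intro α _ ih W hW c
    obtain ⟨K₁, m₁, h1, h2, h3, h4⟩ := ih (fun a => W (some a)) (fun a => hW (some a))
      (fun a => c (some a))
    obtain ⟨K₂, m₂, g1, g2, g3, y₂, hy₂⟩ := exists_ft_sub_of_section K (hW none) (c none)
    haveI := h2
    haveI := h3
    haveI := g2
    haveI := g3
    obtain ⟨K', m, j₁, j₂, k1, k2, k3, hj₁, hj₂⟩ := exists_sum m₁ m₂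
    refine ⟨K', m, k1, k2, k3, fun a => ?_⟩
    cases a with
    | none =>
      refine ⟨j₂.app (W none) y₂, ?_⟩
      have := congrArg (fun φ : K₂ ⟶ K => φ.app (W none) y₂) hj₂
      exact this.trans hy₂
    | some a =>
      obtain ⟨y, hy⟩ := h4 a
      refine ⟨j₁.app (W (some a)) y, ?_⟩
      have := congrArg (fun φ : K₁ ⟶ K => φ.app (W (some a)) y) hj₁
      exact this.trans hy

theorem exists_preimage_of_locally {K' K : X.Modules} (m : K' ⟶ K) [Mono m] {κ : Type u}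
    (W : κ → X.Opens) (V : X.Opens) (hW : ∀ k, W k ≤ V) (hcov : V ≤ ⨆ k, W k) (c : Γ(K, V))
    (h : ∀ k, ∃ y : Γ(K', W k), m.app (W k) y = res K (hW k) c) :
    ∃ y : Γ(K', V), m.app V y = c := by
  choose y hy using h
  obtain ⟨b, hb⟩ := InvGen.sec_glue K' W V hW hcov y (by
    intro i j
    apply QCExact.injective_sections m (W i ⊓ W j)
    rw [QCExact.app_res', QCExact.app_res', hy, hy, res_res, res_res])
  refine ⟨b, ?_⟩
  apply InvGen.sec_eq_of_locally_eq K W V hW hcov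
  intro k
  rw [← QCExact.app_res', hb, hy]

theorem exists_ft_sub_of_sections [CompactSpace X] [QuasiSeparatedSpace X] (K : X.Modules)
    [K.IsQuasicoherent] {α : Type u} [Finite α] (V : α → X.Opens)
    (hV : ∀ a, IsCompact (V a : Set X)) (c : ∀ a, Γ(K, V a)) :
    ∃ (K' : X.Modules) (m : K' ⟶ K), Mono m ∧ K'.IsQuasicoherent ∧ K'.IsFiniteType ∧
      ∀ a, ∃ y : Γ(K', V a), m.app (V a) y = c a := by
  choose ι hι W hWa hWV hcov using fun a => QCSec.exists_finite_affine_cover (V a) (hV a)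
  haveI : ∀ a, Finite (ι a) := hι
  obtain ⟨K', m, h1, h2, h3, h4⟩ := exists_ft_sub_of_affine_sections K (Σ a, ι a)
    (fun p => W p.1 p.2) (fun p => hWa p.1 p.2) (fun p => res K (hWV p.1 p.2) (c p.1))
  haveI := h1
  exact ⟨K', m, h1, h2, h3, fun a => exists_preimage_of_locally m (W a) (V a) (hWV a) (hcov a)
    (c a) (fun k => h4 ⟨a, k⟩)⟩

end Groth.Agent.Lib.Helper13.FTApprox
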