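import Mathlib
import Groth.Agent.Lib.Helper13.CBCRank
import Groth.Agent.Lib.Helper13.CBCUnit
import Groth.Agent.Lib.Helper13.StalkFBC2
import Groth.Agent.Lib.Helper17.FibreFlat
import Groth.Agent.Lib.Helper7.CohFinite
import Groth.Agent.Lib.Helper23.T2J

/-!
# The bridge complex at a stalk

For `f : X ⟶ Y` proper over a locally Noetherian base, `F` coherent and flat over `Y`, and `y : Y`:
a complex `Q` of finite free `O_{Y,y}`-modules with `(R^p f_* F)_y ≅ H_{-p}(Q)` and
`dim H^p(X_{y'}, F_{y'}) = d_{-p}(Q)(q)` for every point `q` of `Spec O_{Y,y}` with image `y'`.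
-/

set_option autoImplicit false
set_option linter.style.haveILetI false
universe u
open CategoryTheory CategoryTheory.Limits AlgebraicGeometry TopologicalSpace Opposite TensorProduct
  MonoidalCategory
open Scheme.Modules

namespace Groth.Agent.Lib.Helper13.CBCStalk

open Groth.Agent.Lib.Helper13.CBCSec Groth.Agent.Lib.Helper13.CBCCech
  Groth.Agent.Lib.Helper13.CBCUp Groth.Agent.Lib.Helper13.CBCBase
  Groth.Agent.Lib.Helper13.CBCBC Groth.Agent.Lib.Helper13.CBCFib
  Groth.Agent.Lib.Helper13.CBCRank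
open Groth.Agent.Lib.Helper7

section Iso

variable {X : Scheme.{u}} (B : Type u) [CommRing B] [X.Over (Spec (CommRingCat.of B))]

/-- cohomology of isomorphic modules, linearly over the base ring -/
noncomputable def HHcongr {M N : X.Modules} (ε : M ≅ N) (n : ℕ) :
    Coh.HH X M n ≃ₗ[B] Coh.HH X N n :=
  { CohFinite.HmapL B ε.hom n with
    invFun := CohFinite.HmapL B ε.inv n
    left_inv := fun x => by
      show CohFinite.HmapL B ε.inv n (CohFinite.HmapL B ε.hom n x) = x
      rw [CohFinite.HmapL_apply, CohFinite.HmapL_apply, ← Sheaf.H.map_comp_apply,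
        ← Functor.map_comp, ε.hom_inv_id, CategoryTheory.Functor.map_id, Sheaf.H.map_id_apply]
    right_inv := fun x => by
      show CohFinite.HmapL B ε.hom n (CohFinite.HmapL B ε.inv n x) = x
      rw [CohFinite.HmapL_apply, CohFinite.HmapL_apply, ← Sheaf.H.map_comp_apply,
        ← Functor.map_comp, ε.inv_hom_id, CategoryTheory.Functor.map_id, Sheaf.H.map_id_apply] }

end Iso

section FibreRank

variable {X Y : Scheme.{u}} (f : X ⟶ Y) (y : Y)

theorem bijective_residueFieldMap_fromSpecStalk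
    (q : ↥(Spec (CommRingCat.of (Y.presheaf.stalk y)))) :
    Function.Bijective ((Y.fromSpecStalk y).residueFieldMap q).hom := by
  constructor
  · exact RingHom.injective _
  · have h1 := (Y.fromSpecStalk y).stalkMap_surjective q
    have h2 := Scheme.residue_surjective (Spec (CommRingCat.of (Y.presheaf.stalk y))) q
    have h3 := Scheme.residue_residueFieldMap (Y.fromSpecStalk y) q
    intro c
    obtain ⟨b, rfl⟩ := h2 c
    obtain ⟨a, rfl⟩ := h1 b
    exact ⟨Y.residue _ a, congr($h3 a)⟩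

variable {X₁ : Scheme.{u}} [X₁.Over (Spec (CommRingCat.of (Y.presheaf.stalk y)))] (g : X₁ ⟶ X)
  (hsq : IsPullback g (X₁ ↘ Spec (CommRingCat.of (Y.presheaf.stalk y))) f (Y.fromSpecStalk y))

include hsq in
theorem fiberRank_eq_dRank_of_stalk
    [IsSeparated (sm (Y.presheaf.stalk y) X₁)] [QuasiCompact (sm (Y.presheaf.stalk y) X₁)]
    (F : X.Modules) [F.IsQuasicoherent] (p : ℕ)
    (Q : ChainComplex (ModuleCat.{u} (Y.presheaf.stalk y)) ℤ)
    (ν : CohIII.tensorAFunctor (Y.presheaf.stalk y) ((Scheme.Modules.pullback g).obj F) ⋙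
        CohIII.HAb X₁ p ≅
      CohIII.TFun Q (-(p : ℤ)) ⋙ forget₂ (ModuleCat.{u} (Y.presheaf.stalk y)) AddCommGrpCat.{u})
    (q : ↥(Spec (CommRingCat.of (Y.presheaf.stalk y)))) :
    CohIII.fiberRank f F p ((Y.fromSpecStalk y) q) = CohIII.dRank Q (-(p : ℤ)) q := by
  classical
  haveI hqc1 : ((Scheme.Modules.pullback g).obj F).IsQuasicoherent := qc_F' g F
  obtain ⟨ι, hfin, U, hcov, -, hU⟩ := CBCCover.exists_cover (Y.presheaf.stalk y) X₁
  have hρbij := bijective_residueFieldMap_fromSpecStalk y q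
  haveI hρ : IsIso ((Y.fromSpecStalk y).residueFieldMap q) :=
    (ConcreteCategory.isIso_iff_bijective _).2 hρbij
  -- the map `Spec κ(y') ⟶ Spec O_{Y,y}`
  let ψ₀ : CommRingCat.of (Y.presheaf.stalk y) ⟶
      CommRingCat.of ↑(Y.residueField ((Y.fromSpecStalk y) q)) :=
    (CommRingCat.ofHom (algebraMap (Y.presheaf.stalk y) q.asIdeal.ResidueField) ≫
      (Scheme.Spec.residueFieldIso (CommRingCat.of (Y.presheaf.stalk y)) q).inv) ≫
      inv ((Y.fromSpecStalk y).residueFieldMap q)
  let gB : Spec (CommRingCat.of ↑(Y.residueField ((Y.fromSpecStalk y) q))) ⟶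
      Spec (CommRingCat.of (Y.presheaf.stalk y)) := Spec.map ψ₀
  have hgB : gB ≫ Y.fromSpecStalk y = Y.fromSpecResidueField ((Y.fromSpecStalk y) q) := by
    have h1 : Spec.map ((Y.fromSpecStalk y).residueFieldMap q) ≫
        Y.fromSpecResidueField ((Y.fromSpecStalk y) q) =
        (Spec (CommRingCat.of (Y.presheaf.stalk y))).fromSpecResidueField q ≫
          Y.fromSpecStalk y :=
      Scheme.Hom.SpecMap_residueFieldMap_fromSpecResidueField (Y.fromSpecStalk y) q
    have h2 : gB = Spec.map (inv ((Y.fromSpecStalk y).residueFieldMap q)) ≫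
        (Spec (CommRingCat.of (Y.presheaf.stalk y))).fromSpecResidueField q := by
      show Spec.map ψ₀ = _
      rw [Spec.map_comp]
      congr 1
      rw [Spec.map_comp]
      exact Scheme.Spec.map_residueFieldIso_inv_eq_fromSpecResidueField
        (CommRingCat.of (Y.presheaf.stalk y)) q
    rw [h2, Category.assoc, ← h1, ← Category.assoc, ← Spec.map_comp, IsIso.hom_inv_id,
      Spec.map_id]
    exact Category.id_comp _
  letI : (f.fiber ((Y.fromSpecStalk y) q)).Over
      (Spec (CommRingCat.of ↑(Y.residueField ((Y.fromSpecStalk y) q)))) :=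
    ⟨f.fiberToSpecResidueField ((Y.fromSpecStalk y) q)⟩
  have hw : f.fiberι ((Y.fromSpecStalk y) q) ≫ f =
      (f.fiberToSpecResidueField ((Y.fromSpecStalk y) q) ≫ gB) ≫ Y.fromSpecStalk y := by
    rw [Category.assoc, hgB]
    exact pullback.condition
  let g' : f.fiber ((Y.fromSpecStalk y) q) ⟶ X₁ :=
    hsq.lift (f.fiberι ((Y.fromSpecStalk y) q))
      (f.fiberToSpecResidueField ((Y.fromSpecStalk y) q) ≫ gB) hw
  have hg'1 : g' ≫ g = f.fiberι ((Y.fromSpecStalk y) q) := hsq.lift_fst _ _ _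
  have hg'2 : g' ≫ sm (Y.presheaf.stalk y) X₁ =
      f.fiberToSpecResidueField ((Y.fromSpecStalk y) q) ≫ gB := hsq.lift_snd _ _ _
  have hbig : IsPullback (g' ≫ g) (f.fiberToSpecResidueField ((Y.fromSpecStalk y) q)) f
      (gB ≫ Y.fromSpecStalk y) := by
    rw [hg'1, hgB]
    exact IsPullback.of_hasPullback f (Y.fromSpecResidueField ((Y.fromSpecStalk y) q))
  have hc : IsPullback g'
      (sm ↑(Y.residueField ((Y.fromSpecStalk y) q)) (f.fiber ((Y.fromSpecStalk y) q)))
      (sm (Y.presheaf.stalk y) X₁) gB := IsPullback.of_right hbig hg'2 hsq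
  have key := finrank_fibre_eq (Y.presheaf.stalk y) ↑(Y.residueField ((Y.fromSpecStalk y) q))
    gB g' hc ((Scheme.Modules.pullback g).obj F) U p hcov hU Q ν
    (algebraMap (Y.presheaf.stalk y) q.asIdeal.ResidueField)
    ((Scheme.Spec.residueFieldIso (CommRingCat.of (Y.presheaf.stalk y)) q).hom.hom.comp
      ((Y.fromSpecStalk y).residueFieldMap q).hom)
    ((Scheme.Spec.residueFieldIso (CommRingCat.of
      (Y.presheaf.stalk y)) q).commRingCatIsoToRingEquiv.bijective.comp hρbij)
    (by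
      intro a
      rw [φg_specMap]
      show (Scheme.Spec.residueFieldIso (CommRingCat.of (Y.presheaf.stalk y)) q).hom.hom
        (((Y.fromSpecStalk y).residueFieldMap q).hom
          ((inv ((Y.fromSpecStalk y).residueFieldMap q)).hom
            ((Scheme.Spec.residueFieldIso (CommRingCat.of (Y.presheaf.stalk y)) q).inv.hom
              (algebraMap (Y.presheaf.stalk y) q.asIdeal.ResidueField a)))) = _
      have e1 : ∀ z, ((Y.fromSpecStalk y).residueFieldMap q).hom
          ((inv ((Y.fromSpecStalk y).residueFieldMap q)).hom z) = z := fun z =>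
        congrArg (fun k => k.hom z) (IsIso.inv_hom_id ((Y.fromSpecStalk y).residueFieldMap q))
      rw [e1]
      exact congrArg (fun k => k.hom (algebraMap (Y.presheaf.stalk y) q.asIdeal.ResidueField a))
        (Scheme.Spec.residueFieldIso (CommRingCat.of (Y.presheaf.stalk y)) q).inv_hom_id)
    (by
      intro cc
      obtain ⟨t, ht, a, hta⟩ := exists_smul_eq_algebraMap q.asIdeal cc
      refine ⟨t, a, ?_, ?_⟩
      · rw [Ne, Ideal.algebraMap_residueField_eq_zero]
        exact ht
      · rw [← Algebra.smul_def]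
        exact hta)
  -- identify the two restrictions to the fibre
  let ε : F' g' ((Scheme.Modules.pullback g).obj F) ≅
      CohIII.fiberMod f F ((Y.fromSpecStalk y) q) :=
    (Scheme.Modules.pullbackComp g' g).app F ≪≫ (Scheme.Modules.pullbackCongr hg'1).app F
  have hε := (HHcongr ↑(Y.residueField ((Y.fromSpecStalk y) q)) ε p).finrank_eq
  exact hε.symm.trans key

end FibreRank

section Bridge

variable {X Y : Scheme.{u}} (f : X ⟶ Y) [IsProper f] [IsLocallyNoetherian Y]
  [HasInjectiveResolutions X.Modules]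

/-- **The bridge complex at a stalk.** -/
theorem stalk_bridge (F : X.Modules) (hF : Coh.IsCoh F) (hfl : FlatMod.IsFlatOver f F) (y : Y) :
    ∃ (Q : ChainComplex (ModuleCat.{u} (Y.presheaf.stalk y)) ℤ),
      (∀ i, Module.Finite (Y.presheaf.stalk y) (Q.X i) ∧
        Module.Free (Y.presheaf.stalk y) (Q.X i)) ∧
      (∃ d : ℤ, ∀ i < d, IsZero (Q.X i)) ∧
      (∀ j : ℤ, 0 < j → ∀ M, IsZero ((CohIII.TFun Q j).obj M)) ∧
      ∀ p : ℕ,
        Nonempty ((((Coh.Rpush f p).obj F).presheaf.stalk y) ≃ₗ[Y.presheaf.stalk y]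
          ↑((CohIII.TFun Q (-(p : ℤ))).obj
            (ModuleCat.of (Y.presheaf.stalk y) (Y.presheaf.stalk y)))) ∧
        ∀ q : ↥(Spec (CommRingCat.of (Y.presheaf.stalk y))),
          CohIII.fiberRank f F p ((Y.fromSpecStalk y) q) = CohIII.dRank Q (-(p : ℤ)) q := by
  classical
  haveI : F.IsQuasicoherent := hF.1
  letI : (pullback f (Y.fromSpecStalk y)).Over (Spec (CommRingCat.of (Y.presheaf.stalk y))) :=
    ⟨pullback.snd f (Y.fromSpecStalk y)⟩
  have hsq : IsPullback (pullback.fst f (Y.fromSpecStalk y))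
      ((pullback f (Y.fromSpecStalk y)) ↘ Spec (CommRingCat.of (Y.presheaf.stalk y))) f
      (Y.fromSpecStalk y) := IsPullback.of_hasPullback _ _
  haveI : IsProper ((pullback f (Y.fromSpecStalk y)) ↘
      Spec (CommRingCat.of (Y.presheaf.stalk y))) :=
    MorphismProperty.of_isPullback hsq ‹IsProper f›
  have hcoh : Coh.IsCoh ((Scheme.Modules.pullback (pullback.fst f (Y.fromSpecStalk y))).obj F) :=
    Groth.Agent.Lib.Helper23.T2.isCoh_pullback _ hF
  haveI : ((Scheme.Modules.pullback (pullback.fst f (Y.fromSpecStalk y))).obj F).IsQuasicoherent :=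
    hcoh.1
  have hfl1 : FlatMod.IsFlatOver ((pullback f (Y.fromSpecStalk y)) ↘
      Spec (CommRingCat.of (Y.presheaf.stalk y)))
      ((Scheme.Modules.pullback (pullback.fst f (Y.fromSpecStalk y))).obj F) := fun x' =>
    Groth.Agent.Lib.Helper17.FibreFlat.isFlatOverAt_baseChange hsq F x' (hfl _)
  obtain ⟨Q, hQ, hb, hpos, hν⟩ := Groth.Agent.Lib.Helper13.CBCMain.bridge (Y.presheaf.stalk y)
    (pullback f (Y.fromSpecStalk y)) _ hcoh hfl1
  refine ⟨Q, hQ, hb, hpos, fun p => ?_⟩
  obtain ⟨ν⟩ := hν p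
  refine ⟨?_, fun q => fiberRank_eq_dRank_of_stalk f y _ hsq F p Q ν q⟩
  obtain ⟨e, he⟩ := Groth.Agent.Lib.Helper13.StalkFBC2.exists_stalk_equiv f y _ hsq p F
  obtain ⟨ι, hfin, U, hcov, -, hU⟩ := CBCCover.exists_cover (Y.presheaf.stalk y)
    (pullback f (Y.fromSpecStalk y))
  have hU2 := affine_prod_of_finset U hU
  obtain ⟨e', he'⟩ := Groth.Agent.Lib.Helper7.LerayNat.cech_nat
    (pullback f (Y.fromSpecStalk y)) U hcov hU p
  exact ⟨((e.toLinearEquiv he).trans
    (Groth.Agent.Lib.Helper13.CBCUnit.HHunitEquiv (Y.presheaf.stalk y)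
      ((Scheme.Modules.pullback (pullback.fst f (Y.fromSpecStalk y))).obj F) U p e' he' hU2).symm).trans
    (Groth.Agent.Lib.Helper13.CBCUnit.linEquivOfBridge (Y.presheaf.stalk y)
      ((Scheme.Modules.pullback (pullback.fst f (Y.fromSpecStalk y))).obj F) Q p (-(p : ℤ)) ν
      (ModuleCat.of (Y.presheaf.stalk y) (Y.presheaf.stalk y)))⟩

end Bridge

end Groth.Agent.Lib.Helper13.CBCStalk
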