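import Mathlib
import Groth.Agent.Lib.Helper13.CBCStalk
import Groth.Agent.Lib.Helper7.BcLink
import Groth.Agent.Lib.Helper7.DRankT
import Groth.Agent.Lib.Helper14.FibreFreeSch
import Groth.Agent.Lib.Helper17.LocConstRank
import Groth.Agent.Lib.Helper3.QCProps
import Groth.Agent.Lib.Helper3.FreeBasis

/-!
# Stalk bridge: algebra over the local ring and translation between stalks and neighbourhoods
-/

set_option autoImplicit false
set_option linter.style.haveILetI false
universe u
open CategoryTheory CategoryTheory.Limits AlgebraicGeometry TopologicalSpace Opposite TensorProduct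
  MonoidalCategory
open Scheme.Modules

namespace Groth.Agent.Lib.Helper13.CBCStalk2

open Groth.Agent.Lib.Helper7

section Gen

variable {A : Type u} [CommRing A]

theorem finite_homology_bcCx {B : Type u} [Field B] (φ : A →+* B)
    (P : ChainComplex (ModuleCat.{u} A) ℤ) (p : ℤ) [Module.Finite A (P.X p)] :
    Module.Finite B ((CohIII.bcCx φ P).homology p) := by
  have hX : Module.Finite B (((CohIII.bcCx φ P).sc p).X₂) := by
    letI : Algebra A B := φ.toAlgebra
    exact inferInstanceAs (Module.Finite B (B ⊗[A] P.X p))
  haveI : IsNoetherian B (((CohIII.bcCx φ P).sc p).X₂) := isNoetherian_of_isNoetherianRing_of_finite _ _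
  have h2 : Module.Finite B (LinearMap.ker ((CohIII.bcCx φ P).sc p).g.hom ⧸
      LinearMap.range ((CohIII.bcCx φ P).sc p).moduleCatToCycles) := inferInstance
  haveI h3 : Module.Finite B ↑((CohIII.bcCx φ P).sc p).moduleCatLeftHomologyData.H := h2
  exact Module.Finite.equiv
    ((CohIII.bcCx φ P).sc p).moduleCatHomologyIso.toLinearEquiv.symm

end Gen

section Alg

variable {A : Type u} [CommRing A] [IsLocalRing A]

/-- the residue field `A/m` as an `A`-module is the restriction of scalars of `κ(m)`. -/
noncomputable def resIso :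
    ModuleCat.of A (IsLocalRing.ResidueField A) ≅
      (ModuleCat.restrictScalars
        (algebraMap A (IsLocalRing.closedPoint A).asIdeal.ResidueField)).obj
        (ModuleCat.of (IsLocalRing.closedPoint A).asIdeal.ResidueField
          (IsLocalRing.closedPoint A).asIdeal.ResidueField) := by
  haveI : (IsLocalRing.closedPoint A).asIdeal.IsMaximal :=
    inferInstanceAs (IsLocalRing.maximalIdeal A).IsMaximal
  have hb : Function.Bijective (algebraMap (A ⧸ (IsLocalRing.closedPoint A).asIdeal)
      (IsLocalRing.closedPoint A).asIdeal.ResidueField) :=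
    Ideal.bijective_algebraMap_quotient_residueField _
  let l : IsLocalRing.ResidueField A →ₗ[A]
      ↑((ModuleCat.restrictScalars
        (algebraMap A (IsLocalRing.closedPoint A).asIdeal.ResidueField)).obj
        (ModuleCat.of (IsLocalRing.closedPoint A).asIdeal.ResidueField
          (IsLocalRing.closedPoint A).asIdeal.ResidueField)) :=
    { toFun := fun x => algebraMap (A ⧸ (IsLocalRing.closedPoint A).asIdeal)
        (IsLocalRing.closedPoint A).asIdeal.ResidueField x
      map_add' := fun a b => map_add _ _ _
      map_smul' := fun a x => by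
        obtain ⟨b, rfl⟩ := IsLocalRing.residue_surjective x
        have key : ∀ c : A, algebraMap (A ⧸ (IsLocalRing.closedPoint A).asIdeal)
            (IsLocalRing.closedPoint A).asIdeal.ResidueField
            (Ideal.Quotient.mk (IsLocalRing.closedPoint A).asIdeal c) =
            algebraMap A (IsLocalRing.closedPoint A).asIdeal.ResidueField c := fun c =>
          (IsScalarTower.algebraMap_apply A (A ⧸ (IsLocalRing.closedPoint A).asIdeal)
            (IsLocalRing.closedPoint A).asIdeal.ResidueField c).symm
        show algebraMap (A ⧸ (IsLocalRing.closedPoint A).asIdeal)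
          (IsLocalRing.closedPoint A).asIdeal.ResidueField
          (Ideal.Quotient.mk (IsLocalRing.closedPoint A).asIdeal (a * b)) =
          algebraMap A (IsLocalRing.closedPoint A).asIdeal.ResidueField a *
            algebraMap (A ⧸ (IsLocalRing.closedPoint A).asIdeal)
              (IsLocalRing.closedPoint A).asIdeal.ResidueField
              (Ideal.Quotient.mk (IsLocalRing.closedPoint A).asIdeal b)
        rw [key, key, map_mul] }
  exact (LinearEquiv.ofBijective l hb).toModuleIso

variable (Q : ChainComplex (ModuleCat.{u} A) ℤ) (p : ℤ)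

/-- `T_p(k) ≃ H_p(Q ⊗ κ(m))` additively. -/
noncomputable def residueEquiv :
    ↑((CohIII.TFun Q p).obj (ModuleCat.of A (IsLocalRing.ResidueField A))) ≃+
      (CohIII.bcCx (algebraMap A (IsLocalRing.closedPoint A).asIdeal.ResidueField) Q).homology p :=
  ((CohIII.TFun Q p).mapIso resIso).toLinearEquiv.toAddEquiv.trans
    (linkHEquiv (algebraMap A (IsLocalRing.closedPoint A).asIdeal.ResidueField) Q p).symm

theorem isZero_T_residue_of_dRank_eq_zero (hQ : ∀ i, Module.Finite A (Q.X i))
    (h : CohIII.dRank Q p (IsLocalRing.closedPoint A) = 0) :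
    IsZero ((CohIII.TFun Q p).obj (ModuleCat.of A (IsLocalRing.ResidueField A))) := by
  haveI := hQ p
  have hfd := finite_homology_bcCx
    (algebraMap A (IsLocalRing.closedPoint A).asIdeal.ResidueField) Q p
  unfold CohIII.dRank at h
  haveI : Subsingleton ((CohIII.bcCx
      (algebraMap A (IsLocalRing.closedPoint A).asIdeal.ResidueField) Q).homology p) :=
    Module.finrank_zero_iff.1 h
  haveI : Subsingleton ↑((CohIII.TFun Q p).obj (ModuleCat.of A (IsLocalRing.ResidueField A))) :=
    (residueEquiv Q p).toEquiv.subsingleton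
  exact ModuleCat.isZero_of_subsingleton _

theorem dRank_eq_zero_of_isZero_T_residue
    (h : IsZero ((CohIII.TFun Q p).obj (ModuleCat.of A (IsLocalRing.ResidueField A)))) :
    CohIII.dRank Q p (IsLocalRing.closedPoint A) = 0 := by
  haveI : Subsingleton ↑((CohIII.TFun Q p).obj (ModuleCat.of A (IsLocalRing.ResidueField A))) :=
    ModuleCat.subsingleton_of_isZero h
  haveI : Subsingleton ((CohIII.bcCx
      (algebraMap A (IsLocalRing.closedPoint A).asIdeal.ResidueField) Q).homology p) :=
    (residueEquiv Q p).symm.toEquiv.subsingleton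
  unfold CohIII.dRank
  exact Module.finrank_zero_of_subsingleton

/-- if `T_p` is right exact and `T_p(A)` is free then `d_p(m) = rank T_p(A)`. -/
theorem dRank_closedPoint_eq_finrank (hQ : ∀ i, Module.Flat A (Q.X i))
    [(CohIII.TFun Q p).PreservesEpimorphisms]
    (hfree : Module.Free A ((CohIII.TFun Q p).obj (ModuleCat.of A A))) :
    CohIII.dRank Q p (IsLocalRing.closedPoint A) =
      Module.finrank A ((CohIII.TFun Q p).obj (ModuleCat.of A A)) := by
  haveI : Module.Free A ↑(CohIII.T Q p (ModuleCat.of A A)) := hfree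
  rw [dRank_eq_fibDim_T Q hQ p (IsLocalRing.closedPoint A)]
  unfold fibDim
  exact Module.finrank_baseChange

end Alg

section Sheaf

variable {Y : Scheme.{u}}

/-- a coherent module with a free stalk of rank `r` is free of rank `r` near the point. -/
theorem exists_free_nhd [IsLocallyNoetherian Y] (M : Y.Modules) (hM : Coh.IsCoh M) (y : Y)
    (r : ℕ) (hfree : Module.Free (Y.presheaf.stalk y) (M.presheaf.stalk y))
    (hr : Module.finrank (Y.presheaf.stalk y) (M.presheaf.stalk y) = r) :
    ∃ U : Y.Opens, y ∈ U ∧ Nonempty (M.restrict U.ι ≅ FlatMod.freeMod (↑U) r) := by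
  haveI := hM.1
  haveI := hM.2
  haveI : SheafOfModules.IsFinitePresentation (R := Y.ringCatSheaf) M := by
    rw [Groth.Agent.Lib.Helper3.QCProps.isFinitePresentation_iff_finitePresentation_sections]
    intro U hU
    haveI : IsNoetherianRing Γ(Y, U) := IsLocallyNoetherian.component_noetherian ⟨U, hU⟩
    haveI := Groth.Agent.Lib.Helper3.QCProps.finite_sections M hU
    exact Module.finitePresentation_of_finite _ _
  obtain ⟨U, n, hyU, ⟨φ⟩⟩ :=
    Groth.Agent.Lib.Helper14.FibreFree.exists_open_free_of_free_stalk M y hfree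
  obtain ⟨e, he⟩ := Groth.Agent.Lib.Helper3.FreeBasis.exists_isBasis_of_iso φ
  obtain ⟨hfr, hrk⟩ :=
    Groth.Agent.Lib.Helper17.LocConstRank.free_and_fibreRank_of_isBasis M he y hyU
  unfold Groth.Agent.Lib.Helper17.LocConstRank.fibreRank at hrk
  rw [Module.finrank_baseChange, hr] at hrk
  subst hrk
  exact ⟨U, hyU, ⟨φ⟩⟩

/-- the stalks of a module which is free of rank `n` over `U`. -/
theorem stalk_of_restrict_iso (M : Y.Modules) [M.IsQuasicoherent] {U : Y.Opens} {n : ℕ}
    (φ : M.restrict U.ι ≅ FlatMod.freeMod (↑U) n) (y : Y) (hy : y ∈ U) :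
    Module.Free (Y.presheaf.stalk y) (M.presheaf.stalk y) ∧
      Module.finrank (Y.presheaf.stalk y) (M.presheaf.stalk y) = n := by
  obtain ⟨e, he⟩ := Groth.Agent.Lib.Helper3.FreeBasis.exists_isBasis_of_iso φ
  obtain ⟨hfr, hrk⟩ :=
    Groth.Agent.Lib.Helper17.LocConstRank.free_and_fibreRank_of_isBasis M he y hy
  refine ⟨hfr, ?_⟩
  unfold Groth.Agent.Lib.Helper17.LocConstRank.fibreRank at hrk
  rw [Module.finrank_baseChange] at hrk
  exact hrk

end Sheaf

end Groth.Agent.Lib.Helper13.CBCStalk2
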