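import Groth.Agent.Lib.Helper13.CoheratorPush
import Groth.Agent.Lib.Helper13.RelMVMod
import Groth.Agent.Lib.Helper3.ModBasic
import Groth.Agent.Lib.Helper3.AssPoints
import Groth.Prelude.Def_CohB1
import Mathlib.CategoryTheory.Localization.Adjunction

/-!
# `QCoh(X) ⥤ QCoh(U)` is a localization for a quasi-compact open `U` (helper13)
-/

set_option autoImplicit false
universe u

namespace Groth.Agent.Lib.Helper13.QCohLoc

open CategoryTheory CategoryTheory.Limits AlgebraicGeometry
open AlgebraicGeometry.Scheme.Modules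
open Groth.Agent.Lib.Helper13 Groth.Agent.Lib.Helper13.RelMVMod Groth.Agent.Lib.Helper3

variable {X : Scheme.{u}} (U : X.Opens)

lemma isZero_restrict_iff (M : X.Modules) :
    IsZero ((restrictFunctor U.ι).obj M) ↔ CohB1.support M ⊆ (↑U : Set X)ᶜ := by
  constructor
  · intro h x hx hxU
    exact hx (ModBasic.subsingleton_stalk_of_isZero_restrict (f := U.ι) (M := M) h ⟨x, hxU⟩)
  · intro h
    apply QS.isZero_of_subsingleton_stalk
    intro y
    have h1 := ModBasic.subsingleton_stalk_restrict_iff U.ι M y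
    refine h1.2 ?_
    by_contra hns
    exact h hns y.2

/-- in an abelian category, iso iff kernel and cokernel vanish. -/
lemma isIso_iff_isZero_kernel_cokernel {𝒜 : Type*} [Category 𝒜] [Abelian 𝒜] {A B : 𝒜} (g : A ⟶ B) :
    IsIso g ↔ IsZero (kernel g) ∧ IsZero (cokernel g) := by
  rw [← Preadditive.mono_iff_isZero_kernel, ← Preadditive.epi_iff_isZero_cokernel]
  constructor
  · intro h
    exact ⟨inferInstance, inferInstance⟩
  · rintro ⟨h1, h2⟩
    exact isIso_of_mono_of_epi g

lemma isIso_restrict_map_iff {A B : X.Modules} (h : A ⟶ B) :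
    IsIso ((restrictFunctor U.ι).map h) ↔
      CohB1.support (kernel h) ⊆ (↑U : Set X)ᶜ ∧ CohB1.support (cokernel h) ⊆ (↑U : Set X)ᶜ := by
  rw [isIso_iff_isZero_kernel_cokernel, ← isZero_restrict_iff, ← isZero_restrict_iff]
  have e1 : kernel ((restrictFunctor U.ι).map h) ≅ (restrictFunctor U.ι).obj (kernel h) :=
    (PreservesKernel.iso (restrictFunctor U.ι) h).symm
  have e2 : cokernel ((restrictFunctor U.ι).map h) ≅ (restrictFunctor U.ι).obj (cokernel h) :=
    (PreservesCokernel.iso (restrictFunctor U.ι) h).symm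
  exact ⟨fun ⟨a, b⟩ => ⟨IsZero.of_iso a e1.symm, IsZero.of_iso b e2.symm⟩,
    fun ⟨a, b⟩ => ⟨IsZero.of_iso a e1, IsZero.of_iso b e2⟩⟩

/-- restriction on quasi-coherent modules. -/
noncomputable abbrev restrQC : QCohCat.QCoh X ⥤ QCohCat.QCoh (↑U : Scheme.{u}) :=
  ObjectProperty.lift (QCohCat.isQCoh (↑U : Scheme.{u}))
    (ObjectProperty.ι (QCohCat.isQCoh X) ⋙ Scheme.Modules.restrictFunctor U.ι)
    (fun M => @Scheme.Modules.isQuasicoherent_restrictFunctor (↑U : Scheme.{u}) X U.ι
      inferInstance M.obj M.property)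

variable [QuasiCompact U.ι]

noncomputable def adj : restrQC U ⊣ CoheratorPush.pushQC U.ι :=
  Adjunction.restrictFullyFaithful (Scheme.Modules.restrictAdjunction U.ι)
    (QCohCat.isQCoh X).fullyFaithfulι (QCohCat.isQCoh (↑U : Scheme.{u})).fullyFaithfulι
    (ObjectProperty.liftCompιIso _ _ _).symm (ObjectProperty.liftCompιIso _ _ _).symm

instance : (CoheratorPush.pushQC U.ι).Full := by
  unfold CoheratorPush.pushQC
  infer_instance

instance : (CoheratorPush.pushQC U.ι).Faithful := by
  unfold CoheratorPush.pushQC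
  infer_instance

theorem isLocalization_restrQC :
    (restrQC U).IsLocalization
      (fun (A B : QCohCat.QCoh X) (f : A ⟶ B) =>
        CohB1.support (kernel f.hom) ⊆ (↑U : Set X)ᶜ ∧
          CohB1.support (cokernel f.hom) ⊆ (↑U : Set X)ᶜ) := by
  have hW : (fun (A B : QCohCat.QCoh X) (f : A ⟶ B) =>
        CohB1.support (kernel f.hom) ⊆ (↑U : Set X)ᶜ ∧
          CohB1.support (cokernel f.hom) ⊆ (↑U : Set X)ᶜ) =
      (MorphismProperty.isomorphisms (QCohCat.QCoh (↑U : Scheme.{u}))).inverseImage (restrQC U) := by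
    funext A B f
    apply propext
    rw [← isIso_restrict_map_iff]
    change _ ↔ IsIso ((restrQC U).map f)
    rw [← ObjectProperty.isIso_hom_iff]
    rfl
  rw [hW]
  exact (adj U).isLocalization

end Groth.Agent.Lib.Helper13.QCohLoc
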