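import Mathlib
import Groth.Agent.Lib.Helper13.KInjMV
import Groth.Agent.Lib.Helper13.KInjDerived
import Groth.Agent.Lib.Helper13.QCohLoc

/-!
# Objects of `D(O_X)` supported on a closed subset contained in an open (helper13)

If `X = U ∪ V` and the cohomology sheaves of `E ∈ D(O_X)` vanish on `V`, then `E ≅ Rj_*(E|_U)`
(`j : U → X`); if `F ∈ D(O_U)` has cohomology sheaves vanishing on `U ∩ V`, then `j_! F ≅ Rj_* F`.
-/

set_option autoImplicit false
set_option backward.isDefEq.respectTransparency false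
universe u

attribute [local instance] HasDerivedCategory.standard

namespace Groth.Agent.Lib.Helper13.SuppOpen

open CategoryTheory CategoryTheory.Limits AlgebraicGeometry
open AlgebraicGeometry.Scheme.Modules
open Groth.Agent.Lib.Helper13 Groth.Agent.Lib.Helper13.RelMVMod Groth.Agent.Lib.Helper3

section General

variable {A : Type*} [Category A] [Abelian A] {B : Type*} [Category B] [Abelian B]

lemma exactAt_of_homotopy_id_zero (K : CochainComplex A ℤ) (h : Homotopy (𝟙 K) 0) (n : ℤ) :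
    K.ExactAt n := by
  rw [HomologicalComplex.exactAt_iff_isZero_homology, IsZero.iff_id_eq_zero]
  have := h.homologyMap_eq n
  rw [HomologicalComplex.homologyMap_id, HomologicalComplex.homologyMap_zero] at this
  exact this

lemma homotopy_id_zero_of_kinj (K : CochainComplex A ℤ) (hK : K.IsKInjective)
    (hac : K.Acyclic) : Nonempty (Homotopy (𝟙 K) 0) :=
  CochainComplex.IsKInjective.nonempty_homotopy_zero (𝟙 K) hac

/-- additive functors preserve contractible complexes -/
noncomputable def mapHomotopyIdZero (G : A ⥤ B) [G.Additive] (K : CochainComplex A ℤ)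
    (h : Homotopy (𝟙 K) 0) :
    Homotopy (𝟙 ((G.mapHomologicalComplex (ComplexShape.up ℤ)).obj K)) 0 :=
  (Homotopy.ofEq (by simp)).trans ((G.mapHomotopy h).trans (Homotopy.ofEq (by simp)))

/-- an exact functor commutes with homology -/
noncomputable def homologyMapIso (F : A ⥤ B) [F.Additive] [PreservesFiniteLimits F]
    [PreservesFiniteColimits F] (K : CochainComplex A ℤ) (n : ℤ) :
    ((F.mapHomologicalComplex (ComplexShape.up ℤ)).obj K).homology n ≅ F.obj (K.homology n) :=
  (K.sc n).mapHomologyIso F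

lemma isZero_homology_map (F : A ⥤ B) [F.Additive] [PreservesFiniteLimits F]
    [PreservesFiniteColimits F] (K : CochainComplex A ℤ) (n : ℤ)
    (h : IsZero (F.obj (K.homology n))) :
    IsZero (((F.mapHomologicalComplex (ComplexShape.up ℤ)).obj K).homology n) :=
  IsZero.of_iso h (homologyMapIso F K n)

end General

variable {X : Scheme.{u}}

/-- the two-element cover -/
def cov (U V : X.Opens) (b : Bool) : X.Opens := cond b U V

lemma isZero_of_support (U V : X.Opens) (hUV : U ⊔ V = ⊤) (M : X.Modules)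
    (h1 : CohB1.support M ⊆ (↑U : Set X)ᶜ) (h2 : CohB1.support M ⊆ (↑V : Set X)ᶜ) :
    IsZero M := by
  apply QS.isZero_of_subsingleton_stalk
  intro x
  by_contra hx
  have hxU : x ∉ (↑U : Set X) := h1 hx
  have hxV : x ∉ (↑V : Set X) := h2 hx
  have hx' : x ∈ ((U ⊔ V : X.Opens) : Set X) := by
    rw [hUV]
    trivial
  rw [TopologicalSpace.Opens.coe_sup] at hx'
  rcases hx' with h | h
  · exact hxU h
  · exact hxV h

lemma jointly (U V : X.Opens) (hUV : U ⊔ V = ⊤) :
    JointlyReflectIsomorphisms (fun b : Bool => restrictFunctor (cov U V b).ι) where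
  isIso := @fun M N f hf => by
    have hU : IsIso ((restrictFunctor U.ι).map f) := hf true
    have hV : IsIso ((restrictFunctor V.ι).map f) := hf false
    rw [QCohLoc.isIso_restrict_map_iff] at hU hV
    rw [QCohLoc.isIso_iff_isZero_kernel_cokernel]
    exact ⟨isZero_of_support U V hUV _ hU.1 hV.1, isZero_of_support U V hUV _ hU.2 hV.2⟩

/-- the unit map `I ⟶ j_* j^* I` on complexes -/
noncomputable def ηC (U : X.Opens) (I : CochainComplex X.Modules ℤ) :
    I ⟶ ((H U).mapHomologicalComplex (ComplexShape.up ℤ)).obj I where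
  f n := (η U).app (I.X n)
  comm' i j _ := ((η U).naturality (I.d i j)).symm

lemma isIso_restrict_η (U : X.Opens) (M : X.Modules) :
    IsIso ((restrictFunctor U.ι).map ((η U).app M)) := by
  have h := (restrictAdjunction U.ι).left_triangle_components M
  haveI : IsIso ((restrictFunctor U.ι).map ((η U).app M) ≫
      (restrictAdjunction U.ι).counit.app ((restrictFunctor U.ι).obj M)) := by
    rw [h]
    infer_instance
  exact IsIso.of_isIso_comp_right ((restrictFunctor U.ι).map ((η U).app M))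
    ((restrictAdjunction U.ι).counit.app ((restrictFunctor U.ι).obj M))

lemma quasiIso_restrict_ηC (U : X.Opens) (I : CochainComplex X.Modules ℤ) :
    QuasiIso (((restrictFunctor U.ι).mapHomologicalComplex (ComplexShape.up ℤ)).map (ηC U I)) := by
  haveI : ∀ n, IsIso ((((restrictFunctor U.ι).mapHomologicalComplex
      (ComplexShape.up ℤ)).map (ηC U I)).f n) := fun n => isIso_restrict_η U (I.X n)
  haveI : IsIso (((restrictFunctor U.ι).mapHomologicalComplex (ComplexShape.up ℤ)).map (ηC U I)) :=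
    HomologicalComplex.Hom.isIso_of_components _
  infer_instance

lemma isZero_restrict_restrict (U V : X.Opens) (M : X.Modules)
    (hM : IsZero ((restrictFunctor V.ι).obj M)) :
    IsZero ((restrictFunctor (U.ι ⁻¹ᵁ V).ι).obj ((restrictFunctor U.ι).obj M)) := by
  apply QS.isZero_of_subsingleton_stalk
  intro z
  refine (ModBasic.subsingleton_stalk_restrict_iff (U.ι ⁻¹ᵁ V).ι
    ((restrictFunctor U.ι).obj M) z).2 ?_
  refine (ModBasic.subsingleton_stalk_restrict_iff U.ι M ((U.ι ⁻¹ᵁ V).ι z)).2 ?_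
  have hz : U.ι ((U.ι ⁻¹ᵁ V).ι z) ∈ V := z.2
  exact ModBasic.subsingleton_stalk_of_isZero_restrict (f := V.ι) (M := M) hM ⟨_, hz⟩

lemma target_acyclic (U V : X.Opens) (I : CochainComplex X.Modules ℤ) (hI : I.IsKInjective)
    (hIV : ∀ n : ℤ, IsZero ((restrictFunctor V.ι).obj (I.homology n))) (n : ℤ) :
    (((restrictFunctor V.ι).mapHomologicalComplex (ComplexShape.up ℤ)).obj
      (((H U).mapHomologicalComplex (ComplexShape.up ℤ)).obj I)).ExactAt n := by
  let K' := ((restrictFunctor U.ι).mapHomologicalComplex (ComplexShape.up ℤ)).obj I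
  let J := ((restrictFunctor (U.ι ⁻¹ᵁ V).ι).mapHomologicalComplex (ComplexShape.up ℤ)).obj K'
  have hJ : CochainComplex.IsKInjective J :=
    KInjSch.isKInjective_restrict (U.ι ⁻¹ᵁ V) K' (KInjSch.isKInjective_restrict U I hI)
  have hJac : J.Acyclic := fun m => by
    rw [HomologicalComplex.exactAt_iff_isZero_homology]
    refine isZero_homology_map _ K' m ?_
    exact IsZero.of_iso (isZero_restrict_restrict U V _ (hIV m))
      ((restrictFunctor (U.ι ⁻¹ᵁ V).ι).mapIso (homologyMapIso (restrictFunctor U.ι) I m))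
  obtain ⟨h⟩ := homotopy_id_zero_of_kinj J hJ hJac
  have hex := exactAt_of_homotopy_id_zero _ (mapHomotopyIdZero (pushforward (U.ι ∣_ V)) J h) n
  let θ : H U ⋙ restrictFunctor V.ι ≅
      (restrictFunctor U.ι ⋙ restrictFunctor (U.ι ⁻¹ᵁ V).ι) ⋙ pushforward (U.ι ∣_ V) :=
    Functor.associator _ _ _ ≪≫
      Functor.isoWhiskerLeft (restrictFunctor U.ι) (KInjDerived.pushRestrictIso U.ι V) ≪≫
      (Functor.associator _ _ _).symm
  let φ := (NatIso.mapHomologicalComplex θ (ComplexShape.up ℤ)).app I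
  rw [HomologicalComplex.exactAt_iff_isZero_homology] at hex ⊢
  exact IsZero.of_iso hex
    ((HomologicalComplex.homologyFunctor _ (ComplexShape.up ℤ) n).mapIso φ)

lemma quasiIso_restrict_V (U V : X.Opens) (I : CochainComplex X.Modules ℤ)
    (hI : I.IsKInjective)
    (hIV : ∀ n : ℤ, IsZero ((restrictFunctor V.ι).obj (I.homology n))) :
    QuasiIso (((restrictFunctor V.ι).mapHomologicalComplex (ComplexShape.up ℤ)).map (ηC U I)) := by
  have hsrc : ∀ n, (((restrictFunctor V.ι).mapHomologicalComplex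
      (ComplexShape.up ℤ)).obj I).ExactAt n := fun n => by
    rw [HomologicalComplex.exactAt_iff_isZero_homology]
    exact isZero_homology_map _ I n (hIV n)
  rw [quasiIso_iff]
  intro n
  rw [quasiIsoAt_iff_exactAt _ _ (hsrc n)]
  exact target_acyclic U V I hI hIV n

/-- main lemma: `E ≅ Rj_*(E|_U)` when the cohomology sheaves of `E` vanish on `V`, `U ∪ V = X`. -/
theorem nonempty_iso_Rpush_restrict (U V : X.Opens) (hUV : U ⊔ V = ⊤) [DCoh.HasRpush U.ι]
    (E : DCoh.D X) (hE : ∀ n : ℤ, IsZero ((restrictFunctor V.ι).obj (DCoh.HD E n))) :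
    Nonempty (E ≅ (DCoh.Rpush U.ι).obj ((DCoh.restrictD U.ι).obj E)) := by
  obtain ⟨I, hI, -, ⟨e⟩⟩ := KInjCompute.exists_model (KInjSch.hasKInjInj X) E
  have eH : ∀ n : ℤ, I.homology n ≅ DCoh.HD E n := fun n =>
    ((DerivedCategory.homologyFunctorFactors X.Modules n).app I).symm ≪≫
      (DerivedCategory.homologyFunctor X.Modules n).mapIso e.symm
  have hIV : ∀ n : ℤ, IsZero ((restrictFunctor V.ι).obj (I.homology n)) := fun n =>
    IsZero.of_iso (hE n) ((restrictFunctor V.ι).mapIso (eH n))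
  have hq : QuasiIso (ηC U I) := by
    rw [(jointly U V hUV).quasiIso_iff]
    intro b
    cases b
    · exact quasiIso_restrict_V U V I hI hIV
    · exact quasiIso_restrict_ηC U I
  haveI : IsIso (DerivedCategory.Q.map (ηC U I)) :=
    (DerivedCategory.isIso_Q_map_iff_quasiIso _ _).2 hq
  exact ⟨e ≪≫ asIso (DerivedCategory.Q.map (ηC U I)) ≪≫
    (KInjMV.isoRestrict U (pushforward U.ι) I hI e).symm⟩

/-- `(j_! N)|_V = 0` when `N` vanishes on `U ∩ V`. -/
lemma isZero_restrict_extZero (U V : X.Opens) (N : (U : Scheme.{u}).Modules)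
    (hN : ∀ y : (U : Scheme.{u}), U.ι y ∈ V → Subsingleton (N.presheaf.stalk y)) :
    IsZero ((restrictFunctor V.ι).obj ((CxOX.extZero U.ι).obj N)) := by
  have hzero : IsZero ((restrictFunctor (V.ι ∣_ U)).obj N) := by
    apply QS.isZero_of_subsingleton_stalk
    intro z
    refine (ModBasic.subsingleton_stalk_restrict_iff (V.ι ∣_ U) N z).2 ?_
    apply hN
    have h1 : U.ι ((V.ι ∣_ U) z) = V.ι ((V.ι ⁻¹ᵁ U).ι z) := by
      rw [← Scheme.Hom.comp_apply, morphismRestrict_ι, Scheme.Hom.comp_apply]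
    rw [h1]
    exact ((V.ι ⁻¹ᵁ U).ι z).2
  have key : ∀ (B : (↑(V.ι ⁻¹ᵁ U) : Scheme.{u}).Modules)
      (a b : N ⟶ (pushforward (V.ι ∣_ U)).obj B), a = b := fun B a b =>
    ((restrictAdjunction (V.ι ∣_ U)).homEquiv N B).symm.injective (hzero.eq_of_src _ _)
  have key2 : ∀ (P : (V : Scheme.{u}).Modules)
      (a b : N ⟶ (restrictFunctor U.ι).obj ((pushforward V.ι).obj P)), a = b := fun P a b =>
    (cancel_mono ((KInjDerived.pushRestrictIso V.ι U).hom.app P)).1 (key _ _ _)
  have key3 : ∀ (P : (V : Scheme.{u}).Modules)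
      (a b : (CxOX.extZero U.ι).obj N ⟶ (pushforward V.ι).obj P), a = b := fun P a b =>
    ((CxOX.extZeroAdj U.ι).homEquiv N _).injective (key2 P _ _)
  have key4 : ∀ (P : (V : Scheme.{u}).Modules)
      (a b : (restrictFunctor V.ι).obj ((CxOX.extZero U.ι).obj N) ⟶ P), a = b := fun P a b =>
    ((restrictAdjunction V.ι).homEquiv _ P).injective (key3 P _ _)
  rw [IsZero.iff_id_eq_zero]
  exact key4 _ _ _

lemma isIso_extZeroAdj_unit (U : X.Opens) : IsIso (CxOX.extZeroAdj U.ι).unit := by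
  let t : Adjunction.Triple (CxOX.extZero U.ι) (restrictFunctor U.ι) (pushforward U.ι) :=
    ⟨CxOX.extZeroAdj U.ι, restrictAdjunction U.ι⟩
  exact t.isIso_unit_iff_isIso_counit.2 inferInstance

/-- `(j_! F)|_U ≅ F` in the derived category. -/
lemma nonempty_restrictD_extZeroD_iso (U : X.Opens) (F : DCoh.D (U : Scheme.{u})) :
    Nonempty ((DCoh.restrictD U.ι).obj ((CxOX.extZeroD U.ι).obj F) ≅ F) := by
  obtain ⟨J, -, -, ⟨e⟩⟩ := KInjCompute.exists_model (KInjSch.hasKInjInj (U : Scheme.{u})) F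
  haveI := isIso_extZeroAdj_unit U
  let ψ : J ⟶ ((restrictFunctor U.ι).mapHomologicalComplex (ComplexShape.up ℤ)).obj
      (((CxOX.extZero U.ι).mapHomologicalComplex (ComplexShape.up ℤ)).obj J) :=
    KInjCompute.unitHC (CxOX.extZeroAdj U.ι) J
  haveI : ∀ n, IsIso (ψ.f n) := fun n =>
    (inferInstance : IsIso ((CxOX.extZeroAdj U.ι).unit.app (J.X n)))
  haveI : IsIso ψ := HomologicalComplex.Hom.isIso_of_components ψ
  exact ⟨(DCoh.restrictD U.ι).mapIso ((CxOX.extZeroD U.ι).mapIso e ≪≫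
      (CxOX.extZero U.ι).mapDerivedCategoryFactors.app J) ≪≫
    (restrictFunctor U.ι).mapDerivedCategoryFactors.app _ ≪≫
    (DerivedCategory.Q.mapIso (asIso ψ)).symm ≪≫ e.symm⟩

/-- `Hⁿ(j_! F) ≅ j_! Hⁿ(F)`. -/
lemma nonempty_HD_extZeroD_iso (U : X.Opens) (F : DCoh.D (U : Scheme.{u})) (n : ℤ) :
    Nonempty (DCoh.HD ((CxOX.extZeroD U.ι).obj F) n ≅ (CxOX.extZero U.ι).obj (DCoh.HD F n)) := by
  obtain ⟨J, -, -, ⟨e⟩⟩ := KInjCompute.exists_model (KInjSch.hasKInjInj (U : Scheme.{u})) F
  have eH : J.homology n ≅ DCoh.HD F n :=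
    ((DerivedCategory.homologyFunctorFactors (U : Scheme.{u}).Modules n).app J).symm ≪≫
      (DerivedCategory.homologyFunctor (U : Scheme.{u}).Modules n).mapIso e.symm
  exact ⟨(DerivedCategory.homologyFunctor X.Modules n).mapIso
      ((CxOX.extZeroD U.ι).mapIso e ≪≫ (CxOX.extZero U.ι).mapDerivedCategoryFactors.app J) ≪≫
    (DerivedCategory.homologyFunctorFactors X.Modules n).app _ ≪≫
    homologyMapIso (CxOX.extZero U.ι) J n ≪≫ (CxOX.extZero U.ι).mapIso eH⟩

/-- `j_! F ≅ Rj_* F` when the cohomology sheaves of `F` vanish on `U ∩ V`, `U ∪ V = X`. -/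
theorem nonempty_extZeroD_iso_Rpush (U V : X.Opens) (hUV : U ⊔ V = ⊤) [DCoh.HasRpush U.ι]
    (F : DCoh.D (U : Scheme.{u}))
    (hF : ∀ (n : ℤ) (y : (U : Scheme.{u})), U.ι y ∈ V →
      Subsingleton ((DCoh.HD F n).presheaf.stalk y)) :
    Nonempty ((CxOX.extZeroD U.ι).obj F ≅ (DCoh.Rpush U.ι).obj F) := by
  obtain ⟨e1⟩ := nonempty_iso_Rpush_restrict U V hUV ((CxOX.extZeroD U.ι).obj F) (fun n => by
    obtain ⟨e3⟩ := nonempty_HD_extZeroD_iso U F n
    exact IsZero.of_iso (isZero_restrict_extZero U V _ (hF n)) ((restrictFunctor V.ι).mapIso e3))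
  obtain ⟨e2⟩ := nonempty_restrictD_extZeroD_iso U F
  exact ⟨e1 ≪≫ (DCoh.Rpush U.ι).mapIso e2⟩

end Groth.Agent.Lib.Helper13.SuppOpen
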