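import Mathlib
import Groth.Agent.Lib.Helper13.SuppOpen
import Groth.Agent.Lib.Helper17.LocFreeOps

/-!
# Perfect complexes: transport along restrictions, pushforward from an open with closed support
(helper13)
-/

set_option autoImplicit false
set_option backward.isDefEq.respectTransparency false
universe u

attribute [local instance] HasDerivedCategory.standard

namespace Groth.Agent.Lib.Helper13.PerfLocal

open CategoryTheory CategoryTheory.Limits AlgebraicGeometry
open AlgebraicGeometry.Scheme.Modules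
open Groth.Agent.Lib.Helper13 ZeroObject

variable {X : Scheme.{u}}

/-- an object of `D(O_X)` with vanishing cohomology is zero -/
lemma isZero_of_isZero_homology (Z : DCoh.D X)
    (h : ∀ n : ℤ, IsZero ((DerivedCategory.homologyFunctor X.Modules n).obj Z)) : IsZero Z := by
  have hz : IsZero (0 : DCoh.D X) := isZero_zero _
  haveI : IsIso (0 : Z ⟶ 0) := by
    rw [DerivedCategory.isIso_iff]
    intro n
    have h2 : IsZero ((DerivedCategory.homologyFunctor X.Modules n).obj (0 : DCoh.D X)) :=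
      (DerivedCategory.homologyFunctor X.Modules n).map_isZero hz
    exact ⟨⟨0, (h n).eq_of_src _ _, h2.eq_of_src _ _⟩⟩
  exact IsZero.of_iso hz (asIso (0 : Z ⟶ 0))

lemma isFinLocFree_of_isZero {M : X.Modules} (hM : IsZero M) : FlatMod.IsFinLocFree M := by
  intro x
  refine ⟨⊤, 0, trivial, ⟨?_⟩⟩
  refine IsZero.iso ?_ ?_
  · exact (restrictFunctor (⊤ : X.Opens).ι).map_isZero hM
  · rw [IsZero.iff_id_eq_zero]
    apply Limits.Sigma.hom_ext
    intro i
    exact Fin.elim0 i

lemma isStrictlyPerfect_zero : DCoh.IsStrictlyPerfect (0 : CochainComplex X.Modules ℤ) := by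
  have h0 : ∀ i : ℤ, IsZero ((0 : CochainComplex X.Modules ℤ).X i) := fun i =>
    (HomologicalComplex.eval X.Modules (ComplexShape.up ℤ) i).map_isZero (isZero_zero _)
  exact ⟨⟨0, 0, fun i _ => h0 i⟩, fun i => isFinLocFree_of_isZero (h0 i)⟩

/-- restriction along an open immersion preserves strictly perfect complexes -/
lemma isStrictlyPerfect_restrict {Y Y' : Scheme.{u}} (g : Y' ⟶ Y) [IsOpenImmersion g]
    (E : CochainComplex Y.Modules ℤ) (hE : DCoh.IsStrictlyPerfect E) :
    DCoh.IsStrictlyPerfect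
      (((restrictFunctor g).mapHomologicalComplex (ComplexShape.up ℤ)).obj E) := by
  obtain ⟨⟨a, b, hab⟩, hfl⟩ := hE
  refine ⟨⟨a, b, fun i hi => (restrictFunctor g).map_isZero (hab i hi)⟩, fun i => ?_⟩
  exact Groth.Agent.Lib.Helper17.LocFreeOps.isFinLocFree_of_iso
    ((restrictFunctorIsoPullback g).symm.app (E.X i))
    (Groth.Agent.Lib.Helper17.LocFreeOps.isFinLocFree_pullback g (E.X i) (hfl i))

/-- `Rj_* E` is perfect when `E` is perfect on `U` with cohomology supported on a subset `T` of `U`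
whose image is closed in `X`. -/
theorem isPerfect_Rpush (U : X.Opens) [DCoh.HasRpush U.ι]
    (E : DCoh.D (U : Scheme.{u})) (hE : DCoh.IsPerfect E) (T : Set (U : Scheme.{u}))
    (hjT : IsClosed ((fun x : (U : Scheme.{u}) => U.ι.base x) '' T))
    (hsupp : ∀ i : ℤ, CohB1.support (DCoh.HD E i) ⊆ T) :
    DCoh.IsPerfect ((DCoh.Rpush U.ι).obj E) := by
  classical
  let V : X.Opens := ⟨((fun x : (U : Scheme.{u}) => U.ι.base x) '' T)ᶜ, hjT.isOpen_compl⟩
  have hUV : U ⊔ V = ⊤ := by
    rw [eq_top_iff]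
    intro x _
    show x ∈ ((U ⊔ V : X.Opens) : Set X)
    rw [TopologicalSpace.Opens.coe_sup]
    by_cases hx : x ∈ U
    · exact Or.inl hx
    · refine Or.inr ?_
      rintro ⟨y, -, rfl⟩
      exact hx y.2
  have hF : ∀ (n : ℤ) (y : (U : Scheme.{u})), U.ι y ∈ V →
      Subsingleton ((DCoh.HD E n).presheaf.stalk y) := by
    intro n y hy
    by_contra hns
    have hyT : y ∈ T := hsupp n hns
    exact hy ⟨y, hyT, rfl⟩
  obtain ⟨e⟩ := SuppOpen.nonempty_extZeroD_iso_Rpush U V hUV E hF
  obtain ⟨e2⟩ := SuppOpen.nonempty_restrictD_extZeroD_iso U E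
  intro x
  by_cases hx : x ∈ U
  · obtain ⟨V', hxV', hV'⟩ := hE ⟨x, hx⟩
    refine ⟨U.ι ''ᵁ V', ⟨⟨x, hx⟩, hxV', rfl⟩, ?_⟩
    rintro F ⟨iF⟩
    let F' := (DCoh.restrictCx U).obj F
    have iF' : DCoh.toD (U : Scheme.{u}) F' ≅ E :=
      ((restrictFunctor U.ι).mapDerivedCategoryFactors.app F).symm ≪≫
        (DCoh.restrictD U.ι).mapIso (iF ≪≫ e.symm) ≪≫ e2
    obtain ⟨E', hE', ⟨iE'⟩⟩ := hV' F' ⟨iF'⟩
    let φ := U.ι.isoImage V'
    refine ⟨((restrictFunctor φ.inv).mapHomologicalComplex (ComplexShape.up ℤ)).obj E',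
      isStrictlyPerfect_restrict φ.inv E' hE', ⟨?_⟩⟩
    have hι : (U.ι ''ᵁ V').ι = φ.inv ≫ V'.ι ≫ U.ι := (U.ι.isoImage_inv_ι V').symm
    let ρ : restrictFunctor (U.ι ''ᵁ V').ι ≅
        restrictFunctor U.ι ⋙ restrictFunctor V'.ι ⋙ restrictFunctor φ.inv :=
      restrictFunctorCongr hι ≪≫ restrictFunctorComp φ.inv (V'.ι ≫ U.ι) ≪≫
        Functor.isoWhiskerRight (restrictFunctorComp V'.ι U.ι) (restrictFunctor φ.inv) ≪≫
        Functor.associator _ _ _
    let κ : (DCoh.restrictCx (U.ι ''ᵁ V')).obj F ≅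
        ((restrictFunctor φ.inv).mapHomologicalComplex (ComplexShape.up ℤ)).obj
          ((DCoh.restrictCx V').obj F') :=
      HomologicalComplex.Hom.isoOfComponents (fun n => ρ.app (F.X n))
        (fun i j _ => (ρ.hom.naturality (F.d i j)).symm)
    exact DerivedCategory.Q.mapIso κ ≪≫
      ((restrictFunctor φ.inv).mapDerivedCategoryFactors.app _).symm ≪≫
      (DCoh.restrictD φ.inv).mapIso iE' ≪≫
      (restrictFunctor φ.inv).mapDerivedCategoryFactors.app E'
  · have hxV : x ∈ V := by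
      rintro ⟨y, -, rfl⟩
      exact hx y.2
    refine ⟨V, hxV, ?_⟩
    rintro F ⟨iF⟩
    have hacyc : ∀ n : ℤ, IsZero (((DCoh.restrictCx V).obj F).homology n) := by
      intro n
      apply SuppOpen.isZero_homology_map
      obtain ⟨e3⟩ := SuppOpen.nonempty_HD_extZeroD_iso U E n
      have eH : F.homology n ≅ (CxOX.extZero U.ι).obj (DCoh.HD E n) :=
        ((DerivedCategory.homologyFunctorFactors X.Modules n).app F).symm ≪≫
          (DerivedCategory.homologyFunctor X.Modules n).mapIso (iF ≪≫ e.symm) ≪≫ e3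
      exact IsZero.of_iso (SuppOpen.isZero_restrict_extZero U V _ (hF n))
        ((restrictFunctor V.ι).mapIso eH)
    have hz1 : IsZero (DerivedCategory.Q.obj ((DCoh.restrictCx V).obj F)) := by
      apply isZero_of_isZero_homology
      intro n
      exact IsZero.of_iso (hacyc n)
        ((DerivedCategory.homologyFunctorFactors (V : Scheme.{u}).Modules n).app _)
    refine ⟨0, isStrictlyPerfect_zero, ⟨hz1.iso ?_⟩⟩
    exact DerivedCategory.Q.map_isZero (isZero_zero _)

end Groth.Agent.Lib.Helper13.PerfLocal
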