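import Mathlib
import Groth.Agent.Lib.Helper13.PerfLocal
import Groth.Agent.Lib.Helper3.LocFreeCrit

/-!
# Perfect objects are locally bounded complexes of finite free modules (helper13)
-/

set_option autoImplicit false
set_option backward.isDefEq.respectTransparency false
universe u

attribute [local instance] HasDerivedCategory.standard

namespace Groth.Agent.Lib.Helper13.PerfFree

open CategoryTheory CategoryTheory.Limits AlgebraicGeometry
open AlgebraicGeometry.Scheme.Modules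
open Groth.Agent.Lib.Helper13 ZeroObject

variable {X : Scheme.{u}}

lemma isZero_freeMod_zero (Y : Scheme.{u}) : IsZero (FlatMod.freeMod Y 0) := by
  rw [IsZero.iff_id_eq_zero]
  apply Limits.Sigma.hom_ext
  intro i
  exact Fin.elim0 i

/-- restriction along an open immersion sends `O^n` to `O^n` -/
noncomputable def restrictFreeModIso {Y Y' : Scheme.{u}} (g : Y' ⟶ Y) [IsOpenImmersion g] (n : ℕ) :
    (restrictFunctor g).obj (FlatMod.freeMod Y n) ≅ FlatMod.freeMod Y' n :=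
  PreservesCoproduct.iso (restrictFunctor g) (fun _ : Fin n => Coh.structureModule Y) ≪≫
    Sigma.mapIso (fun _ => restrictUnitIso g)

lemma isFinLocFree_freeMod (Y : Scheme.{u}) (n : ℕ) : FlatMod.IsFinLocFree (FlatMod.freeMod Y n) :=
  fun _ => ⟨⊤, n, trivial, ⟨restrictFreeModIso (⊤ : Y.Opens).ι n⟩⟩

lemma mem_finset_inf {Y : Scheme.{u}} {ι : Type*} (s : Finset ι) (U : ι → Y.Opens) (y : Y)
    (h : ∀ i ∈ s, y ∈ U i) : y ∈ s.inf U := by
  classical
  induction s using Finset.induction_on with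
  | empty =>
    rw [Finset.inf_empty]
    trivial
  | insert i s hi ih =>
    rw [Finset.inf_insert]
    show y ∈ ((U i ⊓ s.inf U : Y.Opens) : Set Y)
    rw [TopologicalSpace.Opens.coe_inf]
    exact ⟨h i (Finset.mem_insert_self i s), ih (fun j hj => h j (Finset.mem_insert_of_mem hj))⟩

/-- transport of a local model from an open `V'` of the open subscheme `V` to the open
`V.ι ''ᵁ V'` of `X` -/
noncomputable def transportIso (V : X.Opens) (V' : (V : Scheme.{u}).Opens)
    (F : CochainComplex X.Modules ℤ) (E' : CochainComplex (V : Scheme.{u}).Modules ℤ)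
    (i₀ : DerivedCategory.Q.obj ((DCoh.restrictCx V).obj F) ≅ DerivedCategory.Q.obj E') :
    DerivedCategory.Q.obj ((DCoh.restrictCx (V.ι ''ᵁ V')).obj F) ≅
      DerivedCategory.Q.obj (((restrictFunctor (V.ι.isoImage V').inv).mapHomologicalComplex
        (ComplexShape.up ℤ)).obj ((DCoh.restrictCx V').obj E')) :=
  let φ := V.ι.isoImage V'
  have hι : (V.ι ''ᵁ V').ι = φ.inv ≫ V'.ι ≫ V.ι := (V.ι.isoImage_inv_ι V').symm
  let ρ : restrictFunctor (V.ι ''ᵁ V').ι ≅
      restrictFunctor V.ι ⋙ restrictFunctor V'.ι ⋙ restrictFunctor φ.inv :=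
    restrictFunctorCongr hι ≪≫ restrictFunctorComp φ.inv (V'.ι ≫ V.ι) ≪≫
      Functor.isoWhiskerRight (restrictFunctorComp V'.ι V.ι) (restrictFunctor φ.inv) ≪≫
      Functor.associator _ _ _
  let κ : (DCoh.restrictCx (V.ι ''ᵁ V')).obj F ≅
      ((restrictFunctor φ.inv).mapHomologicalComplex (ComplexShape.up ℤ)).obj
        ((DCoh.restrictCx V').obj ((DCoh.restrictCx V).obj F)) :=
    HomologicalComplex.Hom.isoOfComponents (fun n => ρ.app (F.X n))
      (fun i j _ => (ρ.hom.naturality (F.d i j)).symm)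
  DerivedCategory.Q.mapIso κ ≪≫
    ((restrictFunctor φ.inv).mapDerivedCategoryFactors.app _).symm ≪≫
    (DCoh.restrictD φ.inv).mapIso
      (((restrictFunctor V'.ι).mapDerivedCategoryFactors.app _).symm ≪≫
        (DCoh.restrictD V'.ι).mapIso i₀ ≪≫
        (restrictFunctor V'.ι).mapDerivedCategoryFactors.app E') ≪≫
    (restrictFunctor φ.inv).mapDerivedCategoryFactors.app _

theorem isPerfect_iff_locally_free (E : DCoh.D X) :
    DCoh.IsPerfect E ↔ ∀ x : X, ∃ V : X.Opens, x ∈ V ∧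
      ∀ F : CochainComplex X.Modules ℤ, Nonempty (DCoh.toD X F ≅ E) →
        ∃ (P : CochainComplex (V : Scheme.{u}).Modules ℤ) (a b : ℤ), DCoh.VanishesOutside P a b ∧
          (∀ i : ℤ, ∃ n : ℕ, Nonempty (P.X i ≅ FlatMod.freeMod (V : Scheme.{u}) n)) ∧
          Nonempty (DerivedCategory.Q.obj ((DCoh.restrictCx V).obj F) ≅
            DerivedCategory.Q.obj P) := by
  constructor
  · intro hE x
    obtain ⟨F₀, ⟨iF₀⟩⟩ : ∃ F₀ : CochainComplex X.Modules ℤ, Nonempty (DCoh.toD X F₀ ≅ E) :=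
      ⟨_, ⟨DerivedCategory.Q.objObjPreimageIso E⟩⟩
    obtain ⟨V, hxV, hV⟩ := hE x
    obtain ⟨E', ⟨⟨a, b, hab⟩, hfl⟩, ⟨i₀⟩⟩ := hV F₀ ⟨iF₀⟩
    choose U n e hxU hb using fun i : ℤ =>
      (Groth.Agent.Lib.Helper3.LocFreeCrit.isFinLocFree_iff.1 (hfl i)) ⟨x, hxV⟩
    let V' : (V : Scheme.{u}).Opens := (Finset.Icc a b).inf U
    have hxV' : (⟨x, hxV⟩ : (V : Scheme.{u})) ∈ V' :=
      mem_finset_inf _ _ _ (fun i _ => hxU i)
    refine ⟨V.ι ''ᵁ V', ⟨⟨x, hxV⟩, hxV', rfl⟩, ?_⟩
    rintro F ⟨iF⟩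
    have i₀' : DerivedCategory.Q.obj ((DCoh.restrictCx V).obj F) ≅ DerivedCategory.Q.obj E' :=
      ((restrictFunctor V.ι).mapDerivedCategoryFactors.app F).symm ≪≫
        (DCoh.restrictD V.ι).mapIso (iF ≪≫ iF₀.symm) ≪≫
        (restrictFunctor V.ι).mapDerivedCategoryFactors.app F₀ ≪≫ i₀
    refine ⟨_, a, b, ?_, ?_, ⟨transportIso V V' F E' i₀'⟩⟩
    · intro i hi
      exact (restrictFunctor (V.ι.isoImage V').inv).map_isZero
        ((restrictFunctor V'.ι).map_isZero (hab i hi))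
    · intro i
      by_cases hi : i ∈ Finset.Icc a b
      · obtain ⟨ψ⟩ := Groth.Agent.Lib.Helper3.FreeBasis.nonempty_iso_of_isBasis
          ((hb i).mono (Finset.inf_le hi : V' ≤ U i))
        exact ⟨n i, ⟨(restrictFunctor (V.ι.isoImage V').inv).mapIso ψ ≪≫
          restrictFreeModIso (V.ι.isoImage V').inv (n i)⟩⟩
      · have hz : IsZero (E'.X i) := hab i (by
          rw [Finset.mem_Icc] at hi
          omega)
        exact ⟨0, ⟨IsZero.iso ((restrictFunctor (V.ι.isoImage V').inv).map_isZero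
          ((restrictFunctor V'.ι).map_isZero hz)) (isZero_freeMod_zero _)⟩⟩
  · intro h x
    obtain ⟨V, hxV, hV⟩ := h x
    refine ⟨V, hxV, ?_⟩
    intro F hF
    obtain ⟨P, a, b, hab, hfree, hiso⟩ := hV F hF
    refine ⟨P, ⟨⟨a, b, hab⟩, fun i => ?_⟩, hiso⟩
    obtain ⟨n, ⟨ψ⟩⟩ := hfree i
    exact Groth.Agent.Lib.Helper17.LocFreeOps.isFinLocFree_of_iso ψ.symm (isFinLocFree_freeMod _ n)

end Groth.Agent.Lib.Helper13.PerfFree
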