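import Mathlib
import Groth.Agent.Lib.Helper13.PerfFree

/-!
# Maps from strictly perfect complexes are locally null-homotopic (helper13)

Let `E` be a strictly perfect complex of `O_X`-modules vanishing below `a`, and `α : E ⟶ F` a chain
map with `H^i(F) = 0` for `i ≥ a`.  Then `α` is locally homotopic to zero.
-/

set_option autoImplicit false
set_option backward.isDefEq.respectTransparency false
universe u

namespace Groth.Agent.Lib.Helper13.LocNull

open CategoryTheory CategoryTheory.Limits AlgebraicGeometry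
open AlgebraicGeometry.Scheme.Modules
open Groth.Agent.Lib.Helper13
open Groth.Agent.Lib.Helper3 Groth.Agent.Lib.Helper3.QCSec Groth.Agent.Lib.Helper3.InvGen
  Groth.Agent.Lib.Helper3.FreeBasis
open CochainComplex.HomComplex

/-- maps out of the structure sheaf are determined by their sections -/
lemma unit_hom_ext {Y : Scheme.{u}} {L : Y.Modules} (f g : Coh.structureModule Y ⟶ L)
    (h : ∀ V : Y.Opens, sec f V = sec g V) : f = g := by
  apply L.unitHomEquiv.injective
  apply Subtype.ext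
  funext V
  exact h V.unop

lemma homOfSec_comp {Y : Scheme.{u}} {G Z : Y.Modules} (φ : G ⟶ Z) (V : Y.Opens) (s : Γ(G, V)) :
    homOfSec G V s ≫ (restrictFunctor V.ι).map φ = homOfSec Z V (φ.app V s) := by
  apply unit_hom_ext
  intro V'
  have h1 := sec_homOfSec G V s V'
  have h2 := sec_homOfSec Z V (φ.app V s) V'
  exact (congrArg (φ.app (V.ι ''ᵁ V')) h1).trans ((QCExact.app_res' φ _ s).trans h2.symm)

lemma isFinLocFree_restrict {Y Y' : Scheme.{u}} (g : Y' ⟶ Y) [IsOpenImmersion g] (M : Y.Modules)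
    (hM : FlatMod.IsFinLocFree M) : FlatMod.IsFinLocFree ((restrictFunctor g).obj M) :=
  Groth.Agent.Lib.Helper17.LocFreeOps.isFinLocFree_of_iso
    ((restrictFunctorIsoPullback g).symm.app M)
    (Groth.Agent.Lib.Helper17.LocFreeOps.isFinLocFree_pullback g M hM)

/-- local lifting of maps out of a finite locally free module along an epimorphism -/
lemma exists_local_lift_hom {Y : Scheme.{u}} (M G Z : Y.Modules) (hM : FlatMod.IsFinLocFree M)
    (z : M ⟶ Z) (π : G ⟶ Z) [Epi π] (y : Y) :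
    ∃ (V : Y.Opens), y ∈ V ∧ ∃ h : (restrictFunctor V.ι).obj M ⟶ (restrictFunctor V.ι).obj G,
      h ≫ (restrictFunctor V.ι).map π = (restrictFunctor V.ι).map z := by
  classical
  obtain ⟨U, n, e, hyU, hb⟩ := Groth.Agent.Lib.Helper3.LocFreeCrit.isFinLocFree_iff.1 hM y
  choose W hW hyW t ht using fun i : Fin n =>
    Groth.Agent.Lib.Helper3.QCExact.exists_local_lift π U (z.app U (e i)) y hyU
  have hyV : y ∈ U ⊓ Finset.univ.inf W := by
    show y ∈ ((U ⊓ Finset.univ.inf W : Y.Opens) : Set Y)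
    rw [TopologicalSpace.Opens.coe_inf]
    exact ⟨hyU, PerfFree.mem_finset_inf _ _ _ (fun i _ => hyW i)⟩
  have hVU : U ⊓ Finset.univ.inf W ≤ U := inf_le_left
  have hVW : ∀ i, U ⊓ Finset.univ.inf W ≤ W i :=
    fun i => inf_le_right.trans (Finset.inf_le (Finset.mem_univ i))
  have hb' : IsBasis M (U ⊓ Finset.univ.inf W) (fun i => res M hVU (e i)) := hb.mono hVU
  haveI := isIso_homOfSecs hb'
  refine ⟨U ⊓ Finset.univ.inf W, hyV,
    inv (homOfSecs M (U ⊓ Finset.univ.inf W) (fun i => res M hVU (e i))) ≫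
      homOfSecs G (U ⊓ Finset.univ.inf W) (fun i => res G (hVW i) (t i)), ?_⟩
  rw [Category.assoc, IsIso.inv_comp_eq]
  apply Limits.Sigma.hom_ext
  intro i
  have e1 := inj_homOfSecs G (U ⊓ Finset.univ.inf W) (fun i => res G (hVW i) (t i)) i
  have e2 := inj_homOfSecs M (U ⊓ Finset.univ.inf W) (fun i => res M hVU (e i)) i
  unfold FreeBasis.inj at e1 e2
  rw [← Category.assoc, ← Category.assoc, e1, e2, homOfSec_comp, homOfSec_comp]
  congr 1
  rw [QCExact.app_res', QCExact.app_res', ht i]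
  exact res_res Z (hVW i) (hW i) _

/-- one step: kill the component of degree `b` -/
lemma kill_degree {Y : Scheme.{u}} {E F : CochainComplex Y.Modules ℤ} (α : E ⟶ F) (b : ℤ)
    (hfl : FlatMod.IsFinLocFree (E.X b)) (hFb : IsZero (F.homology b))
    (hα : ∀ i, b < i → α.f i = 0) (y : Y) :
    ∃ (V : Y.Opens) (α' : (DCoh.restrictCx V).obj E ⟶ (DCoh.restrictCx V).obj F), y ∈ V ∧
      Nonempty (Homotopy ((DCoh.restrictCx V).map α) α') ∧ ∀ i, b ≤ i → α'.f i = 0 := by
  have hS : (F.sc' (b - 1) b (b + 1)).Exact :=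
    (F.exactAt_iff' (b - 1) b (b + 1) (by simp) (by simp)).1
      ((F.exactAt_iff_isZero_homology b).2 hFb)
  haveI := hS.epi_toCycles
  have hk : α.f b ≫ (F.sc' (b - 1) b (b + 1)).g = 0 := by
    change α.f b ≫ F.d b (b + 1) = 0
    rw [α.comm b (b + 1), hα (b + 1) (by omega), comp_zero]
  obtain ⟨V, hyV, h, hh⟩ := exists_local_lift_hom (E.X b) _ _ hfl
    ((F.sc' (b - 1) b (b + 1)).liftCycles (α.f b) hk) (F.sc' (b - 1) b (b + 1)).toCycles y
  have hhd : h ≫ (restrictFunctor V.ι).map (F.d (b - 1) b) =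
      (restrictFunctor V.ι).map (α.f b) := by
    have h1 : F.d (b - 1) b = (F.sc' (b - 1) b (b + 1)).toCycles ≫
        (F.sc' (b - 1) b (b + 1)).iCycles := ((F.sc' (b - 1) b (b + 1)).toCycles_i).symm
    rw [h1, Functor.map_comp, ← Category.assoc, hh, ← Functor.map_comp,
      ShortComplex.liftCycles_i]
  obtain ⟨h', hh'⟩ : ∃ h' : ((DCoh.restrictCx V).obj E).X b ⟶ ((DCoh.restrictCx V).obj F).X (b - 1),
      h' ≫ ((DCoh.restrictCx V).obj F).d (b - 1) b = ((DCoh.restrictCx V).map α).f b :=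
    ⟨h, hhd⟩
  have hδ := Cochain.δ_single h' (-1) 0 (by omega) (b - 1) b (by omega) (by omega)
  obtain ⟨ζ, hζ⟩ : ∃ ζ : Cochain ((DCoh.restrictCx V).obj E) ((DCoh.restrictCx V).obj F) (-1),
      ζ = Cochain.single h' (-1) := ⟨_, rfl⟩
  rw [← hζ] at hδ
  let zc : Cocycle ((DCoh.restrictCx V).obj E) ((DCoh.restrictCx V).obj F) 0 :=
    Cocycle.mk (Cochain.ofHom ((DCoh.restrictCx V).map α) - δ (-1) 0 ζ) 1 (zero_add 1) (by
      rw [δ_sub, δ_ofHom, δ_δ, sub_zero])
  have hzc : (zc : Cochain ((DCoh.restrictCx V).obj E) ((DCoh.restrictCx V).obj F) 0) =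
      Cochain.ofHom ((DCoh.restrictCx V).map α) - δ (-1) 0 ζ := rfl
  refine ⟨V, Cocycle.homOf zc, hyV, ⟨?_⟩, ?_⟩
  · refine (Cochain.equivHomotopy _ _).symm ⟨ζ, ?_⟩
    rw [Cocycle.cochain_ofHom_homOf_eq_coe, hzc]
    exact (add_sub_cancel _ _).symm
  · intro i hi
    rw [Cocycle.homOf_f, hzc, Cochain.sub_v, Cochain.ofHom_v, hδ, Cochain.add_v,
      Cochain.units_smul_v]
    by_cases hib : i = b
    · subst hib
      rw [Cochain.single_v, Cochain.single_v_eq_zero _ _ _ _ _ (by omega : i ≠ i - 1),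
        smul_zero, add_zero, hh', sub_self]
    · rw [Cochain.single_v_eq_zero _ _ _ _ _ hib,
        Cochain.single_v_eq_zero _ _ _ _ _ (by omega : i ≠ b - 1), smul_zero, add_zero, sub_zero,
        Functor.mapHomologicalComplex_map_f, hα i (by omega), Functor.map_zero]

/-- transport of a null-homotopy from an open `V'` of the open subscheme `V` to `V.ι ''ᵁ V'` -/
lemma homotopy_transport {Y : Scheme.{u}} (V : Y.Opens) (V' : (V : Scheme.{u}).Opens)
    {E F : CochainComplex Y.Modules ℤ} (α : E ⟶ F)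
    (H : Homotopy ((DCoh.restrictCx V').map ((DCoh.restrictCx V).map α)) 0) :
    Nonempty (Homotopy ((DCoh.restrictCx (V.ι ''ᵁ V')).map α) 0) := by
  have hι : (V.ι ''ᵁ V').ι = (V.ι.isoImage V').inv ≫ V'.ι ≫ V.ι := (V.ι.isoImage_inv_ι V').symm
  let ρ : restrictFunctor (V.ι ''ᵁ V').ι ≅
      restrictFunctor V.ι ⋙ restrictFunctor V'.ι ⋙ restrictFunctor (V.ι.isoImage V').inv :=
    restrictFunctorCongr hι ≪≫ restrictFunctorComp (V.ι.isoImage V').inv (V'.ι ≫ V.ι) ≪≫
      Functor.isoWhiskerRight (restrictFunctorComp V'.ι V.ι)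
        (restrictFunctor (V.ι.isoImage V').inv) ≪≫
      Functor.associator _ _ _
  let κ : ∀ K : CochainComplex Y.Modules ℤ, (DCoh.restrictCx (V.ι ''ᵁ V')).obj K ≅
      ((restrictFunctor (V.ι.isoImage V').inv).mapHomologicalComplex (ComplexShape.up ℤ)).obj
        ((DCoh.restrictCx V').obj ((DCoh.restrictCx V).obj K)) := fun K =>
    HomologicalComplex.Hom.isoOfComponents (fun n => ρ.app (K.X n))
      (fun i j _ => (ρ.hom.naturality (K.d i j)).symm)
  have e1 : (DCoh.restrictCx (V.ι ''ᵁ V')).map α = (κ E).hom ≫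
      ((restrictFunctor (V.ι.isoImage V').inv).mapHomologicalComplex (ComplexShape.up ℤ)).map
        ((DCoh.restrictCx V').map ((DCoh.restrictCx V).map α)) ≫ (κ F).inv := by
    refine HomologicalComplex.hom_ext _ _ (fun n => ?_)
    have hnat := ρ.hom.naturality (α.f n)
    change (restrictFunctor (V.ι ''ᵁ V').ι).map (α.f n) = ρ.hom.app (E.X n) ≫
      (restrictFunctor V.ι ⋙ restrictFunctor V'.ι ⋙
        restrictFunctor (V.ι.isoImage V').inv).map (α.f n) ≫ ρ.inv.app (F.X n)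
    rw [← Category.assoc, ← hnat, Category.assoc, Iso.hom_inv_id_app, Category.comp_id]
  refine ⟨(Homotopy.ofEq e1).trans
    (((((restrictFunctor (V.ι.isoImage V').inv).mapHomotopy H).compRight (κ F).inv).compLeft
      (κ E).hom).trans (Homotopy.ofEq (by simp)))⟩

theorem locally_nullHomotopic_aux (k : ℕ) : ∀ {Y : Scheme.{u}} {E F : CochainComplex Y.Modules ℤ}
    (α : E ⟶ F) (_ : ∀ i, FlatMod.IsFinLocFree (E.X i)) (a : ℤ)
    (_ : ∀ i, i < a → IsZero (E.X i)) (_ : ∀ i, a ≤ i → IsZero (F.homology i))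
    (_ : ∀ i, a + k ≤ i → α.f i = 0) (y : Y),
    ∃ V : Y.Opens, y ∈ V ∧ Nonempty (Homotopy ((DCoh.restrictCx V).map α) 0) := by
  induction k with
  | zero =>
    intro Y E F α hfl a hEa hF hα y
    have h0 : α = 0 := by
      refine HomologicalComplex.hom_ext _ _ (fun i => ?_)
      by_cases hi : i < a
      · exact (hEa i hi).eq_of_src _ _
      · exact hα i (by omega)
    exact ⟨⊤, trivial, ⟨Homotopy.ofEq (by rw [h0, Functor.map_zero])⟩⟩
  | succ k ih =>
    intro Y E F α hfl a hEa hF hα y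
    obtain ⟨V, α', hyV, ⟨H⟩, hα'⟩ := kill_degree α (a + k) (hfl _) (hF _ (by omega))
      (fun i hi => hα i (by omega)) y
    obtain ⟨V', hyV', ⟨H'⟩⟩ := ih α'
      (fun i => isFinLocFree_restrict V.ι (E.X i) (hfl i)) a
      (fun i hi => (restrictFunctor V.ι).map_isZero (hEa i hi))
      (fun i hi => SuppOpen.isZero_homology_map (restrictFunctor V.ι) F i
        ((restrictFunctor V.ι).map_isZero (hF i hi))) hα' ⟨y, hyV⟩
    obtain ⟨H3⟩ := homotopy_transport V V' α (((restrictFunctor V'.ι).mapHomotopy H).trans H')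
    exact ⟨V.ι ''ᵁ V', ⟨⟨y, hyV⟩, hyV', rfl⟩, ⟨H3⟩⟩

theorem locally_nullHomotopic {X : Scheme.{u}} {E F : CochainComplex X.Modules ℤ}
    (α : E ⟶ F) (hE : DCoh.IsStrictlyPerfect E) (a : ℤ) (hEa : ∀ i : ℤ, i < a → IsZero (E.X i))
    (hF : ∀ i : ℤ, a ≤ i → IsZero (F.homology i)) (x : X) :
    ∃ V : X.Opens, x ∈ V ∧ Nonempty (Homotopy ((DCoh.restrictCx V).map α) 0) := by
  obtain ⟨⟨a', b', hab⟩, hfl⟩ := hE
  refine locally_nullHomotopic_aux (b' + 1 - a).toNat α hfl a hEa hF (fun i hi => ?_) x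
  have := Int.self_le_toNat (b' + 1 - a)
  exact (hab i (Or.inr (by omega))).eq_of_src _ _

end Groth.Agent.Lib.Helper13.LocNull
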