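import Mathlib
import Groth.Agent.Lib.Helper13.LocNull

/-!
# Local lifting of maps from strictly perfect complexes through partial quasi-isomorphisms (helper13)
-/

set_option autoImplicit false
set_option backward.isDefEq.respectTransparency false
universe w v u

namespace Groth.Agent.Lib.Helper13.LiftQis

open CategoryTheory CategoryTheory.Limits AlgebraicGeometry
open AlgebraicGeometry.Scheme.Modules
open Groth.Agent.Lib.Helper13

/-- if the composite `E ⟶ F ⟶ cone f` is null-homotopic, then `E ⟶ F` factors through `f` up to
homotopy -/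
lemma exists_lift_of_homotopy_zero {A : Type u} [Category.{v} A] [Abelian A]
    {E F G : CochainComplex A ℤ} (α : E ⟶ F) (f : G ⟶ F)
    (H : Homotopy (α ≫ CochainComplex.mappingCone.inr f) 0) :
    ∃ β : E ⟶ G, Nonempty (Homotopy (β ≫ f) α) := by
  have hT := HomotopyCategory.mappingCone_triangleh_distinguished f
  have h0 : (HomotopyCategory.quotient A (ComplexShape.up ℤ)).map α ≫
      (CochainComplex.mappingCone.triangleh f).mor₂ = 0 := by
    have := HomotopyCategory.eq_of_homotopy _ _ H
    rw [Functor.map_zero, Functor.map_comp] at this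
    exact this
  obtain ⟨β', hβ'⟩ := Pretriangulated.Triangle.coyoneda_exact₂ _ hT _ h0
  obtain ⟨β, hβ⟩ : ∃ β : E ⟶ G, (HomotopyCategory.quotient A (ComplexShape.up ℤ)).map β = β' :=
    (HomotopyCategory.quotient A (ComplexShape.up ℤ)).map_surjective β'
  refine ⟨β, ⟨HomotopyCategory.homotopyOfEq _ _ ?_⟩⟩
  rw [Functor.map_comp, hβ]
  exact hβ'.symm

/-- vanishing of the homology of a mapping cone -/
lemma isZero_homology_mappingCone {A : Type u} [Category.{v} A] [Abelian A]
    [HasDerivedCategory.{w} A] {G F : CochainComplex A ℤ} (f : G ⟶ F) (j : ℤ)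
    (hepi : Epi (HomologicalComplex.homologyMap f j))
    (hmono : Mono (HomologicalComplex.homologyMap f (j + 1))) :
    IsZero ((CochainComplex.mappingCone f).homology j) := by
  have hT := DerivedCategory.mappingCone_triangle_distinguished f
  have key : ∀ n, (DerivedCategory.homologyFunctor A n).map (DerivedCategory.Q.map f) =
      (DerivedCategory.homologyFunctorFactors A n).hom.app G ≫
        HomologicalComplex.homologyMap f n ≫
          (DerivedCategory.homologyFunctorFactors A n).inv.app F := by
    intro n
    rw [← Category.assoc, ← DerivedCategory.homologyFunctorFactors_hom_naturality,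
      Category.assoc, Iso.hom_inv_id_app]
    exact (Category.comp_id _).symm
  have e1 : Epi ((DerivedCategory.homologyFunctor A j).map
      (DerivedCategory.Q.mapTriangle.obj (CochainComplex.mappingCone.triangle f)).mor₁) := by
    show Epi ((DerivedCategory.homologyFunctor A j).map (DerivedCategory.Q.map f))
    rw [key]
    infer_instance
  have e2 : Mono ((DerivedCategory.homologyFunctor A (j + 1)).map
      (DerivedCategory.Q.mapTriangle.obj (CochainComplex.mappingCone.triangle f)).mor₁) := by
    show Mono ((DerivedCategory.homologyFunctor A (j + 1)).map (DerivedCategory.Q.map f))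
    rw [key]
    infer_instance
  have z1 := (DerivedCategory.HomologySequence.epi_homologyMap_mor₁_iff _ hT j).1 e1
  have z2 := (DerivedCategory.HomologySequence.mono_homologyMap_mor₁_iff _ hT j (j + 1) rfl).1 e2
  have ex := DerivedCategory.HomologySequence.exact₃ _ hT j (j + 1) rfl
  have hz := ex.isZero_of_both_zeros z1 z2
  exact hz.of_iso ((DerivedCategory.homologyFunctorFactors A j).app
    (CochainComplex.mappingCone f)).symm

attribute [local instance] HasDerivedCategory.standard

theorem locally_lift {X : Scheme.{u}} {E F G : CochainComplex X.Modules ℤ}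
    (α : E ⟶ F) (f : G ⟶ F) (hE : DCoh.IsStrictlyPerfect E) (a : ℤ)
    (hEa : ∀ j : ℤ, j < a → IsZero (E.X j))
    (hf : ∀ j : ℤ, a < j → IsIso (HomologicalComplex.homologyMap f j))
    (hfa : Epi (HomologicalComplex.homologyMap f a)) (x : X) :
    ∃ (V : X.Opens) (β : (DCoh.restrictCx V).obj E ⟶ (DCoh.restrictCx V).obj G), x ∈ V ∧
      Nonempty (Homotopy (β ≫ (DCoh.restrictCx V).map f) ((DCoh.restrictCx V).map α)) := by
  have hC : ∀ i, a ≤ i → IsZero ((CochainComplex.mappingCone f).homology i) := by
    intro i hi
    apply isZero_homology_mappingCone f i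
    · rcases eq_or_lt_of_le hi with h | h
      · subst h
        exact hfa
      · haveI := hf i h
        infer_instance
    · haveI := hf (i + 1) (by omega)
      infer_instance
  obtain ⟨V, hxV, ⟨H⟩⟩ := LocNull.locally_nullHomotopic
    (α ≫ CochainComplex.mappingCone.inr f) hE a hEa hC x
  have H' : Homotopy ((DCoh.restrictCx V).map α ≫
      CochainComplex.mappingCone.inr ((DCoh.restrictCx V).map f)) 0 := by
    have e := CochainComplex.mappingCone.map_inr f (restrictFunctor V.ι)
    refine (Homotopy.ofEq ?_).trans ((H.compRight
      (CochainComplex.mappingCone.mapHomologicalComplexIso f (restrictFunctor V.ι)).hom).trans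
        (Homotopy.ofEq zero_comp))
    rw [← e, ← Category.assoc, ← CategoryTheory.Functor.map_comp]
  obtain ⟨β, hβ⟩ := exists_lift_of_homotopy_zero _ _ H'
  exact ⟨V, β, hxV, hβ⟩

end Groth.Agent.Lib.Helper13.LiftQis
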