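import Mathlib
import Groth.Agent.Lib.Helper13.LiftQis

/-!
# Maps in `D(O_X)` out of a strictly perfect complex are locally chain maps (helper13)
-/

set_option autoImplicit false
set_option backward.isDefEq.respectTransparency false
universe w₁ w₂ v₁ v₂ u₁ u₂ u

namespace Groth.Agent.Lib.Helper13.ChainRep

open CategoryTheory CategoryTheory.Limits AlgebraicGeometry
open AlgebraicGeometry.Scheme.Modules
open Groth.Agent.Lib.Helper13

/-- image of a left fraction under an exact functor, when the numerator lifts through the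
denominator up to homotopy after applying the functor -/
lemma map_fraction {A : Type u₁} [Category.{v₁} A] [Abelian A] {B : Type u₂} [Category.{v₂} B]
    [Abelian B] [HasDerivedCategory.{w₁} A] [HasDerivedCategory.{w₂} B] (R : A ⥤ B) [R.Additive]
    [PreservesFiniteLimits R] [PreservesFiniteColimits R]
    {E F F' : CochainComplex A ℤ} (g : E ⟶ F') (s : F ⟶ F') [IsIso (DerivedCategory.Q.map s)]
    (β : (R.mapHomologicalComplex (ComplexShape.up ℤ)).obj E ⟶
      (R.mapHomologicalComplex (ComplexShape.up ℤ)).obj F)
    (H : Homotopy (β ≫ (R.mapHomologicalComplex (ComplexShape.up ℤ)).map s)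
      ((R.mapHomologicalComplex (ComplexShape.up ℤ)).map g)) :
    R.mapDerivedCategory.map (DerivedCategory.Q.map g ≫ inv (DerivedCategory.Q.map s)) =
      R.mapDerivedCategoryFactors.hom.app E ≫ DerivedCategory.Q.map β ≫
        R.mapDerivedCategoryFactors.inv.app F := by
  have n1 : R.mapDerivedCategoryFactors.inv.app F ≫
      R.mapDerivedCategory.map (DerivedCategory.Q.map s) =
      DerivedCategory.Q.map ((R.mapHomologicalComplex (ComplexShape.up ℤ)).map s) ≫
        R.mapDerivedCategoryFactors.inv.app F' :=
    (R.mapDerivedCategoryFactors.inv.naturality s).symm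
  have n2 := R.mapDerivedCategoryFactors_hom_naturality g
  have hQ := DerivedCategory.Q_map_eq_of_homotopy B H
  rw [CategoryTheory.Functor.map_comp] at hQ
  rw [CategoryTheory.Functor.map_comp, CategoryTheory.Functor.map_inv, IsIso.comp_inv_eq]
  simp only [Category.assoc]
  rw [n1, ← Category.assoc (DerivedCategory.Q.map β), hQ, ← Category.assoc, ← n2, Category.assoc,
    Iso.hom_inv_id_app]
  exact (Category.comp_id _).symm

attribute [local instance] HasDerivedCategory.standard

theorem locally_chain_map {X : Scheme.{u}} {E F : CochainComplex X.Modules ℤ}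
    (hE : DCoh.IsStrictlyPerfect E) (α : DCoh.toD X E ⟶ DCoh.toD X F) (x : X) :
    ∃ V : X.Opens, x ∈ V ∧ ∀ [PreservesFiniteLimits (Scheme.Modules.restrictFunctor V.ι)],
      ∃ β : (DCoh.restrictCx V).obj E ⟶ (DCoh.restrictCx V).obj F,
        (DCoh.restrictD V.ι).map α =
          (Scheme.Modules.restrictFunctor V.ι).mapDerivedCategoryFactors.hom.app E ≫
            DerivedCategory.Q.map β ≫
            (Scheme.Modules.restrictFunctor V.ι).mapDerivedCategoryFactors.inv.app F := by
  obtain ⟨F', g, s, hs, hα⟩ := DerivedCategory.left_fac α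
  have hE' := hE
  obtain ⟨⟨a', b', hab⟩, hfl⟩ := hE'
  have hqs : QuasiIso s := (DerivedCategory.isIso_Q_map_iff_quasiIso _ s).1 hs
  have hiso : ∀ j, IsIso (HomologicalComplex.homologyMap s j) := fun j => inferInstance
  obtain ⟨V, β, hxV, ⟨H⟩⟩ := LiftQis.locally_lift g s hE a'
    (fun j hj => hab j (Or.inl hj)) (fun j _ => hiso j)
    (by haveI := hiso a'; infer_instance) x
  refine ⟨V, hxV, ?_⟩
  intro inst
  refine ⟨β, ?_⟩
  rw [hα]
  exact map_fraction (Scheme.Modules.restrictFunctor V.ι) g s β H

end Groth.Agent.Lib.Helper13.ChainRep
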