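import Mathlib
import Groth.Agent.Lib.Helper13.ChainRep

/-!
# Perfect objects of `D(O_X)`: local representability, shifts, cones, two out of three (helper13)
-/

set_option autoImplicit false
set_option backward.isDefEq.respectTransparency false
universe u

namespace Groth.Agent.Lib.Helper13.PerfTri

open CategoryTheory CategoryTheory.Limits AlgebraicGeometry
open AlgebraicGeometry.Scheme.Modules
open Groth.Agent.Lib.Helper13
attribute [local instance] HasDerivedCategory.standard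

/-- restriction of complexes along an open immersion -/
noncomputable abbrev resCx {Y X : Scheme.{u}} (j : Y ⟶ X) [IsOpenImmersion j] :
    CochainComplex X.Modules ℤ ⥤ CochainComplex Y.Modules ℤ :=
  (restrictFunctor j).mapHomologicalComplex (ComplexShape.up ℤ)

/-- `K` is represented by a strictly perfect complex after restriction along `j` -/
def LPD {Y X : Scheme.{u}} (K : DCoh.D X) (j : Y ⟶ X) [IsOpenImmersion j] : Prop :=
  ∃ E : CochainComplex Y.Modules ℤ, DCoh.IsStrictlyPerfect E ∧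
    Nonempty ((DCoh.restrictD j).obj K ≅ DerivedCategory.Q.obj E)

/-- `F|_{j''} ≅ (F|_j)|_{j'}` for `j'' = j' ≫ j` -/
noncomputable def resCxComp {Y' Y X : Scheme.{u}} (j' : Y' ⟶ Y) (j : Y ⟶ X) (j'' : Y' ⟶ X)
    [IsOpenImmersion j'] [IsOpenImmersion j] [IsOpenImmersion j''] (h : j'' = j' ≫ j)
    (F : CochainComplex X.Modules ℤ) :
    (resCx j'').obj F ≅ (resCx j').obj ((resCx j).obj F) :=
  let ρ : restrictFunctor j'' ≅ restrictFunctor j ⋙ restrictFunctor j' :=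
    restrictFunctorCongr h ≪≫ restrictFunctorComp j' j
  HomologicalComplex.Hom.isoOfComponents (fun n => ρ.app (F.X n))
    (fun i k _ => (ρ.hom.naturality (F.d i k)).symm)

lemma nonempty_resD_comp {Y' Y X : Scheme.{u}} (j' : Y' ⟶ Y) (j : Y ⟶ X) (j'' : Y' ⟶ X)
    [IsOpenImmersion j'] [IsOpenImmersion j] [IsOpenImmersion j''] (h : j'' = j' ≫ j)
    (K : DCoh.D X) :
    Nonempty ((DCoh.restrictD j').obj ((DCoh.restrictD j).obj K) ≅
      (DCoh.restrictD j'').obj K) := by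
  let F := DerivedCategory.Q.objPreimage K
  let i : DerivedCategory.Q.obj F ≅ K := DerivedCategory.Q.objObjPreimageIso K
  exact ⟨(DCoh.restrictD j').mapIso ((DCoh.restrictD j).mapIso i.symm ≪≫
      (restrictFunctor j).mapDerivedCategoryFactors.app F) ≪≫
    (restrictFunctor j').mapDerivedCategoryFactors.app ((resCx j).obj F) ≪≫
    DerivedCategory.Q.mapIso (resCxComp j' j j'' h F).symm ≪≫
    ((restrictFunctor j'').mapDerivedCategoryFactors.app F).symm ≪≫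
    (DCoh.restrictD j'').mapIso i⟩

lemma LPD.comp {Y' Y X : Scheme.{u}} (j' : Y' ⟶ Y) (j : Y ⟶ X) (j'' : Y' ⟶ X)
    [IsOpenImmersion j'] [IsOpenImmersion j] [IsOpenImmersion j''] (h : j'' = j' ≫ j)
    {K : DCoh.D X} (hK : LPD K j) : LPD K j'' := by
  obtain ⟨E, hE, ⟨e⟩⟩ := hK
  obtain ⟨c⟩ := nonempty_resD_comp j' j j'' h K
  exact ⟨(resCx j').obj E, PerfLocal.isStrictlyPerfect_restrict j' E hE,
    ⟨c.symm ≪≫ (DCoh.restrictD j').mapIso e ≪≫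
      (restrictFunctor j').mapDerivedCategoryFactors.app E⟩⟩

lemma isPerfect_iff {X : Scheme.{u}} (K : DCoh.D X) :
    DCoh.IsPerfect K ↔ ∀ x : X, ∃ V : X.Opens, x ∈ V ∧ LPD K V.ι := by
  constructor
  · intro hK x
    obtain ⟨V, hxV, hV⟩ := hK x
    obtain ⟨E, hE, ⟨e⟩⟩ := hV (DerivedCategory.Q.objPreimage K)
      ⟨DerivedCategory.Q.objObjPreimageIso K⟩
    exact ⟨V, hxV, E, hE, ⟨(DCoh.restrictD V.ι).mapIso
      (DerivedCategory.Q.objObjPreimageIso K).symm ≪≫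
      (restrictFunctor V.ι).mapDerivedCategoryFactors.app _ ≪≫ e⟩⟩
  · intro h x
    obtain ⟨V, hxV, E, hE, ⟨e⟩⟩ := h x
    refine ⟨V, hxV, ?_⟩
    rintro F ⟨i⟩
    exact ⟨E, hE, ⟨((restrictFunctor V.ι).mapDerivedCategoryFactors.app F).symm ≪≫
      (DCoh.restrictD V.ι).mapIso i ≪≫ e⟩⟩

lemma isPerfect_of_LPD {X : Scheme.{u}} (K : DCoh.D X)
    (h : ∀ x : X, ∃ (Y : Scheme.{u}) (j : Y ⟶ X) (_ : IsOpenImmersion j) (y : Y),
      j.base y = x ∧ LPD K j) : DCoh.IsPerfect K := by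
  rw [isPerfect_iff]
  intro x
  obtain ⟨Y, j, hj, y, hy, hK⟩ := h x
  refine ⟨j.opensRange, ⟨y, hy⟩, ?_⟩
  exact LPD.comp j.isoOpensRange.inv j _ j.isoOpensRange_inv_comp.symm hK

lemma isPerfect_of_iso {X : Scheme.{u}} {K K' : DCoh.D X} (e : K ≅ K')
    (hK : DCoh.IsPerfect K) : DCoh.IsPerfect K' := by
  intro x
  obtain ⟨V, hxV, hV⟩ := hK x
  refine ⟨V, hxV, ?_⟩
  rintro F ⟨i⟩
  exact hV F ⟨i ≪≫ e.symm⟩

lemma isStrictlyPerfect_shift {Y : Scheme.{u}} (E : CochainComplex Y.Modules ℤ) (n : ℤ)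
    (hE : DCoh.IsStrictlyPerfect E) : DCoh.IsStrictlyPerfect (E⟦n⟧) := by
  obtain ⟨⟨a, b, hab⟩, hfl⟩ := hE
  refine ⟨⟨a - n, b - n, fun i hi => ?_⟩, fun i => ?_⟩
  · change IsZero (E.X (i + n))
    exact hab (i + n) (by omega)
  · change FlatMod.IsFinLocFree (E.X (i + n))
    exact hfl (i + n)

lemma isPerfect_shift {X : Scheme.{u}} (K : DCoh.D X) (n : ℤ) (hK : DCoh.IsPerfect K) :
    DCoh.IsPerfect (K⟦n⟧) := by
  rw [isPerfect_iff] at hK ⊢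
  intro x
  obtain ⟨V, hxV, E, hE, ⟨e⟩⟩ := hK x
  exact ⟨V, hxV, E⟦n⟧, isStrictlyPerfect_shift E n hE,
    ⟨((DCoh.restrictD V.ι).commShiftIso n).app K ≪≫ (shiftFunctor _ n).mapIso e ≪≫
      ((DerivedCategory.Q.commShiftIso n).app E).symm⟩⟩

lemma isStrictlyPerfect_mappingCone {Y : Scheme.{u}} {E₁ E₂ : CochainComplex Y.Modules ℤ}
    (β : E₁ ⟶ E₂) (h₁ : DCoh.IsStrictlyPerfect E₁) (h₂ : DCoh.IsStrictlyPerfect E₂) :
    DCoh.IsStrictlyPerfect (CochainComplex.mappingCone β) := by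
  obtain ⟨⟨a₁, b₁, hab₁⟩, hfl₁⟩ := h₁
  obtain ⟨⟨a₂, b₂, hab₂⟩, hfl₂⟩ := h₂
  have e : ∀ n : ℤ, (CochainComplex.mappingCone β).X n ≅ (E₁.X (n + 1) ⊞ E₂.X n : Y.Modules) :=
    fun n => HomologicalComplex.homotopyCofiber.XIsoBiprod β n (n + 1) rfl
  have m1 := min_le_left (a₁ - 1) a₂
  have m2 := min_le_right (a₁ - 1) a₂
  have m3 := le_max_left (b₁ - 1) b₂
  have m4 := le_max_right (b₁ - 1) b₂
  refine ⟨⟨min (a₁ - 1) a₂, max (b₁ - 1) b₂, fun i hi => ?_⟩, fun i => ?_⟩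
  · refine IsZero.of_iso ?_ (e i)
    have z1 : IsZero (E₁.X (i + 1)) := hab₁ _ (by omega)
    have z2 : IsZero (E₂.X i) := hab₂ _ (by omega)
    rw [IsZero.iff_id_eq_zero]
    apply biprod.hom_ext
    · exact z1.eq_of_tgt _ _
    · exact z2.eq_of_tgt _ _
  · exact Groth.Agent.Lib.Helper17.LocFreeOps.isFinLocFree_of_iso (e i).symm
      (Groth.Agent.Lib.Helper17.LocFreeOps.isFinLocFree_biprod _ _ (hfl₁ _) (hfl₂ _))

lemma lpd_cone_aux {X : Scheme.{u}} (T : Pretriangulated.Triangle (DCoh.D X))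
    (hT : T ∈ Pretriangulated.distinguishedTriangles) (V : X.Opens) (x : X) (hxV : x ∈ V)
    (E₁ E₂ : CochainComplex (V : Scheme.{u}).Modules ℤ) (hE₁ : DCoh.IsStrictlyPerfect E₁)
    (hE₂ : DCoh.IsStrictlyPerfect E₂)
    (e₁ : (DCoh.restrictD V.ι).obj T.obj₁ ≅ DerivedCategory.Q.obj E₁)
    (e₂ : (DCoh.restrictD V.ι).obj T.obj₂ ≅ DerivedCategory.Q.obj E₂) :
    ∃ (Y : Scheme.{u}) (j : Y ⟶ X) (_ : IsOpenImmersion j) (y : Y),
      j.base y = x ∧ LPD T.obj₃ j := by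
  obtain ⟨α, hα⟩ : ∃ α : DCoh.toD (V : Scheme.{u}) E₁ ⟶ DCoh.toD (V : Scheme.{u}) E₂,
      α = e₁.inv ≫ (DCoh.restrictD V.ι).map T.mor₁ ≫ e₂.hom := ⟨_, rfl⟩
  obtain ⟨V', hxV', hV'⟩ := ChainRep.locally_chain_map hE₁ α ⟨x, hxV⟩
  obtain ⟨β, hβ⟩ := hV'
  refine ⟨V', V'.ι ≫ V.ι, inferInstance, ⟨⟨x, hxV⟩, hxV'⟩, rfl, ?_⟩
  have hT₁ := (DCoh.restrictD V.ι).map_distinguished T hT
  have hT₂ := (DCoh.restrictD V'.ι).map_distinguished _ hT₁
  have hT₃ := DerivedCategory.mappingCone_triangle_distinguished β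
  have hα' : (DCoh.restrictD V.ι).map T.mor₁ ≫ e₂.hom = e₁.hom ≫ α := by
    rw [hα, Iso.hom_inv_id_assoc]
  have comm : (DCoh.restrictD V'.ι).map ((DCoh.restrictD V.ι).map T.mor₁) ≫
      ((DCoh.restrictD V'.ι).mapIso e₂ ≪≫
        (restrictFunctor V'.ι).mapDerivedCategoryFactors.app E₂).hom =
      ((DCoh.restrictD V'.ι).mapIso e₁ ≪≫
        (restrictFunctor V'.ι).mapDerivedCategoryFactors.app E₁).hom ≫
        DerivedCategory.Q.map β := by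
    rw [Iso.trans_hom, Iso.trans_hom, Functor.mapIso_hom, Functor.mapIso_hom, ← Category.assoc,
      ← CategoryTheory.Functor.map_comp, hα', CategoryTheory.Functor.map_comp, hβ]
    simp only [Category.assoc, Iso.app_hom, Iso.inv_hom_id_app]
    erw [Category.comp_id]
  have iso := Pretriangulated.isoTriangleOfIso₁₂ _ _ hT₂ hT₃
    ((DCoh.restrictD V'.ι).mapIso e₁ ≪≫ (restrictFunctor V'.ι).mapDerivedCategoryFactors.app E₁)
    ((DCoh.restrictD V'.ι).mapIso e₂ ≪≫ (restrictFunctor V'.ι).mapDerivedCategoryFactors.app E₂)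
    comm
  obtain ⟨c⟩ := nonempty_resD_comp V'.ι V.ι (V'.ι ≫ V.ι) rfl T.obj₃
  exact ⟨CochainComplex.mappingCone β,
    isStrictlyPerfect_mappingCone β (PerfLocal.isStrictlyPerfect_restrict V'.ι E₁ hE₁)
      (PerfLocal.isStrictlyPerfect_restrict V'.ι E₂ hE₂),
    ⟨c.symm ≪≫ Pretriangulated.Triangle.π₃.mapIso iso⟩⟩

theorem isPerfect_cone {X : Scheme.{u}} (T : Pretriangulated.Triangle (DCoh.D X))
    (hT : T ∈ Pretriangulated.distinguishedTriangles)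
    (h₁ : DCoh.IsPerfect T.obj₁) (h₂ : DCoh.IsPerfect T.obj₂) : DCoh.IsPerfect T.obj₃ := by
  apply isPerfect_of_LPD
  intro x
  obtain ⟨V₁, hx₁, hK₁⟩ := (isPerfect_iff _).1 h₁ x
  obtain ⟨V₂, hx₂, hK₂⟩ := (isPerfect_iff _).1 h₂ x
  have hxV : x ∈ V₁ ⊓ V₂ := ⟨hx₁, hx₂⟩
  obtain ⟨E₁, hE₁, ⟨e₁⟩⟩ := LPD.comp (X.homOfLE inf_le_left) V₁.ι (V₁ ⊓ V₂).ι
    (X.homOfLE_ι _).symm hK₁
  obtain ⟨E₂, hE₂, ⟨e₂⟩⟩ := LPD.comp (X.homOfLE inf_le_right) V₂.ι (V₁ ⊓ V₂).ι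
    (X.homOfLE_ι _).symm hK₂
  exact lpd_cone_aux T hT (V₁ ⊓ V₂) x hxV E₁ E₂ hE₁ hE₂ e₁ e₂

theorem two_of_three {X : Scheme.{u}} (T : Pretriangulated.Triangle (DCoh.D X))
    (hT : T ∈ Pretriangulated.distinguishedTriangles) :
    (DCoh.IsPerfect T.obj₁ → DCoh.IsPerfect T.obj₂ → DCoh.IsPerfect T.obj₃) ∧
    (DCoh.IsPerfect T.obj₁ → DCoh.IsPerfect T.obj₃ → DCoh.IsPerfect T.obj₂) ∧
    (DCoh.IsPerfect T.obj₂ → DCoh.IsPerfect T.obj₃ → DCoh.IsPerfect T.obj₁) := by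
  refine ⟨isPerfect_cone T hT, fun h₁ h₃ => ?_, fun h₂ h₃ => ?_⟩
  · exact isPerfect_cone T.invRotate (Pretriangulated.inv_rot_of_distTriang T hT)
      (isPerfect_shift T.obj₃ (-1) h₃) h₁
  · have h := isPerfect_cone T.rotate (Pretriangulated.rot_of_distTriang T hT) h₂ h₃
    exact isPerfect_of_iso (shiftShiftNeg T.obj₁ (1 : ℤ)) (isPerfect_shift _ (-1) h)

end Groth.Agent.Lib.Helper13.PerfTri
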