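import Mathlib
import Groth.Agent.Lib.Helper13.PerfTri
import Groth.Agent.Lib.Helper17.FinLocFreeSec

/-!
# Perfect objects are relatively perfect over a flat base (helper13)
-/

set_option autoImplicit false
set_option backward.isDefEq.respectTransparency false
universe u

attribute [local instance] HasDerivedCategory.standard

namespace Groth.Agent.Lib.Helper13.RelPerf

open CategoryTheory CategoryTheory.Limits AlgebraicGeometry
open AlgebraicGeometry.Scheme.Modules
open Groth.Agent.Lib.Helper13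

/-- a module flat over `O_X` at `x` is flat over `S` at `x` when `f : X ⟶ S` is flat at `x` -/
lemma isFlatOverAt_of_isFlatAt {X S : Scheme.{u}} (f : X ⟶ S) (M : X.Modules) (x : X)
    (hM : FlatMod.IsFlatAt M x) (hf : (f.stalkMap x).hom.Flat) : FlatMod.IsFlatOverAt f M x := by
  unfold FlatMod.IsFlatOverAt
  letI := FlatMod.moduleStalkOver f M x
  letI : Algebra (S.presheaf.stalk (f.base x)) (X.presheaf.stalk x) := (f.stalkMap x).hom.toAlgebra
  haveI : IsScalarTower (S.presheaf.stalk (f.base x)) (X.presheaf.stalk x) (M.presheaf.stalk x) :=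
    IsScalarTower.of_algebraMap_smul (fun r m => rfl)
  haveI : Module.Flat (S.presheaf.stalk (f.base x)) (X.presheaf.stalk x) := hf
  haveI : Module.Flat (X.presheaf.stalk x) (M.presheaf.stalk x) := hM
  exact Module.Flat.trans (S.presheaf.stalk (f.base x)) (X.presheaf.stalk x) (M.presheaf.stalk x)

theorem relativelyPerfect_of_perfect {X S : Scheme.{u}} (f : X ⟶ S) [Flat f]
    (E : DCoh.D X) (hE : DCoh.IsPerfect E) :
    (∀ m : ℤ, DCoh.IsPseudoCoherentD m E) ∧ DCoh.LocHasFiniteRelTorDim f E := by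
  constructor
  · intro m x
    obtain ⟨V, hxV, hV⟩ := hE x
    refine ⟨V, hxV, fun F hF => ?_⟩
    obtain ⟨P, hP, ⟨e⟩⟩ := hV F hF
    exact ⟨P, e.inv, hP, fun i _ => inferInstance, inferInstance⟩
  · intro x
    obtain ⟨V, hxV, P, hP, ⟨e⟩⟩ := (PerfTri.isPerfect_iff E).1 hE x
    obtain ⟨⟨a, b, hab⟩, hfl⟩ := hP
    refine ⟨V, a, b, hxV, ?_⟩
    rintro F' ⟨i⟩
    refine ⟨P, hab, fun k y => ?_, ⟨e.symm ≪≫ (DCoh.restrictD V.ι).mapIso i.symm ≪≫
      (restrictFunctor V.ι).mapDerivedCategoryFactors.app F'⟩⟩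
    haveI := Groth.Agent.Lib.Helper3.LocFreeCrit.isQuasicoherent_of_isFinLocFree (hfl k)
    exact isFlatOverAt_of_isFlatAt (V.ι ≫ f) (P.X k) y
      (Groth.Agent.Lib.Helper17.FinLocFreeSec.isFlat_of_isFinLocFree (P.X k) (hfl k) y)
      (Flat.stalkMap (V.ι ≫ f) y)

end Groth.Agent.Lib.Helper13.RelPerf
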