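import Groth.Agent.Lib.Helper13.DerivedCommute
import Groth.Agent.Lib.Helper13.ModGrothendieck
import Groth.Agent.Lib.Helper10.DerLES
import Groth.Agent.Lib.Helper2.Stk.Exact

/-!
# The stalks of the higher direct images as right derived functors (helper13)

For `f : X ⟶ Y`, a point `y : Y` and a ring homomorphism `ρs : A →+* O_{Y,y}`, the functor
`GamA f y ρs = f_* ⋙ (stalk at y) ⋙ (restriction of scalars along ρs) : X.Modules ⥤ ModuleCat A`
is left exact, its right derived functors are the stalks of the higher direct images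
(`TIso`), and they sit in long exact sequences (`H10SES.derivedLES`).
-/

set_option autoImplicit false
universe u
open CategoryTheory CategoryTheory.Limits AlgebraicGeometry

noncomputable section

namespace Groth.Agent.Lib.Helper13.StalkFBCT

open Groth.Agent.Lib.Helper2

variable {X Y : Scheme.{u}} (f : X ⟶ Y) (y : Y) {A : Type u} [CommRing A]
  (ρs : A →+* Y.presheaf.stalk y)

/-- the exact functor "stalk at `y`, as an `A`-module" -/
def E : Y.Modules ⥤ ModuleCat.{u} A := Stk.Φ y ⋙ ModuleCat.restrictScalars ρs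

instance : (E y ρs).Additive := by unfold E; infer_instance

instance : PreservesFiniteLimits (E y ρs) := by unfold E; infer_instance

instance : PreservesFiniteColimits (E y ρs) := by unfold E; infer_instance

/-- `F ↦ (f_* F)_y` as an `A`-module -/
def GamA : X.Modules ⥤ ModuleCat.{u} A := Scheme.Modules.pushforward f ⋙ E y ρs

instance : (GamA f y ρs).Additive := by unfold GamA; infer_instance

instance : PreservesFiniteLimits (GamA f y ρs) := by
  haveI : PreservesFiniteLimits (Scheme.Modules.pushforward f) := by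
    have : PreservesLimitsOfSize.{0, 0} (Scheme.Modules.pushforward f) :=
      (Scheme.Modules.pullbackPushforwardAdjunction f).rightAdjoint_preservesLimits
    exact PreservesLimitsOfSize.preservesFiniteLimits _
  unfold GamA
  infer_instance

instance hasInjRes (X : Scheme.{u}) : HasInjectiveResolutions X.Modules := by
  haveI : EnoughInjectives X.Modules :=
    Groth.Agent.Lib.Helper13.ModGrothendieck.enoughInjectives X.ringCatSheaf
  infer_instance

/-- the stalk of `R^p f_* F` -/
abbrev T (p : ℕ) (F : X.Modules) : ModuleCat.{u} A := ((GamA f y ρs).rightDerived p).obj F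

/-- `T^p(F) ≅ (R^p f_* F)_y`. -/
def TIso (p : ℕ) (F : X.Modules) :
    T f y ρs p F ≅ (E y ρs).obj (((Scheme.Modules.pushforward f).rightDerived p).obj F) :=
  DerivedCommute.rightDerivedCompExactObjIso (Scheme.Modules.pushforward f) (E y ρs) p F

theorem isZero_T (p : ℕ) (F : X.Modules)
    (h : IsZero (((Scheme.Modules.pushforward f).rightDerived p).obj F)) :
    IsZero (T f y ρs p F) :=
  IsZero.of_iso ((E y ρs).map_isZero h) (TIso f y ρs p F)

/-- `T^0(F) ≅ (f_* F)_y`, naturally. -/
def T0Iso : (GamA f y ρs).rightDerived 0 ≅ GamA f y ρs :=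
  (GamA f y ρs).rightDerivedZeroIsoSelf

/-- the long exact sequence -/
def les : RDer.DerivedLES (GamA f y ρs) := H10SES.derivedLES (GamA f y ρs)

variable {f y ρs}

/-- dimension shifting: `T^p(X₃) ≅ T^{p+1}(X₁)` when `T^p(X₂) = 0 = T^{p+1}(X₂)`. -/
theorem nonempty_T_succ_iso (S : ShortComplex X.Modules) (hS : S.ShortExact) (p : ℕ)
    (h1 : IsZero (T f y ρs p S.X₂)) (h2 : IsZero (T f y ρs (p + 1) S.X₂)) :
    Nonempty (T f y ρs p S.X₃ ≅ T f y ρs (p + 1) S.X₁) := by
  have e3 := (les f y ρs).exact₃ S hS p (p + 1) rfl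
  have e1 := (les f y ρs).exact₁ S hS p (p + 1) rfl
  haveI : Mono ((les f y ρs).δ S hS p (p + 1) rfl) :=
    e3.mono_g (h1.eq_of_src _ _)
  haveI : Epi ((les f y ρs).δ S hS p (p + 1) rfl) :=
    e1.epi_f (h2.eq_of_tgt _ _)
  haveI : IsIso ((les f y ρs).δ S hS p (p + 1) rfl) := isIso_of_mono_of_epi _
  exact ⟨asIso ((les f y ρs).δ S hS p (p + 1) rfl)⟩

/-- the beginning of the sequence, elementwise. -/
theorem exact_T0 (S : ShortComplex X.Modules) (hS : S.ShortExact) :
    Function.Exact (((GamA f y ρs).rightDerived 0).map S.g).hom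
      ((les f y ρs).δ S hS 0 1 rfl).hom :=
  (ShortComplex.ShortExact.moduleCat_exact_iff_function_exact _).1
    ((les f y ρs).exact₃ S hS 0 1 rfl)

theorem surjective_δ0 (S : ShortComplex X.Modules) (hS : S.ShortExact)
    (h2 : IsZero (T f y ρs 1 S.X₂)) :
    Function.Surjective ((les f y ρs).δ S hS 0 1 rfl).hom := by
  have e1 := (les f y ρs).exact₁ S hS 0 1 rfl
  haveI : Epi ((les f y ρs).δ S hS 0 1 rfl) := e1.epi_f (h2.eq_of_tgt _ _)
  exact (ModuleCat.epi_iff_surjective _).1 inferInstance

end Groth.Agent.Lib.Helper13.StalkFBCT
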