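import Mathlib
import Groth.Agent.Lib.Helper13.CBCEtExact
import Groth.Agent.Lib.Helper13.CBCCongr
import Groth.Agent.Lib.Helper13.CBCStalk
import Groth.Agent.Lib.Helper13.CBCStalk2
import Groth.Agent.Lib.Helper13.CBCRank
import Groth.Agent.Lib.Helper13.RelPerf
import Groth.Agent.Lib.Helper13.StalkFBCT
import Groth.Agent.Lib.Helper23.Inverse
import Groth.Agent.Lib.Helper23.T2L
import Groth.Agent.Lib.Helper23.GeomH0
import Groth.Agent.Lib.Helper7.TFunExact2
import Groth.Agent.Lib.Helper7.TFunLib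
import Groth.Agent.S2410
import Groth.Agent.S0036

/-!
# Proper flat morphisms whose fibre has an étale ring of global functions: `f_* O_X` is free near
the point, of rank `dim H^0(X_y, O)`
-/

set_option autoImplicit false
set_option linter.style.haveILetI false
universe u
open CategoryTheory CategoryTheory.Limits AlgebraicGeometry TopologicalSpace Opposite TensorProduct
open Scheme.Modules

namespace Groth.Agent.Lib.Helper13.CBCEtStalk

open Groth.Agent.Lib.Helper13.CBCSec Groth.Agent.Lib.Helper13.CBCCech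
  Groth.Agent.Lib.Helper13.CBCUp Groth.Agent.Lib.Helper13.CBCBase
  Groth.Agent.Lib.Helper13.CBCBC Groth.Agent.Lib.Helper13.CBCFib
  Groth.Agent.Lib.Helper13.CBCRank
open Groth.Agent.Lib.Helper7

/-- the structure sheaf of a flat `Y`-scheme is flat over `Y`. -/
theorem isFlatOver_structureModule {X Y : Scheme.{u}} (f : X ⟶ Y) [Flat f] :
    FlatMod.IsFlatOver f (Coh.structureModule X) := by
  intro x
  refine Groth.Agent.Lib.Helper13.RelPerf.isFlatOverAt_of_isFlatAt _ _ x ?_
    (AlgebraicGeometry.Flat.stalkMap _ x)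
  obtain ⟨U, e, hxU, hg⟩ := Groth.Agent.Lib.Helper3.InvGen.exists_isGen
    (Groth.Agent.Lib.Helper3.InvGen.isInvertible_structureModule X) x
  have hb := Groth.Agent.Lib.Helper23.Inverse.germ_gen_bijective hg x hxU
  exact Module.Flat.of_linearEquiv (LinearEquiv.ofBijective _ hb).symm

lemma bijective_of_mul_bijective {R B : Type*} [CommRing R] [CommRing B] (φ : R →+* B) (b : B)
    (h : Function.Bijective (fun a : R => φ a * b)) : Function.Bijective φ := by
  obtain ⟨a₀, ha₀⟩ := h.2 1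
  have ha₀' : φ a₀ * b = 1 := ha₀
  constructor
  · intro a a' haa
    apply h.1
    show φ a * b = φ a' * b
    rw [haa]
  · intro x
    obtain ⟨a, ha⟩ := h.2 (x * b)
    have ha' : φ a * b = x * b := ha
    refine ⟨a, ?_⟩
    calc φ a = φ a * (φ a₀ * b) := by rw [ha₀', mul_one]
      _ = (φ a * b) * φ a₀ := by ring
      _ = (x * b) * φ a₀ := by rw [ha']
      _ = x * (φ a₀ * b) := by ring
      _ = x := by rw [ha₀', mul_one]

section Main

variable {X Y : Scheme.{u}} (f : X ⟶ Y) [IsProper f] [Flat f] [IsLocallyNoetherian Y]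
  [HasInjectiveResolutions X.Modules] (y : Y)

/-- the stalk of `f_* O_X` at a point whose fibre has an étale ring of functions is free of rank
`dim H^0(X_y, O)`. -/
theorem stalk_free (het : Algebra.Etale (Y.residueField y) Γ(f.fiber y, ⊤)) :
    Module.Free (Y.presheaf.stalk y)
        (((Coh.Rpush f 0).obj (Coh.structureModule X)).presheaf.stalk y) ∧
      Module.finrank (Y.presheaf.stalk y)
        (((Coh.Rpush f 0).obj (Coh.structureModule X)).presheaf.stalk y) =
        CohIII.fiberRank f (Coh.structureModule X) 0 y := by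
  classical
  have hF : Coh.IsCoh (Coh.structureModule X) :=
    Groth.Agent.Lib.Helper23.T2.isCoh_structureModule X
  haveI : (Coh.structureModule X).IsQuasicoherent := hF.1
  have hfl : FlatMod.IsFlatOver f (Coh.structureModule X) := isFlatOver_structureModule f
  letI : (pullback f (Y.fromSpecStalk y)).Over (Spec (CommRingCat.of (Y.presheaf.stalk y))) :=
    ⟨pullback.snd f (Y.fromSpecStalk y)⟩
  have hsq : IsPullback (pullback.fst f (Y.fromSpecStalk y))
      ((pullback f (Y.fromSpecStalk y)) ↘ Spec (CommRingCat.of (Y.presheaf.stalk y))) f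
      (Y.fromSpecStalk y) := IsPullback.of_hasPullback _ _
  haveI : IsProper ((pullback f (Y.fromSpecStalk y)) ↘
      Spec (CommRingCat.of (Y.presheaf.stalk y))) :=
    MorphismProperty.of_isPullback hsq ‹IsProper f›
  haveI : Flat ((pullback f (Y.fromSpecStalk y)) ↘
      Spec (CommRingCat.of (Y.presheaf.stalk y))) :=
    MorphismProperty.of_isPullback hsq ‹Flat f›
  have hcoh : Coh.IsCoh ((Scheme.Modules.pullback (pullback.fst f (Y.fromSpecStalk y))).obj
      (Coh.structureModule X)) :=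
    Groth.Agent.Lib.Helper23.T2.isCoh_pullback _ hF
  haveI : ((Scheme.Modules.pullback (pullback.fst f (Y.fromSpecStalk y))).obj
      (Coh.structureModule X)).IsQuasicoherent := hcoh.1
  have hfl1 : FlatMod.IsFlatOver ((pullback f (Y.fromSpecStalk y)) ↘
      Spec (CommRingCat.of (Y.presheaf.stalk y)))
      ((Scheme.Modules.pullback (pullback.fst f (Y.fromSpecStalk y))).obj
        (Coh.structureModule X)) := fun x' =>
    Groth.Agent.Lib.Helper17.FibreFlat.isFlatOverAt_baseChange hsq (Coh.structureModule X) x'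
      (hfl _)
  obtain ⟨Q, hQ, hb, hpos, hν⟩ := Groth.Agent.Lib.Helper13.CBCMain.bridge (Y.presheaf.stalk y)
    (pullback f (Y.fromSpecStalk y)) _ hcoh hfl1
  obtain ⟨ν0⟩ := hν 0
  have hQ' : ∀ i, Module.Finite (Y.presheaf.stalk y) (Q.X i) ∧
      Module.Flat (Y.presheaf.stalk y) (Q.X i) := fun i =>
    ⟨(hQ i).1, haveI := (hQ i).2; inferInstance⟩
  have hQfl : ∀ i, Module.Flat (Y.presheaf.stalk y) (Q.X i) := fun i => (hQ' i).2
  -- the fibre as a base change of `X₁`
  letI over' : (f.fiber y).Over (Spec (CommRingCat.of ↑(Y.residueField y))) :=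
    ⟨f.fiberToSpecResidueField y⟩
  let gB : Spec (CommRingCat.of ↑(Y.residueField y)) ⟶
      Spec (CommRingCat.of (Y.presheaf.stalk y)) := Spec.map (Y.residue y)
  have hgB : gB ≫ Y.fromSpecStalk y = Y.fromSpecResidueField y := rfl
  have hw : f.fiberι y ≫ f = (f.fiberToSpecResidueField y ≫ gB) ≫ Y.fromSpecStalk y := by
    rw [Category.assoc, hgB]
    exact pullback.condition
  let g' : f.fiber y ⟶ pullback f (Y.fromSpecStalk y) :=
    hsq.lift (f.fiberι y) (f.fiberToSpecResidueField y ≫ gB) hw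
  have hg'1 : g' ≫ pullback.fst f (Y.fromSpecStalk y) = f.fiberι y := hsq.lift_fst _ _ _
  have hg'2 : g' ≫ sm (Y.presheaf.stalk y) (pullback f (Y.fromSpecStalk y)) =
      f.fiberToSpecResidueField y ≫ gB := hsq.lift_snd _ _ _
  have hbig : IsPullback (g' ≫ pullback.fst f (Y.fromSpecStalk y))
      (f.fiberToSpecResidueField y) f (gB ≫ Y.fromSpecStalk y) := by
    rw [hg'1, hgB]
    exact IsPullback.of_hasPullback f (Y.fromSpecResidueField y)
  have hc : IsPullback g' (sm ↑(Y.residueField y) (f.fiber y))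
      (sm (Y.presheaf.stalk y) (pullback f (Y.fromSpecStalk y))) gB :=
    IsPullback.of_right hbig hg'2 hsq
  have hφ : ∀ a, φg (Y.presheaf.stalk y) ↑(Y.residueField y) gB a =
      IsLocalRing.residue (Y.presheaf.stalk y) a := fun a =>
    φg_specMap (Y.presheaf.stalk y) ↑(Y.residueField y) (Y.residue y) a
  have hsurjφ : Function.Surjective (φg (Y.presheaf.stalk y) ↑(Y.residueField y) gB) := by
    intro b
    obtain ⟨a, ha⟩ := IsLocalRing.residue_surjective (show IsLocalRing.ResidueField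
      (Y.presheaf.stalk y) from b)
    exact ⟨a, (hφ a).trans ha⟩
  have hker : RingHom.ker (φg (Y.presheaf.stalk y) ↑(Y.residueField y) gB) =
      IsLocalRing.maximalIdeal (Y.presheaf.stalk y) := by
    ext a
    rw [RingHom.mem_ker, hφ]
    exact IsLocalRing.residue_eq_zero_iff a
  have halg : algebraMap ↑(Y.residueField y) Γ(f.fiber y, ⊤) =
      Groth.Agent.Lib.Helper13.CBCSec.φ ↑(Y.residueField y) (⊤ : (f.fiber y).Opens) := by
    have h7 : (sm ↑(Y.residueField y) (f.fiber y)).appLE ⊤ ⊤ le_top =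
        (sm ↑(Y.residueField y) (f.fiber y)).appTop := by
      rw [Scheme.Hom.appTop, Scheme.Hom.app_eq_appLE]
      rfl
    unfold Groth.Agent.Lib.Helper13.CBCSec.φ
    rw [h7]
    rfl
  have hsep : ∀ α : Γ(f.fiber y, ⊤), ∃ P : Polynomial (Y.presheaf.stalk y),
      P.eval₂ ((Groth.Agent.Lib.Helper13.CBCSec.φ ↑(Y.residueField y)
        (⊤ : (f.fiber y).Opens)).comp (φg (Y.presheaf.stalk y) ↑(Y.residueField y) gB)) α = 0 ∧
      IsUnit ((Polynomial.derivative P).eval₂
        ((Groth.Agent.Lib.Helper13.CBCSec.φ ↑(Y.residueField y)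
          (⊤ : (f.fiber y).Opens)).comp
          (φg (Y.presheaf.stalk y) ↑(Y.residueField y) gB)) α) := by
    intro α
    have := het
    obtain ⟨p, hp0, hpu⟩ := Groth.Agent.Lib.Helper13.EtHensel.exists_sep_poly
      ↑(Y.residueField y) Γ(f.fiber y, ⊤) α
    obtain ⟨P, hP⟩ := Polynomial.map_surjective _ hsurjφ p
    refine ⟨P, ?_, ?_⟩
    · rw [← Polynomial.eval₂_map, hP, ← halg]
      exact hp0
    · rw [← Polynomial.eval₂_map, ← Polynomial.derivative_map, hP, ← halg]
      exact hpu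
  have hex := Groth.Agent.Lib.Helper13.CBCEtExact.preserves_of_sep (Y.presheaf.stalk y)
    (pullback f (Y.fromSpecStalk y)) ↑(Y.residueField y) gB g'
    (Groth.Agent.Lib.Helper23.T2.isCoh_structureModule _)
    (isFlatOver_structureModule _) hc hsurjφ hker hsep
  -- transport to `g₁^* O_X` and to `T_0`
  have hm0 : (CohIII.TFun Q (-((0 : ℕ) : ℤ))).PreservesMonomorphisms :=
    (Groth.Agent.Lib.Helper13.CBCTransfer.preservesMono_iff ν0).1
      ((Functor.PreservesMonomorphisms.iso_iff
        (Groth.Agent.Lib.Helper13.CBCCongr.HAbCongr (Y.presheaf.stalk y)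
          (Groth.Agent.Lib.Helper3.PbBasic.pbUnit (pullback.fst f (Y.fromSpecStalk y))) 0)).2
        hex.1)
  have he0 : (CohIII.TFun Q (-((0 : ℕ) : ℤ))).PreservesEpimorphisms :=
    (Groth.Agent.Lib.Helper13.CBCTransfer.preservesEpi_iff ν0).1
      ((Functor.PreservesEpimorphisms.iso_iff
        (Groth.Agent.Lib.Helper13.CBCCongr.HAbCongr (Y.presheaf.stalk y)
          (Groth.Agent.Lib.Helper3.PbBasic.pbUnit (pullback.fst f (Y.fromSpecStalk y))) 0)).2
        hex.2)
  obtain ⟨he, hfree⟩ := (Groth.Agent.S2410.result Q hQ' (-((0 : ℕ) : ℤ))).1 ⟨hm0, he0⟩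
  haveI := he
  have hrank := Groth.Agent.Lib.Helper13.CBCStalk2.dRank_closedPoint_eq_finrank Q
    (-((0 : ℕ) : ℤ)) hQfl hfree
  have hrk := Groth.Agent.Lib.Helper13.CBCStalk.fiberRank_eq_dRank_of_stalk f y _ hsq
    (Coh.structureModule X) 0 Q ν0 (IsLocalRing.closedPoint (Y.presheaf.stalk y))
  rw [Scheme.fromSpecStalk_closedPoint] at hrk
  -- the stalk
  obtain ⟨e, he⟩ := Groth.Agent.Lib.Helper13.StalkFBC2.exists_stalk_equiv f y _ hsq 0
    (Coh.structureModule X)
  obtain ⟨ι, hfin, U, hcov, -, hU⟩ := CBCCover.exists_cover (Y.presheaf.stalk y)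
    (pullback f (Y.fromSpecStalk y))
  have hU2 := affine_prod_of_finset U hU
  obtain ⟨e', he'⟩ := Groth.Agent.Lib.Helper7.LerayNat.cech_nat
    (pullback f (Y.fromSpecStalk y)) U hcov hU 0
  have l : (((Coh.Rpush f 0).obj (Coh.structureModule X)).presheaf.stalk y)
      ≃ₗ[Y.presheaf.stalk y]
      ↑((CohIII.TFun Q (-((0 : ℕ) : ℤ))).obj
        (ModuleCat.of (Y.presheaf.stalk y) (Y.presheaf.stalk y))) :=
    ((e.toLinearEquiv he).trans
      (Groth.Agent.Lib.Helper13.CBCUnit.HHunitEquiv (Y.presheaf.stalk y)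
        ((Scheme.Modules.pullback (pullback.fst f (Y.fromSpecStalk y))).obj
          (Coh.structureModule X)) U 0 e' he' hU2).symm).trans
      (Groth.Agent.Lib.Helper13.CBCUnit.linEquivOfBridge (Y.presheaf.stalk y)
        ((Scheme.Modules.pullback (pullback.fst f (Y.fromSpecStalk y))).obj
          (Coh.structureModule X)) Q 0 (-((0 : ℕ) : ℤ)) ν0
        (ModuleCat.of (Y.presheaf.stalk y) (Y.presheaf.stalk y)))
  have hfree' : Module.Free (Y.presheaf.stalk y)
      (((Coh.Rpush f 0).obj (Coh.structureModule X)).presheaf.stalk y) :=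
    Module.Free.of_equiv l.symm
  exact ⟨hfree', l.finrank_eq.trans (hrank.symm.trans hrk.symm)⟩

/-- `f_* O_X` is free of rank `dim H^0(X_y, O)` near `y`. -/
theorem exists_free_nhd (het : Algebra.Etale (Y.residueField y) Γ(f.fiber y, ⊤)) :
    ∃ U : Y.Opens, y ∈ U ∧ Nonempty (((Coh.push f).obj (Coh.structureModule X)).restrict U.ι ≅
      FlatMod.freeMod (↑U) (CohIII.fiberRank f (Coh.structureModule X) 0 y)) := by
  obtain ⟨hfree, hfr⟩ := stalk_free f y het
  have hF : Coh.IsCoh (Coh.structureModule X) :=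
    Groth.Agent.Lib.Helper23.T2.isCoh_structureModule X
  obtain ⟨U, hyU, ⟨φ⟩⟩ := Groth.Agent.Lib.Helper13.CBCStalk2.exists_free_nhd _
    (Groth.Agent.S0036.result f (Coh.structureModule X) hF 0) y _ hfree hfr
  exact ⟨U, hyU, ⟨(Scheme.Modules.restrictFunctor U.ι).mapIso
    ((Coh.push f).rightDerivedZeroIsoSelf.app (Coh.structureModule X)).symm ≪≫ φ⟩⟩

end Main

section RankOne

variable {X Y : Scheme.{u}} (f : X ⟶ Y) (y : Y)

/-- if `κ(y) → Γ(X_y, O)` is bijective then `dim H^0(X_y, O) = 1`. -/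
theorem fiberRank_eq_one
    (hy : Function.Bijective (algebraMap (Y.residueField y) Γ(f.fiber y, ⊤))) :
    CohIII.fiberRank f (Coh.structureModule X) 0 y = 1 := by
  letI over' : (f.fiber y).Over (Spec (CommRingCat.of ↑(Y.residueField y))) :=
    ⟨f.fiberToSpecResidueField y⟩
  have e1 : Coh.HH (f.fiber y) (CohIII.fiberMod f (Coh.structureModule X) y) 0
      ≃ₗ[↑(Y.residueField y)] Coh.HH (f.fiber y) (Coh.structureModule (f.fiber y)) 0 :=
    Groth.Agent.Lib.Helper13.CBCStalk.HHcongr ↑(Y.residueField y)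
      (Groth.Agent.Lib.Helper3.PbBasic.pbUnit (f.fiberι y)) 0
  have e2 : Coh.HH (f.fiber y) (Coh.structureModule (f.fiber y)) 0
      ≃ₗ[↑(Y.residueField y)] Γ(f.fiber y, ⊤) :=
    Groth.Agent.Lib.Helper23.GeomH0.H0structEquiv ↑(Y.residueField y) (f.fiber y)
  have e3 : ↑(Y.residueField y) ≃ₗ[↑(Y.residueField y)] Γ(f.fiber y, ⊤) :=
    LinearEquiv.ofBijective (Algebra.linearMap ↑(Y.residueField y) Γ(f.fiber y, ⊤)) hy
  have h1 : Module.finrank ↑(Y.residueField y)
      (Coh.HH (f.fiber y) (CohIII.fiberMod f (Coh.structureModule X) y) 0) = 1 :=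
    (e1.finrank_eq.trans (e2.finrank_eq.trans e3.finrank_eq.symm)).trans
      (Module.finrank_self _)
  exact h1

end RankOne

section Iso

variable {X Y : Scheme.{u}} (f : X ⟶ Y)

/-- if `f_* O_X` is free of rank one over `U` then `O_Y(V) → O_X(f⁻¹V)` is an isomorphism for all
`V ≤ U`. -/
theorem isIso_app_of_free_one (U : Y.Opens)
    (φ : ((Coh.push f).obj (Coh.structureModule X)).restrict U.ι ≅ FlatMod.freeMod (↑U) 1)
    (V : Y.Opens) (hV : V ≤ U) : IsIso (f.app V) := by
  obtain ⟨e, he⟩ := Groth.Agent.Lib.Helper3.FreeBasis.exists_isBasis_of_iso φ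
  have hb := he V hV
  unfold Groth.Agent.Lib.Helper3.FreeBasis.IsBasisAt at hb
  have hcst : Function.Bijective (fun (a₀ : Γ(Y, V)) (_ : Fin 1) => a₀) :=
    ⟨fun a a' h => congrFun h 0, fun a => ⟨a 0, funext fun i => by rw [Subsingleton.elim i 0]⟩⟩
  have h2 := hb.comp hcst
  let b : Γ(X, f ⁻¹ᵁ V) := Groth.Agent.Lib.Helper3.InvGen.toFun (f ⁻¹ᵁ V)
    (show Γ(Coh.structureModule X, f ⁻¹ᵁ V) from
      Groth.Agent.Lib.Helper3.QCSec.res ((Coh.push f).obj (Coh.structureModule X)) hV (e 0))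
  have h3 : (fun a : Γ(Y, V) => (f.app V).hom a * b) =
      (fun a : Fin 1 → Γ(Y, V) => ∑ i, a i •
        Groth.Agent.Lib.Helper3.QCSec.res ((Coh.push f).obj (Coh.structureModule X)) hV (e i)) ∘
        (fun (a₀ : Γ(Y, V)) (_ : Fin 1) => a₀) := by
    funext a
    refine Eq.trans ?_ (Fin.sum_univ_one (fun i : Fin 1 => a •
      Groth.Agent.Lib.Helper3.QCSec.res ((Coh.push f).obj (Coh.structureModule X)) hV
        (e i))).symm
    rfl
  have h4 : Function.Bijective (fun a : Γ(Y, V) => (f.app V).hom a * b) := h3 ▸ h2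
  exact (ConcreteCategory.isIso_iff_bijective (f.app V)).mpr
    (bijective_of_mul_bijective (f.app V).hom b h4)

end Iso

end Groth.Agent.Lib.Helper13.CBCEtStalk
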