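import Mathlib
import Groth.Prelude
import Groth.Agent.Lib.Helper13.AffineCover

/-!
# Projective space is covered by `n + 1` affine opens; vanishing of cohomology above `n`
-/
set_option autoImplicit false
universe u
open CategoryTheory CategoryTheory.Limits Opposite TopologicalSpace AlgebraicGeometry
open Groth.Agent.Lib.Helper13

noncomputable section

namespace Groth.Agent.Lib.Helper13.ProjCover

lemma adjoin_X_eq_top (n : ℕ) (R : Type u) [CommRing R] :
    Algebra.adjoin (CohB1.polyGrading n R 0)
      (Set.range (MvPolynomial.X : Fin (n + 1) → MvPolynomial (Fin (n + 1)) R)) = ⊤ := by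
  refine top_unique fun p hp0 => ?_
  clear hp0
  induction p using MvPolynomial.induction_on with
  | C a =>
    have h0 : (MvPolynomial.C a : MvPolynomial (Fin (n + 1)) R) ∈ CohB1.polyGrading n R 0 :=
      MvPolynomial.isHomogeneous_C _ a
    exact Subalgebra.algebraMap_mem _ (⟨MvPolynomial.C a, h0⟩ : CohB1.polyGrading n R 0)
  | add p q hp hq => exact Subalgebra.add_mem _ hp hq
  | mul_X p i hp => exact Subalgebra.mul_mem _ hp (Algebra.subset_adjoin (Set.mem_range_self i))

theorem projSpace_vanish (n : ℕ) (R : Type u) [CommRing R]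
    (M : (Proj (CohB1.polyGrading n R)).Modules) [M.IsQuasicoherent] (i : ℕ) (hi : n < i) :
    Subsingleton (CohTop.HU (Coh.toAb M) i ⊤) := by
  let V : Fin (n + 1) → (Proj (CohB1.polyGrading n R)).Opens :=
    fun j => Proj.basicOpen (CohB1.polyGrading n R) (MvPolynomial.X j)
  have hV : ∀ j, IsAffineOpen (V j) := fun j =>
    Proj.isAffineOpen_basicOpen (CohB1.polyGrading n R) (MvPolynomial.X j) (m := 1)
      (MvPolynomial.isHomogeneous_X R j) one_pos
  have hcov : ⨆ j, V j = ⊤ :=
    Proj.iSup_basicOpen_eq_top' (CohB1.polyGrading n R) _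
      (fun j => ⟨1, MvPolynomial.isHomogeneous_X R j⟩) (adjoin_X_eq_top n R)
  have hd : ∀ V W : (Proj (CohB1.polyGrading n R)).Opens,
      IsAffineOpen V → IsAffineOpen W → IsAffineOpen (V ⊓ W) := fun V W hV hW => hV.inf hW
  have h := AffineCover.subsingleton_HU_iSup_of_affine M hd n V hV i hi
  rwa [hcov] at h

end Groth.Agent.Lib.Helper13.ProjCover
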