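import Groth.Agent.Lib.Helper3.InvTensor
import Groth.Agent.Lib.Helper3.FreeBasis
import Groth.Agent.Lib.Helper3.QCExact

/-!
# Sections of a tensor product with a free module (helper13)

If `e₁, …, eₙ` is a basis of `L` over `U` then for every open `V ≤ U` the map
`(tᵢ) ↦ ∑ tᵢ ⊗ eᵢ|_V` from `Γ(F, V)ⁿ` to `Γ(F ⊗ L, V)` is bijective (rank `n` version of helper3's
`InvTensor.tm_gen_bijective`).
-/

set_option autoImplicit false
universe u
open CategoryTheory CategoryTheory.Limits AlgebraicGeometry TopologicalSpace Opposite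
open Scheme.Modules TensorProduct

namespace Groth.Agent.Lib.Helper13.TmBasis

open Groth.Agent.Lib.Helper3 Groth.Agent.Lib.Helper3.QCSec Groth.Agent.Lib.Helper3.InvGen
  Groth.Agent.Lib.Helper3.InvTensor Groth.Agent.Lib.Helper3.FreeBasis

/-! ### pure algebra -/

section Algebra

variable {R M N : Type*} [CommRing R] [AddCommGroup M] [Module R M] [AddCommGroup N] [Module R N]
  {n : ℕ}

theorem eq_zero_of_sum_tmul_basis (e : Fin n → N)
    (he : Function.Bijective (fun a : Fin n → R => ∑ i, a i • e i)) (t : Fin n → M)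
    (h : ∑ i, t i ⊗ₜ[R] e i = 0) : t = 0 := by
  classical
  have he' : Function.Bijective (Fintype.linearCombination R e) := by
    have h0 : (Fintype.linearCombination R e : (Fin n → R) → N) = fun a => ∑ i, a i • e i := by
      funext a
      exact Fintype.linearCombination_apply R e a
    rw [h0]
    exact he
  let c : N ≃ₗ[R] (Fin n → R) :=
    (LinearEquiv.ofBijective (Fintype.linearCombination R e) he').symm
  have hc : ∀ i, c (e i) = Pi.single i 1 := by
    intro i
    rw [LinearEquiv.symm_apply_eq]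
    change e i = Fintype.linearCombination R e (Pi.single i 1)
    rw [Fintype.linearCombination_apply_single, one_smul]
  funext j
  let φ : M ⊗[R] N →ₗ[R] M :=
    (TensorProduct.rid R M).toLinearMap ∘ₗ
      LinearMap.lTensor M ((LinearMap.proj j : (Fin n → R) →ₗ[R] R) ∘ₗ c.toLinearMap)
  have h1 : ∀ i, φ (t i ⊗ₜ[R] e i) = if i = j then t i else 0 := by
    intro i
    have h2 : φ (t i ⊗ₜ[R] e i) = (c (e i) j) • t i := by
      simp [φ]
    rw [h2, hc i]
    by_cases hij : i = j
    · subst hij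
      simp
    · rw [if_neg hij, Pi.single_apply, if_neg (Ne.symm hij), zero_smul]
  have h2 := congrArg φ h
  rw [map_sum, map_zero] at h2
  simp only [h1, Finset.sum_ite_eq', Finset.mem_univ, if_true] at h2
  exact h2

theorem exists_sum_tmul_basis (e : Fin n → N)
    (he : Function.Bijective (fun a : Fin n → R => ∑ i, a i • e i)) (y : M ⊗[R] N) :
    ∃ t : Fin n → M, y = ∑ i, t i ⊗ₜ[R] e i := by
  induction y using TensorProduct.induction_on with
  | zero => exact ⟨0, by simp⟩
  | tmul m n' =>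
    obtain ⟨a, ha⟩ := he.2 n'
    dsimp only at ha
    refine ⟨fun i => a i • m, ?_⟩
    rw [← ha, TensorProduct.tmul_sum]
    apply Finset.sum_congr rfl
    intro i _
    rw [TensorProduct.tmul_smul, TensorProduct.smul_tmul']
  | add x y hx hy =>
    obtain ⟨t₁, rfl⟩ := hx
    obtain ⟨t₂, rfl⟩ := hy
    refine ⟨t₁ + t₂, ?_⟩
    rw [← Finset.sum_add_distrib]
    apply Finset.sum_congr rfl
    intro i _
    rw [Pi.add_apply, TensorProduct.add_tmul]

end Algebra

variable {X : Scheme.{u}}

/-- restriction of sections commutes with finite sums -/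
theorem res_sum (M : X.Modules) {A B : X.Opens} (h : A ≤ B) {ι : Type*} (s : Finset ι)
    (a : ι → Γ(M, B)) : res M h (∑ i ∈ s, a i) = ∑ i ∈ s, res M h (a i) := by
  classical
  induction s using Finset.induction_on with
  | empty => rw [Finset.sum_empty, Finset.sum_empty, res_zero]
  | insert i s hi ih => rw [Finset.sum_insert hi, Finset.sum_insert hi, QCExact.res_add, ih]

/-- the section `∑ tᵢ ⊗ eᵢ` -/
noncomputable def tmb (F L : X.Modules) (V : X.Opens) {n : ℕ} (t : Fin n → Γ(F, V))
    (e : Fin n → Γ(L, V)) : Γ(CohB1.tensorMod F L, V) :=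
  ∑ i, tm F L V (t i) (e i)

theorem tmb_res (F L : X.Modules) {A B : X.Opens} (h : A ≤ B) {n : ℕ} (t : Fin n → Γ(F, B))
    (e : Fin n → Γ(L, B)) :
    res (CohB1.tensorMod F L) h (tmb F L B t e) =
      tmb F L A (fun i => res F h (t i)) (fun i => res L h (e i)) := by
  unfold tmb
  rw [res_sum]
  exact Finset.sum_congr rfl (fun i _ => tm_res F L h _ _)

theorem tmb_sub (F L : X.Modules) (V : X.Opens) {n : ℕ} (t t' : Fin n → Γ(F, V))
    (e : Fin n → Γ(L, V)) : tmb F L V (t - t') e = tmb F L V t e - tmb F L V t' e := by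
  unfold tmb
  rw [← Finset.sum_sub_distrib]
  exact Finset.sum_congr rfl (fun i _ => tm_sub_left F L V _ _ _)

theorem tmb_eq_zero (F L : X.Modules) {U : X.Opens} {n : ℕ} {e : Fin n → Γ(L, U)}
    (hb : IsBasis L U e) (V : X.Opens) (h : V ≤ U) (t : Fin n → Γ(F, V))
    (ht : tmb F L V t (fun i => res L h (e i)) = 0) : t = 0 := by
  obtain ⟨y, hydef⟩ : ∃ y : ↑((CohB1.tensorPre F L).obj (op V)),
      y = ∑ i, ((show (CohB1.toPMod F).obj (op V) from t i) ⊗ₜ[Rg X V]
        (show (CohB1.toPMod L).obj (op V) from res L h (e i))) := ⟨_, rfl⟩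
  have hy : ((SecTwist.toTensor F L).app (op V)).hom y = 0 := by
    rw [hydef]
    exact (map_sum ((SecTwist.toTensor F L).app (op V)).hom _ _).trans ht
  have key : ∀ x : {x : X // x ∈ V}, ∃ (W : X.Opens) (hWV : W ≤ V), x.1 ∈ W ∧
      ∀ i, res F hWV (t i) = 0 := by
    intro x
    obtain ⟨W, hWV, hxW, hW⟩ := local_inj F L V y hy x.1 x.2
    refine ⟨W, hWV, hxW, ?_⟩
    have hW' : ∑ i, ((show (CohB1.toPMod F).obj (op W) from res F hWV (t i)) ⊗ₜ[Rg X W]
        (show (CohB1.toPMod L).obj (op W) from res L hWV (res L h (e i)))) = 0 := by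
      have h5 := map_sum ((CohB1.tensorPre F L).map (homOfLE hWV).op).hom
        (fun i => ((show (CohB1.toPMod F).obj (op V) from t i) ⊗ₜ[Rg X V]
          (show (CohB1.toPMod L).obj (op V) from res L h (e i)))) Finset.univ
      rw [hydef] at hW
      exact h5.symm.trans hW
    have hbW : IsBasisAt L W (fun i => res L hWV (res L h (e i))) := by
      simp only [res_res]
      exact hb W (hWV.trans h)
    have h0 := eq_zero_of_sum_tmul_basis (R := Rg X W) (M := (CohB1.toPMod F).obj (op W))
      (N := (CohB1.toPMod L).obj (op W)) _ hbW (fun i => res F hWV (t i)) hW'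
    intro i
    exact congrFun h0 i
  choose W hWV hxW hW using key
  funext i
  apply sec_eq_of_locally_eq F W V hWV (fun x hx => Opens.mem_iSup.mpr ⟨⟨x, hx⟩, hxW ⟨x, hx⟩⟩)
  intro x
  rw [hW x i, Pi.zero_apply, res_zero]

theorem tmb_injective (F L : X.Modules) {U : X.Opens} {n : ℕ} {e : Fin n → Γ(L, U)}
    (hb : IsBasis L U e) (V : X.Opens) (h : V ≤ U) :
    Function.Injective (fun t : Fin n → Γ(F, V) => tmb F L V t (fun i => res L h (e i))) := by
  intro t t' htt
  dsimp only at htt
  have h0 : tmb F L V (t - t') (fun i => res L h (e i)) = 0 := by rw [tmb_sub, htt, sub_self]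
  exact sub_eq_zero.mp (tmb_eq_zero F L hb V h _ h0)

theorem tmb_surjective (F L : X.Modules) {U : X.Opens} {n : ℕ} {e : Fin n → Γ(L, U)}
    (hb : IsBasis L U e) (V : X.Opens) (h : V ≤ U) :
    Function.Surjective (fun t : Fin n → Γ(F, V) => tmb F L V t (fun i => res L h (e i))) := by
  intro σ
  have key : ∀ x : {x : X // x ∈ V}, ∃ (W : X.Opens) (hWV : W ≤ V), x.1 ∈ W ∧
      ∃ t : Fin n → Γ(F, W), tmb F L W t (fun i => res L (hWV.trans h) (e i)) =
        res (CohB1.tensorMod F L) hWV σ := by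
    intro x
    obtain ⟨W, hWV, hxW, y, hy⟩ := exists_local_rep F L V σ x.1 x.2
    refine ⟨W, hWV, hxW, ?_⟩
    have hbW : IsBasisAt L W (fun i => res L (hWV.trans h) (e i)) := hb W (hWV.trans h)
    obtain ⟨t, rfl⟩ := exists_sum_tmul_basis (R := Rg X W) (M := (CohB1.toPMod F).obj (op W))
      (N := (CohB1.toPMod L).obj (op W)) _ hbW y
    refine ⟨t, ?_⟩
    exact (map_sum ((SecTwist.toTensor F L).app (op W)).hom _ _).symm.trans hy
  choose W hWV hxW t ht using key
  have hcov : V ≤ ⨆ i, W i := fun x hx => Opens.mem_iSup.mpr ⟨⟨x, hx⟩, hxW ⟨x, hx⟩⟩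
  have hcompat : ∀ (x x' : {x : X // x ∈ V}),
      (fun i => res F (inf_le_left : W x ⊓ W x' ≤ W x) (t x i)) =
        (fun i => res F (inf_le_right : W x ⊓ W x' ≤ W x') (t x' i)) := by
    intro x x'
    apply tmb_injective F L hb (W x ⊓ W x') ((inf_le_left.trans (hWV x)).trans h)
    dsimp only
    have h1 := congrArg (res (CohB1.tensorMod F L) (inf_le_left : W x ⊓ W x' ≤ W x)) (ht x)
    have h2 := congrArg (res (CohB1.tensorMod F L) (inf_le_right : W x ⊓ W x' ≤ W x')) (ht x')
    rw [tmb_res, res_res] at h1 h2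
    simp only [res_res] at h1 h2
    rw [h1, h2]
  have hglue : ∀ i, ∃ b : Γ(F, V), ∀ x, res F (hWV x) b = t x i := fun i =>
    sec_glue F W V hWV hcov (fun x => t x i) (fun x x' => congrFun (hcompat x x') i)
  choose t₀ ht₀ using hglue
  refine ⟨t₀, ?_⟩
  dsimp only
  apply sec_eq_of_locally_eq (CohB1.tensorMod F L) W V hWV hcov
  intro x
  rw [tmb_res]
  simp only [res_res, ht₀]
  exact ht x

theorem tmb_bijective (F L : X.Modules) {U : X.Opens} {n : ℕ} {e : Fin n → Γ(L, U)}
    (hb : IsBasis L U e) (V : X.Opens) (h : V ≤ U) :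
    Function.Bijective (fun t : Fin n → Γ(F, V) => tmb F L V t (fun i => res L h (e i))) :=
  ⟨tmb_injective F L hb V h, tmb_surjective F L hb V h⟩

end Groth.Agent.Lib.Helper13.TmBasis
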