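import Mathlib
import Groth.Prelude.Def_ModSite
import Groth.Agent.Lib.Helper13.ModSiteProj

/-!
# Unitors for the tensor product of sheaves of modules on a small ringed site; sections of the
internal hom

* `unitIso`: the underlying presheaf of `O` is the monoidal unit.
* `leftUnitorIso : O ⊗ - ≅ 𝟭`, `rightUnitorIso : - ⊗ O ≅ 𝟭`.
* `freeOnTensorIso : A_X ⊗ M ≅ j_! j^* M`.
* `freeOnHomAddEquiv : Hom(A_X, M) ≃+ M(X)`.
* `sheafHomSectEquiv : Hom_O(M, N)(X) ≃+ Hom(M|_X, N|_X)`.
-/

set_option autoImplicit false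
universe u
open CategoryTheory CategoryTheory.Limits Opposite MonoidalCategory
open Groth.Agent.Lib.Helper13 Groth.Agent.Lib.Helper13.ModSiteTensor
open Groth.Agent.Lib.Helper13.ModSiteFlat Groth.Agent.Lib.Helper13.ModSiteFreeOn

noncomputable section

namespace Groth.Agent.Lib.Helper13.ModSiteUnitor

variable {C : Type u} [SmallCategory C] {J : GrothendieckTopology C} (O : Sheaf J CommRingCat.{u})

/-- The underlying presheaf of the structure sheaf is the monoidal unit. -/
def unitIso : (fgt O).obj (ModSite.unit O) ≅ 𝟙_ (PMod O) :=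
  PresheafOfModules.isoMk (fun X => Iso.refl _) (by intro X Y f; rfl)

instance isIso_counit_app (K : ModSite.Mod O) : IsIso ((shfAdj O).counit.app K) := by
  have : IsIso (shfAdj O).counit :=
    inferInstanceAs (IsIso (PresheafOfModules.sheafificationAdjunction.{u}
      (𝟙 (ModSite.ringSh O).obj)).counit)
  infer_instance

/-- `O ⊗ K ≅ K`. -/
def leftUnitorIso : (ModSite.tensorBi O).obj (ModSite.unit O) ≅ 𝟭 (ModSite.Mod O) :=
  objIso O (ModSite.unit O) ≪≫
    Functor.isoWhiskerLeft (fgt O) (Functor.isoWhiskerRight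
      ((tensoringLeft (PMod O)).mapIso (unitIso O) ≪≫ leftUnitorNatIso (PMod O)) (shf O)) ≪≫
    (Functor.isoWhiskerLeft (fgt O) (Functor.leftUnitor (shf O))) ≪≫
    @asIso _ _ _ _ (shfAdj O).counit
      (inferInstanceAs (IsIso (PresheafOfModules.sheafificationAdjunction.{u}
        (𝟙 (ModSite.ringSh O).obj)).counit))

/-- `K ⊗ O ≅ K`. -/
def rightUnitorIso : (ModSite.tensorBi O).flip.obj (ModSite.unit O) ≅ 𝟭 (ModSite.Mod O) :=
  flipObjIso O (ModSite.unit O) ≪≫
    Functor.isoWhiskerLeft (fgt O) (Functor.isoWhiskerRight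
      ((tensoringRight (PMod O)).mapIso (unitIso O) ≪≫ rightUnitorNatIso (PMod O)) (shf O)) ≪≫
    (Functor.isoWhiskerLeft (fgt O) (Functor.leftUnitor (shf O))) ≪≫
    @asIso _ _ _ _ (shfAdj O).counit
      (inferInstanceAs (IsIso (PresheafOfModules.sheafificationAdjunction.{u}
        (𝟙 (ModSite.ringSh O).obj)).counit))

/-- `A_X ⊗ M ≅ j_! j^* M`. -/
def freeOnTensorIso (X : C) (M : ModSite.Mod O) :
    ((ModSite.tensorBi O).obj (ModSite.freeOn O X)).obj M ≅
      (ModSite.extZero O X).obj ((ModSite.restr O X).obj M) :=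
  (ModSiteProj.projectionFormula O X (ModSite.unit (O.over X)) M).symm ≪≫
    (ModSite.extZero O X).mapIso ((leftUnitorIso (O.over X)).app ((ModSite.restr O X).obj M))

lemma freeOnHomEquiv_eq (X : C) (M : ModSite.Mod O) (h : ModSite.freeOn O X ⟶ M) :
    freeOnHomEquiv O X M h =
      h.val.app (op X) (freeOnHomEquiv O X (ModSite.freeOn O X) (𝟙 _)) := by
  have := freeOnHomEquiv_naturality O X (𝟙 _) h
  rwa [Category.id_comp] at this

/-- `Hom(A_X, M) ≃+ M(X)`. -/
def freeOnHomAddEquiv (X : C) (M : ModSite.Mod O) :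
    (ModSite.freeOn O X ⟶ M) ≃+ M.val.obj (op X) :=
  { freeOnHomEquiv O X M with
    map_add' := fun h h' => by
      change freeOnHomEquiv O X M (h + h') = freeOnHomEquiv O X M h + freeOnHomEquiv O X M h'
      rw [freeOnHomEquiv_eq, freeOnHomEquiv_eq O X M h, freeOnHomEquiv_eq O X M h',
        SheafOfModules.add_val, PresheafOfModules.add_app]
      rfl }

/-- precomposition with an isomorphism, additively. -/
def homCongrLeft {A : Type*} [Category A] [Preadditive A] {X Y : A} (i : X ≅ Y) (Z : A) :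
    (X ⟶ Z) ≃+ (Y ⟶ Z) where
  toFun f := i.inv ≫ f
  invFun g := i.hom ≫ g
  left_inv f := by simp
  right_inv g := by simp
  map_add' f f' := Preadditive.comp_add _ _ _ _ _ _

instance additive_extZero (X : C) : (ModSite.extZero O X).Additive := by
  have : PreservesFiniteColimits (ModSite.extZero O X) := by
    have : PreservesColimitsOfSize.{0, 0} (ModSite.extZero O X) :=
      (ModSite.extZeroAdj O X).leftAdjoint_preservesColimits
    exact PreservesColimitsOfSize.preservesFiniteColimits.{0, 0} _
  exact ModSiteFlatGen.additive_of_preservesFiniteColimits _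

/-- sections of the internal hom over `X` are the morphisms between the restrictions. -/
def sheafHomSectEquiv (M N : ModSite.Mod O) [ModSite.HasSheafHom M] (X : C) :
    ModSite.sect ((ModSite.sheafHom M).obj N) X ≃+
      ((ModSite.restr O X).obj M ⟶ (ModSite.restr O X).obj N) :=
  (freeOnHomAddEquiv O X ((ModSite.sheafHom M).obj N)).symm.trans
    (((ModSite.sheafHomAdj M).homAddEquiv (ModSite.freeOn O X) N).symm.trans
      ((homCongrLeft (freeOnTensorIso O X M) N).trans
        ((ModSite.extZeroAdj O X).homAddEquiv ((ModSite.restr O X).obj M) N)))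

end Groth.Agent.Lib.Helper13.ModSiteUnitor
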