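import Mathlib

/-!
# `m`-good morphisms in a derived category (helper13)

A morphism `f` of `D(A)` is `m`-good when `H^i(f)` is an isomorphism for `i > m` and an
epimorphism for `i = m`.  Four-lemma consequences for morphisms of distinguished triangles,
compatibility with shifts and exact functors.
-/

set_option autoImplicit false
set_option backward.isDefEq.respectTransparency false
universe w w' v v' u u'

namespace Groth.Agent.Lib.Helper13.GoodMap

open CategoryTheory CategoryTheory.Limits CategoryTheory.Category CategoryTheory.Preadditive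

section Four

variable {C : Type u} [Category.{v} C] [Abelian C]

/-- the epi four lemma with explicit data -/
lemma four_epi {B₁ C₁ D₁ E₁ B₂ C₂ D₂ E₂ : C}
    (g₁ : B₁ ⟶ C₁) (h₁ : C₁ ⟶ D₁) (i₁ : D₁ ⟶ E₁) (g₂ : B₂ ⟶ C₂) (h₂ : C₂ ⟶ D₂) (i₂ : D₂ ⟶ E₂)
    (β : B₁ ⟶ B₂) (γ : C₁ ⟶ C₂) (δ : D₁ ⟶ D₂) (ε : E₁ ⟶ E₂)
    (c₁ : g₁ ≫ γ = β ≫ g₂) (c₂ : h₁ ≫ δ = γ ≫ h₂) (c₃ : i₁ ≫ ε = δ ≫ i₂)
    (w₁ : h₁ ≫ i₁ = 0) (ex₁ : (ShortComplex.mk h₁ i₁ w₁).Exact)
    (w₂ : g₂ ≫ h₂ = 0) (ex₂ : (ShortComplex.mk g₂ h₂ w₂).Exact)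
    (w₂' : h₂ ≫ i₂ = 0) [Epi β] [Epi δ] [Mono ε] : Epi γ := by
  rw [epi_iff_surjective_up_to_refinements]
  intro A a
  obtain ⟨A₁, π₁, _, f₂, e₁⟩ := surjective_up_to_refinements_of_epi δ (a ≫ h₂)
  have e₂ : f₂ ≫ i₁ = 0 := by
    rw [← cancel_mono ε, assoc, zero_comp, c₃, ← reassoc_of% e₁, w₂', comp_zero, comp_zero]
  obtain ⟨A₂, π₂, _, f₁, e₃⟩ := ex₁.exact_up_to_refinements f₂ e₂
  dsimp at f₁ e₃
  have e₄ : (π₂ ≫ π₁ ≫ a - f₁ ≫ γ) ≫ h₂ = 0 := by
    rw [sub_comp, assoc, assoc, assoc, ← c₂, ← reassoc_of% e₃, e₁, sub_self]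
  obtain ⟨A₃, π₃, _, g₀, e₅⟩ := ex₂.exact_up_to_refinements _ e₄
  dsimp at g₀ e₅
  rw [comp_sub] at e₅
  obtain ⟨A₄, π₄, _, f₀, e₆⟩ := surjective_up_to_refinements_of_epi β g₀
  refine ⟨A₄, π₄ ≫ π₃ ≫ π₂ ≫ π₁, inferInstance, π₄ ≫ π₃ ≫ f₁ + f₀ ≫ g₁, ?_⟩
  rw [assoc, assoc, assoc, add_comp, assoc, assoc, assoc, c₁, ← reassoc_of% e₆, ← e₅, comp_sub,
    add_sub_cancel]

/-- the mono four lemma with explicit data -/
lemma four_mono {A₁ B₁ C₁ D₁ A₂ B₂ C₂ D₂ : C}
    (f₁ : A₁ ⟶ B₁) (g₁ : B₁ ⟶ C₁) (h₁ : C₁ ⟶ D₁) (f₂ : A₂ ⟶ B₂) (g₂ : B₂ ⟶ C₂) (h₂ : C₂ ⟶ D₂)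
    (α : A₁ ⟶ A₂) (β : B₁ ⟶ B₂) (γ : C₁ ⟶ C₂) (δ : D₁ ⟶ D₂)
    (c₀ : f₁ ≫ β = α ≫ f₂) (c₁ : g₁ ≫ γ = β ≫ g₂) (c₂ : h₁ ≫ δ = γ ≫ h₂)
    (w₁ : f₁ ≫ g₁ = 0)
    (w₁' : g₁ ≫ h₁ = 0) (ex₁ : (ShortComplex.mk g₁ h₁ w₁').Exact)
    (w₂ : f₂ ≫ g₂ = 0) (ex₂ : (ShortComplex.mk f₂ g₂ w₂).Exact)
    [Epi α] [Mono β] [Mono δ] : Mono γ := by
  apply mono_of_cancel_zero
  intro A x hx
  have e₂ : x ≫ h₁ = 0 := by
    rw [← cancel_mono δ, assoc, c₂, reassoc_of% hx, zero_comp, zero_comp]
  obtain ⟨A₁', π₁, _, y₁, e₁⟩ := ex₁.exact_up_to_refinements x e₂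
  dsimp at y₁ e₁
  have e₃ : (y₁ ≫ β) ≫ g₂ = 0 := by
    rw [assoc, ← c₁, ← reassoc_of% e₁, hx, comp_zero]
  obtain ⟨A₂', π₂, _, z₀, e₄⟩ := ex₂.exact_up_to_refinements _ e₃
  dsimp at z₀ e₄
  obtain ⟨A₃', π₃, _, w₀, e₅⟩ := surjective_up_to_refinements_of_epi α z₀
  have e₆ : w₀ ≫ f₁ = π₃ ≫ π₂ ≫ y₁ := by
    rw [← cancel_mono β, assoc, assoc, assoc, c₀, ← reassoc_of% e₅, e₄]
  rw [← cancel_epi π₁, comp_zero, e₁, ← cancel_epi π₂, ← cancel_epi π₃, comp_zero, comp_zero,
    ← reassoc_of% e₆, w₁, comp_zero]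

/-- epimorphisms are transported along natural isomorphisms -/
lemma epi_map_iff_of_natIso {D : Type u'} [Category.{v'} D] {F G : D ⥤ C} (e : F ≅ G)
    {X Y : D} (f : X ⟶ Y) : Epi (F.map f) ↔ Epi (G.map f) := by
  have h : F.map f ≫ e.hom.app Y = e.hom.app X ≫ G.map f := e.hom.naturality f
  constructor
  · intro hf
    haveI : Epi (e.hom.app X ≫ G.map f) := by
      rw [← h]
      infer_instance
    exact epi_of_epi (e.hom.app X) (G.map f)
  · intro hg
    have h' : F.map f = e.hom.app X ≫ G.map f ≫ e.inv.app Y := by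
      rw [← reassoc_of% h, Iso.hom_inv_id_app, comp_id]
    rw [h']
    infer_instance

end Four


section Good

open CategoryTheory.Pretriangulated DerivedCategory

variable {A : Type u} [Category.{v} A] [Abelian A] [HasDerivedCategory.{w} A]

/-- `f` is `m`-good: `H^i(f)` is an isomorphism for `i > m` and an epimorphism for `i = m` -/
def Good (m : ℤ) {K L : DerivedCategory A} (f : K ⟶ L) : Prop :=
  (∀ i : ℤ, m < i → IsIso ((homologyFunctor A i).map f)) ∧ Epi ((homologyFunctor A m).map f)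

variable {m : ℤ} {K L M : DerivedCategory A}

lemma Good.epi {f : K ⟶ L} (hf : Good m f) (i : ℤ) (hi : m ≤ i) :
    Epi ((homologyFunctor A i).map f) := by
  rcases hi.eq_or_lt with rfl | h
  · exact hf.2
  · haveI := hf.1 i h
    infer_instance

lemma Good.mono {f : K ⟶ L} (hf : Good m f) {m' : ℤ} (h : m ≤ m') : Good m' f :=
  ⟨fun i hi => hf.1 i (lt_of_le_of_lt h hi), hf.epi m' h⟩

lemma good_of_isIso (f : K ⟶ L) [IsIso f] (m : ℤ) : Good m f :=
  ⟨fun _ _ => inferInstance, inferInstance⟩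

lemma Good.comp {f : K ⟶ L} {g : L ⟶ M} (hf : Good m f) (hg : Good m g) : Good m (f ≫ g) := by
  refine ⟨fun i hi => ?_, ?_⟩
  · haveI := hf.1 i hi
    haveI := hg.1 i hi
    rw [Functor.map_comp]
    infer_instance
  · haveI := hf.2
    haveI := hg.2
    rw [Functor.map_comp]
    exact epi_comp _ _

lemma Good.comp_iso {f : K ⟶ L} (hf : Good m f) (g : L ⟶ M) [IsIso g] : Good m (f ≫ g) :=
  hf.comp (good_of_isIso g m)

lemma Good.iso_comp {f : L ⟶ M} (g : K ⟶ L) [IsIso g] (hf : Good m f) : Good m (g ≫ f) :=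
  (good_of_isIso g m).comp hf

/-- third vertex: in a morphism of distinguished triangles, if the first component is
`(m+1)`-good and the second is `m`-good then the third is `m`-good -/
theorem good_third {T T' : Triangle (DerivedCategory A)} (hT : T ∈ distTriang _)
    (hT' : T' ∈ distTriang _) (φ : T ⟶ T') (h₁ : Good (m + 1) φ.hom₁) (h₂ : Good m φ.hom₂) :
    Good m φ.hom₃ := by
  have nat₁ : ∀ n : ℤ, (homologyFunctor A n).map T.mor₁ ≫ (homologyFunctor A n).map φ.hom₂ =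
      (homologyFunctor A n).map φ.hom₁ ≫ (homologyFunctor A n).map T'.mor₁ := fun n => by
    rw [← Functor.map_comp, ← Functor.map_comp, φ.comm₁]
  have nat₂ : ∀ n : ℤ, (homologyFunctor A n).map T.mor₂ ≫ (homologyFunctor A n).map φ.hom₃ =
      (homologyFunctor A n).map φ.hom₂ ≫ (homologyFunctor A n).map T'.mor₂ := fun n => by
    rw [← Functor.map_comp, ← Functor.map_comp, φ.comm₂]
  have nat₃ : ∀ (n₀ n₁ : ℤ) (h : n₀ + 1 = n₁),
      HomologySequence.δ T n₀ n₁ h ≫ (homologyFunctor A n₁).map φ.hom₁ =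
      (homologyFunctor A n₀).map φ.hom₃ ≫ HomologySequence.δ T' n₀ n₁ h := fun n₀ n₁ h =>
    ((homologyFunctor A 0).homologySequenceδ_naturality T T' φ n₀ n₁ h).symm
  have hepi : ∀ i : ℤ, m ≤ i → Epi ((homologyFunctor A i).map φ.hom₃) := by
    intro i hi
    haveI : Epi ((homologyFunctor A i).map φ.hom₂) := h₂.epi i hi
    haveI : Epi ((homologyFunctor A (i + 1)).map φ.hom₁) := h₁.epi (i + 1) (by omega)
    haveI : Mono ((homologyFunctor A (i + 1)).map φ.hom₂) := by
      haveI := h₂.1 (i + 1) (by omega)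
      infer_instance
    exact four_epi ((homologyFunctor A i).map T.mor₂) (HomologySequence.δ T i (i + 1) rfl)
      ((homologyFunctor A (i + 1)).map T.mor₁)
      ((homologyFunctor A i).map T'.mor₂) (HomologySequence.δ T' i (i + 1) rfl)
      ((homologyFunctor A (i + 1)).map T'.mor₁)
      ((homologyFunctor A i).map φ.hom₂) ((homologyFunctor A i).map φ.hom₃)
      ((homologyFunctor A (i + 1)).map φ.hom₁) ((homologyFunctor A (i + 1)).map φ.hom₂)
      (nat₂ i) (nat₃ i (i + 1) rfl) (nat₁ (i + 1))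
      (HomologySequence.δ_comp T hT i (i + 1) rfl) (HomologySequence.exact₁ T hT i (i + 1) rfl)
      (HomologySequence.comp_δ T' hT' i (i + 1) rfl) (HomologySequence.exact₃ T' hT' i (i + 1) rfl)
      (HomologySequence.δ_comp T' hT' i (i + 1) rfl)
  refine ⟨fun i hi => ?_, hepi m le_rfl⟩
  haveI := hepi i hi.le
  haveI : Epi ((homologyFunctor A i).map φ.hom₁) := h₁.epi i (by omega)
  haveI : Mono ((homologyFunctor A i).map φ.hom₂) := by
    haveI := h₂.1 i hi
    infer_instance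
  haveI : Mono ((homologyFunctor A (i + 1)).map φ.hom₁) := by
    haveI := h₁.1 (i + 1) (by omega)
    infer_instance
  have w : (homologyFunctor A i).map T.mor₁ ≫ (homologyFunctor A i).map T.mor₂ = 0 := by
    rw [← Functor.map_comp, comp_distTriang_mor_zero₁₂ _ hT, Functor.map_zero]
  have w' : (homologyFunctor A i).map T'.mor₁ ≫ (homologyFunctor A i).map T'.mor₂ = 0 := by
    rw [← Functor.map_comp, comp_distTriang_mor_zero₁₂ _ hT', Functor.map_zero]
  haveI : Mono ((homologyFunctor A i).map φ.hom₃) :=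
    four_mono ((homologyFunctor A i).map T.mor₁) ((homologyFunctor A i).map T.mor₂)
      (HomologySequence.δ T i (i + 1) rfl)
      ((homologyFunctor A i).map T'.mor₁) ((homologyFunctor A i).map T'.mor₂)
      (HomologySequence.δ T' i (i + 1) rfl)
      ((homologyFunctor A i).map φ.hom₁) ((homologyFunctor A i).map φ.hom₂)
      ((homologyFunctor A i).map φ.hom₃) ((homologyFunctor A (i + 1)).map φ.hom₁)
      (nat₁ i) (nat₂ i) (nat₃ i (i + 1) rfl) w
      (HomologySequence.comp_δ T hT i (i + 1) rfl) (HomologySequence.exact₃ T hT i (i + 1) rfl)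
      w' (HomologySequence.exact₂ T' hT' i)
  exact isIso_of_mono_of_epi _

/-- shifting: if `f` is `m`-good then `f⟦n⟧` is `m'`-good for `n + m' = m` -/
lemma good_shift {f : K ⟶ L} (hf : Good m f) (n m' : ℤ) (h : n + m' = m) :
    Good m' (f⟦n⟧') := by
  refine ⟨fun i hi => ?_, ?_⟩
  · have e := (homologyFunctor A 0).shiftIso n i (n + i) rfl
    have := (NatIso.isIso_map_iff e f).2 (hf.1 (n + i) (by omega))
    exact this
  · have e := (homologyFunctor A 0).shiftIso n m' m h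
    have := (epi_map_iff_of_natIso e f).2 hf.2
    exact this

end Good

section Exact

open DerivedCategory

variable {A : Type u} [Category.{v} A] [Abelian A] [HasDerivedCategory.{w} A]
  {B : Type u'} [Category.{v'} B] [Abelian B] [HasDerivedCategory.{w'} B]
  (R : A ⥤ B) [R.Additive] [PreservesFiniteLimits R] [PreservesFiniteColimits R]

/-- an exact functor commutes with homology of complexes, naturally -/
noncomputable def homologyCxIso (n : ℤ) :
    R.mapHomologicalComplex (ComplexShape.up ℤ) ⋙ HomologicalComplex.homologyFunctor B _ n ≅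
      HomologicalComplex.homologyFunctor A _ n ⋙ R :=
  NatIso.ofComponents (fun K => (K.sc n).mapHomologyIso R) (fun {K L} f =>
    ShortComplex.mapHomologyIso_hom_naturality
      ((HomologicalComplex.shortComplexFunctor A (ComplexShape.up ℤ) n).map f) R)

/-- an exact functor commutes with the homology functors on derived categories -/
noncomputable def homologyDIso (n : ℤ) :
    R.mapDerivedCategory ⋙ homologyFunctor B n ≅ homologyFunctor A n ⋙ R := by
  letI : Localization.Lifting Q (HomologicalComplex.quasiIso A (ComplexShape.up ℤ))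
      (R.mapHomologicalComplex (ComplexShape.up ℤ) ⋙ HomologicalComplex.homologyFunctor B _ n)
      (R.mapDerivedCategory ⋙ homologyFunctor B n) :=
    ⟨(Functor.associator _ _ _).symm ≪≫
      Functor.isoWhiskerRight R.mapDerivedCategoryFactors (homologyFunctor B n) ≪≫
      Functor.associator _ _ _ ≪≫
      Functor.isoWhiskerLeft _ (homologyFunctorFactors B n)⟩
  letI : Localization.Lifting Q (HomologicalComplex.quasiIso A (ComplexShape.up ℤ))
      (HomologicalComplex.homologyFunctor A _ n ⋙ R) (homologyFunctor A n ⋙ R) :=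
    ⟨(Functor.associator _ _ _).symm ≪≫ Functor.isoWhiskerRight (homologyFunctorFactors A n) R⟩
  exact Localization.liftNatIso Q (HomologicalComplex.quasiIso A (ComplexShape.up ℤ)) _ _ _ _
    (homologyCxIso R n)

lemma good_map {m : ℤ} {K L : DerivedCategory A} {f : K ⟶ L} (hf : Good m f) :
    Good m (R.mapDerivedCategory.map f) := by
  refine ⟨fun i hi => ?_, ?_⟩
  · haveI := hf.1 i hi
    have : IsIso ((homologyFunctor A i ⋙ R).map f) := by
      rw [Functor.comp_map]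
      infer_instance
    exact (NatIso.isIso_map_iff (homologyDIso R i) f).2 this
  · haveI := hf.2
    have : Epi ((homologyFunctor A m ⋙ R).map f) := by
      rw [Functor.comp_map]
      infer_instance
    exact (epi_map_iff_of_natIso (homologyDIso R m) f).2 this

/-- chain level: quasi-isomorphism range of a chain map vs `Good` -/
lemma good_Q_map_iff {m : ℤ} {K L : CochainComplex A ℤ} (g : K ⟶ L) :
    Good m (Q.map g) ↔ (∀ i : ℤ, m < i → IsIso (HomologicalComplex.homologyMap g i)) ∧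
      Epi (HomologicalComplex.homologyMap g m) := by
  have h1 : ∀ i : ℤ, IsIso ((homologyFunctor A i).map (Q.map g)) ↔
      IsIso (HomologicalComplex.homologyMap g i) := fun i =>
    NatIso.isIso_map_iff (homologyFunctorFactors A i) g
  have h2 : Epi ((homologyFunctor A m).map (Q.map g)) ↔
      Epi (HomologicalComplex.homologyMap g m) :=
    epi_map_iff_of_natIso (homologyFunctorFactors A m) g
  constructor
  · intro h
    exact ⟨fun i hi => (h1 i).1 (h.1 i hi), h2.1 h.2⟩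
  · intro h
    exact ⟨fun i hi => (h1 i).2 (h.1 i hi), h2.2 h.2⟩

end Exact

end Groth.Agent.Lib.Helper13.GoodMap
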