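import Mathlib
import Groth.Agent.Lib.Helper13.PerfTri
import Groth.Agent.Lib.Helper13.GoodMap

/-!
# Pseudo-coherent objects of `D(O_X)`: local presentations, stupid truncation, two out of three
(helper13)
-/

set_option autoImplicit false
set_option backward.isDefEq.respectTransparency false
universe w v u

namespace Groth.Agent.Lib.Helper13.PCohTri

open CategoryTheory CategoryTheory.Limits AlgebraicGeometry
open AlgebraicGeometry.Scheme.Modules
open Groth.Agent.Lib.Helper13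
open Groth.Agent.Lib.Helper13.GoodMap
open Groth.Agent.Lib.Helper13.PerfTri

section Sigma

open ZeroObject

variable {A : Type u} [Category.{v} A] [Abelian A] (E : CochainComplex A ℤ) (m : ℤ)

/-- terms of the stupid truncation `σ≥m` -/
noncomputable def sigmaX (i : ℤ) : A := if m ≤ i then E.X i else 0

/-- the identification of the terms in degrees `≥ m` -/
noncomputable def sigmaXIso (i : ℤ) (h : m ≤ i) : sigmaX E m i ≅ E.X i :=
  eqToIso (by unfold sigmaX; rw [if_pos h])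

/-- inclusion of the terms -/
noncomputable def sigmaι (i : ℤ) : sigmaX E m i ⟶ E.X i :=
  if h : m ≤ i then (sigmaXIso E m i h).hom else 0

/-- projection onto the terms -/
noncomputable def sigmaπ (i : ℤ) : E.X i ⟶ sigmaX E m i :=
  if h : m ≤ i then (sigmaXIso E m i h).inv else 0

lemma isZero_sigmaX (i : ℤ) (h : ¬ m ≤ i) : IsZero (sigmaX E m i) := by
  unfold sigmaX
  rw [if_neg h]
  exact isZero_zero A

@[reassoc]
lemma sigmaπ_ι (i : ℤ) (h : m ≤ i) : sigmaπ E m i ≫ sigmaι E m i = 𝟙 _ := by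
  unfold sigmaπ sigmaι
  rw [dif_pos h, dif_pos h, Iso.inv_hom_id]

/-- the stupid truncation `σ≥m E` -/
noncomputable def sigmaGE : CochainComplex A ℤ where
  X := sigmaX E m
  d i j := sigmaι E m i ≫ E.d i j ≫ sigmaπ E m j
  shape i j h := by rw [E.shape i j h, zero_comp, comp_zero]
  d_comp_d' i j k _ _ := by
    by_cases h : m ≤ j
    · rw [Category.assoc, Category.assoc, sigmaπ_ι_assoc E m j h,
        HomologicalComplex.d_comp_d_assoc, zero_comp, comp_zero]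
    · have h0 : sigmaπ E m j = 0 := (isZero_sigmaX E m j h).eq_of_tgt _ _
      rw [h0, comp_zero, comp_zero, zero_comp]

/-- the canonical map `σ≥m E ⟶ E` -/
noncomputable def sigmaGEι : sigmaGE E m ⟶ E where
  f i := sigmaι E m i
  comm' i j hij := by
    change sigmaι E m i ≫ E.d i j = (sigmaι E m i ≫ E.d i j ≫ sigmaπ E m j) ≫ sigmaι E m j
    by_cases h : m ≤ j
    · rw [Category.assoc, Category.assoc, sigmaπ_ι E m j h, Category.comp_id]
    · have hi : ¬ m ≤ i := by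
        have : i + 1 = j := hij
        omega
      have h0 : sigmaι E m i = 0 := (isZero_sigmaX E m i hi).eq_of_src _ _
      simp [h0]

lemma isIso_sigmaGEι_f (i : ℤ) (h : m ≤ i) : IsIso ((sigmaGEι E m).f i) := by
  change IsIso (sigmaι E m i)
  unfold sigmaι
  rw [dif_pos h]
  infer_instance

lemma isZero_sigmaGE_X (i : ℤ) (h : i < m) : IsZero ((sigmaGE E m).X i) :=
  isZero_sigmaX E m i (by omega)

lemma good_sigmaGEι [HasDerivedCategory.{w} A] :
    Good m (DerivedCategory.Q.map (sigmaGEι E m)) := by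
  rw [good_Q_map_iff]
  constructor
  · intro i hi
    let φ := (HomologicalComplex.shortComplexFunctor A (ComplexShape.up ℤ) i).map (sigmaGEι E m)
    have h1 : IsIso ((sigmaGEι E m).f ((ComplexShape.up ℤ).prev i)) :=
      isIso_sigmaGEι_f E m _ (by simp only [CochainComplex.prev]; omega)
    have h2 : IsIso ((sigmaGEι E m).f i) := isIso_sigmaGEι_f E m i (by omega)
    have h3 : IsIso ((sigmaGEι E m).f ((ComplexShape.up ℤ).next i)) :=
      isIso_sigmaGEι_f E m _ (by simp only [CochainComplex.next]; omega)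
    haveI : IsIso φ.τ₁ := h1
    haveI : IsIso φ.τ₂ := h2
    haveI : IsIso φ.τ₃ := h3
    have hq : ShortComplex.QuasiIso φ := ShortComplex.quasiIso_of_epi_of_isIso_of_mono φ
    exact (ShortComplex.quasiIso_iff φ).1 hq
  · let φ := (HomologicalComplex.shortComplexFunctor A (ComplexShape.up ℤ) m).map (sigmaGEι E m)
    have h2 : IsIso ((sigmaGEι E m).f m) := isIso_sigmaGEι_f E m m le_rfl
    have h3 : IsIso ((sigmaGEι E m).f ((ComplexShape.up ℤ).next m)) :=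
      isIso_sigmaGEι_f E m _ (by simp only [CochainComplex.next]; omega)
    haveI : IsIso φ.τ₂ := h2
    haveI : IsIso φ.τ₃ := h3
    haveI : IsIso (ShortComplex.cyclesMap φ) := ShortComplex.isIso_cyclesMap_of_isIso_of_mono φ
    exact ShortComplex.epi_homologyMap_of_epi_cyclesMap φ

end Sigma

attribute [local instance] HasDerivedCategory.standard

lemma isStrictlyPerfect_sigmaGE {Y : Scheme.{u}} (E : CochainComplex Y.Modules ℤ) (m : ℤ)
    (hE : DCoh.IsStrictlyPerfect E) : DCoh.IsStrictlyPerfect (sigmaGE E m) := by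
  obtain ⟨⟨a, b, hab⟩, hfl⟩ := hE
  refine ⟨⟨a, b, fun i hi => ?_⟩, fun i => ?_⟩
  · by_cases h : m ≤ i
    · exact IsZero.of_iso (hab i hi) (sigmaXIso E m i h)
    · exact isZero_sigmaX E m i h
  · by_cases h : m ≤ i
    · exact Groth.Agent.Lib.Helper17.LocFreeOps.isFinLocFree_of_iso (sigmaXIso E m i h).symm (hfl i)
    · exact PerfLocal.isFinLocFree_of_isZero (isZero_sigmaX E m i h)

section LPC

/-- `K` receives an `m`-good map from a strictly perfect complex after restriction along `j` -/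
def LPC {Y X : Scheme.{u}} (m : ℤ) (K : DCoh.D X) (j : Y ⟶ X) [IsOpenImmersion j] : Prop :=
  ∃ (E : CochainComplex Y.Modules ℤ)
    (α : DerivedCategory.Q.obj E ⟶ (DCoh.restrictD j).obj K),
    DCoh.IsStrictlyPerfect E ∧ Good m α

variable {Y X : Scheme.{u}} {m : ℤ} {K : DCoh.D X}

lemma LPC.mono {j : Y ⟶ X} [IsOpenImmersion j] (h : LPC m K j) {m' : ℤ} (hm : m ≤ m') :
    LPC m' K j := by
  obtain ⟨E, α, hE, hα⟩ := h
  exact ⟨E, α, hE, hα.mono hm⟩

lemma LPC.of_iso {j : Y ⟶ X} [IsOpenImmersion j] {K' : DCoh.D X} (e : K ≅ K')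
    (h : LPC m K j) : LPC m K' j := by
  obtain ⟨E, α, hE, hα⟩ := h
  exact ⟨E, α ≫ (DCoh.restrictD j).map e.hom, hE, hα.comp_iso _⟩

lemma LPC.comp {Y' : Scheme.{u}} (j' : Y' ⟶ Y) (j : Y ⟶ X) (j'' : Y' ⟶ X)
    [IsOpenImmersion j'] [IsOpenImmersion j] [IsOpenImmersion j''] (h : j'' = j' ≫ j)
    (hK : LPC m K j) : LPC m K j'' := by
  obtain ⟨E, α, hE, hα⟩ := hK
  obtain ⟨c⟩ := nonempty_resD_comp j' j j'' h K
  refine ⟨(resCx j').obj E,
    ((restrictFunctor j').mapDerivedCategoryFactors.app E).inv ≫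
      (DCoh.restrictD j').map α ≫ c.hom,
    PerfLocal.isStrictlyPerfect_restrict j' E hE, ?_⟩
  exact Good.iso_comp _ ((good_map (restrictFunctor j') hα).comp_iso c.hom)

lemma LPC.trunc {j : Y ⟶ X} [IsOpenImmersion j] (h : LPC m K j) :
    ∃ (E : CochainComplex Y.Modules ℤ)
      (α : DerivedCategory.Q.obj E ⟶ (DCoh.restrictD j).obj K),
      DCoh.IsStrictlyPerfect E ∧ (∀ i : ℤ, i < m → IsZero (E.X i)) ∧ Good m α := by
  obtain ⟨E, α, hE, hα⟩ := h
  exact ⟨sigmaGE E m, DerivedCategory.Q.map (sigmaGEι E m) ≫ α, isStrictlyPerfect_sigmaGE E m hE,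
    fun i hi => isZero_sigmaGE_X E m i hi, (good_sigmaGEι E m).comp hα⟩

lemma LPC.shift {j : Y ⟶ X} [IsOpenImmersion j] (h : LPC m K j) (n m' : ℤ) (hn : n + m' = m) :
    LPC m' (K⟦n⟧) j := by
  obtain ⟨E, α, hE, hα⟩ := h
  refine ⟨E⟦n⟧, (DerivedCategory.Q.commShiftIso n).hom.app E ≫ α⟦n⟧' ≫
    ((DCoh.restrictD j).commShiftIso n).inv.app K, isStrictlyPerfect_shift E n hE, ?_⟩
  exact Good.iso_comp _ ((good_shift hα n m' hn).comp_iso _)

lemma isPC_iff (m : ℤ) (K : DCoh.D X) :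
    DCoh.IsPseudoCoherentD m K ↔ ∀ x : X, ∃ V : X.Opens, x ∈ V ∧ LPC m K V.ι := by
  constructor
  · intro hK x
    obtain ⟨V, hxV, hV⟩ := hK x
    obtain ⟨E, α, hE, h1, h2⟩ := hV (DerivedCategory.Q.objPreimage K)
      ⟨DerivedCategory.Q.objObjPreimageIso K⟩
    have hα : Good m α := ⟨h1, h2⟩
    let e : DerivedCategory.Q.obj ((DCoh.restrictCx V).obj (DerivedCategory.Q.objPreimage K)) ≅
        (DCoh.restrictD V.ι).obj K :=
      ((restrictFunctor V.ι).mapDerivedCategoryFactors.app _).symm ≪≫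
        (DCoh.restrictD V.ι).mapIso (DerivedCategory.Q.objObjPreimageIso K)
    exact ⟨V, hxV, E, α ≫ e.hom, hE, hα.comp_iso e.hom⟩
  · intro h x
    obtain ⟨V, hxV, E, α, hE, hα⟩ := h x
    refine ⟨V, hxV, ?_⟩
    rintro F ⟨i⟩
    let e : (DCoh.restrictD V.ι).obj K ≅ DerivedCategory.Q.obj ((DCoh.restrictCx V).obj F) :=
      (DCoh.restrictD V.ι).mapIso i.symm ≪≫
        (restrictFunctor V.ι).mapDerivedCategoryFactors.app F
    have hg : Good m (α ≫ e.hom) := hα.comp_iso e.hom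
    exact ⟨E, α ≫ e.hom, hE, hg.1, hg.2⟩

lemma isPC_of_LPC (m : ℤ) (K : DCoh.D X)
    (h : ∀ x : X, ∃ (Y : Scheme.{u}) (j : Y ⟶ X) (_ : IsOpenImmersion j) (y : Y),
      j.base y = x ∧ LPC m K j) : DCoh.IsPseudoCoherentD m K := by
  rw [isPC_iff]
  intro x
  obtain ⟨Y, j, hj, y, hy, hK⟩ := h x
  refine ⟨j.opensRange, ⟨y, hy⟩, ?_⟩
  exact LPC.comp j.isoOpensRange.inv j _ j.isoOpensRange_inv_comp.symm hK

end LPC

section Factor

variable {Y : Scheme.{u}}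

/-- a map from a strictly perfect complex vanishing below `a` factors, locally and at chain level,
through an `a`-good map -/
theorem locally_factor {E G₀ : CochainComplex Y.Modules ℤ} {F : DCoh.D Y}
    (hE : DCoh.IsStrictlyPerfect E) (a : ℤ) (hEa : ∀ j : ℤ, j < a → IsZero (E.X j))
    (f : DerivedCategory.Q.obj G₀ ⟶ F) (hf : Good a f) (ψ : DerivedCategory.Q.obj E ⟶ F)
    (y : Y) :
    ∃ (W : Y.Opens) (t : (DCoh.restrictCx W).obj E ⟶ (DCoh.restrictCx W).obj G₀), y ∈ W ∧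
      (DCoh.restrictD W.ι).map ψ =
        (restrictFunctor W.ι).mapDerivedCategoryFactors.hom.app E ≫ DerivedCategory.Q.map t ≫
          (restrictFunctor W.ι).mapDerivedCategoryFactors.inv.app G₀ ≫
            (DCoh.restrictD W.ι).map f := by
  let e : DerivedCategory.Q.obj (DerivedCategory.Q.objPreimage F) ≅ F :=
    DerivedCategory.Q.objObjPreimageIso F
  obtain ⟨F', g, s, hs, hg⟩ := DerivedCategory.left_fac (f ≫ e.inv)
  haveI := hs
  obtain ⟨F'', p₀, s', hs', hp⟩ :=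
    DerivedCategory.left_fac (ψ ≫ e.inv ≫ DerivedCategory.Q.map s)
  haveI := hs'
  obtain ⟨u, hu⟩ : ∃ u : F ⟶ DerivedCategory.Q.obj F'',
      u = e.inv ≫ DerivedCategory.Q.map s ≫ DerivedCategory.Q.map s' := ⟨_, rfl⟩
  haveI : IsIso u := by
    rw [hu]
    infer_instance
  have hfu : f ≫ u = DerivedCategory.Q.map (g ≫ s') := by
    have h1 : f ≫ e.inv ≫ DerivedCategory.Q.map s = DerivedCategory.Q.map g := by
      rw [← Category.assoc, hg, Category.assoc, IsIso.inv_hom_id, Category.comp_id]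
    rw [hu, Functor.map_comp, ← h1]
    simp only [Category.assoc]
  have hψu : ψ ≫ u = DerivedCategory.Q.map p₀ := by
    have h1 : (ψ ≫ e.inv ≫ DerivedCategory.Q.map s) ≫ DerivedCategory.Q.map s' =
        DerivedCategory.Q.map p₀ := by
      rw [hp, Category.assoc, IsIso.inv_hom_id, Category.comp_id]
    rw [hu, ← h1]
    simp only [Category.assoc]
  have hgood : Good a (DerivedCategory.Q.map (g ≫ s')) := by
    rw [← hfu]
    exact hf.comp_iso u
  obtain ⟨h1, h2⟩ := (good_Q_map_iff (g ≫ s')).1 hgood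
  obtain ⟨W, t, hyW, ⟨H⟩⟩ := LiftQis.locally_lift p₀ (g ≫ s') hE a hEa h1 h2 y
  refine ⟨W, t, hyW, ?_⟩
  have hQ := DerivedCategory.Q_map_eq_of_homotopy _ H
  rw [Functor.map_comp] at hQ
  have n1 := (restrictFunctor W.ι).mapDerivedCategoryFactors_hom_naturality p₀
  have n2 := (restrictFunctor W.ι).mapDerivedCategoryFactors_hom_naturality (g ≫ s')
  have e1 : (DCoh.restrictD W.ι).map ψ ≫ (DCoh.restrictD W.ι).map u ≫
      (restrictFunctor W.ι).mapDerivedCategoryFactors.hom.app F'' =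
      (restrictFunctor W.ι).mapDerivedCategoryFactors.hom.app E ≫
        DerivedCategory.Q.map ((DCoh.restrictCx W).map p₀) := by
    rw [← Category.assoc, ← Functor.map_comp, hψu]
    exact n1
  have e2 : (DCoh.restrictD W.ι).map f ≫ (DCoh.restrictD W.ι).map u ≫
      (restrictFunctor W.ι).mapDerivedCategoryFactors.hom.app F'' =
      (restrictFunctor W.ι).mapDerivedCategoryFactors.hom.app G₀ ≫
        DerivedCategory.Q.map ((DCoh.restrictCx W).map (g ≫ s')) := by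
    rw [← Category.assoc, ← Functor.map_comp, hfu]
    exact n2
  rw [← cancel_mono ((DCoh.restrictD W.ι).map u ≫
    (restrictFunctor W.ι).mapDerivedCategoryFactors.hom.app F'')]
  simp only [Category.assoc]
  rw [e1, e2, Iso.inv_hom_id_app_assoc, hQ]

end Factor

section Mid

open CategoryTheory.Pretriangulated

/-- middle vertex, local form on a fixed scheme -/
theorem lpc_mid {Y : Scheme.{u}} (m : ℤ) (T' : Triangle (DCoh.D Y)) (hT' : T' ∈ distTriang _)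
    {P Q' : CochainComplex Y.Modules ℤ} (hP : DCoh.IsStrictlyPerfect P)
    (hQ' : DCoh.IsStrictlyPerfect Q') (hQ'm : ∀ i : ℤ, i < m → IsZero (Q'.X i))
    (α : DerivedCategory.Q.obj P ⟶ T'.obj₁) (hα : Good m α)
    (β : DerivedCategory.Q.obj Q' ⟶ T'.obj₃) (hβ : Good m β) (y : Y) :
    ∃ W : Y.Opens, y ∈ W ∧ LPC m T'.obj₂ W.ι := by
  obtain ⟨f, hfdef⟩ : ∃ f : DerivedCategory.Q.obj (P⟦(1 : ℤ)⟧) ⟶ T'.obj₁⟦(1 : ℤ)⟧,
      f = (DerivedCategory.Q.commShiftIso (1 : ℤ)).hom.app P ≫ α⟦(1 : ℤ)⟧' := ⟨_, rfl⟩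
  have hf : Good (m - 1) f := by
    rw [hfdef]
    exact Good.iso_comp _ (good_shift hα 1 (m - 1) (by omega))
  obtain ⟨W, t, hyW, ht⟩ :=
    locally_factor hQ' m hQ'm f (hf.mono (by omega)) (β ≫ T'.mor₃) y
  refine ⟨W, hyW, ?_⟩
  have hT₁ : (DCoh.restrictD W.ι).mapTriangle.obj T' ∈ distTriang _ :=
    (DCoh.restrictD W.ι).map_distinguished T' hT'
  have hT₂ := rot_of_distTriang _ (rot_of_distTriang _ hT₁)
  have hTc := DerivedCategory.mappingCone_triangle_distinguished t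
  obtain ⟨φ₁, hφ₁def⟩ : ∃ φ₁ : DerivedCategory.Q.obj ((DCoh.restrictCx W).obj Q') ⟶
      (DCoh.restrictD W.ι).obj T'.obj₃,
      φ₁ = (restrictFunctor W.ι).mapDerivedCategoryFactors.inv.app Q' ≫
        (DCoh.restrictD W.ι).map β := ⟨_, rfl⟩
  obtain ⟨φ₂, hφ₂def⟩ : ∃ φ₂ : DerivedCategory.Q.obj ((DCoh.restrictCx W).obj (P⟦(1 : ℤ)⟧)) ⟶
      ((DCoh.restrictD W.ι).obj T'.obj₁)⟦(1 : ℤ)⟧,
      φ₂ = (restrictFunctor W.ι).mapDerivedCategoryFactors.inv.app (P⟦(1 : ℤ)⟧) ≫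
        (DCoh.restrictD W.ι).map f ≫
          ((DCoh.restrictD W.ι).commShiftIso (1 : ℤ)).hom.app T'.obj₁ := ⟨_, rfl⟩
  have comm : (DerivedCategory.Q.mapTriangle.obj (CochainComplex.mappingCone.triangle t)).mor₁ ≫
      φ₂ = φ₁ ≫ ((DCoh.restrictD W.ι).mapTriangle.obj T').rotate.rotate.mor₁ := by
    change DerivedCategory.Q.map t ≫ φ₂ = φ₁ ≫ (DCoh.restrictD W.ι).map T'.mor₃ ≫
      ((DCoh.restrictD W.ι).commShiftIso (1 : ℤ)).hom.app T'.obj₁
    rw [hφ₁def, hφ₂def, Category.assoc, ← Functor.map_comp_assoc, ht]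
    simp only [Category.assoc, Iso.inv_hom_id_app_assoc]
  obtain ⟨c, hc₂, hc₃⟩ := complete_distinguished_triangle_morphism _ _ hTc hT₂ φ₁ φ₂ comm
  let φ : DerivedCategory.Q.mapTriangle.obj (CochainComplex.mappingCone.triangle t) ⟶
      ((DCoh.restrictD W.ι).mapTriangle.obj T').rotate.rotate :=
    { hom₁ := φ₁, hom₂ := φ₂, hom₃ := c, comm₁ := comm, comm₂ := hc₂, comm₃ := hc₃ }
  have hφ₁ : Good (m - 1 + 1) φ₁ := by
    have h : Good m φ₁ := by
      rw [hφ₁def]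
      exact Good.iso_comp _ (good_map (restrictFunctor W.ι) hβ)
    exact h.mono (by omega)
  have hφ₂ : Good (m - 1) φ₂ := by
    rw [hφ₂def]
    exact Good.iso_comp _ ((good_map (restrictFunctor W.ι) hf).comp_iso _)
  have hc : Good (m - 1) c := good_third (m := m - 1) hTc hT₂ φ hφ₁ hφ₂
  refine ⟨(CochainComplex.mappingCone t)⟦(-1 : ℤ)⟧,
    (DerivedCategory.Q.commShiftIso (-1 : ℤ)).hom.app (CochainComplex.mappingCone t) ≫
      c⟦(-1 : ℤ)⟧' ≫ (shiftShiftNeg ((DCoh.restrictD W.ι).obj T'.obj₂) (1 : ℤ)).hom, ?_, ?_⟩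
  · exact isStrictlyPerfect_shift _ (-1) (isStrictlyPerfect_mappingCone t
      (PerfLocal.isStrictlyPerfect_restrict W.ι Q' hQ')
      (PerfLocal.isStrictlyPerfect_restrict W.ι _ (isStrictlyPerfect_shift P 1 hP)))
  · exact Good.iso_comp _ ((good_shift hc (-1) m (by omega)).comp_iso _)

variable {X : Scheme.{u}}

/-- middle vertex, local form -/
theorem lpc_mid' (m : ℤ) (T : Triangle (DCoh.D X)) (hT : T ∈ distTriang _)
    {Y : Scheme.{u}} (j : Y ⟶ X) [IsOpenImmersion j] (h₁ : LPC m T.obj₁ j)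
    (h₃ : LPC m T.obj₃ j) (y : Y) :
    ∃ W : Y.Opens, y ∈ W ∧ LPC m T.obj₂ (W.ι ≫ j) := by
  obtain ⟨P, α, hP, hα⟩ := h₁
  obtain ⟨Q', β, hQ', hQ'm, hβ⟩ := h₃.trunc
  obtain ⟨W, hyW, C, γ, hC, hγ⟩ := lpc_mid m ((DCoh.restrictD j).mapTriangle.obj T)
    ((DCoh.restrictD j).map_distinguished T hT) hP hQ' hQ'm α hα β hβ y
  obtain ⟨c⟩ := nonempty_resD_comp W.ι j (W.ι ≫ j) rfl T.obj₂
  exact ⟨W, hyW, C, γ ≫ c.hom, hC, hγ.comp_iso _⟩

/-- third vertex, local form -/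
theorem lpc_third (m : ℤ) (T : Triangle (DCoh.D X)) (hT : T ∈ distTriang _)
    {Y : Scheme.{u}} (j : Y ⟶ X) [IsOpenImmersion j] (h₁ : LPC (m + 1) T.obj₁ j)
    (h₂ : LPC m T.obj₂ j) (y : Y) :
    ∃ W : Y.Opens, y ∈ W ∧ LPC m T.obj₃ (W.ι ≫ j) :=
  lpc_mid' m T.rotate (rot_of_distTriang T hT) j h₂ (h₁.shift 1 m (by omega)) y

/-- first vertex, local form -/
theorem lpc_first (m : ℤ) (T : Triangle (DCoh.D X)) (hT : T ∈ distTriang _)
    {Y : Scheme.{u}} (j : Y ⟶ X) [IsOpenImmersion j] (h₂ : LPC (m + 1) T.obj₂ j)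
    (h₃ : LPC m T.obj₃ j) (y : Y) :
    ∃ W : Y.Opens, y ∈ W ∧ LPC (m + 1) T.obj₁ (W.ι ≫ j) :=
  lpc_mid' (m + 1) T.invRotate (inv_rot_of_distTriang T hT) j
    (h₃.shift (-1) (m + 1) (by omega)) h₂ y

/-- from a local rule to pseudo-coherence -/
lemma isPC_of_rule {m₁ m₂ m₃ : ℤ} {K₁ K₂ K₃ : DCoh.D X}
    (R : ∀ V : X.Opens, LPC m₁ K₁ V.ι → LPC m₂ K₂ V.ι → ∀ y : (V : Scheme.{u}),
      ∃ W : (V : Scheme.{u}).Opens, y ∈ W ∧ LPC m₃ K₃ (W.ι ≫ V.ι))
    (h₁ : DCoh.IsPseudoCoherentD m₁ K₁) (h₂ : DCoh.IsPseudoCoherentD m₂ K₂) :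
    DCoh.IsPseudoCoherentD m₃ K₃ := by
  apply isPC_of_LPC
  intro x
  obtain ⟨V₁, hx₁, hK₁⟩ := (isPC_iff _ _).1 h₁ x
  obtain ⟨V₂, hx₂, hK₂⟩ := (isPC_iff _ _).1 h₂ x
  have hxV : x ∈ V₁ ⊓ V₂ := ⟨hx₁, hx₂⟩
  have hK₁' := LPC.comp (X.homOfLE inf_le_left) V₁.ι (V₁ ⊓ V₂).ι (X.homOfLE_ι _).symm hK₁
  have hK₂' := LPC.comp (X.homOfLE inf_le_right) V₂.ι (V₁ ⊓ V₂).ι (X.homOfLE_ι _).symm hK₂
  obtain ⟨W, hyW, hW⟩ := R (V₁ ⊓ V₂) hK₁' hK₂' ⟨x, hxV⟩
  exact ⟨W, W.ι ≫ (V₁ ⊓ V₂).ι, inferInstance, ⟨⟨x, hxV⟩, hyW⟩, rfl, hW⟩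

/-- two out of three for pseudo-coherence -/
theorem isPC_two_of_three (m : ℤ) (T : Triangle (DCoh.D X)) (hT : T ∈ distTriang _) :
    (DCoh.IsPseudoCoherentD (m + 1) T.obj₁ → DCoh.IsPseudoCoherentD m T.obj₂ →
      DCoh.IsPseudoCoherentD m T.obj₃) ∧
    (DCoh.IsPseudoCoherentD m T.obj₁ → DCoh.IsPseudoCoherentD m T.obj₃ →
      DCoh.IsPseudoCoherentD m T.obj₂) ∧
    (DCoh.IsPseudoCoherentD (m + 1) T.obj₂ → DCoh.IsPseudoCoherentD m T.obj₃ →
      DCoh.IsPseudoCoherentD (m + 1) T.obj₁) :=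
  ⟨isPC_of_rule (fun V h₁ h₂ y => lpc_third m T hT V.ι h₁ h₂ y),
    isPC_of_rule (fun V h₁ h₃ y => lpc_mid' m T hT V.ι h₁ h₃ y),
    isPC_of_rule (fun V h₂ h₃ y => lpc_first m T hT V.ι h₂ h₃ y)⟩

end Mid

end Groth.Agent.Lib.Helper13.PCohTri
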