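import Mathlib
import Groth.Prelude.Def_DerSch2
import Groth.Agent.Lib.Helper13.PCohTri

/-!
# Direct summands of pseudo-coherent objects of `D(O_X)` (helper13)
-/

set_option autoImplicit false
set_option backward.isDefEq.respectTransparency false
universe v' u' v u

namespace Groth.Agent.Lib.Helper13.PCohSum

open CategoryTheory CategoryTheory.Limits AlgebraicGeometry
open AlgebraicGeometry.Scheme.Modules
open Groth.Agent.Lib.Helper13
open Groth.Agent.Lib.Helper13.GoodMap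
open Groth.Agent.Lib.Helper13.PerfTri
open Groth.Agent.Lib.Helper13.PCohTri
open CategoryTheory.Pretriangulated ZeroObject
attribute [local instance] HasDerivedCategory.standard

lemma isIso_of_isZero {C : Type u'} [Category.{v'} C] [HasZeroMorphisms C] {A B : C} (f : A ⟶ B)
    (hA : IsZero A) (hB : IsZero B) : IsIso f :=
  ⟨⟨0, hA.eq_of_src _ _, hB.eq_of_src _ _⟩⟩

lemma isZero_of_retract {C : Type u'} [Category.{v'} C] {D : Type u} [Category.{v} D]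
    [HasZeroMorphisms D] (F : C ⥤ D) {A B : C} (i : A ⟶ B) (r : B ⟶ A) (h : i ≫ r = 𝟙 A)
    (hB : IsZero (F.obj B)) : IsZero (F.obj A) := by
  rw [IsZero.iff_id_eq_zero, ← F.map_id, ← h, F.map_comp, hB.eq_of_tgt (F.map i) 0, zero_comp]

/-- an additive functor commutes with binary biproducts -/
noncomputable def mapBiprodIso {C : Type u'} [Category.{v'} C] {D : Type u} [Category.{v} D]
    [Preadditive C] [Preadditive D] (F : C ⥤ D) [F.Additive] (A B : C) [HasBinaryBiproduct A B]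
    [HasBinaryBiproduct (F.obj A) (F.obj B)] : F.obj (A ⊞ B) ≅ F.obj A ⊞ F.obj B where
  hom := biprod.lift (F.map biprod.fst) (F.map biprod.snd)
  inv := biprod.desc (F.map biprod.inl) (F.map biprod.inr)
  hom_inv_id := by
    rw [biprod.lift_desc, ← F.map_comp, ← F.map_comp, ← F.map_add, biprod.total, F.map_id]
  inv_hom_id := by
    apply biprod.hom_ext <;> apply biprod.hom_ext' <;> simp [← Functor.map_comp]

variable {X : Scheme.{u}}

lemma isPC_of_iso {m : ℤ} {K K' : DCoh.D X} (e : K ≅ K') (hK : DCoh.IsPseudoCoherentD m K) :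
    DCoh.IsPseudoCoherentD m K' := by
  intro x
  obtain ⟨V, hxV, hV⟩ := hK x
  refine ⟨V, hxV, ?_⟩
  rintro F ⟨i⟩
  exact hV F ⟨i ≪≫ e.symm⟩

/-- the zero complex presents objects without cohomology in degrees `≥ N` -/
lemma lpc_zero {Y : Scheme.{u}} (N : ℤ) (K : DCoh.D X) (j : Y ⟶ X) [IsOpenImmersion j]
    (h : ∀ i : ℤ, N ≤ i → IsZero ((DerivedCategory.homologyFunctor Y.Modules i).obj
      ((DCoh.restrictD j).obj K))) : LPC N K j := by
  have hz : ∀ i : ℤ, IsZero ((DerivedCategory.homologyFunctor Y.Modules i).obj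
      (DerivedCategory.Q.obj (0 : CochainComplex Y.Modules ℤ))) := fun i =>
    (DerivedCategory.homologyFunctor Y.Modules i).map_isZero
      (DerivedCategory.Q.map_isZero (isZero_zero _))
  have hiso : ∀ i : ℤ, N ≤ i → IsIso ((DerivedCategory.homologyFunctor Y.Modules i).map
      (0 : DerivedCategory.Q.obj (0 : CochainComplex Y.Modules ℤ) ⟶
        (DCoh.restrictD j).obj K)) :=
    fun i hi => isIso_of_isZero _ (hz i) (h i hi)
  refine ⟨0, 0, PerfLocal.isStrictlyPerfect_zero, fun i hi => hiso i hi.le, ?_⟩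
  haveI := hiso N le_rfl
  infer_instance

lemma isZero_homology_of_good {Y : Scheme.{u}} {E : CochainComplex Y.Modules ℤ} {M : DCoh.D Y}
    (α : DerivedCategory.Q.obj E ⟶ M) {m : ℤ} (hα : Good m α) (i : ℤ) (hi : m < i)
    (hE : IsZero (E.X i)) :
    IsZero ((DerivedCategory.homologyFunctor Y.Modules i).obj M) := by
  haveI := hα.1 i hi
  have h1 : IsZero (E.homology i) := ShortComplex.isZero_homology_of_isZero_X₂ _ hE
  have h2 : IsZero ((DerivedCategory.homologyFunctor Y.Modules i).obj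
      (DerivedCategory.Q.obj E)) :=
    IsZero.of_iso h1 ((DerivedCategory.homologyFunctorFactors Y.Modules i).app E)
  exact IsZero.of_iso h2 (asIso ((DerivedCategory.homologyFunctor Y.Modules i).map α)).symm

lemma _root_.Groth.Agent.Lib.Helper13.PCohTri.LPC.restrict_le {m : ℤ} {K : DCoh.D X} {V W : X.Opens} (hK : LPC m K V.ι) (h : W ≤ V) :
    LPC m K W.ι :=
  LPC.comp (X.homOfLE h) V.ι W.ι (X.homOfLE_ι h).symm hK

lemma lpc_third_opens (m : ℤ) (T : Triangle (DCoh.D X)) (hT : T ∈ distTriang _) (V : X.Opens)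
    (h₁ : LPC (m + 1) T.obj₁ V.ι) (h₂ : LPC m T.obj₂ V.ι) (x : X) (hx : x ∈ V) :
    ∃ W : X.Opens, x ∈ W ∧ LPC m T.obj₃ W.ι := by
  obtain ⟨W, hyW, hW⟩ := lpc_third m T hT V.ι h₁ h₂ ⟨x, hx⟩
  exact ⟨(W.ι ≫ V.ι).opensRange, ⟨⟨⟨x, hx⟩, hyW⟩, rfl⟩,
    LPC.comp (W.ι ≫ V.ι).isoOpensRange.inv (W.ι ≫ V.ι) _
      (W.ι ≫ V.ι).isoOpensRange_inv_comp.symm hW⟩

lemma lpc_biprod_step (n : ℤ) (K L : DCoh.D X) (x : X) (V₀ : X.Opens) (hx₀ : x ∈ V₀)
    (h₀ : LPC n (K ⊞ L) V₀.ι) (W : X.Opens) (hxW : x ∈ W) (hK : LPC (n + 1) K W.ι)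
    (hL : LPC (n + 1) L W.ι) :
    ∃ W' : X.Opens, x ∈ W' ∧ LPC n K W'.ι ∧ LPC n L W'.ι := by
  have hxU : x ∈ W ⊓ V₀ := ⟨hxW, hx₀⟩
  have hK' : LPC (n + 1) K (W ⊓ V₀).ι := hK.restrict_le inf_le_left
  have hL' : LPC (n + 1) L (W ⊓ V₀).ι := hL.restrict_le inf_le_left
  have h₀' : LPC n (K ⊞ L) (W ⊓ V₀).ι := h₀.restrict_le inf_le_right
  obtain ⟨W₁, hx₁, hW₁⟩ := lpc_third_opens n (binaryBiproductTriangle K L)
    (binaryBiproductTriangle_distinguished K L) (W ⊓ V₀) hK' h₀' x hxU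
  obtain ⟨W₂, hx₂, hW₂⟩ := lpc_third_opens n (binaryBiproductTriangle L K)
    (binaryBiproductTriangle_distinguished L K) (W ⊓ V₀) hL'
    (h₀'.of_iso (biprod.braiding K L)) x hxU
  exact ⟨W₁ ⊓ W₂, ⟨hx₁, hx₂⟩, hW₂.restrict_le inf_le_right, hW₁.restrict_le inf_le_left⟩

theorem lpc_biprod (m : ℤ) (K L : DCoh.D X) (x : X) (V₀ : X.Opens) (hx₀ : x ∈ V₀)
    (h₀ : LPC m (K ⊞ L) V₀.ι) : ∃ W : X.Opens, x ∈ W ∧ LPC m K W.ι ∧ LPC m L W.ι := by
  have h₀' := h₀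
  obtain ⟨E, α, hE, hα⟩ := h₀'
  obtain ⟨⟨a, b, hab⟩, -⟩ := hE
  obtain ⟨N, hNb, hNm⟩ : ∃ N : ℤ, b < N ∧ m < N :=
    ⟨max b m + 1, by have := le_max_left b m; omega, by have := le_max_right b m; omega⟩
  have hvan : ∀ i : ℤ, N ≤ i → IsZero ((DerivedCategory.homologyFunctor _ i).obj
      ((DCoh.restrictD V₀.ι).obj (K ⊞ L))) := fun i hi =>
    isZero_homology_of_good α hα i (by omega) (hab i (Or.inr (by omega)))
  have hKN : LPC N K V₀.ι := lpc_zero N K V₀.ι (fun i hi =>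
    isZero_of_retract (DCoh.restrictD V₀.ι ⋙ DerivedCategory.homologyFunctor _ i)
      biprod.inl biprod.fst biprod.inl_fst (hvan i hi))
  have hLN : LPC N L V₀.ι := lpc_zero N L V₀.ι (fun i hi =>
    isZero_of_retract (DCoh.restrictD V₀.ι ⋙ DerivedCategory.homologyFunctor _ i)
      biprod.inr biprod.snd biprod.inr_snd (hvan i hi))
  have key : ∀ k : ℕ, m ≤ N - (k : ℤ) →
      ∃ W : X.Opens, x ∈ W ∧ LPC (N - (k : ℤ)) K W.ι ∧ LPC (N - (k : ℤ)) L W.ι := by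
    intro k
    induction k with
    | zero =>
      intro _
      refine ⟨V₀, hx₀, ?_, ?_⟩
      · simpa using hKN
      · simpa using hLN
    | succ k ih =>
      intro hk
      obtain ⟨W, hxW, hK, hL⟩ := ih (by omega)
      have e : N - (k : ℤ) = (N - ((k + 1 : ℕ) : ℤ)) + 1 := by omega
      rw [e] at hK hL
      exact lpc_biprod_step _ K L x V₀ hx₀ (h₀.mono hk) W hxW hK hL
  obtain ⟨k, hk⟩ : ∃ k : ℕ, (k : ℤ) = N - m := ⟨(N - m).toNat, Int.toNat_of_nonneg (by omega)⟩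
  obtain ⟨W, hxW, hK, hL⟩ := key k (by omega)
  have e : N - (k : ℤ) = m := by omega
  rw [e] at hK hL
  exact ⟨W, hxW, hK, hL⟩

/-- direct summands of `m`-pseudo-coherent objects are `m`-pseudo-coherent -/
theorem isPC_of_biprod (m : ℤ) (K L : DCoh.D X) (h : DCoh.IsPseudoCoherentD m (K ⊞ L)) :
    DCoh.IsPseudoCoherentD m K ∧ DCoh.IsPseudoCoherentD m L := by
  rw [isPC_iff] at h
  constructor
  · rw [isPC_iff]
    intro x
    obtain ⟨V₀, hx₀, h₀⟩ := h x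
    obtain ⟨W, hxW, hK, -⟩ := lpc_biprod m K L x V₀ hx₀ h₀
    exact ⟨W, hxW, hK⟩
  · rw [isPC_iff]
    intro x
    obtain ⟨V₀, hx₀, h₀⟩ := h x
    obtain ⟨W, hxW, -, hL⟩ := lpc_biprod m K L x V₀ hx₀ h₀
    exact ⟨W, hxW, hL⟩

section Rel

variable {S : Scheme.{u}}

lemma chartPC_left (m : ℤ) (E K : DCoh.D X) (U : X.Opens) (V : S.Opens) {n : ℕ}
    (φ : MvPolynomial (Fin n) Γ(S, V) →+* Γ(X, U)) (h : DerSch.ChartPC m (E ⊞ K) U V φ) :
    DerSch.ChartPC m E U V φ := by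
  rintro G ⟨i⟩
  let G' := DerivedCategory.Q.objPreimage K
  let i' : DerivedCategory.Q.obj G' ≅ K := DerivedCategory.Q.objObjPreimageIso K
  have h1 := h (G ⊞ G') ⟨mapBiprodIso DerivedCategory.Q G G' ≪≫ biprod.mapIso i i'⟩
  have e : DCoh.toD _ ((DerSch.pushCx (DerSch.chartImm U φ)).obj
        ((DCoh.restrictCx U).obj (G ⊞ G'))) ≅
      DCoh.toD _ ((DerSch.pushCx (DerSch.chartImm U φ)).obj ((DCoh.restrictCx U).obj G)) ⊞
      DCoh.toD _ ((DerSch.pushCx (DerSch.chartImm U φ)).obj ((DCoh.restrictCx U).obj G')) :=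
    DerivedCategory.Q.mapIso ((DerSch.pushCx (DerSch.chartImm U φ)).mapIso
        (mapBiprodIso (DCoh.restrictCx U) G G') ≪≫
      mapBiprodIso (DerSch.pushCx (DerSch.chartImm U φ)) _ _) ≪≫
      mapBiprodIso DerivedCategory.Q _ _
  exact (isPC_of_biprod m _ _ (isPC_of_iso e h1)).1

lemma chartPC_right (m : ℤ) (E K : DCoh.D X) (U : X.Opens) (V : S.Opens) {n : ℕ}
    (φ : MvPolynomial (Fin n) Γ(S, V) →+* Γ(X, U)) (h : DerSch.ChartPC m (E ⊞ K) U V φ) :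
    DerSch.ChartPC m K U V φ := by
  rintro G ⟨i⟩
  let G' := DerivedCategory.Q.objPreimage E
  let i' : DerivedCategory.Q.obj G' ≅ E := DerivedCategory.Q.objObjPreimageIso E
  have h1 := h (G' ⊞ G) ⟨mapBiprodIso DerivedCategory.Q G' G ≪≫ biprod.mapIso i' i⟩
  have e : DCoh.toD _ ((DerSch.pushCx (DerSch.chartImm U φ)).obj
        ((DCoh.restrictCx U).obj (G' ⊞ G))) ≅
      DCoh.toD _ ((DerSch.pushCx (DerSch.chartImm U φ)).obj ((DCoh.restrictCx U).obj G')) ⊞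
      DCoh.toD _ ((DerSch.pushCx (DerSch.chartImm U φ)).obj ((DCoh.restrictCx U).obj G)) :=
    DerivedCategory.Q.mapIso ((DerSch.pushCx (DerSch.chartImm U φ)).mapIso
        (mapBiprodIso (DCoh.restrictCx U) G' G) ≪≫
      mapBiprodIso (DerSch.pushCx (DerSch.chartImm U φ)) _ _) ≪≫
      mapBiprodIso DerivedCategory.Q _ _
  exact (isPC_of_biprod m _ _ (isPC_of_iso e h1)).2

theorem isPseudoCoherentRel_of_biprod (f : X ⟶ S) (m : ℤ) (E K : DCoh.D X)
    (h : DerSch.IsPseudoCoherentRel f m (E ⊞ K)) :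
    DerSch.IsPseudoCoherentRel f m E ∧ DerSch.IsPseudoCoherentRel f m K := by
  obtain ⟨hf, 𝒱, h𝒱, H⟩ := h
  constructor
  · refine ⟨hf, 𝒱, h𝒱, fun V hV => ?_⟩
    obtain ⟨𝒰, h𝒰, HU⟩ := H V hV
    refine ⟨𝒰, h𝒰, fun U hU hle => ?_⟩
    obtain ⟨n, φ, hchart, hpc⟩ := HU U hU hle
    exact ⟨n, φ, hchart, chartPC_left m E K _ _ φ hpc⟩
  · refine ⟨hf, 𝒱, h𝒱, fun V hV => ?_⟩
    obtain ⟨𝒰, h𝒰, HU⟩ := H V hV
    refine ⟨𝒰, h𝒰, fun U hU hle => ?_⟩
    obtain ⟨n, φ, hchart, hpc⟩ := HU U hU hle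
    exact ⟨n, φ, hchart, chartPC_right m E K _ _ φ hpc⟩

end Rel

end Groth.Agent.Lib.Helper13.PCohSum
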