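import Mathlib
import Groth.Agent.Lib.Helper13.PCohSum
import Groth.Agent.Lib.Helper3.QCExact
import Groth.Agent.Lib.Helper3.QCProps
import Groth.Agent.Lib.Helper3.QCLocal
import Groth.Agent.Lib.Helper3.QCTilde
import Groth.Agent.Lib.Helper3.LocFreeCrit
import Groth.Agent.Lib.Helper17.FinLocFreeSec
import Groth.Agent.Lib.Helper17.LocConstRank

/-!
# Finiteness of the top cohomology sheaves of pseudo-coherent objects (helper13)
-/

set_option autoImplicit false
set_option backward.isDefEq.respectTransparency false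
universe u

namespace Groth.Agent.Lib.Helper13.PCohFT

open CategoryTheory CategoryTheory.Limits AlgebraicGeometry
open AlgebraicGeometry.Scheme.Modules
open Groth.Agent.Lib.Helper13
open Groth.Agent.Lib.Helper3 Groth.Agent.Lib.Helper17

section LinAlg

lemma fp_proj_of_exact {A : Type*} [CommRing A] {M₁ M₂ M₃ : Type*} [AddCommGroup M₁]
    [AddCommGroup M₂] [AddCommGroup M₃] [Module A M₁] [Module A M₂] [Module A M₃]
    (f : M₁ →ₗ[A] M₂) (g : M₂ →ₗ[A] M₃) (hf : Function.Injective f)
    (hg : Function.Surjective g) (hfg : ∀ y, g y = 0 → ∃ x, f x = y) (hgf : ∀ x, g (f x) = 0)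
    [Module.Finite A M₂] [Module.Projective A M₂] [Module.Projective A M₃] :
    Module.FinitePresentation A M₁ ∧ Module.Projective A M₁ := by
  have hex : Function.Exact f g := by
    intro y
    constructor
    · intro hy
      exact hfg y hy
    · rintro ⟨x, rfl⟩
      exact hgf x
  obtain ⟨s, hs⟩ := Module.projective_lifting_property g LinearMap.id hg
  have h01 := (hex.split_tfae hf hg).out 0 1
  obtain ⟨l, hl⟩ := h01.mp ⟨s, hs⟩
  haveI : Module.Projective A M₁ := Module.Projective.of_split f l hl
  have hsurj : Function.Surjective l :=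
    Function.LeftInverse.surjective (g := f) (fun x => LinearMap.congr_fun hl x)
  haveI : Module.Finite A M₁ := Module.Finite.of_surjective l hsurj
  exact ⟨Module.finitePresentation_of_projective A M₁, inferInstance⟩

end LinAlg

variable {X : Scheme.{u}}

/-- sections over an affine open of an exact sequence of quasi-coherent modules -/
lemma exact_sections_affine (S : ShortComplex X.Modules) (hS : S.Exact)
    [S.X₁.IsQuasicoherent] [S.X₂.IsQuasicoherent] [S.X₃.IsQuasicoherent] {U : X.Opens}
    (hU : IsAffineOpen U) (y : Γ(S.X₂, U)) (hy : S.g.app U y = 0) :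
    ∃ x : Γ(S.X₁, U), S.f.app U x = y := by
  haveI : (kernel S.g : X.Modules).IsQuasicoherent := QCProps.isQuasicoherent_kernel S.g
  haveI : Epi (kernel.lift S.g S.f S.zero) := hS.epi_kernelLift
  let S' : ShortComplex X.Modules := ShortComplex.mk (kernel.ι S.g) S.g (kernel.condition S.g)
  have hS' : S'.Exact := ShortComplex.exact_of_f_is_kernel S' (kernelIsKernel S.g)
  haveI : Mono S'.f := by
    dsimp [S']
    infer_instance
  obtain ⟨k, hk⟩ := QCExact.exact_sections S' hS' U y hy
  obtain ⟨x, hx⟩ := ((QCExact.epi_iff_surjective_on_affines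
    (kernel.lift S.g S.f S.zero)).1 inferInstance U hU) k
  refine ⟨x, ?_⟩
  have h : (kernel.lift S.g S.f S.zero ≫ kernel.ι S.g).app U x = y := by
    show (kernel.ι S.g).app U ((kernel.lift S.g S.f S.zero).app U x) = y
    rw [hx]
    exact hk
  rw [kernel.lift_ι] at h
  exact h

/-- the kernel of an epimorphism of finite locally free modules is finite locally free -/
theorem isFinLocFree_of_shortExact (S : ShortComplex X.Modules) (hS : S.ShortExact)
    (h₂ : FlatMod.IsFinLocFree S.X₂) (h₃ : FlatMod.IsFinLocFree S.X₃) :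
    FlatMod.IsFinLocFree S.X₁ := by
  haveI := LocFreeCrit.isQuasicoherent_of_isFinLocFree h₂
  haveI := LocFreeCrit.isQuasicoherent_of_isFinLocFree h₃
  haveI := hS.mono_f
  haveI := hS.epi_g
  haveI : S.X₁.IsQuasicoherent := by
    have hk : (kernel S.g : X.Modules).IsQuasicoherent := QCProps.isQuasicoherent_kernel S.g
    have e : S.X₁ ≅ kernel S.g :=
      IsLimit.conePointUniqueUpToIso hS.exact.fIsKernel (limit.isLimit (parallelPair S.g 0))
    exact (SheafOfModules.isQuasicoherent X.ringCatSheaf).prop_of_iso e.symm hk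
  apply FinLocFreeSec.isFinLocFree_of_sections
  intro U hU
  obtain ⟨hf2, hp2⟩ := LocFreeCrit.finite_projective_sections h₂ hU
  obtain ⟨hf3, hp3⟩ := LocFreeCrit.finite_projective_sections h₃ hU
  exact fp_proj_of_exact (QCProps.appₗ S.f U) (QCProps.appₗ S.g U)
    (QCExact.injective_sections S.f U) (QCExact.surjective_app_of_isAffineOpen S hS hU)
    (fun y hy => QCExact.exact_sections S hS.exact U y hy)
    (fun x => QCExact.app_f_g_apply S U x)

/-- the cycles of a strictly perfect complex, above the top cohomology, are finite locally free -/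
theorem isFinLocFree_cycles (E : CochainComplex X.Modules ℤ) (hE : DCoh.IsStrictlyPerfect E)
    (m : ℤ) (h : ∀ i : ℤ, m < i → IsZero (E.homology i)) (i : ℤ) (hi : m ≤ i) :
    FlatMod.IsFinLocFree (E.cycles i) := by
  obtain ⟨⟨a, b, hab⟩, hfl⟩ := hE
  have key : ∀ k : ℕ, ∀ i : ℤ, m ≤ i → b < i + k → FlatMod.IsFinLocFree (E.cycles i) := by
    intro k
    induction k with
    | zero =>
      intro i _ hb
      apply PerfLocal.isFinLocFree_of_isZero
      have hz : IsZero (E.X i) := hab i (Or.inr (by simpa using hb))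
      exact IsZero.of_mono (E.iCycles i) hz
    | succ k ih =>
      intro i hi hb
      have h1 : FlatMod.IsFinLocFree (E.cycles (i + 1)) :=
        ih (i + 1) (by omega) (by push_cast at hb ⊢; omega)
      have hz : E.iCycles i ≫ E.toCycles i (i + 1) = 0 := by
        rw [← cancel_mono (E.iCycles (i + 1)), Category.assoc, E.toCycles_i, E.iCycles_d,
          zero_comp]
      let S : ShortComplex X.Modules :=
        ShortComplex.mk (E.iCycles i) (E.toCycles i (i + 1)) hz
      have hker : IsLimit (KernelFork.ofι S.f S.zero) :=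
        isKernelOfComp (E.iCycles (i + 1)) (E.d i (i + 1))
          (E.cyclesIsKernel i (i + 1) (by simp)) hz (E.toCycles_i i (i + 1))
      have hepi : Epi (E.toCycles i (i + 1)) :=
        Preadditive.epi_of_isZero_cokernel' _ (E.homologyIsCokernel i (i + 1) (by simp))
          (h (i + 1) (by omega))
      have hS : S.ShortExact :=
        { exact := ShortComplex.exact_of_f_is_kernel S hker
          mono_f := by dsimp [S]; infer_instance
          epi_g := hepi }
      exact isFinLocFree_of_shortExact S hS (hfl i) h1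
  obtain ⟨k, hk⟩ : ∃ k : ℕ, b < i + k :=
    ⟨(b - i + 1).toNat, by have := Int.self_le_toNat (b - i + 1); omega⟩
  exact key k i hi hk

/-- the top cohomology sheaf of a strictly perfect complex is of finite type -/
theorem isFiniteType_homology (E : CochainComplex X.Modules ℤ) (hE : DCoh.IsStrictlyPerfect E)
    (m : ℤ) (h : ∀ i : ℤ, m < i → IsZero (E.homology i)) :
    SheafOfModules.IsFiniteType (R := X.ringCatSheaf) (E.homology m) := by
  have hZ := isFinLocFree_cycles E hE m h m le_rfl
  haveI := LocFreeCrit.isQuasicoherent_of_isFinLocFree hZ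
  haveI := LocConstRank.isFiniteType_of_isFinLocFree _ hZ
  exact QCProps.isFiniteType_of_epi (E.homologyπ m)

/-- the top cohomology sheaf of a strictly perfect complex is finitely presented -/
theorem isFinitePresentation_homology (E : CochainComplex X.Modules ℤ)
    (hE : DCoh.IsStrictlyPerfect E) (n : ℤ) (h : ∀ i : ℤ, n < i → IsZero (E.homology i)) :
    SheafOfModules.IsFinitePresentation (R := X.ringCatSheaf) (E.homology n) := by
  have hZ := isFinLocFree_cycles E hE n h n le_rfl
  have hX := hE.2 (n - 1)
  haveI qZ := LocFreeCrit.isQuasicoherent_of_isFinLocFree hZ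
  haveI qX := LocFreeCrit.isQuasicoherent_of_isFinLocFree hX
  let S : ShortComplex X.Modules := ShortComplex.mk (E.toCycles (n - 1) n) (E.homologyπ n)
    (E.toCycles_comp_homologyπ (n - 1) n)
  have hcok : IsColimit (CokernelCofork.ofπ S.g S.zero) :=
    E.homologyIsCokernel (n - 1) n (by simp)
  have hS : S.Exact := ShortComplex.exact_of_g_is_cokernel S hcok
  haveI qH : (E.homology n).IsQuasicoherent := by
    have hk := QCProps.isQuasicoherent_cokernel (E.toCycles (n - 1) n)
    have e : cokernel (E.toCycles (n - 1) n) ≅ E.homology n :=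
      IsColimit.coconePointUniqueUpToIso (cokernelIsCokernel _) hcok
    exact (SheafOfModules.isQuasicoherent X.ringCatSheaf).prop_of_iso e hk
  rw [QCProps.isFinitePresentation_iff_finitePresentation_sections]
  intro U hU
  obtain ⟨hfZ, hpZ⟩ := LocFreeCrit.finite_projective_sections hZ hU
  obtain ⟨hfX, hpX⟩ := LocFreeCrit.finite_projective_sections hX hU
  haveI : Module.FinitePresentation Γ(X, U) Γ(E.cycles n, U) :=
    Module.finitePresentation_of_projective _ _
  refine Module.finitePresentation_of_surjective (QCProps.appₗ (E.homologyπ n) U)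
    ((QCExact.epi_iff_surjective_on_affines (E.homologyπ n)).1 inferInstance U hU) ?_
  have hker : LinearMap.ker (QCProps.appₗ (E.homologyπ n) U) =
      LinearMap.range (QCProps.appₗ (E.toCycles (n - 1) n) U) := by
    ext y
    constructor
    · intro hy
      have hy' : (E.homologyπ n).app U y = 0 := hy
      obtain ⟨x, hx⟩ := exact_sections_affine S hS hU y hy'
      exact ⟨x, hx⟩
    · rintro ⟨x, rfl⟩
      show (E.homologyπ n).app U ((E.toCycles (n - 1) n).app U x) = 0
      exact QCExact.app_f_g_apply S U x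
  rw [hker]
  exact Submodule.fg_range _

/-- finite type is local for open immersions -/
theorem isFiniteType_of_openImmersions (M : X.Modules)
    (h : ∀ x : X, ∃ (Y : Scheme.{u}) (j : Y ⟶ X) (_ : IsOpenImmersion j) (y : Y),
      j.base y = x ∧ SheafOfModules.IsFiniteType (R := Y.ringCatSheaf) (M.restrict j)) :
    SheafOfModules.IsFiniteType (R := X.ringCatSheaf) M := by
  apply QCLocal.isFiniteType_of_forall_exists
  intro x
  obtain ⟨Y, j, hj, y, hy, hft⟩ := h x
  obtain ⟨U', hU', hyU', σ, hσ⟩ := QCLocal.exists_affine_generatingSections (M.restrict j) y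
  obtain ⟨c, hc⟩ : ∃ c : (U' : Scheme.{u}) ⟶ X, c = U'.ι ≫ j := ⟨_, rfl⟩
  haveI : IsOpenImmersion c := by
    rw [hc]
    infer_instance
  have hx : x ∈ c.opensRange := by
    subst hc
    exact ⟨⟨y, hyU'⟩, hy⟩
  haveI : (SheafOfModules.GeneratingSections.equivOfIso
      (QCTilde.restrictFacIso j U'.ι c hc.symm M) σ).IsFiniteType :=
    ⟨inferInstanceAs (Finite σ.I)⟩
  exact ⟨c.opensRange, hx, QCTilde.gsRestrict c c.isoOpensRange.inv c.opensRange.ι
    c.isoOpensRange_inv_comp (SheafOfModules.GeneratingSections.equivOfIso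
      (QCTilde.restrictFacIso j U'.ι c hc.symm M) σ), inferInstance⟩

/-- finite presentation is local for open immersions -/
theorem isFinitePresentation_of_openImmersions (M : X.Modules)
    (h : ∀ x : X, ∃ (Y : Scheme.{u}) (j : Y ⟶ X) (_ : IsOpenImmersion j) (y : Y),
      j.base y = x ∧ SheafOfModules.IsFinitePresentation (R := Y.ringCatSheaf) (M.restrict j)) :
    SheafOfModules.IsFinitePresentation (R := X.ringCatSheaf) M := by
  apply QCLocal.isFinitePresentation_of_forall_exists
  intro x
  obtain ⟨Y, j, hj, y, hy, hft⟩ := h x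
  obtain ⟨U', hU', hyU', P, hP⟩ := QCLocal.exists_affine_presentation (M.restrict j) y
  obtain ⟨c, hc⟩ : ∃ c : (U' : Scheme.{u}) ⟶ X, c = U'.ι ≫ j := ⟨_, rfl⟩
  haveI : IsOpenImmersion c := by
    rw [hc]
    infer_instance
  have hx : x ∈ c.opensRange := by
    subst hc
    exact ⟨⟨y, hyU'⟩, hy⟩
  exact ⟨c.opensRange, hx, QCTilde.presRestrict c c.isoOpensRange.inv c.opensRange.ι
    c.isoOpensRange_inv_comp (SheafOfModules.Presentation.ofIsIso.{u, u, u}
      (QCTilde.restrictFacIso j U'.ι c hc.symm M).hom P), inferInstance⟩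

section Main

attribute [local instance] HasDerivedCategory.standard

open Groth.Agent.Lib.Helper13.GoodMap Groth.Agent.Lib.Helper13.PCohTri

/-- restriction to an open commutes with cohomology sheaves -/
noncomputable def resHDIso {Y : Scheme.{u}} (j : Y ⟶ X) [IsOpenImmersion j] (K : DCoh.D X)
    (i : ℤ) : DCoh.HD ((DCoh.restrictD j).obj K) i ≅ (restrictFunctor j).obj (DCoh.HD K i) :=
  (homologyDIso (restrictFunctor j) i).app K

lemma isZero_homology_of_good {Y : Scheme.{u}} (j : Y ⟶ X) [IsOpenImmersion j] (K : DCoh.D X)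
    {m : ℤ} {E : CochainComplex Y.Modules ℤ}
    (α : DerivedCategory.Q.obj E ⟶ (DCoh.restrictD j).obj K) (hα : Good m α) (i : ℤ)
    (hi : m < i) (h : IsZero (DCoh.HD K i)) : IsZero (E.homology i) := by
  haveI := hα.1 i hi
  have h1 : IsZero ((restrictFunctor j).obj (DCoh.HD K i)) := (restrictFunctor j).map_isZero h
  have h2 : IsZero (DCoh.HD ((DCoh.restrictD j).obj K) i) := IsZero.of_iso h1 (resHDIso j K i)
  have h3 : IsZero ((DerivedCategory.homologyFunctor Y.Modules i).obj
      (DerivedCategory.Q.obj E)) :=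
    IsZero.of_iso h2 (asIso ((DerivedCategory.homologyFunctor Y.Modules i).map α))
  exact IsZero.of_iso h3 ((DerivedCategory.homologyFunctorFactors Y.Modules i).app E).symm

/-- finite type of the top cohomology sheaf of an `m`-pseudo-coherent object -/
theorem isFT_top (m : ℤ) (K : DCoh.D X) (hK : DCoh.IsPseudoCoherentD m K)
    (hvan : ∀ i : ℤ, m < i → IsZero (DCoh.HD K i)) : CohB1.IsFT (DCoh.HD K m) := by
  rw [isPC_iff] at hK
  apply isFiniteType_of_openImmersions
  intro x
  obtain ⟨V, hxV, E, α, hE, hα⟩ := hK x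
  refine ⟨V, V.ι, inferInstance, ⟨x, hxV⟩, rfl, ?_⟩
  have hEvan : ∀ i : ℤ, m < i → IsZero (E.homology i) := fun i hi =>
    isZero_homology_of_good V.ι K α hα i hi (hvan i hi)
  haveI := isFiniteType_homology E hE m hEvan
  haveI := hα.2
  obtain ⟨c, hc⟩ : ∃ c : E.homology m ⟶ (restrictFunctor V.ι).obj (DCoh.HD K m),
      c = (DerivedCategory.homologyFunctorFactors _ m).inv.app E ≫
        (DerivedCategory.homologyFunctor _ m).map α ≫ (resHDIso V.ι K m).hom := ⟨_, rfl⟩
  haveI : Epi c := by
    rw [hc]
    infer_instance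
  exact QCProps.isFiniteType_of_epi c

/-- finite presentation of the top cohomology sheaf of an `m`-pseudo-coherent object -/
theorem isFP_top (m : ℤ) (K : DCoh.D X) (hK : DCoh.IsPseudoCoherentD m K)
    (hvan : ∀ i : ℤ, m + 1 < i → IsZero (DCoh.HD K i)) : CohB1.IsFP (DCoh.HD K (m + 1)) := by
  rw [isPC_iff] at hK
  apply isFinitePresentation_of_openImmersions
  intro x
  obtain ⟨V, hxV, E, α, hE, hα⟩ := hK x
  refine ⟨V, V.ι, inferInstance, ⟨x, hxV⟩, rfl, ?_⟩
  have hEvan : ∀ i : ℤ, m + 1 < i → IsZero (E.homology i) := fun i hi =>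
    isZero_homology_of_good V.ι K α hα i (by omega) (hvan i hi)
  have hfp := isFinitePresentation_homology E hE (m + 1) hEvan
  haveI := hα.1 (m + 1) (by omega)
  have c : E.homology (m + 1) ≅ (restrictFunctor V.ι).obj (DCoh.HD K (m + 1)) :=
    ((DerivedCategory.homologyFunctorFactors _ (m + 1)).app E).symm ≪≫
      asIso ((DerivedCategory.homologyFunctor _ (m + 1)).map α) ≪≫ resHDIso V.ι K (m + 1)
  exact (SheafOfModules.isFinitePresentation (V : Scheme.{u}).ringCatSheaf).prop_of_iso c hfp

end Main

end Groth.Agent.Lib.Helper13.PCohFT
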