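import Mathlib
import Groth.Agent.Lib.Helper13.PCohFT
import Groth.Agent.Lib.Helper13.PerfFree

/-!
# Pseudo-coherence of a module placed in degree `0` (helper13)
-/

set_option autoImplicit false
set_option backward.isDefEq.respectTransparency false
universe w v u

namespace Groth.Agent.Lib.Helper13.PCohSingle

open CategoryTheory CategoryTheory.Limits AlgebraicGeometry
open AlgebraicGeometry.Scheme.Modules
open Groth.Agent.Lib.Helper13
open Groth.Agent.Lib.Helper3 Groth.Agent.Lib.Helper17
open Groth.Agent.Lib.Helper13.GoodMap Groth.Agent.Lib.Helper13.PCohTri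
  Groth.Agent.Lib.Helper13.PerfTri Groth.Agent.Lib.Helper13.PCohSum
  Groth.Agent.Lib.Helper13.PCohFT

section Single

variable {A : Type u} [Category.{v} A] [Abelian A] [HasDerivedCategory.{w} A]

lemma good_single_map_of_epi {P F : A} (π : P ⟶ F) [Epi π] :
    Good 0 ((DerivedCategory.singleFunctor A 0).map π) := by
  refine ⟨fun i hi => ?_, ?_⟩
  · exact isIso_of_isZero _
      (DerivedCategory.isZero_of_isLE ((DerivedCategory.singleFunctor A 0).obj P) 0 i hi)
      (DerivedCategory.isZero_of_isLE ((DerivedCategory.singleFunctor A 0).obj F) 0 i hi)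
  · have h : Epi ((𝟭 A).map π) := by
      rw [Functor.id_map]
      infer_instance
    exact (epi_map_iff_of_natIso (DerivedCategory.singleFunctorCompHomologyFunctorIso A 0) π).2 h

end Single

attribute [local instance] HasDerivedCategory.standard

variable {X : Scheme.{u}}

/-- a finite free module (in Mathlib's form) is finite locally free -/
lemma isFinLocFree_free (I : Type u) [Finite I] :
    FlatMod.IsFinLocFree (SheafOfModules.free (R := X.ringCatSheaf) I) := by
  have e : SheafOfModules.free (R := X.ringCatSheaf) I ≅ FlatMod.freeMod X (Nat.card I) :=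
    Sigma.whiskerEquiv (f := fun _ : I => SheafOfModules.unit X.ringCatSheaf)
      (g := fun _ : Fin (Nat.card I) => Coh.structureModule X) (Finite.equivFin I)
      (fun _ => Iso.refl _)
  exact LocFreeOps.isFinLocFree_of_iso e.symm (PerfFree.isFinLocFree_freeMod X _)

lemma isStrictlyPerfect_single (P : X.Modules) (hP : FlatMod.IsFinLocFree P) :
    DCoh.IsStrictlyPerfect ((CochainComplex.singleFunctor X.Modules 0).obj P) := by
  refine ⟨⟨0, 0, fun i hi => ?_⟩, fun i => ?_⟩
  · exact HomologicalComplex.isZero_single_obj_X (ComplexShape.up ℤ) 0 P i (by omega)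
  · by_cases h : i = 0
    · subst h
      exact LocFreeOps.isFinLocFree_of_iso
        (HomologicalComplex.singleObjXSelf (ComplexShape.up ℤ) 0 P).symm hP
    · exact PerfLocal.isFinLocFree_of_isZero
        (HomologicalComplex.isZero_single_obj_X (ComplexShape.up ℤ) 0 P i h)

/-- a global presentation gives local ones -/
lemma LPC.of_global {Y : Scheme.{u}} (j : Y ⟶ X) [IsOpenImmersion j] {m : ℤ} {K : DCoh.D X}
    (E : CochainComplex X.Modules ℤ) (α : DerivedCategory.Q.obj E ⟶ K)
    (hE : DCoh.IsStrictlyPerfect E) (hα : Good m α) : LPC m K j :=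
  ⟨(resCx j).obj E, ((restrictFunctor j).mapDerivedCategoryFactors.app E).inv ≫
      (DCoh.restrictD j).map α, PerfLocal.isStrictlyPerfect_restrict j E hE,
    Good.iso_comp _ (good_map (restrictFunctor j) hα)⟩

lemma isPC_of_global {m : ℤ} {K : DCoh.D X} (E : CochainComplex X.Modules ℤ)
    (α : DerivedCategory.Q.obj E ⟶ K) (hE : DCoh.IsStrictlyPerfect E) (hα : Good m α) :
    DCoh.IsPseudoCoherentD m K :=
  (isPC_iff m K).2 (fun _ => ⟨⊤, trivial, LPC.of_global _ E α hE hα⟩)

/-- pseudo-coherence is local -/
lemma isPC_of_locally {m : ℤ} (K : DCoh.D X)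
    (h : ∀ x : X, ∃ U : X.Opens, x ∈ U ∧
      DCoh.IsPseudoCoherentD m ((DCoh.restrictD U.ι).obj K)) :
    DCoh.IsPseudoCoherentD m K := by
  apply isPC_of_LPC
  intro x
  obtain ⟨U, hxU, hU⟩ := h x
  obtain ⟨W, hxW, E, α, hE, hα⟩ := (isPC_iff _ _).1 hU ⟨x, hxU⟩
  obtain ⟨c⟩ := nonempty_resD_comp W.ι U.ι (W.ι ≫ U.ι) rfl K
  exact ⟨W, W.ι ≫ U.ι, inferInstance, ⟨⟨x, hxU⟩, hxW⟩, rfl, E, α ≫ c.hom, hE, hα.comp_iso _⟩

/-- restriction commutes with placing a module in degree `0` -/
noncomputable def restrictInDIso {Y : Scheme.{u}} (j : Y ⟶ X) [IsOpenImmersion j]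
    (F : X.Modules) :
    (DCoh.restrictD j).obj (DCoh.inD X F) ≅ DCoh.inD Y ((restrictFunctor j).obj F) :=
  ((restrictFunctor j).mapDerivedCategorySingleFunctor 0).app F

lemma isPC_inD_of_epi {P G : X.Modules} (hP : FlatMod.IsFinLocFree P) (π : P ⟶ G) [Epi π] :
    DCoh.IsPseudoCoherentD 0 (DCoh.inD X G) :=
  isPC_of_global ((CochainComplex.singleFunctor X.Modules 0).obj P)
    (((DerivedCategory.singleFunctorIsoCompQ X.Modules 0).app P).inv ≫
      (DerivedCategory.singleFunctor X.Modules 0).map π)
    (isStrictlyPerfect_single P hP) (Good.iso_comp _ (good_single_map_of_epi π))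

lemma isPC_inD_of_isFinLocFree {P : X.Modules} (hP : FlatMod.IsFinLocFree P) (m : ℤ) :
    DCoh.IsPseudoCoherentD m (DCoh.inD X P) :=
  isPC_of_global ((CochainComplex.singleFunctor X.Modules 0).obj P)
    ((DerivedCategory.singleFunctorIsoCompQ X.Modules 0).app P).inv
    (isStrictlyPerfect_single P hP) (good_of_isIso _ m)

lemma isPC_inD_of_presentation (G : X.Modules) (P : G.Presentation) [P.IsFinite] :
    DCoh.IsPseudoCoherentD (-1) (DCoh.inD X G) := by
  haveI : Epi P.generators.π := P.generators.epi
  haveI : Epi P.relations.π := P.relations.epi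
  let S : ShortComplex X.Modules :=
    ShortComplex.mk (kernel.ι P.generators.π) P.generators.π (kernel.condition _)
  have hS : S.ShortExact :=
    { exact := ShortComplex.exact_of_f_is_kernel S (kernelIsKernel _)
      mono_f := by dsimp [S]; infer_instance
      epi_g := by dsimp [S]; infer_instance }
  have h₁ : DCoh.IsPseudoCoherentD (-1 + 1) (DCoh.inD X (kernel P.generators.π)) := by
    have := isPC_inD_of_epi (isFinLocFree_free (X := X) P.relations.I) P.relations.π
    simpa using this
  have h₂ : DCoh.IsPseudoCoherentD (-1)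
      (DCoh.inD X (SheafOfModules.free (R := X.ringCatSheaf) P.generators.I)) :=
    isPC_inD_of_isFinLocFree (isFinLocFree_free P.generators.I) (-1)
  exact (isPC_two_of_three (-1) hS.singleTriangle hS.singleTriangle_distinguished).1 h₁ h₂

theorem isPC_zero_inD_iff (F : X.Modules) :
    DCoh.IsPseudoCoherentD 0 (DCoh.inD X F) ↔ CohB1.IsFT F := by
  constructor
  · intro h
    haveI : SheafOfModules.IsFiniteType (R := X.ringCatSheaf)
        ((DerivedCategory.singleFunctor X.Modules 0 ⋙
          DerivedCategory.homologyFunctor X.Modules 0).obj F) :=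
      isFT_top 0 (DCoh.inD X F) h (fun i hi =>
        DerivedCategory.isZero_of_isLE ((DerivedCategory.singleFunctor X.Modules 0).obj F) 0 i hi)
    exact QCProps.isFiniteType_of_iso
      ((DerivedCategory.singleFunctorCompHomologyFunctorIso X.Modules 0).app F)
  · intro h
    haveI : SheafOfModules.IsFiniteType (R := X.ringCatSheaf) F := h
    apply isPC_of_locally
    intro x
    obtain ⟨U, hU, hxU, σ, hσ⟩ := QCLocal.exists_affine_generatingSections F x
    haveI := hσ
    haveI : Epi σ.π := σ.epi
    exact ⟨U, hxU, isPC_of_iso (restrictInDIso U.ι F).symm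
      (isPC_inD_of_epi (isFinLocFree_free σ.I) σ.π)⟩

theorem isPC_negOne_inD_iff (F : X.Modules) :
    DCoh.IsPseudoCoherentD (-1) (DCoh.inD X F) ↔ CohB1.IsFP F := by
  constructor
  · intro h
    have h1 : CohB1.IsFP (DCoh.HD (DCoh.inD X F) (-1 + 1)) :=
      isFP_top (-1) (DCoh.inD X F) h (fun i hi =>
        DerivedCategory.isZero_of_isLE ((DerivedCategory.singleFunctor X.Modules 0).obj F) 0 i
          (by omega))
    have h2 : CohB1.IsFP (DCoh.HD (DCoh.inD X F) 0) := by simpa using h1
    exact (SheafOfModules.isFinitePresentation X.ringCatSheaf).prop_of_iso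
      ((DerivedCategory.singleFunctorCompHomologyFunctorIso X.Modules 0).app F) h2
  · intro h
    haveI : SheafOfModules.IsFinitePresentation (R := X.ringCatSheaf) F := h
    apply isPC_of_locally
    intro x
    obtain ⟨U, hU, hxU, P, hP⟩ := QCLocal.exists_affine_presentation F x
    haveI := hP
    exact ⟨U, hxU, isPC_of_iso (restrictInDIso U.ι F).symm (isPC_inD_of_presentation _ P)⟩

end Groth.Agent.Lib.Helper13.PCohSingle
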