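import Mathlib
import Groth.Agent.Lib.Helper13.PCohSingle
import Groth.Agent.Lib.Helper13.QCohLoc
import Groth.Agent.Lib.Helper3.QCOpen

/-!
# Pseudo-coherence on Noetherian schemes in terms of coherent cohomology (helper13)
-/

set_option autoImplicit false
set_option backward.isDefEq.respectTransparency false
universe u

namespace Groth.Agent.Lib.Helper13.PCohNoeth

open CategoryTheory CategoryTheory.Limits AlgebraicGeometry
open AlgebraicGeometry.Scheme.Modules
open Groth.Agent.Lib.Helper13
open Groth.Agent.Lib.Helper3 Groth.Agent.Lib.Helper17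
open Groth.Agent.Lib.Helper13.GoodMap Groth.Agent.Lib.Helper13.PCohTri
  Groth.Agent.Lib.Helper13.PerfTri Groth.Agent.Lib.Helper13.PCohSum
  Groth.Agent.Lib.Helper13.PCohFT Groth.Agent.Lib.Helper13.PCohSingle
open CategoryTheory.Pretriangulated ZeroObject

attribute [local instance] HasDerivedCategory.standard

variable {X : Scheme.{u}}

lemma isZero_of_locally (M : X.Modules)
    (h : ∀ x : X, ∃ V : X.Opens, x ∈ V ∧ IsZero ((restrictFunctor V.ι).obj M)) : IsZero M := by
  apply QS.isZero_of_subsingleton_stalk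
  intro x
  obtain ⟨V, hxV, hV⟩ := h x
  by_contra hx
  exact ((QCohLoc.isZero_restrict_iff V M).1 hV hx) hxV

lemma isCoh_of_isZero {M : X.Modules} (h : IsZero M) : Coh.IsCoh M :=
  ⟨QCOpen.isQuasicoherent_of_isZero h, QCOpen.isFiniteType_of_isZero h⟩

lemma isCoh_of_iso {M N : X.Modules} (e : M ≅ N) (h : Coh.IsCoh M) : Coh.IsCoh N := by
  obtain ⟨hq, hf⟩ := h
  haveI : SheafOfModules.IsFiniteType (R := X.ringCatSheaf) M := hf
  exact ⟨(SheafOfModules.isQuasicoherent X.ringCatSheaf).prop_of_iso e hq,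
    QCProps.isFiniteType_of_iso e⟩

lemma isPC_shift {m : ℤ} {K : DCoh.D X} (hK : DCoh.IsPseudoCoherentD m K) (n m' : ℤ)
    (h : n + m' = m) : DCoh.IsPseudoCoherentD m' (K⟦n⟧) := by
  rw [isPC_iff] at hK ⊢
  intro x
  obtain ⟨V, hxV, hV⟩ := hK x
  exact ⟨V, hxV, hV.shift n m' h⟩

lemma isPC_mono {m m' : ℤ} {K : DCoh.D X} (hK : DCoh.IsPseudoCoherentD m K) (h : m ≤ m') :
    DCoh.IsPseudoCoherentD m' K := by
  rw [isPC_iff] at hK ⊢
  intro x
  obtain ⟨V, hxV, hV⟩ := hK x
  exact ⟨V, hxV, hV.mono h⟩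

/-- objects without cohomology in degrees `≥ m` are `m`-pseudo-coherent -/
lemma isPC_of_isZero_homology (m : ℤ) (K : DCoh.D X)
    (h : ∀ i : ℤ, m ≤ i → IsZero (DCoh.HD K i)) : DCoh.IsPseudoCoherentD m K := by
  have hz : ∀ i : ℤ, IsZero ((DerivedCategory.homologyFunctor X.Modules i).obj
      (DerivedCategory.Q.obj (0 : CochainComplex X.Modules ℤ))) := fun i =>
    (DerivedCategory.homologyFunctor X.Modules i).map_isZero
      (DerivedCategory.Q.map_isZero (isZero_zero _))
  have hiso : ∀ i : ℤ, m ≤ i → IsIso ((DerivedCategory.homologyFunctor X.Modules i).map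
      (0 : DerivedCategory.Q.obj (0 : CochainComplex X.Modules ℤ) ⟶ K)) :=
    fun i hi => isIso_of_isZero _ (hz i) (h i hi)
  refine isPC_of_global 0 0 PerfLocal.isStrictlyPerfect_zero ⟨fun i hi => hiso i hi.le, ?_⟩
  haveI := hiso m le_rfl
  infer_instance

/-- coherent modules on locally Noetherian schemes are pseudo-coherent -/
theorem isPC_inD_of_isCoh_aux : ∀ (k : ℕ) (X : Scheme.{u}) [IsLocallyNoetherian X]
    (F : X.Modules), Coh.IsCoh F → DCoh.IsPseudoCoherentD (-(k : ℤ)) (DCoh.inD X F) := by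
  intro k
  induction k with
  | zero =>
    intro X _ F hF
    have := (isPC_zero_inD_iff F).2 hF.2
    simpa using this
  | succ k ih =>
    intro X _ F hF
    obtain ⟨hq, hft⟩ := hF
    haveI : SheafOfModules.IsFiniteType (R := X.ringCatSheaf) F := hft
    apply isPC_of_locally
    intro x
    obtain ⟨U, hU, hxU, σ, hσ⟩ := QCLocal.exists_affine_generatingSections F x
    haveI : Epi σ.π := σ.epi
    haveI := hσ
    have hfree : FlatMod.IsFinLocFree
        (SheafOfModules.free (R := (U : Scheme.{u}).ringCatSheaf) σ.I) := isFinLocFree_free σ.I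
    haveI qfree := LocFreeCrit.isQuasicoherent_of_isFinLocFree hfree
    haveI ffree := LocConstRank.isFiniteType_of_isFinLocFree _ hfree
    haveI qFU : ((restrictFunctor U.ι).obj F).IsQuasicoherent :=
      Scheme.Modules.isQuasicoherent_restrictFunctor U.ι F
    haveI qN : (kernel σ.π : (U : Scheme.{u}).Modules).IsQuasicoherent :=
      QCProps.isQuasicoherent_kernel σ.π
    haveI fN : SheafOfModules.IsFiniteType (R := (U : Scheme.{u}).ringCatSheaf) (kernel σ.π) :=
      QCProps.isFiniteType_of_mono (kernel.ι σ.π)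
    have hN := ih (U : Scheme.{u}) (kernel σ.π) ⟨qN, fN⟩
    let S : ShortComplex (U : Scheme.{u}).Modules :=
      ShortComplex.mk (kernel.ι σ.π) σ.π (kernel.condition _)
    have hS : S.ShortExact :=
      { exact := ShortComplex.exact_of_f_is_kernel S (kernelIsKernel _)
        mono_f := by dsimp [S]; infer_instance
        epi_g := by dsimp [S]; infer_instance }
    have e : -((k + 1 : ℕ) : ℤ) + 1 = -(k : ℤ) := by push_cast; ring
    have h₁ : DCoh.IsPseudoCoherentD (-((k + 1 : ℕ) : ℤ) + 1)
        (DCoh.inD (U : Scheme.{u}) (kernel σ.π)) := by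
      rw [e]
      exact hN
    have h₂ := isPC_inD_of_isFinLocFree hfree (-((k + 1 : ℕ) : ℤ))
    have h₃ := (isPC_two_of_three (-((k + 1 : ℕ) : ℤ)) hS.singleTriangle
      hS.singleTriangle_distinguished).1 h₁ h₂
    exact ⟨U, hxU, isPC_of_iso (restrictInDIso U.ι F).symm h₃⟩

theorem isPC_inD_of_isCoh [IsLocallyNoetherian X] (F : X.Modules) (hF : Coh.IsCoh F) (n : ℤ) :
    DCoh.IsPseudoCoherentD n (DCoh.inD X F) := by
  have h := isPC_inD_of_isCoh_aux (-n).toNat X F hF
  have := Int.self_le_toNat (-n)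
  exact isPC_mono h (by omega)

theorem isPC_single_of_isCoh [IsLocallyNoetherian X] (F : X.Modules) (hF : Coh.IsCoh F)
    (b n : ℤ) :
    DCoh.IsPseudoCoherentD n ((DerivedCategory.singleFunctor X.Modules b).obj F) :=
  isPC_of_iso (((DerivedCategory.singleFunctors X.Modules).shiftIso (-b) b 0 (by omega)).app F)
    (isPC_shift (isPC_inD_of_isCoh F hF (-b + n)) (-b) n rfl)

/-- bounded above with coherent cohomology in degrees `≥ m` implies `m`-pseudo-coherent -/
theorem isPC_of_coherent_homology [IsLocallyNoetherian X] (m : ℤ) :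
    ∀ (k : ℕ) (E : DCoh.D X) (b : ℤ), E.IsLE b → b < m + k →
      (∀ i : ℤ, m ≤ i → Coh.IsCoh (DCoh.HD E i)) → DCoh.IsPseudoCoherentD m E := by
  intro k
  induction k with
  | zero =>
    intro E b hb hbm _
    exact isPC_of_isZero_homology m E (fun i hi =>
      DerivedCategory.isZero_of_isLE E b i (by simp at hbm; omega))
  | succ k ih =>
    intro E b hb hbm hcoh
    by_cases hbm' : b < m
    · exact isPC_of_isZero_homology m E (fun i hi =>
        DerivedCategory.isZero_of_isLE E b i (by omega))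
    obtain ⟨X', Y, hX', hY, f, g, h, hT⟩ :=
      DerivedCategory.TStructure.t.exists_triangle E (b - 1) b (by omega)
    haveI : X'.IsLE (b - 1) := ⟨hX'⟩
    haveI : Y.IsGE b := ⟨hY⟩
    have zX' : ∀ i : ℤ, b - 1 < i → IsZero ((DerivedCategory.homologyFunctor _ i).obj X') :=
      fun i hi => DerivedCategory.isZero_of_isLE X' (b - 1) i hi
    have zY : ∀ i : ℤ, i < b → IsZero ((DerivedCategory.homologyFunctor _ i).obj Y) :=
      fun i hi => DerivedCategory.isZero_of_isGE Y b i hi
    have zE : ∀ i : ℤ, b < i → IsZero ((DerivedCategory.homologyFunctor _ i).obj E) :=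
      fun i hi => DerivedCategory.isZero_of_isLE E b i hi
    haveI : Y.IsLE b := by
      rw [DerivedCategory.isLE_iff]
      intro i hi
      exact (DerivedCategory.HomologySequence.exact₃ _ hT i (i + 1) rfl).isZero_of_both_zeros
        ((zE i hi).eq_of_src _ _) ((zX' (i + 1) (by omega)).eq_of_tgt _ _)
    obtain ⟨A, ⟨eY⟩⟩ := DerivedCategory.exists_iso_singleFunctor_obj_of_isGE_of_isLE Y b
    -- `H^b(E) ≅ H^b(Y) ≅ A`
    haveI : Mono ((DerivedCategory.homologyFunctor X.Modules b).map g) :=
      (DerivedCategory.HomologySequence.mono_homologyMap_mor₂_iff _ hT b).2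
        ((zX' b (by omega)).eq_of_src _ _)
    haveI : Epi ((DerivedCategory.homologyFunctor X.Modules b).map g) :=
      (DerivedCategory.HomologySequence.epi_homologyMap_mor₂_iff _ hT b (b + 1) rfl).2
        ((zX' (b + 1) (by omega)).eq_of_tgt _ _)
    haveI : IsIso ((DerivedCategory.homologyFunctor X.Modules b).map g) :=
      isIso_of_mono_of_epi _
    have eA : DCoh.HD E b ≅ A :=
      asIso ((DerivedCategory.homologyFunctor X.Modules b).map g) ≪≫
        (DerivedCategory.homologyFunctor X.Modules b).mapIso eY ≪≫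
        (DerivedCategory.singleFunctorCompHomologyFunctorIso X.Modules b).app A
    have hA : Coh.IsCoh A := isCoh_of_iso eA (hcoh b (by omega))
    have hYpc : DCoh.IsPseudoCoherentD m Y :=
      isPC_of_iso eY.symm (isPC_single_of_isCoh A hA b m)
    have hX'pc : DCoh.IsPseudoCoherentD m X' := by
      refine ih X' (b - 1) inferInstance (by push_cast at hbm ⊢; omega) (fun i hi => ?_)
      by_cases hib : i < b
      · haveI : Mono ((DerivedCategory.homologyFunctor X.Modules i).map f) :=
          (DerivedCategory.HomologySequence.mono_homologyMap_mor₁_iff _ hT (i - 1) i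
            (by omega)).2 ((zY (i - 1) (by omega)).eq_of_src _ _)
        haveI : Epi ((DerivedCategory.homologyFunctor X.Modules i).map f) :=
          (DerivedCategory.HomologySequence.epi_homologyMap_mor₁_iff _ hT i).2
            ((zY i hib).eq_of_tgt _ _)
        haveI : IsIso ((DerivedCategory.homologyFunctor X.Modules i).map f) :=
          isIso_of_mono_of_epi _
        exact isCoh_of_iso (asIso ((DerivedCategory.homologyFunctor X.Modules i).map f)).symm
          (hcoh i hi)
      · exact isCoh_of_isZero (zX' i (by omega))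
    exact (isPC_two_of_three m _ hT).2.1 hX'pc hYpc

/-- cohomology of a strictly perfect complex on a locally Noetherian scheme is of finite type -/
lemma isFiniteType_homology_noeth [IsLocallyNoetherian X] (P : CochainComplex X.Modules ℤ)
    (hP : DCoh.IsStrictlyPerfect P) (i : ℤ) :
    SheafOfModules.IsFiniteType (R := X.ringCatSheaf) (P.homology i) := by
  have hi := hP.2 i
  have hi1 := hP.2 (i + 1)
  haveI q0 := LocFreeCrit.isQuasicoherent_of_isFinLocFree hi
  haveI q1 := LocFreeCrit.isQuasicoherent_of_isFinLocFree hi1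
  haveI f0 := LocConstRank.isFiniteType_of_isFinLocFree _ hi
  haveI qZ : (P.cycles i).IsQuasicoherent := by
    have hk := QCProps.isQuasicoherent_kernel (P.d i (i + 1))
    have e : P.cycles i ≅ kernel (P.d i (i + 1)) :=
      IsLimit.conePointUniqueUpToIso (P.cyclesIsKernel i (i + 1) (by simp))
        (limit.isLimit (parallelPair (P.d i (i + 1)) 0))
    exact (SheafOfModules.isQuasicoherent X.ringCatSheaf).prop_of_iso e.symm hk
  haveI fZ : SheafOfModules.IsFiniteType (R := X.ringCatSheaf) (P.cycles i) :=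
    QCProps.isFiniteType_of_mono (P.iCycles i)
  exact QCProps.isFiniteType_of_epi (P.homologyπ i)

theorem isCoh_homology_of_isPC [IsLocallyNoetherian X] (m : ℤ) (E : DCoh.D X)
    (hq : DCoh.IsQCohD E) (hE : DCoh.IsPseudoCoherentD m E) (i : ℤ) (hi : m ≤ i) :
    Coh.IsCoh (DCoh.HD E i) := by
  refine ⟨hq i, ?_⟩
  rw [isPC_iff] at hE
  apply isFiniteType_of_openImmersions
  intro x
  obtain ⟨V, hxV, P, α, hP, hα⟩ := hE x
  refine ⟨V, V.ι, inferInstance, ⟨x, hxV⟩, rfl, ?_⟩
  haveI := isFiniteType_homology_noeth P hP i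
  haveI := hα.epi i hi
  obtain ⟨c, hc⟩ : ∃ c : P.homology i ⟶ (restrictFunctor V.ι).obj (DCoh.HD E i),
      c = (DerivedCategory.homologyFunctorFactors _ i).inv.app P ≫
        (DerivedCategory.homologyFunctor _ i).map α ≫ (resHDIso V.ι E i).hom := ⟨_, rfl⟩
  haveI : Epi c := by
    rw [hc]
    infer_instance
  exact QCProps.isFiniteType_of_epi c

theorem exists_isLE_of_isPC [CompactSpace X] (m : ℤ) (E : DCoh.D X)
    (hE : DCoh.IsPseudoCoherentD m E) : ∃ b : ℤ, E.IsLE b := by
  rw [isPC_iff] at hE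
  choose V hxV hV using hE
  have hb : ∀ x : X, ∃ b : ℤ, ∀ i : ℤ, b < i →
      IsZero ((restrictFunctor (V x).ι).obj (DCoh.HD E i)) := by
    intro x
    obtain ⟨P, α, ⟨⟨a, b, hab⟩, -⟩, hα⟩ := hV x
    refine ⟨max b m, fun i hi => ?_⟩
    have h1 := le_max_left b m
    have h2 := le_max_right b m
    exact IsZero.of_iso (isZero_homology_of_good α hα i (by omega) (hab i (Or.inr (by omega))))
      (resHDIso (V x).ι E i).symm
  choose b hb using hb
  obtain ⟨t, ht⟩ := isCompact_univ.elim_finite_subcover (fun x => ((V x : X.Opens) : Set X))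
    (fun x => (V x).isOpen) (fun x _ => Set.mem_iUnion.2 ⟨x, hxV x⟩)
  obtain ⟨B, hB⟩ := (t.image b).exists_le
  refine ⟨B, ?_⟩
  rw [DerivedCategory.isLE_iff]
  intro i hi
  apply isZero_of_locally
  intro y
  obtain ⟨x, hxt, hyx⟩ : ∃ x ∈ t, y ∈ (V x : Set X) := by
    have := ht (Set.mem_univ y)
    simpa using this
  exact ⟨V x, hyx, hb x i (lt_of_le_of_lt (hB (b x) (Finset.mem_image_of_mem b hxt)) hi)⟩

theorem isPC_iff_coherent (X : Scheme.{u}) [IsNoetherian X] (E : DCoh.D X)
    (hE : DCoh.IsQCohD E) (m : ℤ) :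
    DCoh.IsPseudoCoherentD m E ↔
      (∀ i : ℤ, m ≤ i → Coh.IsCoh (DCoh.HD E i)) ∧ ∃ b : ℤ, E.IsLE b := by
  constructor
  · intro h
    exact ⟨fun i hi => isCoh_homology_of_isPC m E hE h i hi, exists_isLE_of_isPC m E h⟩
  · rintro ⟨hcoh, b, hb⟩
    have := Int.self_le_toNat (b - m + 1)
    exact isPC_of_coherent_homology m (b - m + 1).toNat E b hb (by omega) hcoh

end Groth.Agent.Lib.Helper13.PCohNoeth
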