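import Mathlib
import Groth.Agent.Lib.Helper13.PerfTri
import Groth.Agent.Lib.Helper3.QCProps
import Groth.Agent.Lib.Helper3.QCOpen
import Groth.Agent.Lib.Helper3.LocFreeCrit

/-!
# Cohomology sheaves of pseudo-coherent objects are quasi-coherent above the bound (helper13)
-/

set_option autoImplicit false
set_option backward.isDefEq.respectTransparency false
universe u

attribute [local instance] HasDerivedCategory.standard

namespace Groth.Agent.Lib.Helper13.PCohQC

open CategoryTheory CategoryTheory.Limits AlgebraicGeometry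
open AlgebraicGeometry.Scheme.Modules
open Groth.Agent.Lib.Helper13 Groth.Agent.Lib.Helper3

/-- the homology of a complex of quasi-coherent modules is quasi-coherent -/
lemma isQuasicoherent_homology {Y : Scheme.{u}} (P : CochainComplex Y.Modules ℤ)
    (hP : ∀ i, (P.X i).IsQuasicoherent) (n : ℤ) : (P.homology n).IsQuasicoherent := by
  haveI : ((P.sc n).X₂).IsQuasicoherent := hP n
  haveI : ((P.sc n).X₃).IsQuasicoherent := hP _
  haveI : ((P.sc n).X₁).IsQuasicoherent := hP _
  haveI hk : (kernel (P.sc n).g).IsQuasicoherent := QCProps.isQuasicoherent_kernel _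
  have hc : (cokernel (kernel.lift (P.sc n).g (P.sc n).f (P.sc n).zero)).IsQuasicoherent :=
    QCProps.isQuasicoherent_cokernel _
  exact (SheafOfModules.isQuasicoherent Y.ringCatSheaf).prop_of_iso
    (P.sc n).homologyIsoCokernelLift.symm hc

theorem qcoh_of_pseudoCoherent {X : Scheme.{u}} (m : ℤ) (E : DCoh.D X)
    (hE : DCoh.IsPseudoCoherentD m E) :
    (∀ i : ℤ, m < i → Coh.IsQCoh (DCoh.HD E i)) ∧
      ∀ x : X, ∃ (V : X.Opens) (Q : (V : Scheme.{u}).Modules)
        (π : Q ⟶ (restrictFunctor V.ι).obj (DCoh.HD E m)), x ∈ V ∧ Coh.IsQCoh Q ∧ Epi π := by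
  obtain ⟨F₀, ⟨i₀⟩⟩ : ∃ F₀ : CochainComplex X.Modules ℤ, Nonempty (DerivedCategory.Q.obj F₀ ≅ E) :=
    ⟨_, ⟨DerivedCategory.Q.objObjPreimageIso E⟩⟩
  have key : ∀ x : X, ∃ (V : X.Opens) (P : CochainComplex (V : Scheme.{u}).Modules ℤ)
      (α : DerivedCategory.Q.obj P ⟶ DerivedCategory.Q.obj ((DCoh.restrictCx V).obj F₀)),
      x ∈ V ∧ DCoh.IsStrictlyPerfect P ∧
      (∀ i : ℤ, m < i → IsIso ((DerivedCategory.homologyFunctor _ i).map α)) ∧
      Epi ((DerivedCategory.homologyFunctor _ m).map α) := by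
    intro x
    obtain ⟨V, hxV, hV⟩ := hE x
    obtain ⟨P, α, hP, h1, h2⟩ := hV F₀ ⟨i₀⟩
    exact ⟨V, P, α, hxV, hP, h1, h2⟩
  have c : ∀ (V : X.Opens) (n : ℤ), Nonempty ((DerivedCategory.homologyFunctor _ n).obj
      (DerivedCategory.Q.obj ((DCoh.restrictCx V).obj F₀)) ≅
      (restrictFunctor V.ι).obj (DCoh.HD E n)) := fun V n =>
    ⟨(DerivedCategory.homologyFunctorFactors _ n).app _ ≪≫
      SuppOpen.homologyMapIso (restrictFunctor V.ι) F₀ n ≪≫
      (restrictFunctor V.ι).mapIso (((DerivedCategory.homologyFunctorFactors _ n).app F₀).symm ≪≫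
        (DerivedCategory.homologyFunctor _ n).mapIso i₀)⟩
  have d : ∀ (V : X.Opens) (P : CochainComplex (V : Scheme.{u}).Modules ℤ) (n : ℤ),
      Nonempty ((DerivedCategory.homologyFunctor _ n).obj (DerivedCategory.Q.obj P) ≅
        P.homology n) := fun V P n => ⟨(DerivedCategory.homologyFunctorFactors _ n).app P⟩
  have hq : ∀ (V : X.Opens) (P : CochainComplex (V : Scheme.{u}).Modules ℤ),
      DCoh.IsStrictlyPerfect P → ∀ n, (P.homology n).IsQuasicoherent := fun V P hP n =>
    isQuasicoherent_homology P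
      (fun k => LocFreeCrit.isQuasicoherent_of_isFinLocFree (hP.2 k)) n
  constructor
  · intro i hi
    apply QCOpen.isQuasicoherent_of_open_cover
    intro x
    obtain ⟨V, P, α, hxV, hP, h1, h2⟩ := key x
    refine ⟨V, hxV, ?_⟩
    haveI := h1 i hi
    obtain ⟨cV⟩ := c V i
    obtain ⟨dV⟩ := d V P i
    have e : P.homology i ≅ (restrictFunctor V.ι).obj (DCoh.HD E i) :=
      dV.symm ≪≫ asIso ((DerivedCategory.homologyFunctor _ i).map α) ≪≫ cV
    exact (SheafOfModules.isQuasicoherent (V : Scheme.{u}).ringCatSheaf).prop_of_iso e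
      (hq V P hP i)
  · intro x
    obtain ⟨V, P, α, hxV, hP, h1, h2⟩ := key x
    haveI := h2
    obtain ⟨cV⟩ := c V m
    obtain ⟨dV⟩ := d V P m
    exact ⟨V, P.homology m, dV.inv ≫ (DerivedCategory.homologyFunctor _ m).map α ≫ cV.hom,
      hxV, hq V P hP m, inferInstance⟩

end Groth.Agent.Lib.Helper13.PCohQC
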