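import Mathlib
import Groth.Agent.Lib.Helper13.PCohQC
import Groth.Agent.Lib.Helper13.SuppOpen
import Groth.Agent.Lib.Helper3.QCExact
import Groth.Agent.Lib.Helper3.QCSec
import Groth.Agent.Lib.Helper3.AssPoints
import Groth.Prelude.Def_DerSch2

/-!
# Direct image along a closed immersion: exactness, reflection of quasi-coherence and of zero;
consequences for relative pseudo-coherence (helper13)
-/

set_option autoImplicit false
set_option backward.isDefEq.respectTransparency false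
universe u

attribute [local instance] HasDerivedCategory.standard

namespace Groth.Agent.Lib.Helper13.ClImmPush

open CategoryTheory CategoryTheory.Limits AlgebraicGeometry TopologicalSpace
open AlgebraicGeometry.Scheme.Modules
open Groth.Agent.Lib.Helper13 Groth.Agent.Lib.Helper3

section Epi

variable {Z Y : Scheme.{u}}

lemma subsingleton_sections_of_eq_bot (N : Z.Modules) (A : Z.Opens) (hA : A = ⊥) :
    Subsingleton Γ(N, A) := by
  subst hA
  exact Module.subsingleton Γ(Z, (⊥ : Z.Opens)) Γ(N, (⊥ : Z.Opens))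

/-- direct image along a closed immersion preserves epimorphisms -/
theorem epi_pushforward_map (i : Z ⟶ Y) [IsClosedImmersion i] {M N : Z.Modules} (φ : M ⟶ N)
    [Epi φ] : Epi ((pushforward i).map φ) := by
  apply QCExact.epi_of_locally_surjective
  intro W s y hy
  by_cases hyr : y ∈ Set.range i.base
  · obtain ⟨z, rfl⟩ := hyr
    have hz : z ∈ i ⁻¹ᵁ W := hy
    obtain ⟨A, hA, hzA, t, ht⟩ := QCExact.exists_local_lift φ (i ⁻¹ᵁ W) s z hz
    obtain ⟨W₀, hW₀o, hW₀⟩ := i.isClosedEmbedding.isEmbedding.isInducing.isOpen_iff.mp A.2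
    have hle : i ⁻¹ᵁ ((⟨W₀, hW₀o⟩ : Y.Opens) ⊓ W) ≤ A := by
      intro a ha
      have h0 : i.base a ∈ (((⟨W₀, hW₀o⟩ : Y.Opens) ⊓ W : Y.Opens) : Set Y) := ha
      rw [TopologicalSpace.Opens.coe_inf] at h0
      have h1 : a ∈ i.base ⁻¹' W₀ := h0.1
      rw [hW₀] at h1
      exact h1
    have hzW₀ : i.base z ∈ W₀ := by
      have h1 : z ∈ i.base ⁻¹' W₀ := by rw [hW₀]; exact hzA
      exact h1
    have hmem : i.base z ∈ (⟨W₀, hW₀o⟩ : Y.Opens) ⊓ W := by
      show i.base z ∈ (((⟨W₀, hW₀o⟩ : Y.Opens) ⊓ W : Y.Opens) : Set Y)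
      rw [TopologicalSpace.Opens.coe_inf]
      exact ⟨hzW₀, hy⟩
    refine ⟨(⟨W₀, hW₀o⟩ : Y.Opens) ⊓ W, inf_le_right, hmem,
      M.presheaf.map (homOfLE hle).op t, ?_⟩
    refine (ModBasic.app_res φ hle t).trans ?_
    rw [ht]
    exact ModBasic.map_map_apply N hle hA s
  · have hbot : i ⁻¹ᵁ ((⟨(Set.range i.base)ᶜ,
        i.isClosedEmbedding.isClosed_range.isOpen_compl⟩ : Y.Opens) ⊓ W) = ⊥ := by
      rw [eq_bot_iff]
      intro a ha
      have h0 : i.base a ∈ (((⟨(Set.range i.base)ᶜ,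
        i.isClosedEmbedding.isClosed_range.isOpen_compl⟩ : Y.Opens) ⊓ W : Y.Opens) : Set Y) := ha
      rw [TopologicalSpace.Opens.coe_inf] at h0
      exact (h0.1 ⟨a, rfl⟩).elim
    have hsub : Subsingleton Γ(N, i ⁻¹ᵁ ((⟨(Set.range i.base)ᶜ,
        i.isClosedEmbedding.isClosed_range.isOpen_compl⟩ : Y.Opens) ⊓ W)) :=
      subsingleton_sections_of_eq_bot N _ hbot
    have hmem : y ∈ (⟨(Set.range i.base)ᶜ,
        i.isClosedEmbedding.isClosed_range.isOpen_compl⟩ : Y.Opens) ⊓ W := by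
      show y ∈ (((⟨(Set.range i.base)ᶜ,
        i.isClosedEmbedding.isClosed_range.isOpen_compl⟩ : Y.Opens) ⊓ W : Y.Opens) : Set Y)
      rw [TopologicalSpace.Opens.coe_inf]
      exact ⟨hyr, hy⟩
    exact ⟨_, inf_le_right, hmem, 0, @Subsingleton.elim _ hsub _ _⟩

instance preservesEpimorphisms_pushforward (i : Z ⟶ Y) [IsClosedImmersion i] :
    (pushforward i).PreservesEpimorphisms where
  preserves := by
    intro A B φ hφ
    exact epi_pushforward_map i φ

/-- direct image along a closed immersion is exact -/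
lemma preservesHomology_pushforward (i : Z ⟶ Y) [IsClosedImmersion i] :
    (pushforward i).PreservesHomology :=
  Functor.preservesHomology_of_preservesEpis_and_kernels (pushforward i)

/-- cohomology of the termwise direct image along a closed immersion -/
noncomputable def pushHomologyIso (i : Z ⟶ Y) [IsClosedImmersion i]
    (C : CochainComplex Z.Modules ℤ) (j : ℤ) :
    DCoh.HD (DCoh.toD Y ((DerSch.pushCx i).obj C)) j ≅ (pushforward i).obj (C.homology j) :=
  haveI := preservesHomology_pushforward i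
  (DerivedCategory.homologyFunctorFactors _ j).app _ ≪≫ (C.sc j).mapHomologyIso (pushforward i)

end Epi

section Reflect

variable {Z Y : Scheme.{u}}

lemma isLocSec_of_push (i : Z ⟶ Y) (N : Z.Modules)
    (h : ((pushforward i).obj N).IsQuasicoherent)
    (W : Y.Opens) (hW : IsAffineOpen W) (g₀ : Γ(Y, W)) (B : Z.Opens)
    (hB : B = i ⁻¹ᵁ (Y.basicOpen g₀)) (hBU : B ≤ i ⁻¹ᵁ W) :
    QCSec.IsLocSec N (i ⁻¹ᵁ W) B hBU (i.app W g₀) := by
  subst hB
  haveI := h
  have h0 := QCSec.isLocSec_of_isQuasicoherent ((pushforward i).obj N) hW g₀ (Y.basicOpen g₀) rfl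
    (Y.basicOpen_le g₀)
  have key : QCSec.rres Z hBU (i.app W g₀) =
      i.app (Y.basicOpen g₀) (QCSec.rres Y (Y.basicOpen_le g₀) g₀) := by
    have := congr($(i.naturality (homOfLE (Y.basicOpen_le g₀)).op) g₀)
    exact this.symm
  constructor
  · intro t
    obtain ⟨n, s, hs⟩ := h0.surj t
    refine ⟨n, s, ?_⟩
    rw [key, ← map_pow]
    exact hs
  · intro s hs
    obtain ⟨n, hn⟩ := h0.inj s hs
    refine ⟨n, ?_⟩
    rw [← map_pow]
    exact hn

/-- a module whose direct image along a closed immersion is quasi-coherent is quasi-coherent -/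
theorem isQuasicoherent_of_pushforward (i : Z ⟶ Y) [IsClosedImmersion i] (N : Z.Modules)
    (h : ((pushforward i).obj N).IsQuasicoherent) : N.IsQuasicoherent := by
  apply QCProps.isQuasicoherent_of_charts
  intro z
  obtain ⟨W, hW, hzW⟩ := QCProps.exists_affine_nbhd (i.base z)
  have hU : IsAffineOpen (i ⁻¹ᵁ W) := hW.preimage i
  refine ⟨i ⁻¹ᵁ W, hU, hzW, ?_⟩
  apply QCSec.isQuasicoherent_chart_of_isLocSec N hU
  intro g
  obtain ⟨g₀, rfl⟩ := i.app_surjective W hW g
  have hB : hU.fromSpec ''ᵁ (PrimeSpectrum.basicOpen (i.app W g₀)) =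
      i ⁻¹ᵁ (Y.basicOpen g₀) := by
    rw [hU.fromSpec_image_basicOpen, Scheme.preimage_basicOpen]
  exact isLocSec_of_push i N h W hW g₀ _ hB _

/-- a module whose direct image along a closed immersion vanishes is zero -/
theorem isZero_of_pushforward (i : Z ⟶ Y) [IsClosedImmersion i] (N : Z.Modules)
    (h : IsZero ((pushforward i).obj N)) : IsZero N := by
  apply ModBasic.isZero_of_subsingleton
  intro A
  obtain ⟨W₀, hW₀o, hW₀⟩ := i.isClosedEmbedding.isEmbedding.isInducing.isOpen_iff.mp A.2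
  have hA : A = i ⁻¹ᵁ (⟨W₀, hW₀o⟩ : Y.Opens) := TopologicalSpace.Opens.ext hW₀.symm
  subst hA
  exact ModBasic.subsingleton_of_isZero h (⟨W₀, hW₀o⟩ : Y.Opens)

end Reflect

section Chart

variable {X : Scheme.{u}}

lemma isClosedImmersion_chartImm (U : X.Opens) (hU : IsAffineOpen U) {R : Type u} [CommRing R]
    {n : ℕ} (φ : MvPolynomial (Fin n) R →+* Γ(X, U)) (hφ : Function.Surjective φ) :
    IsClosedImmersion (DerSch.chartImm U φ) := by
  haveI : IsIso U.toSpecΓ := (inferInstance : IsIso hU.isoSpec.hom)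
  haveI : IsClosedImmersion (Spec.map (CommRingCat.ofHom φ)) :=
    IsClosedImmersion.spec_of_surjective (CommRingCat.ofHom φ) hφ
  show IsClosedImmersion (U.toSpecΓ ≫ Spec.map (CommRingCat.ofHom φ))
  infer_instance

theorem local_qcoh (G : CochainComplex X.Modules ℤ) (U : X.Opens) (hU : IsAffineOpen U)
    {R : Type u} [CommRing R] {n : ℕ} (φ : MvPolynomial (Fin n) R →+* Γ(X, U))
    (hφ : Function.Surjective φ) (m : ℤ)
    (hpc : DCoh.IsPseudoCoherentD m (DCoh.toD _
      ((DerSch.pushCx (DerSch.chartImm U φ)).obj ((DCoh.restrictCx U).obj G))))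
    (j : ℤ) (hj : m < j) : ((restrictFunctor U.ι).obj (G.homology j)).IsQuasicoherent := by
  haveI := isClosedImmersion_chartImm U hU φ hφ
  have h1 := (PCohQC.qcoh_of_pseudoCoherent m _ hpc).1 j hj
  have h2 : ((pushforward (DerSch.chartImm U φ)).obj
      (((DCoh.restrictCx U).obj G).homology j)).IsQuasicoherent :=
    (SheafOfModules.isQuasicoherent
      (Spec (CommRingCat.of (MvPolynomial (Fin n) R))).ringCatSheaf).prop_of_iso
      (pushHomologyIso (DerSch.chartImm U φ) ((DCoh.restrictCx U).obj G) j) h1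
  have h3 := isQuasicoherent_of_pushforward (DerSch.chartImm U φ) _ h2
  exact (SheafOfModules.isQuasicoherent (U : Scheme.{u}).ringCatSheaf).prop_of_iso
    (SuppOpen.homologyMapIso (restrictFunctor U.ι) G j) h3

/-- an `m`-pseudo-coherent object on a quasi-compact scheme has cohomology bounded above -/
theorem exists_bound_of_pseudoCoherent {Y : Scheme.{u}} [CompactSpace Y] (m : ℤ) (K : DCoh.D Y)
    (hK : DCoh.IsPseudoCoherentD m K) : ∃ b : ℤ, ∀ j : ℤ, b < j → IsZero (DCoh.HD K j) := by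
  obtain ⟨F₀, ⟨i₀⟩⟩ : ∃ F₀ : CochainComplex Y.Modules ℤ, Nonempty (DerivedCategory.Q.obj F₀ ≅ K) :=
    ⟨_, ⟨DerivedCategory.Q.objObjPreimageIso K⟩⟩
  have c : ∀ (V : Y.Opens) (n : ℤ), Nonempty ((DerivedCategory.homologyFunctor _ n).obj
      (DerivedCategory.Q.obj ((DCoh.restrictCx V).obj F₀)) ≅
      (restrictFunctor V.ι).obj (DCoh.HD K n)) := fun V n =>
    ⟨(DerivedCategory.homologyFunctorFactors _ n).app _ ≪≫
      SuppOpen.homologyMapIso (restrictFunctor V.ι) F₀ n ≪≫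
      (restrictFunctor V.ι).mapIso (((DerivedCategory.homologyFunctorFactors _ n).app F₀).symm ≪≫
        (DerivedCategory.homologyFunctor _ n).mapIso i₀)⟩
  have d : ∀ (V : Y.Opens) (P : CochainComplex (V : Scheme.{u}).Modules ℤ) (n : ℤ),
      Nonempty ((DerivedCategory.homologyFunctor _ n).obj (DerivedCategory.Q.obj P) ≅
        P.homology n) := fun V P n => ⟨(DerivedCategory.homologyFunctorFactors _ n).app P⟩
  have key : ∀ y : Y, ∃ (V : Y.Opens) (b : ℤ), y ∈ V ∧
      ∀ j : ℤ, b < j → IsZero ((restrictFunctor V.ι).obj (DCoh.HD K j)) := by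
    intro y
    obtain ⟨V, hyV, hV⟩ := hK y
    obtain ⟨P, α, hP, h1, -⟩ := hV F₀ ⟨i₀⟩
    obtain ⟨⟨a, b, hab⟩, -⟩ := hP
    refine ⟨V, max m b, hyV, ?_⟩
    intro j hj
    have hmj : m < j := lt_of_le_of_lt (le_max_left _ _) hj
    have hbj : b < j := lt_of_le_of_lt (le_max_right _ _) hj
    haveI := h1 j hmj
    have hz : IsZero (P.homology j) :=
      (HomologicalComplex.ExactAt.of_isZero (hab j (Or.inr hbj))).isZero_homology
    obtain ⟨cV⟩ := c V j
    obtain ⟨dV⟩ := d V P j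
    exact IsZero.of_iso hz
      (cV.symm ≪≫ (asIso ((DerivedCategory.homologyFunctor _ j).map α)).symm ≪≫ dV)
  choose V b hV hb using key
  obtain ⟨t, ht⟩ := CompactSpace.elim_nhds_subcover (fun y => (V y : Set Y))
    (fun y => (V y).isOpen.mem_nhds (hV y))
  obtain ⟨B, hB⟩ := (t.image b).exists_le
  refine ⟨B, fun j hj => ?_⟩
  apply QS.isZero_of_subsingleton_stalk
  intro x
  have hx : x ∈ ⋃ y ∈ t, (V y : Set Y) := by rw [ht]; trivial
  simp only [Set.mem_iUnion] at hx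
  obtain ⟨y, hyt, hxy⟩ := hx
  have hbj : b y < j := lt_of_le_of_lt (hB _ (Finset.mem_image_of_mem b hyt)) hj
  exact ModBasic.subsingleton_stalk_of_isZero_restrict (f := (V y).ι) (hb y j hbj) ⟨x, hxy⟩

theorem local_bound (G : CochainComplex X.Modules ℤ) (U : X.Opens) (hU : IsAffineOpen U)
    {R : Type u} [CommRing R] {n : ℕ} (φ : MvPolynomial (Fin n) R →+* Γ(X, U))
    (hφ : Function.Surjective φ) (m : ℤ)
    (hpc : DCoh.IsPseudoCoherentD m (DCoh.toD _
      ((DerSch.pushCx (DerSch.chartImm U φ)).obj ((DCoh.restrictCx U).obj G)))) :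
    ∃ b : ℤ, ∀ j : ℤ, b < j → IsZero ((restrictFunctor U.ι).obj (G.homology j)) := by
  haveI := isClosedImmersion_chartImm U hU φ hφ
  obtain ⟨b, hb⟩ := exists_bound_of_pseudoCoherent m _ hpc
  refine ⟨b, fun j hj => ?_⟩
  have h2 : IsZero ((pushforward (DerSch.chartImm U φ)).obj
      (((DCoh.restrictCx U).obj G).homology j)) :=
    IsZero.of_iso (hb j hj)
      (pushHomologyIso (DerSch.chartImm U φ) ((DCoh.restrictCx U).obj G) j).symm
  have h3 := isZero_of_pushforward (DerSch.chartImm U φ) _ h2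
  exact IsZero.of_iso h3 (SuppOpen.homologyMapIso (restrictFunctor U.ι) G j).symm

end Chart

section Rel

variable {X S : Scheme.{u}}

lemma exists_chart (f : X ⟶ S) (m : ℤ) (E : DCoh.D X)
    (hE : DerSch.IsPseudoCoherentRel f m E) (x : X) :
    ∃ (U : X.Opens) (V : S.Opens) (_ : IsAffineOpen U) (n : ℕ)
      (φ : MvPolynomial (Fin n) Γ(S, V) →+* Γ(X, U)),
      x ∈ U ∧ Function.Surjective φ ∧ DerSch.ChartPC m E U V φ := by
  obtain ⟨-, 𝒱, h𝒱, hV⟩ := hE
  have hx : f.base x ∈ (⨆ V ∈ 𝒱, (V : S.Opens)) := by rw [h𝒱]; trivial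
  simp only [Opens.mem_iSup] at hx
  obtain ⟨V, hVmem, hxV⟩ := hx
  obtain ⟨𝒰, h𝒰, hU⟩ := hV V hVmem
  have hx' : x ∈ (⨆ U ∈ 𝒰, (U : X.Opens)) := by rw [h𝒰]; exact hxV
  simp only [Opens.mem_iSup] at hx'
  obtain ⟨U, hUmem, hxU⟩ := hx'
  have hle : (U : X.Opens) ≤ f ⁻¹ᵁ (V : S.Opens) := by
    rw [← h𝒰]
    exact le_iSup₂ (f := fun (U : X.affineOpens) (_ : U ∈ 𝒰) => (U : X.Opens)) U hUmem
  obtain ⟨n, φ, hchart, hpc⟩ := hU U hUmem hle
  exact ⟨U, V, U.2, n, φ, hxU, hchart.1, hpc⟩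

/-- S7213 -/
theorem qcoh_of_rel (f : X ⟶ S) (m : ℤ) (E : DCoh.D X)
    (hE : DerSch.IsPseudoCoherentRel f m E) (i : ℤ) (hi : m < i) :
    Coh.IsQCoh (DCoh.HD E i) := by
  obtain ⟨G, ⟨i₀⟩⟩ : ∃ G : CochainComplex X.Modules ℤ, Nonempty (DerivedCategory.Q.obj G ≅ E) :=
    ⟨_, ⟨DerivedCategory.Q.objObjPreimageIso E⟩⟩
  apply QCOpen.isQuasicoherent_of_open_cover
  intro x
  obtain ⟨U, V, hU, n, φ, hxU, hφ, hpc⟩ := exists_chart f m E hE x
  refine ⟨U, hxU, ?_⟩
  have h1 := local_qcoh G U hU φ hφ m (hpc G ⟨i₀⟩) i hi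
  exact (SheafOfModules.isQuasicoherent (U : Scheme.{u}).ringCatSheaf).prop_of_iso
    ((restrictFunctor U.ι).mapIso (((DerivedCategory.homologyFunctorFactors _ i).app G).symm ≪≫
      (DerivedCategory.homologyFunctor _ i).mapIso i₀)) h1

/-- S6236 -/
theorem isLE_of_rel [CompactSpace X] (f : X ⟶ S) (n : ℤ) (E : DCoh.D X)
    (hE : DerSch.IsPseudoCoherentRel f n E) : ∃ b : ℤ, E.IsLE b := by
  obtain ⟨G, ⟨i₀⟩⟩ : ∃ G : CochainComplex X.Modules ℤ, Nonempty (DerivedCategory.Q.obj G ≅ E) :=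
    ⟨_, ⟨DerivedCategory.Q.objObjPreimageIso E⟩⟩
  have key : ∀ x : X, ∃ (U : X.Opens) (b : ℤ), x ∈ U ∧
      ∀ j : ℤ, b < j → IsZero ((restrictFunctor U.ι).obj (G.homology j)) := by
    intro x
    obtain ⟨U, V, hU, k, φ, hxU, hφ, hpc⟩ := exists_chart f n E hE x
    obtain ⟨b, hb⟩ := local_bound G U hU φ hφ n (hpc G ⟨i₀⟩)
    exact ⟨U, b, hxU, hb⟩
  choose U b hU hb using key
  obtain ⟨t, ht⟩ := CompactSpace.elim_nhds_subcover (fun x => (U x : Set X))
    (fun x => (U x).isOpen.mem_nhds (hU x))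
  obtain ⟨B, hB⟩ := (t.image b).exists_le
  refine ⟨B, ?_⟩
  rw [DerivedCategory.isLE_iff]
  intro j hj
  refine IsZero.of_iso ?_ ((DerivedCategory.homologyFunctor _ j).mapIso i₀.symm ≪≫
      (DerivedCategory.homologyFunctorFactors _ j).app G)
  apply QS.isZero_of_subsingleton_stalk
  intro x
  have hx : x ∈ ⋃ y ∈ t, (U y : Set X) := by rw [ht]; trivial
  simp only [Set.mem_iUnion] at hx
  obtain ⟨y, hyt, hxy⟩ := hx
  have hbj : b y < j := lt_of_le_of_lt (hB _ (Finset.mem_image_of_mem b hyt)) hj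
  exact ModBasic.subsingleton_stalk_of_isZero_restrict (f := (U y).ι) (hb y j hbj) ⟨x, hxy⟩

end Rel

end Groth.Agent.Lib.Helper13.ClImmPush
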