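import Groth.Agent.Lib.Helper13.RelMVMod
import Groth.Agent.Lib.Helper13.QCDim
import Groth.Agent.Lib.Helper13.AffineVanish
import Groth.Agent.Lib.Helper13.LocallyZero
import Groth.Agent.Lib.Helper13.ModGrothendieck
import Groth.Agent.Lib.Helper13.DerivedCommute
import Groth.Agent.Lib.Helper2.RpushCompare
import Groth.Agent.Lib.Helper2.GSS.CompExactAcyclic
import Groth.Agent.Lib.Helper1.FlasqueAcyclic
import Groth.Agent.Lib.Helper3.QCPush
import Groth.Agent.Lib.Helper3.QCExact
import Groth.Agent.Lib.Helper3.QCLim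
import Groth.Agent.Lib.Helper3.QCOpen

/-!
# Higher direct images of quasi-coherent modules along qcqs morphisms are quasi-coherent (helper13)

Induction on a Mayer–Vietoris certificate `QC d W` for opens `W ⊆ f⁻¹ V` (`V ⊆ S` affine), using the
relative Mayer–Vietoris sequence of `RelMVMod`/`RelMV` for the functors `G W = (f_* j_* j^* -)|_V`.
-/

set_option autoImplicit false
universe u v w

namespace Groth.Agent.Lib.Helper13.QCohRpush

open CategoryTheory CategoryTheory.Limits AlgebraicGeometry Opposite TopologicalSpace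
open AlgebraicGeometry.Scheme.Modules
open Groth.Agent.Lib.Helper13 Groth.Agent.Lib.Helper13.RelMVMod Groth.Agent.Lib.Helper13.QCDim
open Groth.Agent.Lib.Helper2 Groth.Agent.Lib.Helper3

section Five

lemma sc_of_mk₂ {C : Type v} [Category.{w} C] [HasZeroMorphisms C] {A B D : C} {f : A ⟶ B}
    {g : B ⟶ D} (h : (ComposableArrows.mk₂ f g).Exact) :
    ∃ w : f ≫ g = 0, (ShortComplex.mk f g w).Exact :=
  ⟨h.toIsComplex.zero 0, h.exact 0⟩

variable {Y : Scheme.{u}}

/-- in an exact sequence `X₁ ⟶ X₂ ⟶ X₃ ⟶ X₄ ⟶ X₅` with the four outer terms quasi-coherent, the middle term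
is quasi-coherent. -/
theorem isQuasicoherent_of_exact5 {X₁ X₂ X₃ X₄ X₅ : Y.Modules} (a : X₁ ⟶ X₂) (b : X₂ ⟶ X₃)
    (c : X₃ ⟶ X₄) (d : X₄ ⟶ X₅)
    (h₁ : (ComposableArrows.mk₂ a b).Exact) (h₂ : (ComposableArrows.mk₂ b c).Exact)
    (h₃ : (ComposableArrows.mk₂ c d).Exact)
    [X₁.IsQuasicoherent] [X₂.IsQuasicoherent] [X₄.IsQuasicoherent] [X₅.IsQuasicoherent] :
    X₃.IsQuasicoherent := by
  obtain ⟨w₁, e₁⟩ := sc_of_mk₂ h₁
  obtain ⟨w₂, e₂⟩ := sc_of_mk₂ h₂
  obtain ⟨w₃, e₃⟩ := sc_of_mk₂ h₃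
  haveI hu : Mono (cokernel.desc a b w₁) := e₁.mono_cokernelDesc
  haveI hv : Epi (kernel.lift d c w₃) := e₃.epi_kernelLift
  have huc : cokernel.desc a b w₁ ≫ c = 0 := by
    rw [← cancel_epi (cokernel.π a), cokernel.π_desc_assoc, w₂, comp_zero]
  have huv : cokernel.desc a b w₁ ≫ kernel.lift d c w₃ = 0 := by
    rw [← cancel_mono (kernel.ι d), Category.assoc, kernel.lift_ι, huc, zero_comp]
  let φ : ShortComplex.mk b c w₂ ⟶ ShortComplex.mk (cokernel.desc a b w₁) c huc :=
    { τ₁ := cokernel.π a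
      τ₂ := 𝟙 _
      τ₃ := 𝟙 _
      comm₁₂ := by
        change cokernel.π a ≫ cokernel.desc a b w₁ = b ≫ 𝟙 _
        rw [cokernel.π_desc, Category.comp_id]
      comm₂₃ := by
        change 𝟙 _ ≫ c = c ≫ 𝟙 _
        rw [Category.id_comp, Category.comp_id] }
  haveI : Epi φ.τ₁ := (inferInstance : Epi (cokernel.π a))
  haveI : IsIso φ.τ₂ := (inferInstance : IsIso (𝟙 X₃))
  haveI : Mono φ.τ₃ := (inferInstance : Mono (𝟙 X₄))
  have e₂' : (ShortComplex.mk (cokernel.desc a b w₁) c huc).Exact :=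
    (ShortComplex.exact_iff_of_epi_of_isIso_of_mono φ).1 e₂
  let ψ : ShortComplex.mk (cokernel.desc a b w₁) (kernel.lift d c w₃) huv ⟶
      ShortComplex.mk (cokernel.desc a b w₁) c huc :=
    { τ₁ := 𝟙 _
      τ₂ := 𝟙 _
      τ₃ := kernel.ι d
      comm₁₂ := by
        change 𝟙 _ ≫ cokernel.desc a b w₁ = cokernel.desc a b w₁ ≫ 𝟙 _
        rw [Category.id_comp, Category.comp_id]
      comm₂₃ := by
        change 𝟙 _ ≫ c = kernel.lift d c w₃ ≫ kernel.ι d
        rw [Category.id_comp, kernel.lift_ι] }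
  haveI : Epi ψ.τ₁ := (inferInstance : Epi (𝟙 (cokernel a)))
  haveI : IsIso ψ.τ₂ := (inferInstance : IsIso (𝟙 X₃))
  haveI : Mono ψ.τ₃ := (inferInstance : Mono (kernel.ι d))
  have e₄ : (ShortComplex.mk (cokernel.desc a b w₁) (kernel.lift d c w₃) huv).Exact :=
    (ShortComplex.exact_iff_of_epi_of_isIso_of_mono ψ).2 e₂'
  have hS : (ShortComplex.mk (cokernel.desc a b w₁) (kernel.lift d c w₃) huv).ShortExact :=
    { exact := e₄
      mono_f := hu
      epi_g := hv }
  haveI : (ShortComplex.mk (cokernel.desc a b w₁) (kernel.lift d c w₃) huv).X₁.IsQuasicoherent :=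
    QCProps.isQuasicoherent_cokernel a
  haveI : (ShortComplex.mk (cokernel.desc a b w₁) (kernel.lift d c w₃) huv).X₃.IsQuasicoherent :=
    QCProps.isQuasicoherent_kernel d
  exact QCExact.isQuasicoherent_of_shortExact _ hS

end Five

variable {X S : Scheme.{u}} (f : X ⟶ S) (V : S.Opens)

/-- `j_{W*} ⋙ f_* ⋙ (-)|_V ≅ g_*` for the induced map `g : W ⟶ V`. -/
noncomputable def phiIso (W : X.Opens) (e : W ≤ f ⁻¹ᵁ V) :
    pushforward W.ι ⋙ Q f V ≅ pushforward (f.resLE V W e) :=
  (Functor.associator _ _ _).symm ≪≫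
    Functor.isoWhiskerRight (pushforwardComp W.ι f ≪≫ pushforwardCongr (f.resLE_comp_ι e).symm ≪≫
      (pushforwardComp (f.resLE V W e) V.ι).symm) (restrictFunctor V.ι) ≪≫
    Functor.associator _ _ _ ≪≫
    Functor.isoWhiskerLeft (pushforward (f.resLE V W e)) (asIso (restrictAdjunction V.ι).counit) ≪≫
    Functor.rightUnitor _

/-- `G W ≅ j^* ⋙ g_*`. -/
noncomputable def GIso (W : X.Opens) (e : W ≤ f ⁻¹ᵁ V) :
    G f V W ≅ restrictFunctor W.ι ⋙ pushforward (f.resLE V W e) :=
  Functor.associator _ _ _ ≪≫ Functor.isoWhiskerLeft (restrictFunctor W.ι) (phiIso f V W e)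

/-- restrictions of injective modules to opens are flasque. -/
lemma isFlasque_restrict_of_injective (W : X.Opens) (I : X.Modules) (hI : Injective I) :
    TopCat.Sheaf.IsFlasque (Coh.toAb ((restrictFunctor W.ι).obj I)) where
  epi {A B} i := by
    rw [AddCommGrpCat.epi_iff_surjective]
    haveI : Mono (W.ι.opensFunctor.map i.unop) := ⟨fun _ _ _ => Subsingleton.elim _ _⟩
    exact @InjRestrSurj.restriction_surjective _ _ _ X.ringCatSheaf I hI _ _
      (W.ι.opensFunctor.map i.unop) inferInstance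

/-- base case: `W` affine. -/
theorem base_case [HasInjectiveResolutions X.Modules] (W : X.Opens) (hW : IsAffineOpen W)
    (hV : IsAffineOpen V) (e : W ≤ f ⁻¹ᵁ V) (M : X.Modules) [M.IsQuasicoherent] (p : ℕ) :
    (((G f V W).rightDerived p).obj M).IsQuasicoherent := by
  haveI : IsAffine (W : Scheme.{u}) := hW
  haveI : IsAffine (V : Scheme.{u}) := hV
  haveI : EnoughInjectives X.Modules := ModGrothendieck.enoughInjectives X.ringCatSheaf
  haveI : EnoughInjectives (W : Scheme.{u}).Modules :=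
    ModGrothendieck.enoughInjectives (W : Scheme.{u}).ringCatSheaf
  haveI hN : ((restrictFunctor W.ι).obj M).IsQuasicoherent :=
    Scheme.Modules.isQuasicoherent_restrictFunctor W.ι M
  have hI : ∀ I : X.Modules, Injective I → ∀ n : ℕ,
      IsZero (((pushforward (f.resLE V W e)).rightDerived (n + 1)).obj
        ((restrictFunctor W.ι).obj I)) := by
    intro I hI n
    haveI := isFlasque_restrict_of_injective W I hI
    refine (RpushCompare.isZero_Rpush_iff (f.resLE V W e) ((restrictFunctor W.ι).obj I) (n + 1)).2 ?_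
    exact LocallyZero.isZero_Rpush_of_basis (f.resLE V W e).base
      (Coh.toAb ((restrictFunctor W.ι).obj I)) (n + 1) Set.univ (RpushCompare.isBasis_univ _)
      (fun B _ => Groth.Agent.Lib.Helper1.FlasqueAcyclic.flasque_HU_subsingleton
        (Coh.toAb ((restrictFunctor W.ι).obj I)) _ n)
  obtain ⟨e1⟩ := GSS.nonempty_rightDerived_comp_iso (restrictFunctor W.ι)
    (pushforward (f.resLE V W e)) hI p M
  have e0 := DerivedCommute.rightDerivedObjIsoOfNatIso (GIso f V W e) p M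
  refine (SheafOfModules.isQuasicoherent (V : Scheme.{u}).ringCatSheaf).prop_of_iso (e0 ≪≫ e1).symm ?_
  cases p with
  | zero =>
    refine (SheafOfModules.isQuasicoherent (V : Scheme.{u}).ringCatSheaf).prop_of_iso
      ((pushforward (f.resLE V W e)).rightDerivedZeroIsoSelf.app
        ((restrictFunctor W.ι).obj M)).symm ?_
    exact QCSec.isQuasicoherent_pushforward (f.resLE V W e) ((restrictFunctor W.ι).obj M)
  | succ q =>
    apply QCOpen.isQuasicoherent_of_isZero
    refine (RpushCompare.isZero_Rpush_iff (f.resLE V W e) ((restrictFunctor W.ι).obj M) (q + 1)).2 ?_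
    exact LocallyZero.isZero_Rpush_of_basis (f.resLE V W e).base
      (Coh.toAb ((restrictFunctor W.ι).obj M)) (q + 1)
      (V : Scheme.{u}).affineOpens (V : Scheme.{u}).isBasis_affineOpens
      (fun B hB => AffineVanish.subsingleton_HU_of_isAffineOpen ((restrictFunctor W.ι).obj M)
        (IsAffineOpen.preimage hB (f.resLE V W e)) q)

/-- the induction on Mayer–Vietoris certificates. -/
theorem qc_induct [HasInjectiveResolutions X.Modules] (hV : IsAffineOpen V) (M : X.Modules)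
    [M.IsQuasicoherent] {d : ℕ} {W : X.Opens} (h : QC d W) :
    W ≤ f ⁻¹ᵁ V → ∀ p : ℕ, (((G f V W).rightDerived p).obj M).IsQuasicoherent := by
  induction h with
  | affine W hW =>
    intro e p
    exact base_case f V W hW hV e M p
  | union d W₁ W₂ h₁ h₂ h₁₂ ih₁ ih₂ ih₁₂ =>
    intro e p
    have e₁ : W₁ ≤ f ⁻¹ᵁ V := le_sup_left.trans e
    have e₂ : W₂ ≤ f ⁻¹ᵁ V := le_sup_right.trans e
    have e₁₂ : W₁ ⊓ W₂ ≤ f ⁻¹ᵁ V := inf_le_left.trans e₁
    obtain ⟨δ, hδ⟩ := RelMV.exists_delta (rho f V (le_sup_left : W₁ ≤ W₁ ⊔ W₂))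
      (rho f V (le_sup_right : W₂ ≤ W₁ ⊔ W₂)) (rho f V (inf_le_left : W₁ ⊓ W₂ ≤ W₁))
      (rho f V (inf_le_right : W₁ ⊓ W₂ ≤ W₂)) (fun I => isPullback_rho f V W₁ W₂ I)
      (fun I hI => epi_rho_of_injective f V _ I hI) M
    haveI hB : ∀ n : ℕ, (((G f V W₁).rightDerived n).obj M ⊞
        ((G f V W₂).rightDerived n).obj M : (V : Scheme.{u}).Modules).IsQuasicoherent := fun n => by
      haveI := ih₁ e₁ n
      haveI := ih₂ e₂ n
      exact QCLim.isQuasicoherent_biprod _ _
    haveI hC : ∀ n : ℕ, (((G f V (W₁ ⊓ W₂)).rightDerived n).obj M).IsQuasicoherent :=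
      fun n => ih₁₂ e₁₂ n
    cases p with
    | zero =>
      haveI hmono := RelMV.mono_lift_zero (rho f V (le_sup_left : W₁ ≤ W₁ ⊔ W₂))
        (rho f V (le_sup_right : W₂ ≤ W₁ ⊔ W₂)) M
        (isPullback_rho f V W₁ W₂ M).mono_shortComplex'_f
      obtain ⟨w, ex⟩ := sc_of_mk₂ (hδ 0).1
      have iso := IsLimit.conePointUniqueUpToIso ex.fIsKernel (kernelIsKernel _)
      exact (SheafOfModules.isQuasicoherent (V : Scheme.{u}).ringCatSheaf).prop_of_iso iso.symm
        (QCProps.isQuasicoherent_kernel _)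
    | succ n =>
      exact isQuasicoherent_of_exact5 _ _ _ _ (hδ n).2.1 (hδ n).2.2 (hδ (n + 1)).1
  | mono d d' W hd hW ih => exact ih

lemma isIso_Q_map_η (M : X.Modules) : IsIso ((Q f V).map ((η (f ⁻¹ᵁ V)).app M)) := by
  rw [Hom.isIso_iff_isIso_app]
  intro A
  change IsIso (((η (f ⁻¹ᵁ V)).app M).app (pre f V A))
  rw [η_app_app]
  refine isIso_map_of_eq M _ ?_
  rw [cap_eq]
  exact inf_eq_right.mpr ((Opens.map f.base).monotone (V.ι_image_le A))

/-- `(f_* -)|_V ≅ G (f⁻¹ V)`. -/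
noncomputable def topIso : Q f V ≅ G f V (f ⁻¹ᵁ V) :=
  NatIso.ofComponents
    (fun M => haveI := isIso_Q_map_η f V M; asIso ((Q f V).map ((η (f ⁻¹ᵁ V)).app M)))
    (fun {M N} φ => by
      change (Q f V).map φ ≫ (Q f V).map ((η (f ⁻¹ᵁ V)).app N) =
        (Q f V).map ((η (f ⁻¹ᵁ V)).app M) ≫ (Q f V).map ((H (f ⁻¹ᵁ V)).map φ)
      rw [← Functor.map_comp, ← Functor.map_comp]
      exact congrArg _ ((η (f ⁻¹ᵁ V)).naturality φ))

/-- **Higher direct images of quasi-coherent modules along quasi-compact quasi-separated morphisms are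
quasi-coherent.** -/
theorem isQuasicoherent_Rpush [QuasiCompact f] [QuasiSeparated f] [HasInjectiveResolutions X.Modules]
    (M : X.Modules) [M.IsQuasicoherent] (p : ℕ) :
    (((pushforward f).rightDerived p).obj M).IsQuasicoherent := by
  apply QCOpen.isQuasicoherent_of_open_cover
  intro x
  obtain ⟨V, hV, hxV⟩ := QCProps.exists_affine_nbhd x
  refine ⟨V, hxV, ?_⟩
  obtain ⟨d, hd⟩ := QC.exists_preimage f {V} (fun U hU => by
    rw [Finset.mem_singleton] at hU
    rw [hU]
    exact hV)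
  have hQC : QC d (f ⁻¹ᵁ V) := hd V (Finset.mem_singleton_self V)
  have hq := qc_induct f V hV M hQC le_rfl p
  have e1 := DerivedCommute.rightDerivedCompExactObjIso (pushforward f) (restrictFunctor V.ι) p M
  have e2 := DerivedCommute.rightDerivedObjIsoOfNatIso (topIso f V) p M
  exact (SheafOfModules.isQuasicoherent (V : Scheme.{u}).ringCatSheaf).prop_of_iso (e2.symm ≪≫ e1) hq

end Groth.Agent.Lib.Helper13.QCohRpush
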