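import Mathlib
import Groth.Agent.Lib.Helper13.PCohNoeth
import Groth.Agent.Lib.Helper13.ClImmPush
import Groth.Agent.Lib.Helper13.QCohRpush
import Groth.Agent.Lib.Helper1.FreeField

/-!
# Pseudo-coherence and direct image along a closed immersion (helper13)

For a closed immersion `i : Z ⟶ X` with `i_* O_Z` pseudo-coherent, `E ∈ D(O_Z)` is `m`-pseudo-coherent
iff `i_* E` is.  Induction on the length of the cohomological range above `m`, killing the top
cohomology sheaf by a locally lifted map from a finite free module.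
-/

set_option autoImplicit false
set_option backward.isDefEq.respectTransparency false
universe u v w

namespace Groth.Agent.Lib.Helper13.ClImmPC

open CategoryTheory CategoryTheory.Limits AlgebraicGeometry TopologicalSpace
open AlgebraicGeometry.Scheme.Modules
open Groth.Agent.Lib.Helper13
open Groth.Agent.Lib.Helper3 Groth.Agent.Lib.Helper17
open Groth.Agent.Lib.Helper13.GoodMap Groth.Agent.Lib.Helper13.PCohTri
  Groth.Agent.Lib.Helper13.PerfTri Groth.Agent.Lib.Helper13.PCohSum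
  Groth.Agent.Lib.Helper13.PCohFT Groth.Agent.Lib.Helper13.PCohSingle
  Groth.Agent.Lib.Helper13.PCohNoeth
open CategoryTheory.Pretriangulated ZeroObject

section Single

variable {A : Type u} [Category.{v} A] [Abelian A] [HasDerivedCategory.{w} A]

lemma good_single_map_of_epi' (n : ℤ) {P F : A} (π : P ⟶ F) [Epi π] :
    Good n ((DerivedCategory.singleFunctor A n).map π) := by
  refine ⟨fun i hi => ?_, ?_⟩
  · exact isIso_of_isZero _
      (DerivedCategory.isZero_of_isLE ((DerivedCategory.singleFunctor A n).obj P) n i hi)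
      (DerivedCategory.isZero_of_isLE ((DerivedCategory.singleFunctor A n).obj F) n i hi)
  · have h : Epi ((𝟭 A).map π) := by
      rw [Functor.id_map]
      infer_instance
    exact (epi_map_iff_of_natIso (DerivedCategory.singleFunctorCompHomologyFunctorIso A n) π).2 h

end Single

attribute [local instance] HasDerivedCategory.standard

/-! ### generalities on pseudo-coherence -/

section General

variable {X : Scheme.{u}}

lemma isStrictlyPerfect_single' (P : X.Modules) (hP : FlatMod.IsFinLocFree P) (n : ℤ) :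
    DCoh.IsStrictlyPerfect ((CochainComplex.singleFunctor X.Modules n).obj P) := by
  refine ⟨⟨n, n, fun i hi => ?_⟩, fun i => ?_⟩
  · exact HomologicalComplex.isZero_single_obj_X (ComplexShape.up ℤ) n P i (by omega)
  · by_cases h : i = n
    · subst h
      exact LocFreeOps.isFinLocFree_of_iso
        (HomologicalComplex.singleObjXSelf (ComplexShape.up ℤ) i P).symm hP
    · exact PerfLocal.isFinLocFree_of_isZero
        (HomologicalComplex.isZero_single_obj_X (ComplexShape.up ℤ) n P i h)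

lemma isPC_single_of_inD (F : X.Modules)
    (h : ∀ n : ℤ, DCoh.IsPseudoCoherentD n (DCoh.inD X F)) (b n : ℤ) :
    DCoh.IsPseudoCoherentD n ((DerivedCategory.singleFunctor X.Modules b).obj F) :=
  isPC_of_iso (((DerivedCategory.singleFunctors X.Modules).shiftIso (-b) b 0 (by omega)).app F)
    (isPC_shift (h (-b + n)) (-b) n rfl)

/-- pseudo-coherence is local, for arbitrary open immersions -/
lemma isPC_of_locally' {m : ℤ} (K : DCoh.D X)
    (h : ∀ x : X, ∃ (Y : Scheme.{u}) (j : Y ⟶ X) (_ : IsOpenImmersion j) (y : Y),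
      j.base y = x ∧ DCoh.IsPseudoCoherentD m ((DCoh.restrictD j).obj K)) :
    DCoh.IsPseudoCoherentD m K := by
  apply isPC_of_LPC
  intro x
  obtain ⟨Y, j, hj, y, hy, hK⟩ := h x
  obtain ⟨W, hyW, E, α, hE, hα⟩ := (isPC_iff _ _).1 hK y
  obtain ⟨c⟩ := nonempty_resD_comp W.ι j (W.ι ≫ j) rfl K
  refine ⟨W, W.ι ≫ j, inferInstance, ⟨y, hyW⟩, ?_, E, α ≫ c.hom, hE, hα.comp_iso _⟩
  rw [← hy]
  rfl

/-- restriction to an open preserves pseudo-coherence -/
lemma isPC_restrict {Y : Scheme.{u}} (j : Y ⟶ X) [IsOpenImmersion j] {m : ℤ} {K : DCoh.D X}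
    (hK : DCoh.IsPseudoCoherentD m K) :
    DCoh.IsPseudoCoherentD m ((DCoh.restrictD j).obj K) := by
  apply isPC_of_LPC
  intro y
  obtain ⟨V, hxV, hV⟩ := (isPC_iff m K).1 hK (j.base y)
  haveI : IsOpenImmersion (j.resLE V (j ⁻¹ᵁ V) le_rfl) := by
    rw [Scheme.Hom.resLE_eq_morphismRestrict]
    infer_instance
  have h1 : LPC m K ((j ⁻¹ᵁ V).ι ≫ j) :=
    LPC.comp (j.resLE V (j ⁻¹ᵁ V) le_rfl) V.ι ((j ⁻¹ᵁ V).ι ≫ j)
      (j.resLE_comp_ι (le_refl (j ⁻¹ᵁ V))).symm hV
  obtain ⟨E, α, hE, hα⟩ := h1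
  obtain ⟨c⟩ := nonempty_resD_comp (j ⁻¹ᵁ V).ι j ((j ⁻¹ᵁ V).ι ≫ j) rfl K
  exact ⟨_, (j ⁻¹ᵁ V).ι, inferInstance, ⟨y, hxV⟩, rfl, E, α ≫ c.inv, hE,
    hα.comp_iso _⟩

lemma exists_local_bound (m : ℤ) (K : DCoh.D X) (hK : DCoh.IsPseudoCoherentD m K) (y : X) :
    ∃ (W : X.Opens) (b : ℤ), y ∈ W ∧
      ∀ j : ℤ, b < j → IsZero ((restrictFunctor W.ι).obj (DCoh.HD K j)) := by
  obtain ⟨W, hyW, P, α, ⟨⟨a, b, hab⟩, -⟩, hα⟩ := (isPC_iff m K).1 hK y
  refine ⟨W, max b m, hyW, fun j hj => ?_⟩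
  have h1 := le_max_left b m
  have h2 := le_max_right b m
  exact IsZero.of_iso (isZero_homology_of_good α hα j (by omega) (hab j (Or.inr (by omega))))
    (resHDIso W.ι K j).symm

/-- the cone of a map which is an epimorphism on the top cohomology has smaller range -/
lemma isZero_homology_cone (T : Triangle (DCoh.D X)) (hT : T ∈ distTriang _) (b : ℤ)
    (h₁ : ∀ j : ℤ, b < j → IsZero (DCoh.HD T.obj₁ j))
    (h₂ : ∀ j : ℤ, b < j → IsZero (DCoh.HD T.obj₂ j))
    (hepi : Epi ((DerivedCategory.homologyFunctor _ b).map T.mor₁)) :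
    ∀ j : ℤ, b - 1 < j → IsZero (DCoh.HD T.obj₃ j) := by
  intro j hj
  by_cases hjb : j = b
  · subst hjb
    have hz : (DerivedCategory.homologyFunctor X.Modules j).map T.mor₂ = 0 := by
      haveI := hepi
      rw [← cancel_epi ((DerivedCategory.homologyFunctor X.Modules j).map T.mor₁),
        ← Functor.map_comp, comp_distTriang_mor_zero₁₂ _ hT, Functor.map_zero, comp_zero]
    exact (DerivedCategory.HomologySequence.exact₃ _ hT j (j + 1) rfl).isZero_of_both_zeros hz
      ((h₁ (j + 1) (by omega)).eq_of_tgt _ _)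
  · exact (DerivedCategory.HomologySequence.exact₃ _ hT j (j + 1) rfl).isZero_of_both_zeros
      ((h₂ j (by omega)).eq_of_src _ _) ((h₁ (j + 1) (by omega)).eq_of_tgt _ _)

/-! ### finite sums -/

/-- pseudo-coherent objects (for all `m`) -/
def allPC : ObjectProperty (DCoh.D X) := fun K => ∀ m : ℤ, DCoh.IsPseudoCoherentD m K

instance : (allPC (X := X)).IsClosedUnderIsomorphisms where
  of_iso e h := fun m => isPC_of_iso e (h m)

lemma allPC_zero : allPC (0 : DCoh.D X) := fun m =>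
  isPC_of_isZero_homology m 0
    (fun i _ => (DerivedCategory.homologyFunctor X.Modules i).map_isZero (isZero_zero _))

instance : (allPC (X := X)).ContainsZero := ⟨⟨0, isZero_zero _, allPC_zero⟩⟩

lemma allPC_biprod (K L : DCoh.D X) (hK : allPC K) (hL : allPC L) : allPC (K ⊞ L) := fun m =>
  (isPC_two_of_three m _ (binaryBiproductTriangle_distinguished K L)).2.1 (hK m) (hL m)

instance allPC_closedUnderBinaryProducts :
    (allPC (X := X)).IsClosedUnderLimitsOfShape (Discrete WalkingPair) where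
  limitsOfShape_le := by
    rintro K ⟨p⟩
    have hA : allPC (p.diag.obj ⟨WalkingPair.left⟩) := p.prop_diag_obj _
    have hB : allPC (p.diag.obj ⟨WalkingPair.right⟩) := p.prop_diag_obj _
    have hlim : IsLimit ((Cone.postcompose (diagramIsoPair p.diag).hom).obj (Cone.mk K p.π)) :=
      (IsLimit.postcomposeHomEquiv (diagramIsoPair p.diag) _).symm p.isLimit
    have e : K ≅ (p.diag.obj ⟨WalkingPair.left⟩) ⊞ (p.diag.obj ⟨WalkingPair.right⟩) :=
      IsLimit.conePointUniqueUpToIso hlim (BinaryBiproduct.isLimit _ _)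
    exact (allPC).prop_of_iso e.symm (allPC_biprod _ _ hA hB)

instance : (allPC (X := X)).IsClosedUnderFiniteProducts :=
  ObjectProperty.IsClosedUnderFiniteProducts.mk'

lemma allPC_map_biproduct {A : Type*} [Category A] [Preadditive A] {n : ℕ}
    (Φ : A ⥤ DCoh.D X) [Φ.Additive] (f : Fin n → A) [HasBiproduct f]
    (h : ∀ j, allPC (Φ.obj (f j))) : allPC (Φ.obj (⨁ f)) := by
  have hb : (Φ.mapBicone (biproduct.bicone f)).IsBilimit := by
    apply isBilimitOfTotal
    show ∑ j, Φ.map (biproduct.π f j) ≫ Φ.map (biproduct.ι f j) = 𝟙 (Φ.obj (⨁ f))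
    simp_rw [← Functor.map_comp]
    rw [← Functor.map_sum, biproduct.total]
    exact Φ.map_id _
  exact ObjectProperty.prop_of_isLimit_fan allPC hb.isLimit h

/-- a finite copower as a biproduct indexed by `Fin` -/
noncomputable def sigmaConstIsoBiproduct {A : Type*} [Category A] [Preadditive A]
    [HasFiniteBiproducts A] (I : Type*) [Finite I] (M : A) [HasCoproduct (fun _ : I => M)] :
    (∐ (fun _ : I => M)) ≅ ⨁ (fun _ : Fin (Nat.card I) => M) :=
  Sigma.whiskerEquiv (f := fun _ : I => M)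
      (g := fun _ : Fin (Nat.card I) => M) (Finite.equivFin I)
      (fun _ => Iso.refl _) ≪≫
    (biproduct.isoCoproduct _).symm

lemma allPC_map_sigma_const {A : Type*} [Category A] [Preadditive A] [HasFiniteBiproducts A]
    (Φ : A ⥤ DCoh.D X) [Φ.Additive] (I : Type*) [Finite I] (M : A)
    [HasCoproduct (fun _ : I => M)] (h : allPC (Φ.obj M)) :
    allPC (Φ.obj (∐ fun _ : I => M)) :=
  (allPC).prop_of_iso (Φ.mapIso (sigmaConstIsoBiproduct I M)).symm
    (allPC_map_biproduct Φ (fun _ : Fin (Nat.card I) => M) (fun _ => h))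

end General

/-! ### direct image along a closed immersion -/

section Basic

variable {Z Y : Scheme.{u}}

instance preservesFiniteLimits_pushforward (i : Z ⟶ Y) [IsClosedImmersion i] :
    PreservesFiniteLimits (pushforward i) := by
  haveI := ClImmPush.preservesHomology_pushforward i
  exact (pushforward i).preservesFiniteLimits_of_preservesHomology

instance preservesFiniteColimits_pushforward (i : Z ⟶ Y) [IsClosedImmersion i] :
    PreservesFiniteColimits (pushforward i) := by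
  haveI := ClImmPush.preservesHomology_pushforward i
  exact (pushforward i).preservesFiniteColimits_of_preservesHomology

instance isClosedImmersion_resLE (i : Z ⟶ Y) [IsClosedImmersion i] (W : Y.Opens) :
    IsClosedImmersion (i.resLE W (i ⁻¹ᵁ W) le_rfl) := by
  rw [Scheme.Hom.resLE_eq_morphismRestrict]
  infer_instance

/-- derived direct image along a closed immersion (termwise) -/
noncomputable abbrev pushD (i : Z ⟶ Y) [IsClosedImmersion i] : DCoh.D Z ⥤ DCoh.D Y :=
  (pushforward i).mapDerivedCategory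

lemma isZero_HD_push (i : Z ⟶ Y) [IsClosedImmersion i] (E : DCoh.D Z) (j : ℤ)
    (h : IsZero (DCoh.HD E j)) : IsZero (DCoh.HD ((pushD i).obj E) j) :=
  IsZero.of_iso ((pushforward i).map_isZero h) ((homologyDIso (pushforward i) j).app E)

lemma isZero_HD_of_push (i : Z ⟶ Y) [IsClosedImmersion i] (E : DCoh.D Z) (j : ℤ)
    (h : IsZero (DCoh.HD ((pushD i).obj E) j)) : IsZero (DCoh.HD E j) :=
  ClImmPush.isZero_of_pushforward i _
    (IsZero.of_iso h ((homologyDIso (pushforward i) j).app E).symm)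

/-- base change for restriction to an open, on modules -/
noncomputable def baseIso (i : Z ⟶ Y) (W : Y.Opens) :
    pushforward i ⋙ restrictFunctor W.ι ≅
      restrictFunctor (i ⁻¹ᵁ W).ι ⋙ pushforward (i.resLE W (i ⁻¹ᵁ W) le_rfl) :=
  QCohRpush.topIso i W ≪≫ QCohRpush.GIso i W (i ⁻¹ᵁ W) le_rfl

/-- base change for restriction to an open, on complexes -/
noncomputable def cxBaseIso (i : Z ⟶ Y) (W : Y.Opens) (F : CochainComplex Z.Modules ℤ) :
    ((restrictFunctor W.ι).mapHomologicalComplex (ComplexShape.up ℤ)).obj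
      (((pushforward i).mapHomologicalComplex (ComplexShape.up ℤ)).obj F) ≅
    ((pushforward (i.resLE W (i ⁻¹ᵁ W) le_rfl)).mapHomologicalComplex (ComplexShape.up ℤ)).obj
      (((restrictFunctor (i ⁻¹ᵁ W).ι).mapHomologicalComplex (ComplexShape.up ℤ)).obj F) :=
  HomologicalComplex.Hom.isoOfComponents (fun n => (baseIso i W).app (F.X n))
    (fun a b _ => ((baseIso i W).hom.naturality (F.d a b)).symm)

/-- base change for restriction to an open, on derived categories -/
lemma nonempty_baseChange (i : Z ⟶ Y) [IsClosedImmersion i] (W : Y.Opens) (K : DCoh.D Z) :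
    Nonempty ((DCoh.restrictD W.ι).obj ((pushD i).obj K) ≅
      (pushD (i.resLE W (i ⁻¹ᵁ W) le_rfl)).obj ((DCoh.restrictD (i ⁻¹ᵁ W).ι).obj K)) := by
  let F := DerivedCategory.Q.objPreimage K
  let e : DerivedCategory.Q.obj F ≅ K := DerivedCategory.Q.objObjPreimageIso K
  exact ⟨(DCoh.restrictD W.ι).mapIso ((pushD i).mapIso e.symm ≪≫
      (pushforward i).mapDerivedCategoryFactors.app F) ≪≫
    (restrictFunctor W.ι).mapDerivedCategoryFactors.app _ ≪≫
    DerivedCategory.Q.mapIso (cxBaseIso i W F) ≪≫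
    ((pushforward (i.resLE W (i ⁻¹ᵁ W) le_rfl)).mapDerivedCategoryFactors.app _).symm ≪≫
    (pushD (i.resLE W (i ⁻¹ᵁ W) le_rfl)).mapIso
      (((restrictFunctor (i ⁻¹ᵁ W).ι).mapDerivedCategoryFactors.app F).symm ≪≫
        (DCoh.restrictD (i ⁻¹ᵁ W).ι).mapIso e)⟩

lemma isZero_restrict_push (i : Z ⟶ Y) (W : Y.Opens) (hW : i ⁻¹ᵁ W = ⊥) (N : Z.Modules) :
    IsZero ((restrictFunctor W.ι).obj ((pushforward i).obj N)) := by
  apply ModBasic.isZero_of_subsingleton
  intro A
  have hA : i ⁻¹ᵁ (W.ι ''ᵁ A) = ⊥ := by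
    apply le_bot_iff.1
    rw [← hW]
    exact (Opens.map i.base).monotone (W.ι_image_le A)
  exact ClImmPush.subsingleton_sections_of_eq_bot N (i ⁻¹ᵁ (W.ι ''ᵁ A)) hA

lemma isPC_restrict_push_of_disjoint (i : Z ⟶ Y) [IsClosedImmersion i] (W : Y.Opens)
    (hW : i ⁻¹ᵁ W = ⊥) (K : DCoh.D Z) (m : ℤ) :
    DCoh.IsPseudoCoherentD m ((DCoh.restrictD W.ι).obj ((pushD i).obj K)) := by
  apply isPC_of_isZero_homology
  intro j _
  exact IsZero.of_iso (isZero_restrict_push i W hW (DCoh.HD K j))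
    (resHDIso W.ι ((pushD i).obj K) j ≪≫
      (restrictFunctor W.ι).mapIso ((homologyDIso (pushforward i) j).app K))

/-- the hypothesis on the structure sheaf restricts to opens -/
lemma hO_restrict (i : Z ⟶ Y) [IsClosedImmersion i]
    (hO : ∀ n : ℤ, DCoh.IsPseudoCoherentD n
      (DCoh.inD Y ((pushforward i).obj (Coh.structureModule Z))))
    (W : Y.Opens) (n : ℤ) :
    DCoh.IsPseudoCoherentD n (DCoh.inD (W : Scheme.{u})
      ((pushforward (i.resLE W (i ⁻¹ᵁ W) le_rfl)).obj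
        (Coh.structureModule ((i ⁻¹ᵁ W : Z.Opens) : Scheme.{u})))) := by
  have h1 := isPC_restrict W.ι (hO n)
  have e₁ : (restrictFunctor W.ι).obj ((pushforward i).obj (Coh.structureModule Z)) ≅
      (pushforward (i.resLE W (i ⁻¹ᵁ W) le_rfl)).obj
        (Coh.structureModule ((i ⁻¹ᵁ W : Z.Opens) : Scheme.{u})) :=
    (baseIso i W).app (Coh.structureModule Z) ≪≫
      (pushforward (i.resLE W (i ⁻¹ᵁ W) le_rfl)).mapIso (restrictUnitIso (i ⁻¹ᵁ W).ι)
  exact isPC_of_iso (restrictInDIso W.ι _ ≪≫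
    (DerivedCategory.singleFunctor _ 0).mapIso e₁) h1

/-- direct images of finite free modules, in any degree, are pseudo-coherent -/
lemma allPC_push_single_free (i : Z ⟶ Y) [IsClosedImmersion i]
    (hO : ∀ n : ℤ, DCoh.IsPseudoCoherentD n
      (DCoh.inD Y ((pushforward i).obj (Coh.structureModule Z))))
    (I : Type u) [Finite I] (b : ℤ) :
    allPC ((pushD i).obj ((DerivedCategory.singleFunctor Z.Modules b).obj
      (SheafOfModules.free (R := Z.ringCatSheaf) I))) := by
  haveI : HasFiniteBiproducts Z.Modules := HasFiniteBiproducts.of_hasFiniteProducts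
  have h2 := allPC_map_sigma_const (A := Z.Modules)
    (pushforward i ⋙ DerivedCategory.singleFunctor Y.Modules b) I (Coh.structureModule Z)
    (fun m => isPC_single_of_inD _ hO b m)
  have e1 := ((pushforward i).mapDerivedCategorySingleFunctor b).app
    (SheafOfModules.free (R := Z.ringCatSheaf) I)
  exact (allPC).prop_of_iso e1.symm h2

/-! ### generators -/

lemma epi_of_epi_pushforward_map (i : Z ⟶ Y) [IsClosedImmersion i] {M N : Z.Modules}
    (φ : M ⟶ N) (h : Epi ((pushforward i).map φ)) : Epi φ := by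
  have e : (pushforward i).obj (cokernel φ) ≅ cokernel ((pushforward i).map φ) :=
    PreservesCokernel.iso (pushforward i) φ
  have hz : IsZero (cokernel ((pushforward i).map φ)) := isZero_cokernel_of_epi _
  have hz' : IsZero (cokernel φ) := ClImmPush.isZero_of_pushforward i _ (IsZero.of_iso hz e)
  exact Preadditive.epi_of_isZero_cokernel φ hz'

lemma exists_epi_free_of_push (i : Z ⟶ Y) [IsClosedImmersion i] (A : Z.Modules) {I : Type u}
    (τ : SheafOfModules.free (R := Y.ringCatSheaf) I ⟶ (pushforward i).obj A) [Epi τ] :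
    ∃ σ : SheafOfModules.free (R := Z.ringCatSheaf) I ⟶ A, Epi σ := by
  have h1 : (pullbackPushforwardAdjunction i).unit.app _ ≫
      (pushforward i).map (((pullbackPushforwardAdjunction i).homEquiv _ _).symm τ) = τ :=
    ((pullbackPushforwardAdjunction i).homEquiv_unit _ _ _).symm.trans
      (Equiv.apply_symm_apply _ _)
  haveI : Epi ((pullbackPushforwardAdjunction i).unit.app _ ≫
      (pushforward i).map (((pullbackPushforwardAdjunction i).homEquiv _ _).symm τ)) := by
    rw [h1]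
    infer_instance
  have h2 : Epi ((pushforward i).map (((pullbackPushforwardAdjunction i).homEquiv _ _).symm τ)) :=
    epi_of_epi ((pullbackPushforwardAdjunction i).unit.app _) _
  haveI h3 : Epi (((pullbackPushforwardAdjunction i).homEquiv _ _).symm τ) :=
    epi_of_epi_pushforward_map i _ h2
  exact ⟨(Groth.Agent.Lib.Helper1.FreeField.pullbackFreeIso i I).inv ≫
    ((pullbackPushforwardAdjunction i).homEquiv _ _).symm τ, epi_comp _ _⟩

lemma exists_generators (i : Z ⟶ Y) [IsClosedImmersion i] (A : Z.Modules) (z : Z)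
    (h : SheafOfModules.IsFiniteType (R := Z.ringCatSheaf) A ∨
      SheafOfModules.IsFiniteType (R := Y.ringCatSheaf) ((pushforward i).obj A)) :
    ∃ W : Y.Opens, i.base z ∈ W ∧ ∃ (I : Type u) (_ : Finite I)
      (σ : (SheafOfModules.free (R := ((i ⁻¹ᵁ W : Z.Opens) : Scheme.{u}).ringCatSheaf) I :
          ((i ⁻¹ᵁ W : Z.Opens) : Scheme.{u}).Modules) ⟶
        (restrictFunctor (i ⁻¹ᵁ W).ι).obj A), Epi σ := by
  rcases h with h | h
  · haveI := h
    obtain ⟨V, -, hzV, σ, hσ⟩ := QCLocal.exists_affine_generatingSections A z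
    obtain ⟨W₀, hW₀o, hW₀⟩ := i.isClosedEmbedding.isEmbedding.isInducing.isOpen_iff.mp V.2
    have hV : V = i ⁻¹ᵁ (⟨W₀, hW₀o⟩ : Y.Opens) := TopologicalSpace.Opens.ext hW₀.symm
    subst hV
    haveI : Epi σ.π := σ.epi
    haveI := hσ
    exact ⟨⟨W₀, hW₀o⟩, hzV, σ.I, inferInstance, σ.π, inferInstance⟩
  · haveI := h
    obtain ⟨W, -, hxW, τ, hτ⟩ :=
      QCLocal.exists_affine_generatingSections ((pushforward i).obj A) (i.base z)
    haveI : Epi τ.π := τ.epi
    haveI := hτ
    haveI : Epi (τ.π ≫ (baseIso i W).hom.app A) := epi_comp _ _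
    obtain ⟨σ, hσ⟩ := exists_epi_free_of_push (i.resLE W (i ⁻¹ᵁ W) le_rfl)
      ((restrictFunctor (i ⁻¹ᵁ W).ι).obj A) (τ.π ≫ (baseIso i W).hom.app A)
    exact ⟨W, hxW, τ.I, inferInstance, σ, hσ⟩

end Basic

/-! ### local lifting of generators of the top cohomology -/

section Lift

theorem exists_lift {Y : Scheme.{u}} (E : DCoh.D Y) (b : ℤ)
    (hb : ∀ j : ℤ, b < j → IsZero (DCoh.HD E j)) {I : Type u} [Finite I]
    (σ : SheafOfModules.free (R := Y.ringCatSheaf) I ⟶ DCoh.HD E b) [Epi σ] (y : Y) :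
    ∃ (W : Y.Opens) (l : (DCoh.restrictD W.ι).obj
        ((DerivedCategory.singleFunctor Y.Modules b).obj
          (SheafOfModules.free (R := Y.ringCatSheaf) I)) ⟶ (DCoh.restrictD W.ι).obj E),
      y ∈ W ∧ Epi ((DerivedCategory.homologyFunctor _ b).map l) := by
  haveI : E.IsLE b := (DerivedCategory.isLE_iff E b).2 (fun j hj => hb j hj)
  obtain ⟨X', Y', hX', hY', f₀, g, h, hT⟩ :=
    DerivedCategory.TStructure.t.exists_triangle E (b - 1) b (by omega)
  haveI : X'.IsLE (b - 1) := ⟨hX'⟩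
  haveI : Y'.IsGE b := ⟨hY'⟩
  have zX' : ∀ i : ℤ, b - 1 < i → IsZero ((DerivedCategory.homologyFunctor _ i).obj X') :=
    fun i hi => DerivedCategory.isZero_of_isLE X' (b - 1) i hi
  haveI : Y'.IsLE b := by
    rw [DerivedCategory.isLE_iff]
    intro i hi
    exact (DerivedCategory.HomologySequence.exact₃ _ hT i (i + 1) rfl).isZero_of_both_zeros
      ((hb i hi).eq_of_src _ _) ((zX' (i + 1) (by omega)).eq_of_tgt _ _)
  obtain ⟨A', ⟨eY⟩⟩ := DerivedCategory.exists_iso_singleFunctor_obj_of_isGE_of_isLE Y' b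
  haveI : Mono ((DerivedCategory.homologyFunctor Y.Modules b).map g) :=
    (DerivedCategory.HomologySequence.mono_homologyMap_mor₂_iff _ hT b).2
      ((zX' b (by omega)).eq_of_src _ _)
  haveI : Epi ((DerivedCategory.homologyFunctor Y.Modules b).map g) :=
    (DerivedCategory.HomologySequence.epi_homologyMap_mor₂_iff _ hT b (b + 1) rfl).2
      ((zX' (b + 1) (by omega)).eq_of_tgt _ _)
  haveI : IsIso ((DerivedCategory.homologyFunctor Y.Modules b).map g) := isIso_of_mono_of_epi _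
  obtain ⟨f, hf⟩ : ∃ f : E ⟶ (DerivedCategory.singleFunctor Y.Modules b).obj A',
      f = g ≫ eY.hom := ⟨_, rfl⟩
  haveI hfiso : IsIso ((DerivedCategory.homologyFunctor Y.Modules b).map f) := by
    rw [hf, Functor.map_comp]
    infer_instance
  have eA : DCoh.HD E b ≅ A' :=
    asIso ((DerivedCategory.homologyFunctor Y.Modules b).map f) ≪≫
      (DerivedCategory.singleFunctorCompHomologyFunctorIso Y.Modules b).app A'
  have hfgood : Good b f :=
    ⟨fun i hi => isIso_of_isZero _ (hb i hi)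
      (DerivedCategory.isZero_of_isLE ((DerivedCategory.singleFunctor Y.Modules b).obj A') b i hi),
      inferInstance⟩
  obtain ⟨K, ⟨e⟩⟩ : ∃ K : CochainComplex Y.Modules ℤ, Nonempty (DerivedCategory.Q.obj K ≅ E) :=
    ⟨_, ⟨DerivedCategory.Q.objObjPreimageIso E⟩⟩
  have hf' : Good b (e.hom ≫ f) := Good.iso_comp e.hom hfgood
  have hP : DCoh.IsStrictlyPerfect ((CochainComplex.singleFunctor Y.Modules b).obj
      (SheafOfModules.free (R := Y.ringCatSheaf) I)) :=
    isStrictlyPerfect_single' _ (isFinLocFree_free I) b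
  have hPa : ∀ j : ℤ, j < b → IsZero (((CochainComplex.singleFunctor Y.Modules b).obj
      (SheafOfModules.free (R := Y.ringCatSheaf) I)).X j) :=
    fun j hj => HomologicalComplex.isZero_single_obj_X (ComplexShape.up ℤ) b _ j (by omega)
  haveI : Epi (σ ≫ eA.hom) := epi_comp _ _
  obtain ⟨ψ, hψdef⟩ : ∃ ψ : DerivedCategory.Q.obj ((CochainComplex.singleFunctor Y.Modules b).obj
        (SheafOfModules.free (R := Y.ringCatSheaf) I)) ⟶
        (DerivedCategory.singleFunctor Y.Modules b).obj A',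
      ψ = ((DerivedCategory.singleFunctorIsoCompQ Y.Modules b).app
          (SheafOfModules.free (R := Y.ringCatSheaf) I)).inv ≫
        (DerivedCategory.singleFunctor Y.Modules b).map (σ ≫ eA.hom) := ⟨_, rfl⟩
  have hψ : Good b ψ := by
    rw [hψdef]
    exact Good.iso_comp _ (good_single_map_of_epi' b (σ ≫ eA.hom))
  obtain ⟨W, t, hyW, ht⟩ := locally_factor hP b hPa (e.hom ≫ f) hf' ψ y
  obtain ⟨l, hl⟩ : ∃ l : (DCoh.restrictD W.ι).obj
        ((DerivedCategory.singleFunctor Y.Modules b).obj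
          (SheafOfModules.free (R := Y.ringCatSheaf) I)) ⟶ (DCoh.restrictD W.ι).obj E,
      l = (DCoh.restrictD W.ι).map ((DerivedCategory.singleFunctorIsoCompQ Y.Modules b).app
          (SheafOfModules.free (R := Y.ringCatSheaf) I)).hom ≫
        (restrictFunctor W.ι).mapDerivedCategoryFactors.hom.app _ ≫ DerivedCategory.Q.map t ≫
        (restrictFunctor W.ι).mapDerivedCategoryFactors.inv.app K ≫
        (DCoh.restrictD W.ι).map e.hom := ⟨_, rfl⟩
  refine ⟨W, l, hyW, ?_⟩
  have key : l ≫ (DCoh.restrictD W.ι).map f =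
      (DCoh.restrictD W.ι).map (((DerivedCategory.singleFunctorIsoCompQ Y.Modules b).app
          (SheafOfModules.free (R := Y.ringCatSheaf) I)).hom ≫ ψ) := by
    rw [Functor.map_comp, ht, hl, Functor.map_comp]
    simp only [Category.assoc]
  have hgood : Good b ((DCoh.restrictD W.ι).map
      (((DerivedCategory.singleFunctorIsoCompQ Y.Modules b).app
          (SheafOfModules.free (R := Y.ringCatSheaf) I)).hom ≫ ψ)) :=
    good_map (restrictFunctor W.ι) (Good.iso_comp _ hψ)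
  haveI hepi : Epi ((DerivedCategory.homologyFunctor _ b).map
      (l ≫ (DCoh.restrictD W.ι).map f)) := by
    rw [key]
    exact hgood.2
  haveI hiso : IsIso ((DerivedCategory.homologyFunctor _ b).map
      ((DCoh.restrictD W.ι).map f)) :=
    (NatIso.isIso_map_iff (homologyDIso (restrictFunctor W.ι) b) f).2
      (by rw [Functor.comp_map]; infer_instance)
  have hdecomp : (DerivedCategory.homologyFunctor _ b).map l =
      (DerivedCategory.homologyFunctor _ b).map (l ≫ (DCoh.restrictD W.ι).map f) ≫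
        inv ((DerivedCategory.homologyFunctor _ b).map ((DCoh.restrictD W.ι).map f)) := by
    rw [Functor.map_comp, Category.assoc, IsIso.hom_inv_id, Category.comp_id]
  rw [hdecomp]
  exact epi_comp _ _

end Lift

/-! ### the induction -/

section Main

variable {Z Y : Scheme.{u}}

lemma exists_eq_preimage (i : Z ⟶ Y) [IsClosedImmersion i] (W : Z.Opens) :
    ∃ U : Y.Opens, W = i ⁻¹ᵁ U := by
  obtain ⟨W₀, hW₀o, hW₀⟩ := i.isClosedEmbedding.isEmbedding.isInducing.isOpen_iff.mp W.2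
  exact ⟨⟨W₀, hW₀o⟩, TopologicalSpace.Opens.ext hW₀.symm⟩

/-- away from the closed subscheme the direct image vanishes -/
lemma exists_pc_of_not_mem_range (i : Z ⟶ Y) [IsClosedImmersion i] (E : DCoh.D Z) (m : ℤ)
    (x : Y) (hx : x ∉ Set.range i.base) :
    ∃ (Y' : Scheme.{u}) (j : Y' ⟶ Y) (_ : IsOpenImmersion j) (y : Y'),
      j.base y = x ∧ DCoh.IsPseudoCoherentD m ((DCoh.restrictD j).obj ((pushD i).obj E)) := by
  obtain ⟨U₀, hU₀⟩ : ∃ U₀ : Y.Opens, (U₀ : Set Y) = (Set.range i.base)ᶜ :=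
    ⟨⟨(Set.range i.base)ᶜ, i.isClosedEmbedding.isClosed_range.isOpen_compl⟩, rfl⟩
  have hbot : i ⁻¹ᵁ U₀ = ⊥ := by
    rw [eq_bot_iff]
    intro z hz
    have hz' : i.base z ∈ (U₀ : Set Y) := hz
    rw [hU₀] at hz'
    exact (hz' ⟨z, rfl⟩).elim
  have hxU : x ∈ U₀ := by
    rw [← SetLike.mem_coe, hU₀]
    exact hx
  exact ⟨_, U₀.ι, inferInstance, ⟨x, hxU⟩, rfl, isPC_restrict_push_of_disjoint i U₀ hbot E m⟩

/-- the inductive hypothesis: the equivalence holds for objects whose cohomology vanishes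
above a degree `b < m + k` -/
def IHyp (m : ℤ) (k : ℕ) : Prop :=
  ∀ {V U : Scheme.{u}} (i : V ⟶ U) [IsClosedImmersion i],
    (∀ n : ℤ, DCoh.IsPseudoCoherentD n
      (DCoh.inD U ((pushforward i).obj (Coh.structureModule V)))) →
    ∀ (E : DCoh.D V) (b : ℤ), (∀ j : ℤ, b < j → IsZero (DCoh.HD E j)) → b < m + (k : ℤ) →
      (DCoh.IsPseudoCoherentD m E ↔ DCoh.IsPseudoCoherentD m ((pushD i).obj E))

lemma step_core (m : ℤ) {Z₁ Y₁ : Scheme.{u}} (i₁ : Z₁ ⟶ Y₁) [IsClosedImmersion i₁]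
    (T : Triangle (DCoh.D Z₁)) (hT : T ∈ distTriang _)
    (F1 : ∀ n : ℤ, DCoh.IsPseudoCoherentD n T.obj₁)
    (F2 : ∀ n : ℤ, DCoh.IsPseudoCoherentD n ((pushD i₁).obj T.obj₁))
    (F4 : DCoh.IsPseudoCoherentD m T.obj₃ ↔ DCoh.IsPseudoCoherentD m ((pushD i₁).obj T.obj₃)) :
    DCoh.IsPseudoCoherentD m T.obj₂ ↔ DCoh.IsPseudoCoherentD m ((pushD i₁).obj T.obj₂) := by
  have hT' := (pushD i₁).map_distinguished _ hT
  have T1 := isPC_two_of_three m _ hT
  have T2 := isPC_two_of_three m _ hT'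
  exact ⟨fun h => T2.2.1 (F2 m) (F4.1 (T1.1 (F1 (m + 1)) h)),
    fun h => T1.2.1 (F1 m) (F4.2 (T2.1 (F2 (m + 1)) h))⟩

lemma step (m : ℤ) (k : ℕ) (IH : IHyp.{u} m k) (i : Z ⟶ Y) [IsClosedImmersion i]
    (hO : ∀ n : ℤ, DCoh.IsPseudoCoherentD n
      (DCoh.inD Y ((pushforward i).obj (Coh.structureModule Z))))
    (E : DCoh.D Z) (b : ℤ) (hb : ∀ j : ℤ, b < j → IsZero (DCoh.HD E j))
    (hbk : b < m + ((k + 1 : ℕ) : ℤ)) {I : Type u} [Finite I]
    (σ : SheafOfModules.free (R := Z.ringCatSheaf) I ⟶ DCoh.HD E b) [Epi σ] (z : Z) :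
    ∃ U₁ : Y.Opens, i.base z ∈ U₁ ∧
      (DCoh.IsPseudoCoherentD m ((DCoh.restrictD (i ⁻¹ᵁ U₁).ι).obj E) ↔
        DCoh.IsPseudoCoherentD m ((DCoh.restrictD U₁.ι).obj ((pushD i).obj E))) := by
  obtain ⟨W, l, hzW, hl⟩ := exists_lift E b hb σ z
  obtain ⟨U₁, rfl⟩ := exists_eq_preimage i W
  refine ⟨U₁, hzW, ?_⟩
  obtain ⟨C, g, h, hT⟩ := distinguished_cocone_triangle l
  have F1 : ∀ n : ℤ, DCoh.IsPseudoCoherentD n ((DCoh.restrictD (i ⁻¹ᵁ U₁).ι).obj
      ((DerivedCategory.singleFunctor Z.Modules b).obj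
        (SheafOfModules.free (R := Z.ringCatSheaf) I))) := fun n =>
    isPC_restrict _ (isPC_single_of_inD _
      (fun n' => isPC_inD_of_isFinLocFree (isFinLocFree_free I) n') b n)
  have F2 : ∀ n : ℤ, DCoh.IsPseudoCoherentD n ((pushD (i.resLE U₁ (i ⁻¹ᵁ U₁) le_rfl)).obj
      ((DCoh.restrictD (i ⁻¹ᵁ U₁).ι).obj ((DerivedCategory.singleFunctor Z.Modules b).obj
        (SheafOfModules.free (R := Z.ringCatSheaf) I)))) := fun n => by
    obtain ⟨c⟩ := nonempty_baseChange i U₁ ((DerivedCategory.singleFunctor Z.Modules b).obj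
        (SheafOfModules.free (R := Z.ringCatSheaf) I))
    exact isPC_of_iso c (isPC_restrict _ (allPC_push_single_free i hO I b n))
  have F3 : ∀ j : ℤ, b - 1 < j → IsZero (DCoh.HD C j) := by
    refine isZero_homology_cone (Triangle.mk l g h) hT b ?_ ?_ hl
    · intro j hj
      exact IsZero.of_iso ((restrictFunctor _).map_isZero
        (DerivedCategory.isZero_of_isLE ((DerivedCategory.singleFunctor Z.Modules b).obj
          (SheafOfModules.free (R := Z.ringCatSheaf) I)) b j hj))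
        (resHDIso _ _ j)
    · intro j hj
      exact IsZero.of_iso ((restrictFunctor _).map_isZero (hb j hj)) (resHDIso _ _ j)
  have F4 := IH (i.resLE U₁ (i ⁻¹ᵁ U₁) le_rfl) (hO_restrict i hO U₁) C (b - 1) F3
    (by push_cast at hbk; omega)
  obtain ⟨c⟩ := nonempty_baseChange i U₁ E
  have key := step_core m (i.resLE U₁ (i ⁻¹ᵁ U₁) le_rfl) (Triangle.mk l g h) hT F1 F2 F4
  exact ⟨fun h => isPC_of_iso c.symm (key.1 h), fun h => key.2 (isPC_of_iso c h)⟩

lemma loc (m : ℤ) (k : ℕ) (IH : IHyp.{u} m k) (i : Z ⟶ Y) [IsClosedImmersion i]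
    (hO : ∀ n : ℤ, DCoh.IsPseudoCoherentD n
      (DCoh.inD Y ((pushforward i).obj (Coh.structureModule Z))))
    (E : DCoh.D Z) (b : ℤ) (hb : ∀ j : ℤ, b < j → IsZero (DCoh.HD E j))
    (hbk : b < m + ((k + 1 : ℕ) : ℤ))
    (hft : CohB1.IsFT (DCoh.HD E b) ∨ CohB1.IsFT ((pushforward i).obj (DCoh.HD E b))) (z : Z) :
    ∃ (U₀ : Y.Opens) (hz : i.base z ∈ U₀) (U₁ : (U₀ : Scheme.{u}).Opens),
      (i.resLE U₀ (i ⁻¹ᵁ U₀) le_rfl).base ⟨z, hz⟩ ∈ U₁ ∧
      (DCoh.IsPseudoCoherentD m
          ((DCoh.restrictD ((i.resLE U₀ (i ⁻¹ᵁ U₀) le_rfl) ⁻¹ᵁ U₁).ι).obj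
            ((DCoh.restrictD (i ⁻¹ᵁ U₀).ι).obj E)) ↔
        DCoh.IsPseudoCoherentD m ((DCoh.restrictD U₁.ι).obj
          ((DCoh.restrictD U₀.ι).obj ((pushD i).obj E)))) := by
  obtain ⟨U₀, hz, I, hI, σ₀, hσ₀⟩ := exists_generators i (DCoh.HD E b) z hft
  haveI := hI
  haveI := hσ₀
  have hb₀ : ∀ j : ℤ, b < j → IsZero (DCoh.HD ((DCoh.restrictD (i ⁻¹ᵁ U₀).ι).obj E) j) :=
    fun j hj => IsZero.of_iso ((restrictFunctor _).map_isZero (hb j hj)) (resHDIso _ _ j)
  haveI : Epi (σ₀ ≫ (resHDIso (i ⁻¹ᵁ U₀).ι E b).inv) := epi_comp _ _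
  obtain ⟨U₁, hz₁, hiff⟩ := step m k IH (i.resLE U₀ (i ⁻¹ᵁ U₀) le_rfl) (hO_restrict i hO U₀)
    ((DCoh.restrictD (i ⁻¹ᵁ U₀).ι).obj E) b hb₀ hbk
    (σ₀ ≫ (resHDIso (i ⁻¹ᵁ U₀).ι E b).inv) ⟨z, hz⟩
  obtain ⟨c₀⟩ := nonempty_baseChange i U₀ E
  refine ⟨U₀, hz, U₁, hz₁, hiff.trans ?_⟩
  exact ⟨fun h => isPC_of_iso ((DCoh.restrictD U₁.ι).mapIso c₀.symm) h,
    fun h => isPC_of_iso ((DCoh.restrictD U₁.ι).mapIso c₀) h⟩

theorem main_aux (m : ℤ) (k : ℕ) : IHyp.{u} m k := by
  induction k with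
  | zero =>
    intro V U i _ hO E b hb hbk
    have hbm : b < m := by simpa using hbk
    exact ⟨fun _ => isPC_of_isZero_homology m _
        (fun j hj => isZero_HD_push i E j (hb j (by omega))),
      fun _ => isPC_of_isZero_homology m _ (fun j hj => hb j (by omega))⟩
  | succ k IH =>
    intro V U i _ hO E b hb hbk
    by_cases hbm : b < m
    · exact ⟨fun _ => isPC_of_isZero_homology m _
          (fun j hj => isZero_HD_push i E j (hb j (by omega))),
        fun _ => isPC_of_isZero_homology m _ (fun j hj => hb j (by omega))⟩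
    · have hmb : m ≤ b := not_lt.mp hbm
      constructor
      · intro hE
        have hft : CohB1.IsFT (DCoh.HD E b) ∨
            CohB1.IsFT ((pushforward i).obj (DCoh.HD E b)) :=
          Or.inl (isFT_top b E (isPC_mono hE hmb) hb)
        apply isPC_of_locally'
        intro x
        by_cases hx : x ∈ Set.range i.base
        · obtain ⟨z, rfl⟩ := hx
          obtain ⟨U₀, hz, U₁, hz₁, hiff⟩ := loc m k IH i hO E b hb hbk hft z
          obtain ⟨c⟩ := nonempty_resD_comp U₁.ι U₀.ι (U₁.ι ≫ U₀.ι) rfl ((pushD i).obj E)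
          refine ⟨_, U₁.ι ≫ U₀.ι, inferInstance, ⟨_, hz₁⟩, ?_, ?_⟩
          · have h1 : ((i.resLE U₀ (i ⁻¹ᵁ U₀) le_rfl).base ⟨z, hz⟩).1 = i.base z :=
              Scheme.Hom.coe_resLE_apply ..
            exact h1
          · exact isPC_of_iso c (hiff.1 (isPC_restrict _ (isPC_restrict _ hE)))
        · exact exists_pc_of_not_mem_range i E m x hx
      · intro hP
        have hbP : ∀ j : ℤ, b < j → IsZero (DCoh.HD ((pushD i).obj E) j) :=
          fun j hj => isZero_HD_push i E j (hb j hj)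
        haveI hft0 : SheafOfModules.IsFiniteType (R := U.ringCatSheaf)
            (DCoh.HD ((pushD i).obj E) b) := isFT_top b _ (isPC_mono hP hmb) hbP
        have hft : CohB1.IsFT (DCoh.HD E b) ∨
            CohB1.IsFT ((pushforward i).obj (DCoh.HD E b)) :=
          Or.inr (QCProps.isFiniteType_of_iso
            (show DCoh.HD ((pushD i).obj E) b ≅ (pushforward i).obj (DCoh.HD E b) from
              (homologyDIso (pushforward i) b).app E))
        apply isPC_of_locally'
        intro z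
        obtain ⟨U₀, hz, U₁, hz₁, hiff⟩ := loc m k IH i hO E b hb hbk hft z
        obtain ⟨c⟩ := nonempty_resD_comp ((i.resLE U₀ (i ⁻¹ᵁ U₀) le_rfl) ⁻¹ᵁ U₁).ι (i ⁻¹ᵁ U₀).ι
          (((i.resLE U₀ (i ⁻¹ᵁ U₀) le_rfl) ⁻¹ᵁ U₁).ι ≫ (i ⁻¹ᵁ U₀).ι) rfl E
        exact ⟨_, ((i.resLE U₀ (i ⁻¹ᵁ U₀) le_rfl) ⁻¹ᵁ U₁).ι ≫ (i ⁻¹ᵁ U₀).ι, inferInstance,
          ⟨⟨z, hz⟩, hz₁⟩, rfl,
          isPC_of_iso c (hiff.2 (isPC_restrict _ (isPC_restrict _ hP)))⟩

/-- **Pseudo-coherence and direct image along a closed immersion.** -/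
theorem isPC_push_iff (i : Z ⟶ Y) [IsClosedImmersion i]
    (hO : ∀ n : ℤ, DCoh.IsPseudoCoherentD n
      (DCoh.inD Y ((pushforward i).obj (Coh.structureModule Z))))
    (E : DCoh.D Z) (m : ℤ) :
    DCoh.IsPseudoCoherentD m E ↔ DCoh.IsPseudoCoherentD m ((pushD i).obj E) := by
  constructor
  · intro hE
    apply isPC_of_locally'
    intro x
    by_cases hx : x ∈ Set.range i.base
    · obtain ⟨z, rfl⟩ := hx
      obtain ⟨W, b, hzW, hbW⟩ := exists_local_bound m E hE z
      obtain ⟨U', rfl⟩ := exists_eq_preimage i W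
      have hb' : ∀ j : ℤ, b < j →
          IsZero (DCoh.HD ((DCoh.restrictD (i ⁻¹ᵁ U').ι).obj E) j) :=
        fun j hj => IsZero.of_iso (hbW j hj) (resHDIso _ _ j)
      have hk : b < m + (((b - m + 1).toNat : ℕ) : ℤ) := by
        have := Int.self_le_toNat (b - m + 1)
        omega
      have hiff := main_aux m (b - m + 1).toNat (i.resLE U' (i ⁻¹ᵁ U') le_rfl)
        (hO_restrict i hO U') _ b hb' hk
      obtain ⟨c⟩ := nonempty_baseChange i U' E
      exact ⟨_, U'.ι, inferInstance, ⟨i.base z, hzW⟩, rfl,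
        isPC_of_iso c.symm (hiff.1 (isPC_restrict _ hE))⟩
    · exact exists_pc_of_not_mem_range i E m x hx
  · intro hP
    apply isPC_of_locally'
    intro z
    obtain ⟨U', b, hzU, hbU⟩ := exists_local_bound m _ hP (i.base z)
    obtain ⟨c⟩ := nonempty_baseChange i U' E
    have hb' : ∀ j : ℤ, b < j →
        IsZero (DCoh.HD ((DCoh.restrictD (i ⁻¹ᵁ U').ι).obj E) j) := by
      intro j hj
      apply isZero_HD_of_push (i.resLE U' (i ⁻¹ᵁ U') le_rfl)
      exact IsZero.of_iso (hbU j hj)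
        ((DerivedCategory.homologyFunctor _ j).mapIso c.symm ≪≫ resHDIso U'.ι _ j)
    have hk : b < m + (((b - m + 1).toNat : ℕ) : ℤ) := by
      have := Int.self_le_toNat (b - m + 1)
      omega
    have hiff := main_aux m (b - m + 1).toNat (i.resLE U' (i ⁻¹ᵁ U') le_rfl)
      (hO_restrict i hO U') _ b hb' hk
    exact ⟨_, (i ⁻¹ᵁ U').ι, inferInstance, ⟨z, hzU⟩, rfl,
      hiff.2 (isPC_of_iso c (isPC_restrict _ hP))⟩

end Main

end Groth.Agent.Lib.Helper13.ClImmPC
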