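import Mathlib
import Groth.Agent.Lib.Helper13.ClImmPC
import Groth.Agent.Lib.Helper2.LDer.DCohAmp
import Groth.Agent.Lib.Helper2.Stk.LpullAmp
import Groth.Agent.Lib.Helper3.QCLocal
import Groth.Agent.Lib.Helper17.FinLocFreeSec

/-!
# Perfect = pseudo-coherent + locally finite tor dimension (helper13)

* `main`: an object with flat amplitude in `[a, b]` which is `(a-1)`-pseudo-coherent is perfect
  (induction on `b - a`, killing the top cohomology sheaf by a locally lifted map from a finite free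
  module).
* `isPC_of_isPerfect`, `locHasFiniteTorDim_of_isPerfect`, `isPerfect_of_pc_of_locTor`.
* `isPerfect_of_retract`, `isPerfect_of_isBilimit`: direct summands of perfect objects are perfect.
-/

set_option autoImplicit false
set_option backward.isDefEq.respectTransparency false
universe u

namespace Groth.Agent.Lib.Helper13.PerfTor

open CategoryTheory CategoryTheory.Limits AlgebraicGeometry TopologicalSpace
open AlgebraicGeometry.Scheme.Modules
open Groth.Agent.Lib.Helper13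
open Groth.Agent.Lib.Helper3 Groth.Agent.Lib.Helper17
open Groth.Agent.Lib.Helper13.GoodMap Groth.Agent.Lib.Helper13.PCohTri
  Groth.Agent.Lib.Helper13.PerfTri Groth.Agent.Lib.Helper13.PCohSum
  Groth.Agent.Lib.Helper13.PCohFT Groth.Agent.Lib.Helper13.PCohSingle
  Groth.Agent.Lib.Helper13.PCohNoeth Groth.Agent.Lib.Helper13.ClImmPC
open Groth.Agent.Lib.Helper2.LDer
open CategoryTheory.Pretriangulated ZeroObject
attribute [local instance] HasDerivedCategory.standard

/-! ### generalities -/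

lemma isZero_homology_iff_epi_d {A : Type*} [Category A] [Abelian A] (F : CochainComplex A ℤ)
    (i j k : ℤ) (hij : i + 1 = j) (hjk : j + 1 = k) (hk : IsZero (F.X k)) :
    IsZero (F.homology j) ↔ Epi (F.d i j) := by
  subst hij hjk
  rw [← HomologicalComplex.exactAt_iff_isZero_homology,
    HomologicalComplex.exactAt_iff' F i (i + 1) (i + 1 + 1) (by simp) (by simp)]
  exact ShortComplex.exact_iff_epi _ (hk.eq_of_tgt _ _)

/-- perfectness is local, for arbitrary open immersions -/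
lemma isPerfect_of_locally {X : Scheme.{u}} (K : DCoh.D X)
    (h : ∀ x : X, ∃ (Y : Scheme.{u}) (j : Y ⟶ X) (_ : IsOpenImmersion j) (y : Y),
      j.base y = x ∧ DCoh.IsPerfect ((DCoh.restrictD j).obj K)) : DCoh.IsPerfect K := by
  apply isPerfect_of_LPD
  intro x
  obtain ⟨Y, j, hj, y, hy, hK⟩ := h x
  obtain ⟨W, hyW, E, hE, ⟨e⟩⟩ := (isPerfect_iff _).1 hK y
  obtain ⟨c⟩ := nonempty_resD_comp W.ι j (W.ι ≫ j) rfl K
  refine ⟨W, W.ι ≫ j, inferInstance, ⟨y, hyW⟩, ?_, E, hE, ⟨c.symm ≪≫ e⟩⟩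
  rw [← hy]
  rfl

lemma isPerfect_of_isStrictlyPerfect {X : Scheme.{u}} (F : CochainComplex X.Modules ℤ)
    (hF : DCoh.IsStrictlyPerfect F) : DCoh.IsPerfect (DerivedCategory.Q.obj F) := by
  rw [isPerfect_iff]
  intro x
  exact ⟨⊤, trivial, (resCx (⊤ : X.Opens).ι).obj F,
    PerfLocal.isStrictlyPerfect_restrict _ F hF,
    ⟨(restrictFunctor (⊤ : X.Opens).ι).mapDerivedCategoryFactors.app F⟩⟩

theorem isPC_of_isPerfect {X : Scheme.{u}} (E : DCoh.D X) (hE : DCoh.IsPerfect E) (m : ℤ) :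
    DCoh.IsPseudoCoherentD m E := by
  rw [isPC_iff]
  intro x
  obtain ⟨V, hxV, P, hP, ⟨e⟩⟩ := (isPerfect_iff E).1 hE x
  exact ⟨V, hxV, P, e.inv, hP, good_of_isIso e.inv m⟩

/-! ### flatness and flat amplitude -/

lemma isFlat_restrict {X Y : Scheme.{u}} (j : Y ⟶ X) [IsOpenImmersion j] (M : X.Modules)
    (hM : FlatMod.IsFlat M) : FlatMod.IsFlat ((restrictFunctor j).obj M) :=
  Groth.Agent.Lib.Helper2.StalkFlat.isFlat_of_iso ((restrictFunctorIsoPullback j).app M).symm
    (Groth.Agent.Lib.Helper2.Stk.isFlat_pullback j M hM)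

lemma isFlat_of_isFinLocFree' {X : Scheme.{u}} {M : X.Modules} (hM : FlatMod.IsFinLocFree M) :
    FlatMod.IsFlat M := by
  haveI := LocFreeCrit.isQuasicoherent_of_isFinLocFree hM
  exact FinLocFreeSec.isFlat_of_isFinLocFree M hM

lemma hasFlatAmp_of_iso {X : Scheme.{u}} {a b : ℤ} {K K' : DCoh.D X} (e : K ≅ K')
    (h : DCoh.HasFlatAmplitudeIn a b K) : DCoh.HasFlatAmplitudeIn a b K' := by
  obtain ⟨F, hv, hfl, ⟨i⟩⟩ := h
  exact ⟨F, hv, hfl, ⟨i ≪≫ e⟩⟩

lemma hasFlatAmp_mono {X : Scheme.{u}} {a b a' b' : ℤ} {K : DCoh.D X}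
    (h : DCoh.HasFlatAmplitudeIn a b K) (ha : a' ≤ a) (hb : b ≤ b') :
    DCoh.HasFlatAmplitudeIn a' b' K := by
  obtain ⟨F, hv, hfl, hi⟩ := h
  exact ⟨F, fun i hi' => hv i (by omega), hfl, hi⟩

lemma hasFlatAmp_restrict {X Y : Scheme.{u}} (j : Y ⟶ X) [IsOpenImmersion j] (a b : ℤ)
    (K : DCoh.D X) (h : DCoh.HasFlatAmplitudeIn a b K) :
    DCoh.HasFlatAmplitudeIn a b ((DCoh.restrictD j).obj K) := by
  obtain ⟨E, hv, hflat, ⟨e⟩⟩ := h
  exact ⟨(resCx j).obj E, fun i hi => (restrictFunctor j).map_isZero (hv i hi),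
    fun i => isFlat_restrict j _ (hflat i),
    ⟨((restrictFunctor j).mapDerivedCategoryFactors.app E).symm ≪≫
      (DCoh.restrictD j).mapIso e⟩⟩

lemma isZero_HD_of_flatAmp {X : Scheme.{u}} {a b : ℤ} {K : DCoh.D X}
    (h : DCoh.HasFlatAmplitudeIn a b K) (i : ℤ) (hi : i < a ∨ b < i) :
    IsZero (DCoh.HD K i) := by
  obtain ⟨F, hv, -, ⟨e⟩⟩ := h
  have h1 : IsZero (F.homology i) :=
    (F.sc i).exact_iff_isZero_homology.1 ((F.sc i).exact_of_isZero_X₂ (hv i hi))
  exact IsZero.of_iso h1 ((DerivedCategory.homologyFunctor X.Modules i).mapIso e.symm ≪≫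
    (DerivedCategory.homologyFunctorFactors X.Modules i).app F)

/-- if the top cohomology sheaf vanishes, the tor amplitude shrinks -/
lemma hasTorAmp_of_isZero_top {X : Scheme.{u}} (K : DCoh.D X) (a b : ℤ)
    (h : DCoh.HasFlatAmplitudeIn a b K) (hz : IsZero (DCoh.HD K b)) :
    DCoh.HasTorAmplitudeIn a (b - 1) K := by
  intro G _ i hi
  by_cases hib : i = b
  · subst hib
    obtain ⟨F, hv, hflat, ⟨e⟩⟩ := h
    haveI := DC.isStrictlyLE_of_vanishesOutside F a i hv
    obtain ⟨φ⟩ := DC.nonempty_HD_iso G K F (DC.good_of_isStrictlyLE F i hflat) e i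
    refine IsZero.of_iso ?_ φ
    have hF : IsZero (F.homology i) :=
      IsZero.of_iso hz (((DerivedCategory.homologyFunctorFactors X.Modules i).app F).symm ≪≫
        (DerivedCategory.homologyFunctor X.Modules i).mapIso e)
    haveI hepi : Epi (F.d (i - 1) i) :=
      (isZero_homology_iff_epi_d F (i - 1) i (i + 1) (by omega) rfl
        (hv (i + 1) (Or.inr (by omega)))).1 hF
    haveI : PreservesFiniteColimits ((DCoh.tensorBi (X := X)).flip.obj G) :=
      (inferInstance : PreservesFiniteColimits ((ModSite.tensorBi X.sheaf).flip.obj G))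
    haveI h3 : Epi (((DCoh.tensorBi (X := X)).flip.obj G).map (F.d (i - 1) i)) := inferInstance
    have h4 : Epi ((DCoh.tensorRightMod G).map (F.d (i - 1) i)) := h3
    exact (isZero_homology_iff_epi_d
      (((DCoh.tensorRightMod G).mapHomologicalComplex (ComplexShape.up ℤ)).obj F)
      (i - 1) i (i + 1) (by omega) rfl
      ((DCoh.tensorRightMod G).map_isZero (hv (i + 1) (Or.inr (by omega))))).2 h4
  · exact DC.isZero_HD_of_flatAmplitude G K a b h i (by omega)

/-! ### the base case -/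

theorem base {X : Scheme.{u}} (E : DCoh.D X) (a : ℤ) (h1 : DCoh.HasFlatAmplitudeIn a a E)
    (h2 : DCoh.IsPseudoCoherentD (a - 1) E) : DCoh.IsPerfect E := by
  have hvan : ∀ i : ℤ, a - 1 + 1 < i → IsZero (DCoh.HD E i) := fun i hi =>
    isZero_HD_of_flatAmp h1 i (Or.inr (by omega))
  have hfp := isFP_top (a - 1) E h2 hvan
  have haa : a - 1 + 1 = a := by omega
  rw [haa] at hfp
  obtain ⟨F, hv, hflat, ⟨e⟩⟩ := h1
  have hd1 : F.d a (a + 1) = 0 := (hv (a + 1) (Or.inr (by omega))).eq_of_tgt _ _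
  have hd0 : F.d (a - 1) a = 0 := (hv (a - 1) (Or.inl (by omega))).eq_of_src _ _
  have c : DCoh.HD E a ≅ F.X a :=
    (DerivedCategory.homologyFunctor X.Modules a).mapIso e.symm ≪≫
      (DerivedCategory.homologyFunctorFactors X.Modules a).app F ≪≫
      (F.isoHomologyπ (a - 1) a (by simp) hd0).symm ≪≫ F.iCyclesIso a (a + 1) (by simp) hd1
  haveI hfpF : SheafOfModules.IsFinitePresentation (R := X.ringCatSheaf) (F.X a) :=
    (SheafOfModules.isFinitePresentation X.ringCatSheaf).prop_of_iso c hfp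
  have hflf : FlatMod.IsFinLocFree (F.X a) :=
    FinLocFreeSec.isFinLocFree_of_isFlat (F.X a) (hflat a)
  have hF : DCoh.IsStrictlyPerfect F := by
    refine ⟨⟨a, a, hv⟩, fun i => ?_⟩
    by_cases hi : i = a
    · subst hi
      exact hflf
    · exact PerfLocal.isFinLocFree_of_isZero (hv i (by omega))
  exact isPerfect_of_iso e (isPerfect_of_isStrictlyPerfect F hF)

/-! ### the induction step -/

lemma single_free_facts {Y : Scheme.{u}} (W : Y.Opens) (I : Type u) [Finite I] (b : ℤ) :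
    (∀ n : ℤ, DCoh.IsPseudoCoherentD n ((DCoh.restrictD W.ι).obj
      ((DerivedCategory.singleFunctor Y.Modules b).obj
        (SheafOfModules.free (R := Y.ringCatSheaf) I)))) ∧
    DCoh.IsPerfect ((DCoh.restrictD W.ι).obj
      ((DerivedCategory.singleFunctor Y.Modules b).obj
        (SheafOfModules.free (R := Y.ringCatSheaf) I))) ∧
    DCoh.HasFlatAmplitudeIn b b ((DCoh.restrictD W.ι).obj
      ((DerivedCategory.singleFunctor Y.Modules b).obj
        (SheafOfModules.free (R := Y.ringCatSheaf) I))) := by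
  have hsp : DCoh.IsStrictlyPerfect ((resCx W.ι).obj
      ((CochainComplex.singleFunctor Y.Modules b).obj
        (SheafOfModules.free (R := Y.ringCatSheaf) I))) :=
    PerfLocal.isStrictlyPerfect_restrict W.ι _
      (isStrictlyPerfect_single' _ (isFinLocFree_free I) b)
  have hv : DCoh.VanishesOutside ((resCx W.ι).obj
      ((CochainComplex.singleFunctor Y.Modules b).obj
        (SheafOfModules.free (R := Y.ringCatSheaf) I))) b b := fun i hi =>
    (restrictFunctor W.ι).map_isZero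
      (HomologicalComplex.isZero_single_obj_X (ComplexShape.up ℤ) b _ i (by omega))
  have e₁ : Nonempty ((DCoh.restrictD W.ι).obj ((DerivedCategory.singleFunctor Y.Modules b).obj
        (SheafOfModules.free (R := Y.ringCatSheaf) I)) ≅
      DerivedCategory.Q.obj ((resCx W.ι).obj ((CochainComplex.singleFunctor Y.Modules b).obj
        (SheafOfModules.free (R := Y.ringCatSheaf) I)))) :=
    ⟨(DCoh.restrictD W.ι).mapIso ((DerivedCategory.singleFunctorIsoCompQ Y.Modules b).app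
        (SheafOfModules.free (R := Y.ringCatSheaf) I)) ≪≫
      (restrictFunctor W.ι).mapDerivedCategoryFactors.app _⟩
  obtain ⟨e₁⟩ := e₁
  refine ⟨fun n => ?_, ?_, ?_⟩
  · exact isPC_restrict _ (isPC_single_of_inD _
      (fun n' => isPC_inD_of_isFinLocFree (isFinLocFree_free I) n') b n)
  · exact isPerfect_of_iso e₁.symm (isPerfect_of_isStrictlyPerfect _ hsp)
  · exact ⟨_, hv, fun i => isFlat_of_isFinLocFree' (hsp.2 i), ⟨e₁.symm⟩⟩

lemma step {Y : Scheme.{u}} (E : DCoh.D Y) (a b : ℤ) (hab : a ≤ b - 1)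
    (IH : ∀ (Z : Scheme.{u}) (C : DCoh.D Z), DCoh.HasFlatAmplitudeIn a (b - 1) C →
      DCoh.IsPseudoCoherentD (a - 1) C → DCoh.IsPerfect C)
    (h1 : DCoh.HasFlatAmplitudeIn a b E) (h2 : DCoh.IsPseudoCoherentD (a - 1) E)
    {I : Type u} [Finite I] (σ : SheafOfModules.free (R := Y.ringCatSheaf) I ⟶ DCoh.HD E b)
    [Epi σ] (y : Y) :
    ∃ W : Y.Opens, y ∈ W ∧ DCoh.IsPerfect ((DCoh.restrictD W.ι).obj E) := by
  have hb : ∀ j : ℤ, b < j → IsZero (DCoh.HD E j) := fun j hj =>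
    isZero_HD_of_flatAmp h1 j (Or.inr hj)
  obtain ⟨W, l, hyW, hl⟩ := exists_lift E b hb σ y
  refine ⟨W, hyW, ?_⟩
  obtain ⟨C, g, h, hT⟩ := distinguished_cocone_triangle l
  obtain ⟨F1, F1p, F1f⟩ := single_free_facts W I b
  have F2f : DCoh.HasFlatAmplitudeIn a b ((DCoh.restrictD W.ι).obj E) :=
    hasFlatAmp_restrict W.ι a b E h1
  have F2pc : DCoh.IsPseudoCoherentD (a - 1) ((DCoh.restrictD W.ι).obj E) :=
    isPC_restrict W.ι h2
  have F3 : ∀ j : ℤ, b - 1 < j → IsZero (DCoh.HD C j) := by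
    refine isZero_homology_cone (Triangle.mk l g h) hT b ?_ ?_ hl
    · intro j hj
      exact isZero_HD_of_flatAmp F1f j (Or.inr hj)
    · intro j hj
      exact isZero_HD_of_flatAmp F2f j (Or.inr hj)
  have F4 : DCoh.IsPseudoCoherentD (a - 1) C :=
    (isPC_two_of_three (a - 1) (Triangle.mk l g h) hT).1 (F1 (a - 1 + 1)) F2pc
  have F5 : DCoh.HasTorAmplitudeIn a b C := by
    intro G _ i hi
    obtain ⟨t₁, -, -⟩ := DC.triangle_vanishing (Triangle.mk l g h) hT G
    exact t₁ i (i + 1) rfl (DC.isZero_HD_of_flatAmplitude G _ a b F2f i hi)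
      (DC.isZero_HD_of_flatAmplitude G _ b b F1f (i + 1) (by omega))
  have F6 : DCoh.HasFlatAmplitudeIn a b C :=
    DC.hasFlatAmplitudeIn_of_hasTorAmplitudeIn C a b (by omega) F5
  have F7 : DCoh.HasTorAmplitudeIn a (b - 1) C :=
    hasTorAmp_of_isZero_top C a b F6 (F3 b (by omega))
  have F8 : DCoh.HasFlatAmplitudeIn a (b - 1) C :=
    DC.hasFlatAmplitudeIn_of_hasTorAmplitudeIn C a (b - 1) hab F7
  have F9 : DCoh.IsPerfect C := IH _ C F8 F4
  exact (two_of_three (Triangle.mk l g h) hT).2.1 F1p F9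

theorem main_aux : ∀ (n : ℕ) (X : Scheme.{u}) (E : DCoh.D X) (a b : ℤ), a ≤ b →
    (b - a).toNat = n → DCoh.HasFlatAmplitudeIn a b E → DCoh.IsPseudoCoherentD (a - 1) E →
    DCoh.IsPerfect E := by
  intro n
  induction n with
  | zero =>
    intro X E a b hab hn h1 h2
    obtain rfl : b = a := by omega
    exact base E _ h1 h2
  | succ n ih =>
    intro X E a b hab hn h1 h2
    have hab' : a ≤ b - 1 := by omega
    have hvan : ∀ j : ℤ, b < j → IsZero (DCoh.HD E j) := fun j hj =>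
      isZero_HD_of_flatAmp h1 j (Or.inr hj)
    haveI hft : SheafOfModules.IsFiniteType (R := X.ringCatSheaf) (DCoh.HD E b) :=
      isFT_top b E (isPC_mono h2 (by omega)) hvan
    apply isPerfect_of_locally
    intro x
    obtain ⟨V, -, hxV, σ, hσ⟩ := QCLocal.exists_affine_generatingSections (DCoh.HD E b) x
    haveI := hσ
    haveI : Epi σ.π := σ.epi
    haveI : Epi (σ.π ≫ (resHDIso V.ι E b).inv) := epi_comp _ _
    obtain ⟨W, hxW, hW⟩ := step ((DCoh.restrictD V.ι).obj E) a b hab'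
      (fun Z C hC1 hC2 => ih Z C a (b - 1) hab' (by omega) hC1 hC2)
      (hasFlatAmp_restrict V.ι a b E h1) (isPC_restrict V.ι h2)
      (σ.π ≫ (resHDIso V.ι E b).inv) ⟨x, hxV⟩
    obtain ⟨c⟩ := nonempty_resD_comp W.ι V.ι (W.ι ≫ V.ι) rfl E
    exact ⟨W, W.ι ≫ V.ι, inferInstance, ⟨⟨x, hxV⟩, hxW⟩, rfl, isPerfect_of_iso c hW⟩

/-- flat amplitude in `[a, b]` and `(a-1)`-pseudo-coherent implies perfect -/
theorem main {X : Scheme.{u}} (E : DCoh.D X) (a b : ℤ) (hab : a ≤ b)
    (h1 : DCoh.HasFlatAmplitudeIn a b E) (h2 : DCoh.IsPseudoCoherentD (a - 1) E) :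
    DCoh.IsPerfect E :=
  main_aux _ X E a b hab rfl h1 h2

/-! ### consequences -/

theorem locHasFiniteTorDim_of_isPerfect {X : Scheme.{u}} (E : DCoh.D X)
    (hE : DCoh.IsPerfect E) : DCoh.LocHasFiniteTorDim E := by
  intro x
  obtain ⟨V, hxV, P, ⟨⟨a, b, hab⟩, hfl⟩, ⟨e⟩⟩ := (isPerfect_iff E).1 hE x
  refine ⟨V, a, b, hxV, ?_⟩
  rintro F' ⟨i⟩
  exact ⟨P, hab, fun k => isFlat_of_isFinLocFree' (hfl k),
    ⟨e.symm ≪≫ (DCoh.restrictD V.ι).mapIso i.symm ≪≫
      (restrictFunctor V.ι).mapDerivedCategoryFactors.app F'⟩⟩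

theorem isPerfect_of_pc_of_locTor {X : Scheme.{u}} (E : DCoh.D X)
    (hpc : ∀ m : ℤ, DCoh.IsPseudoCoherentD m E) (ht : DCoh.LocHasFiniteTorDim E) :
    DCoh.IsPerfect E := by
  apply isPerfect_of_locally
  intro x
  obtain ⟨V, a, b, hxV, hV⟩ := ht x
  have h0 := hV (DerivedCategory.Q.objPreimage E) ⟨DerivedCategory.Q.objObjPreimageIso E⟩
  have h1 : DCoh.HasFlatAmplitudeIn a b ((DCoh.restrictD V.ι).obj E) :=
    hasFlatAmp_of_iso (((restrictFunctor V.ι).mapDerivedCategoryFactors.app _).symm ≪≫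
      (DCoh.restrictD V.ι).mapIso (DerivedCategory.Q.objObjPreimageIso E)) h0
  have h2 := hasFlatAmp_mono h1 (min_le_left a b) (le_max_right a b)
  exact ⟨V, V.ι, inferInstance, ⟨x, hxV⟩, rfl,
    main _ (min a b) (max a b) (le_trans (min_le_left a b) (le_max_left a b)) h2
      (isPC_restrict V.ι (hpc _))⟩

theorem isPerfect_of_retract {X : Scheme.{u}} {M N : DCoh.D X} (ι : M ⟶ N) (π : N ⟶ M)
    (hιπ : ι ≫ π = 𝟙 M) (hN : DCoh.IsPerfect N)
    (hpc : ∀ m : ℤ, DCoh.IsPseudoCoherentD m M) : DCoh.IsPerfect M := by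
  apply isPerfect_of_locally
  intro x
  obtain ⟨V, hxV, P, ⟨⟨a, b, hab⟩, hfl⟩, ⟨e⟩⟩ := (isPerfect_iff N).1 hN x
  have hNV : DCoh.HasFlatAmplitudeIn a b ((DCoh.restrictD V.ι).obj N) :=
    ⟨P, hab, fun i => isFlat_of_isFinLocFree' (hfl i), ⟨e.symm⟩⟩
  have hMV : DCoh.HasTorAmplitudeIn (min a b) (max a b) ((DCoh.restrictD V.ι).obj M) := by
    intro G _ i hi
    have h3 := min_le_left a b
    have h4 := le_max_right a b
    have hz := DC.isZero_HD_of_flatAmplitude G _ a b hNV i (by omega)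
    exact isZero_of_retract (DCoh.LTensorMod G ⋙ DerivedCategory.homologyFunctor _ i)
      ((DCoh.restrictD V.ι).map ι) ((DCoh.restrictD V.ι).map π)
      (by rw [← CategoryTheory.Functor.map_comp, hιπ, CategoryTheory.Functor.map_id]) hz
  have hMV' := DC.hasFlatAmplitudeIn_of_hasTorAmplitudeIn _ (min a b) (max a b)
    (le_trans (min_le_left a b) (le_max_left a b)) hMV
  exact ⟨V, V.ι, inferInstance, ⟨x, hxV⟩, rfl,
    main _ (min a b) (max a b) (le_trans (min_le_left a b) (le_max_left a b)) hMV'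
      (isPC_restrict V.ι (hpc _))⟩

theorem isPerfect_of_isBilimit {X : Scheme.{u}} {K L : DCoh.D X} (c : BinaryBicone K L)
    (hc : c.IsBilimit) (h : DCoh.IsPerfect c.pt) : DCoh.IsPerfect K ∧ DCoh.IsPerfect L := by
  have e : c.pt ≅ K ⊞ L := biprod.uniqueUpToIso K L hc
  have h' : DCoh.IsPerfect (K ⊞ L) := isPerfect_of_iso e h
  have hpc : ∀ m : ℤ, DCoh.IsPseudoCoherentD m K ∧ DCoh.IsPseudoCoherentD m L := fun m =>
    isPC_of_biprod m K L (isPC_of_isPerfect _ h' m)
  exact ⟨isPerfect_of_retract biprod.inl biprod.fst biprod.inl_fst h' (fun m => (hpc m).1),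
    isPerfect_of_retract biprod.inr biprod.snd biprod.inr_snd h' (fun m => (hpc m).2)⟩

end Groth.Agent.Lib.Helper13.PerfTor
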