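import Groth.Agent.Lib.Helper3.PbBasic
import Groth.Agent.Lib.Helper3.FreeBasis
import Groth.Agent.Lib.Helper3.QCExact

/-!
# The pullback of a local basis is a local basis (helper13)

Rank `n` version of helper3's `PbBasic.isGen_pull`.
-/

set_option autoImplicit false
universe u
open CategoryTheory CategoryTheory.Limits AlgebraicGeometry TopologicalSpace Opposite
open Scheme.Modules

namespace Groth.Agent.Lib.Helper13.PullBasis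

open Groth.Agent.Lib.Helper3 Groth.Agent.Lib.Helper3.QCSec Groth.Agent.Lib.Helper3.InvGen
  Groth.Agent.Lib.Helper3.FreeBasis Groth.Agent.Lib.Helper3.PbBasic

variable {X Y : Scheme.{u}}

/-- `f^* (O_Y^n) ≅ O_X^n` -/
noncomputable def pbFree (f : X ⟶ Y) (n : ℕ) :
    (Scheme.Modules.pullback f).obj (FlatMod.freeMod Y n) ≅ FlatMod.freeMod X n :=
  PreservesCoproduct.iso (Scheme.Modules.pullback f) (fun _ : Fin n => Coh.structureModule Y) ≪≫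
    Sigma.mapIso (fun _ => pbUnit f)

theorem inj_pbFree_inv (f : X ⟶ Y) (n : ℕ) (i : Fin n) :
    inj X n i ≫ (pbFree f n).inv =
      (pbUnit f).inv ≫ (Scheme.Modules.pullback f).map (inj Y n i) := by
  unfold pbFree inj
  rw [Iso.trans_inv, PreservesCoproduct.inv_hom, Sigma.ι_mapIso_inv_assoc, ι_comp_sigmaComparison]

/-- an isomorphism `O_U^n ≅ L|_U` gives a basis -/
theorem isBasis_of_isIso {L : X.Modules} {U : X.Opens} {n : ℕ}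
    (ψ : FlatMod.freeMod (U : Scheme.{u}) n ⟶ L.restrict U.ι) [IsIso ψ]
    (W' : (U : Scheme.{u}).Opens) (hW' : U ≤ U.ι ''ᵁ W') :
    IsBasis L U (fun i => res L hW' (show Γ(L, U.ι ''ᵁ W') from ψ.app W' (bsec n i W'))) := by
  have hψ : ∀ V' : (U : Scheme.{u}).Opens, IsBasisAt (L.restrict U.ι) V'
      (fun i => ψ.app V' (bsec n i V')) := fun V' =>
    (isBasisAt_bsec n V').map_iso (asIso ψ)
  have hW'top : ∀ V'' : (U : Scheme.{u}).Opens, V'' ≤ W' := by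
    intro V'' x _
    obtain ⟨y, hy, hyx⟩ := hW' x.2
    have : y = x := Subtype.ext hyx
    rwa [this] at hy
  intro V hV
  have h1 := (isBasisAt_restrict_iff U.ι L (U.ι ⁻¹ᵁ V) _).mp (hψ (U.ι ⁻¹ᵁ V))
  have h2 := h1.of_eq (ι_image_preimage_of_le hV).symm
  have h3 : ∀ i, (show Γ(L, U.ι ''ᵁ (U.ι ⁻¹ᵁ V)) from
      ψ.app (U.ι ⁻¹ᵁ V) (bsec n i (U.ι ⁻¹ᵁ V))) =
      res L (Scheme.Hom.image_mono U.ι (hW'top _))
        (show Γ(L, U.ι ''ᵁ W') from ψ.app W' (bsec n i W')) := by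
    intro i
    rw [← res_bsec n i (hW'top (U.ι ⁻¹ᵁ V)), QCExact.app_res']
    rfl
  have hfun : ∀ i, res L (le_of_eq (ι_image_preimage_of_le hV).symm)
      (show Γ(L, U.ι ''ᵁ (U.ι ⁻¹ᵁ V)) from ψ.app (U.ι ⁻¹ᵁ V) (bsec n i (U.ι ⁻¹ᵁ V))) =
      res L hV (res L hW' (show Γ(L, U.ι ''ᵁ W') from ψ.app W' (bsec n i W'))) := by
    intro i
    rw [h3 i, res_res, res_res]
  exact (congrArg (IsBasisAt L V) (funext hfun)).mp h2

/-- the pullback of a local basis is a local basis -/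
theorem isBasis_pull (f : X ⟶ Y) {M : Y.Modules} {V : Y.Opens} {n : ℕ} {e : Fin n → Γ(M, V)}
    (hb : IsBasis M V e) :
    IsBasis ((Scheme.Modules.pullback f).obj M) (f ⁻¹ᵁ V) (fun i => pull f M V (e i)) := by
  haveI := isIso_homOfSecs hb
  obtain ⟨ψ, hψ⟩ : ∃ ψ : FlatMod.freeMod ((f ⁻¹ᵁ V : X.Opens) : Scheme.{u}) n ⟶
      ((Scheme.Modules.pullback f).obj M).restrict (f ⁻¹ᵁ V).ι,
      ψ = (pbFree (f ∣_ V) n).inv ≫ (Scheme.Modules.pullback (f ∣_ V)).map (homOfSecs M V e) ≫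
        (pbRestrict f V).inv.app M := ⟨_, rfl⟩
  haveI : IsIso ψ := by rw [hψ]; infer_instance
  have hinj : ∀ i, inj _ n i ≫ ψ =
      pullHom (f ∣_ V) (homOfSec M V (e i)) ≫ (pbRestrict f V).inv.app M := by
    intro i
    rw [hψ, ← Category.assoc, inj_pbFree_inv, Category.assoc, ← Functor.map_comp_assoc,
      inj_homOfSecs]
    unfold pullHom
    rw [Category.assoc]
  have hW' : f ⁻¹ᵁ V ≤ (f ⁻¹ᵁ V).ι ''ᵁ ((f ∣_ V) ⁻¹ᵁ (V.ι ⁻¹ᵁ V)) := by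
    rw [preimage_morphismRestrict, ι_image_preimage_of_le le_rfl]
  have key := isBasis_of_isIso ψ ((f ∣_ V) ⁻¹ᵁ (V.ι ⁻¹ᵁ V)) hW'
  have hsec : ∀ i, (show Γ((Scheme.Modules.pullback f).obj M,
      (f ⁻¹ᵁ V).ι ''ᵁ ((f ∣_ V) ⁻¹ᵁ (V.ι ⁻¹ᵁ V))) from
        ψ.app ((f ∣_ V) ⁻¹ᵁ (V.ι ⁻¹ᵁ V)) (bsec n i ((f ∣_ V) ⁻¹ᵁ (V.ι ⁻¹ᵁ V)))) =
      res _ (show (f ⁻¹ᵁ V).ι ''ᵁ ((f ∣_ V) ⁻¹ᵁ (V.ι ⁻¹ᵁ V)) ≤ f ⁻¹ᵁ V from
        (f ⁻¹ᵁ V).ι_image_le _) (pull f M V (e i)) := by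
    intro i
    have h1 := pbRestrict_hom_pull f V M V (e i) ((f ⁻¹ᵁ V).ι_image_le _)
    have h2 : sec (homOfSec M V (e i)) (V.ι ⁻¹ᵁ V) = res M (V.ι.image_preimage_le V) (e i) :=
      sec_homOfSec M V (e i) (V.ι ⁻¹ᵁ V)
    have hs : ψ.app ((f ∣_ V) ⁻¹ᵁ (V.ι ⁻¹ᵁ V)) (bsec n i ((f ∣_ V) ⁻¹ᵁ (V.ι ⁻¹ᵁ V))) =
        ((pbRestrict f V).inv.app M).app ((f ∣_ V) ⁻¹ᵁ (V.ι ⁻¹ᵁ V))
          (pull (f ∣_ V) (M.restrict V.ι) (V.ι ⁻¹ᵁ V)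
            (res M (V.ι.image_preimage_le V) (e i))) := by
      unfold bsec
      rw [← sec_comp, hinj, sec_comp, sec_pullHom, h2]
      rfl
    have h3 := congrArg
      (fun z => ((pbRestrict f V).inv.app M).app ((f ∣_ V) ⁻¹ᵁ (V.ι ⁻¹ᵁ V)) z) h1
    exact hs.trans (h3.symm.trans (InvMonoidal.iso_inv_hom_app ((pbRestrict f V).app M) _ _))
  have hfun : ∀ i, res ((Scheme.Modules.pullback f).obj M) hW'
      (show Γ((Scheme.Modules.pullback f).obj M,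
        (f ⁻¹ᵁ V).ι ''ᵁ ((f ∣_ V) ⁻¹ᵁ (V.ι ⁻¹ᵁ V))) from
        ψ.app ((f ∣_ V) ⁻¹ᵁ (V.ι ⁻¹ᵁ V)) (bsec n i ((f ∣_ V) ⁻¹ᵁ (V.ι ⁻¹ᵁ V)))) =
      pull f M V (e i) := by
    intro i
    rw [hsec i, res_res, res_self]
  exact (congrArg (IsBasis ((Scheme.Modules.pullback f).obj M) (f ⁻¹ᵁ V)) (funext hfun)).mp key

end Groth.Agent.Lib.Helper13.PullBasis
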