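import Groth.Agent.Lib.Helper13.TmBasis
import Groth.Agent.Lib.Helper13.PullBasis
import Groth.Agent.Lib.Helper2.Mon.ProjFormula
import Groth.Agent.Lib.Helper2.StalkFlat.Flat
import Groth.Agent.Lib.Helper13.PerfTor
import Groth.Agent.Lib.Helper13.ModSiteFlatSES
import Groth.Agent.Lib.Helper13.ModSiteUnitor
import Groth.Agent.Lib.Helper13.DerivedCommute
import Groth.Agent.Lib.Helper2.GSS.CompExactAcyclic
import Groth.Agent.Lib.Helper13.PCohNoeth
import Groth.Agent.Lib.Helper13.KInjSch
import Groth.Agent.Lib.Helper13.KInjDerived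
import Groth.Agent.Lib.Helper13.ModGrothendieck
import Groth.Agent.Lib.Helper13.RelMVMod
import Groth.Agent.Lib.Helper3.TwistMul
import Groth.Agent.Lib.Helper3.LocFreeCrit
import Groth.Agent.Lib.Helper17.LocFreeOps

/-!
# The projection formula for finite locally free modules (helper13)

* `isIso_projHom_of_isFinLocFree`: `f_*A ⊗ E ⟶ f_*(A ⊗ f^*E)` is an isomorphism for `E` finite
  locally free.
* `racyc_tensor_injective`: `f^*E ⊗ I` is `f_*`-acyclic for `I` injective.
* `projection_formula`: `E ⊗ R^q f_* F ≅ R^q f_* (f^*E ⊗ F)`.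
-/

set_option autoImplicit false
universe u
open CategoryTheory CategoryTheory.Limits AlgebraicGeometry TopologicalSpace Opposite
open Scheme.Modules

namespace Groth.Agent.Lib.Helper13.ProjFormulaLF

open Groth.Agent.Lib.Helper3 Groth.Agent.Lib.Helper3.QCSec Groth.Agent.Lib.Helper3.FreeBasis
  Groth.Agent.Lib.Helper3.InvTensor Groth.Agent.Lib.Helper3.PbBasic Groth.Agent.Lib.Helper2.Mon
  Groth.Agent.Lib.Helper3.InvMonoidal

variable {X Y : Scheme.{u}}

/-- the projection morphism is an isomorphism for a finite locally free module -/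
theorem isIso_projHom_of_isFinLocFree (f : X ⟶ Y) (A : X.Modules) (E : Y.Modules)
    (hE : FlatMod.IsFinLocFree E) : IsIso (projHom f A E) := by
  apply TwistMul.isIso_of_locally_bijective
  intro y
  obtain ⟨V, n, e, hyV, hb⟩ := LocFreeCrit.isFinLocFree_iff.mp hE y
  refine ⟨V, hyV, fun V' hV' => ?_⟩
  have hbX := PullBasis.isBasis_pull f hb
  have hle : f ⁻¹ᵁ V' ≤ f ⁻¹ᵁ V := fun _ hx => hV' hx
  have h1 := TmBasis.tmb_bijective ((pushforward f).obj A) E hb V' hV'
  have h2 := TmBasis.tmb_bijective A ((Scheme.Modules.pullback f).obj E) hbX (f ⁻¹ᵁ V') hle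
  have hcomp : (fun t : Fin n → Γ(A, f ⁻¹ᵁ V') =>
      TmBasis.tmb A ((Scheme.Modules.pullback f).obj E) (f ⁻¹ᵁ V') t
        (fun i => res _ hle (pull f E V (e i)))) =
      ((projHom f A E).app V') ∘ (fun t : Fin n → Γ((pushforward f).obj A, V') =>
        TmBasis.tmb ((pushforward f).obj A) E V' t (fun i => res E hV' (e i))) := by
    funext t
    change _ = (projHom f A E).app V' (TmBasis.tmb ((pushforward f).obj A) E V' t _)
    unfold TmBasis.tmb
    rw [FreeBasis.app_sum]
    apply Finset.sum_congr rfl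
    intro i _
    rw [projHom_tm]
    exact congrArg (tm A ((Scheme.Modules.pullback f).obj E) (f ⁻¹ᵁ V') (t i))
      (PbBasic.res_pull f E hV' (e i))
  have h2' : Function.Bijective (((projHom f A E).app V') ∘
      (fun t : Fin n → Γ((pushforward f).obj A, V') =>
        TmBasis.tmb ((pushforward f).obj A) E V' t (fun i => res E hV' (e i)))) := by
    rw [← hcomp]
    exact h2
  exact (Function.Bijective.of_comp_iff _ h1).mp h2'

/-! ### the functors `E ⊗ -` and `- ⊗ E` -/

/-- `- ⊗ E` -/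
noncomputable abbrev TR (E : Y.Modules) : Y.Modules ⥤ Y.Modules :=
  (DCoh.tensorBi (X := Y)).flip.obj E

/-- `E ⊗ -` -/
noncomputable abbrev TL (E : Y.Modules) : Y.Modules ⥤ Y.Modules :=
  (DCoh.tensorBi (X := Y)).obj E

instance additive_TR (E : Y.Modules) : (TR E).Additive :=
  ModSiteFlatSES.additive_flip (O := OX Y) E

instance additive_TL (E : Y.Modules) : (TL E).Additive :=
  ModSiteFlatSES.additive_obj (O := OX Y) E

instance pfc_TL (E : Y.Modules) : PreservesFiniteColimits (TL E) :=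
  ModSiteFlat.preservesFiniteColimits_obj (OX Y) E

/-- `E ⊗ - ≅ - ⊗ E` -/
noncomputable def braidIso (E : Y.Modules) : TL E ≅ TR E :=
  ModSiteFlat.objIsoFlipObj (OX Y) E

theorem pfl_TL (E : Y.Modules) (hE : FlatMod.IsFinLocFree E) : PreservesFiniteLimits (TL E) :=
  ModSiteFlatSES.preservesFiniteLimits_obj_of_isFlat (O := OX Y)
    (Groth.Agent.Lib.Helper2.StalkFlat.isFlat_of_flat_stalks E
      (PerfTor.isFlat_of_isFinLocFree' hE))

/-- the projection isomorphism as a natural isomorphism `f_*(-) ⊗ E ≅ f_*(- ⊗ f^*E)` -/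
noncomputable def projNatIso (f : X ⟶ Y) (E : Y.Modules) (hE : FlatMod.IsFinLocFree E) :
    pushforward f ⋙ TR E ≅ TR ((Scheme.Modules.pullback f).obj E) ⋙ pushforward f :=
  NatIso.ofComponents
    (fun A => @asIso _ _ _ _ (projHom f A E) (isIso_projHom_of_isFinLocFree f A E hE))
    (by
      intro A A' α
      have h := projHom_naturality f α (𝟙 E)
      rw [CategoryTheory.Functor.map_id] at h
      change (DCoh.tensorBi.map ((pushforward f).map α)).app E ≫ projHom f A' E =
        projHom f A E ≫ (pushforward f).map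
          ((DCoh.tensorBi.map α).app ((Scheme.Modules.pullback f).obj E))
      rw [tensorBi_map_app, tensorBi_map_app]
      exact h)

/-- `E ⊗ f_*(-) ≅ f_*(f^*E ⊗ -)` -/
noncomputable def projNatIsoL (f : X ⟶ Y) (E : Y.Modules) (hE : FlatMod.IsFinLocFree E) :
    pushforward f ⋙ TL E ≅ TL ((Scheme.Modules.pullback f).obj E) ⋙ pushforward f :=
  Functor.isoWhiskerLeft (pushforward f) (braidIso E) ≪≫ projNatIso f E hE ≪≫
    Functor.isoWhiskerRight (braidIso ((Scheme.Modules.pullback f).obj E)).symm (pushforward f)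

/-! ### acyclicity -/

theorem injective_sigma_fin {C : Type*} [Category C] [Abelian C] (r : ℕ) (I : C)
    (hI : Injective I) : Injective (∐ fun _ : Fin r => I) := by
  haveI := Abelian.hasFiniteBiproducts (C := C)
  exact Injective.of_iso (biproduct.isoCoproduct (fun _ : Fin r => I)) inferInstance

/-- `O^r ⊗ I ≅ I^r` -/
noncomputable def freeTensorIso (U : Scheme.{u}) (r : ℕ) (I : U.Modules) :
    ((DCoh.tensorBi (X := U)).obj (FlatMod.freeMod U r)).obj I ≅ ∐ fun _ : Fin r => I := by
  let T : U.Modules ⥤ U.Modules := (DCoh.tensorBi (X := U)).flip.obj I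
  haveI : PreservesColimitsOfSize.{u, u} T :=
    ModSiteFlat.preservesColimitsOfSize_flip (OX U) I
  haveI : PreservesColimitsOfSize.{0, 0} T :=
    preservesSmallestColimits_of_preservesColimits.{u, u} _
  let e1 : T.obj (FlatMod.freeMod U r) ≅ ∐ fun _ : Fin r => T.obj (Coh.structureModule U) :=
    PreservesCoproduct.iso T (fun _ : Fin r => Coh.structureModule U)
  let e2 : T.obj (Coh.structureModule U) ≅ I := (ModSiteUnitor.leftUnitorIso (OX U)).app I
  exact e1 ≪≫ Sigma.mapIso (fun _ => e2)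

theorem injective_restrict_tensor (f : X ⟶ Y) (E : Y.Modules) (V : Y.Opens) (r : ℕ)
    (φ : E.restrict V.ι ≅ FlatMod.freeMod (V : Scheme.{u}) r) (I : X.Modules) (hI : Injective I) :
    Injective ((restrictFunctor (f ⁻¹ᵁ V).ι).obj
      (((DCoh.tensorBi (X := X)).obj ((Scheme.Modules.pullback f).obj E)).obj I)) := by
  have hI' : Injective ((restrictFunctor (f ⁻¹ᵁ V).ι).obj I) :=
    KInjSch.injective_restrict (f ⁻¹ᵁ V) I hI
  let e1 := resTensorIso' (f ⁻¹ᵁ V).ι ((Scheme.Modules.pullback f).obj E) I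
  let e2 : (restrictFunctor (f ⁻¹ᵁ V).ι).obj ((Scheme.Modules.pullback f).obj E) ≅
      FlatMod.freeMod ((f ⁻¹ᵁ V : X.Opens) : Scheme.{u}) r :=
    (pbRestrict f V).app E ≪≫ (Scheme.Modules.pullback (f ∣_ V)).mapIso φ ≪≫
      PullBasis.pbFree (f ∣_ V) r
  let e3 := ((DCoh.tensorBi (X := ((f ⁻¹ᵁ V : X.Opens) : Scheme.{u}))).mapIso e2).app
    ((restrictFunctor (f ⁻¹ᵁ V).ι).obj I)
  let e4 := freeTensorIso ((f ⁻¹ᵁ V : X.Opens) : Scheme.{u}) r
    ((restrictFunctor (f ⁻¹ᵁ V).ι).obj I)
  exact Injective.of_iso (e1.symm ≪≫ e3 ≪≫ e4).symm (injective_sigma_fin r _ hI')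

/-- `f^*E ⊗ I` is acyclic for `f_*` when `I` is injective and `E` finite locally free -/
theorem racyc_tensor_injective (f : X ⟶ Y) [HasInjectiveResolutions X.Modules]
    (E : Y.Modules) (hE : FlatMod.IsFinLocFree E)
    (I : X.Modules) (hI : Injective I) (n : ℕ) :
    IsZero (((pushforward f).rightDerived (n + 1)).obj
      ((TL ((Scheme.Modules.pullback f).obj E)).obj I)) := by
  apply PCohNoeth.isZero_of_locally
  intro y
  obtain ⟨V, r, hyV, ⟨φ⟩⟩ := hE y
  refine ⟨V, hyV, ?_⟩
  haveI : EnoughInjectives ((f ⁻¹ᵁ V : X.Opens) : Scheme.{u}).Modules :=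
    ModGrothendieck.enoughInjectives ((f ⁻¹ᵁ V : X.Opens) : Scheme.{u}).ringCatSheaf
  have e := DerivedCommute.rightDerivedBaseChangeObjIso (pushforward f) (restrictFunctor V.ι)
    (restrictFunctor (f ⁻¹ᵁ V).ι) (fun J hJ => KInjSch.injective_restrict _ J hJ)
    (pushforward (f ∣_ V)) (KInjDerived.pushRestrictIso f V) (n + 1)
    ((TL ((Scheme.Modules.pullback f).obj E)).obj I)
  refine IsZero.of_iso ?_ e
  haveI := injective_restrict_tensor f E V r φ I hI
  exact Functor.isZero_rightDerived_obj_injective_succ _ n _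

/-! ### the projection formula -/

theorem projection_formula (f : X ⟶ Y) [HasInjectiveResolutions X.Modules]
    (F : X.Modules) (E : Y.Modules) (hE : FlatMod.IsFinLocFree E) (q : ℕ) :
    Nonempty (CohB1.tensorMod E ((Coh.Rpush f q).obj F) ≅
      (Coh.Rpush f q).obj (CohB1.tensorMod ((Scheme.Modules.pullback f).obj E) F)) := by
  haveI : EnoughInjectives X.Modules := ModGrothendieck.enoughInjectives X.ringCatSheaf
  haveI : EnoughInjectives Y.Modules := ModGrothendieck.enoughInjectives Y.ringCatSheaf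
  have hE' := Groth.Agent.Lib.Helper17.LocFreeOps.isFinLocFree_pullback f E hE
  haveI := pfl_TL E hE
  haveI := pfl_TL _ hE'
  let e1 := (DerivedCommute.rightDerivedCompExactObjIso (pushforward f) (TL E) q F).symm
  let e2 := DerivedCommute.rightDerivedObjIsoOfNatIso (projNatIsoL f E hE) q F
  obtain ⟨e3⟩ := Groth.Agent.Lib.Helper2.GSS.nonempty_rightDerived_comp_iso
    (TL ((Scheme.Modules.pullback f).obj E)) (pushforward f)
    (fun I hI n => racyc_tensor_injective f E hE I hI n) q F
  exact ⟨e1 ≪≫ e2 ≪≫ e3⟩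

end Groth.Agent.Lib.Helper13.ProjFormulaLF
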