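import Mathlib
import Groth.Agent.Lib.Helper17.ClImmUnit
import Groth.Agent.Lib.Helper17.PbFinite
import Groth.Agent.Lib.Helper11.PerfLib
import Groth.Prelude.Def_ClSub2
import Groth.Prelude.Def_CohB1

/-!
# Modules of finite type with support proper over the base (helper13)
-/

set_option autoImplicit false
set_option backward.isDefEq.respectTransparency false
universe u

namespace Groth.Agent.Lib.Helper13.ProperSupp

open CategoryTheory CategoryTheory.Limits AlgebraicGeometry TopologicalSpace
open Groth.Agent.Lib.Helper17

/-- properness descends along a surjective closed immersion on the source -/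
lemma isProper_of_comp {W Z S : Scheme.{u}} (r : W ⟶ Z) (g : Z ⟶ S) [IsClosedImmersion r]
    [Surjective r] [LocallyOfFiniteType g] (h : IsProper (r ≫ g)) : IsProper g := by
  have w : (r ≫ g) ≫ 𝟙 S = r ≫ g := Category.comp_id _
  haveI : IsSeparated g :=
    (Groth.Agent.Lib.Helper11.PerfLib.sep_iff r (𝟙 S) g (r ≫ g) w).2 inferInstance
  haveI : UniversallyClosed g :=
    (Groth.Agent.Lib.Helper11.PerfLib.uc_iff r (𝟙 S) g (r ≫ g) w).2 inferInstance
  exact {}

variable {X S : Scheme.{u}}

theorem isProperOver_support_iff (f : X ⟶ S) [LocallyOfFiniteType f] (F : X.Modules)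
    (hq : Coh.IsQCoh F) (hft : CohB1.IsFT F) :
    ClSub.IsProperOver f (CohB1.support F) ↔
      ∃ (Z : Scheme.{u}) (i : Z ⟶ X), IsClosedImmersion i ∧ IsProper (i ≫ f) ∧
        ∃ G : Z.Modules, Coh.IsQCoh G ∧ CohB1.IsFT G ∧
          Nonempty ((Scheme.Modules.pushforward i).obj G ≅ F) := by
  haveI : F.IsQuasicoherent := hq
  haveI : F.IsFiniteType := hft
  obtain ⟨J, -, hJiso, hJmax, hJsupp⟩ := ClImmUnit.exists_schemeTheoreticSupport F
  have hle : ∀ hcl : IsClosed (CohB1.support F),
      J ≤ Scheme.IdealSheafData.vanishingIdeal ⟨CohB1.support F, hcl⟩ := by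
    intro hcl
    rw [← Scheme.IdealSheafData.le_support_iff_le_vanishingIdeal]
    intro x hx
    show x ∈ (J.support : Set X)
    rw [hJsupp]
    exact hx
  constructor
  · rintro ⟨hcl, hprop⟩
    have hr : Scheme.IdealSheafData.inclusion (hle hcl) ≫ J.subschemeι =
        (Scheme.IdealSheafData.vanishingIdeal ⟨CohB1.support F, hcl⟩).subschemeι :=
      Scheme.IdealSheafData.inclusion_subschemeι (hle hcl)
    haveI : IsClosedImmersion (Scheme.IdealSheafData.inclusion (hle hcl)) := by
      haveI : IsClosedImmersion (Scheme.IdealSheafData.inclusion (hle hcl) ≫ J.subschemeι) := by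
        rw [hr]
        infer_instance
      exact IsClosedImmersion.of_comp_isClosedImmersion _ J.subschemeι
    haveI : Surjective (Scheme.IdealSheafData.inclusion (hle hcl)) := by
      constructor
      intro z
      have hz : J.subschemeι z ∈ (J.support : Set X) := by
        rw [← Scheme.IdealSheafData.range_subschemeι]
        exact ⟨z, rfl⟩
      rw [hJsupp] at hz
      have hz' : J.subschemeι z ∈ Set.range
          (Scheme.IdealSheafData.vanishingIdeal ⟨CohB1.support F, hcl⟩).subschemeι := by
        rw [Scheme.IdealSheafData.range_subschemeι,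
          Scheme.IdealSheafData.coe_support_vanishingIdeal]
        exact hz
      obtain ⟨t, ht⟩ := hz'
      refine ⟨t, ?_⟩
      apply J.subschemeι.isClosedEmbedding.injective
      rw [← Scheme.Hom.comp_apply, hr]
      exact ht
    have hprop' : IsProper (Scheme.IdealSheafData.inclusion (hle hcl) ≫ (J.subschemeι ≫ f)) := by
      rw [← Category.assoc, hr]
      exact hprop
    have hP : IsProper (J.subschemeι ≫ f) :=
      isProper_of_comp (Scheme.IdealSheafData.inclusion (hle hcl)) (J.subschemeι ≫ f) hprop'
    haveI := hJiso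
    exact ⟨J.subscheme, J.subschemeι, inferInstance, hP,
      (Scheme.Modules.pullback J.subschemeι).obj F,
      PbStalk.isQuasicoherent_pullback _ F, PbFinite.isFiniteType_pullback _ F,
      ⟨(asIso ((Scheme.Modules.pullbackPushforwardAdjunction J.subschemeι).unit.app F)).symm⟩⟩
  · rintro ⟨Z, i, hi, hprop, G, -, -, ⟨e⟩⟩
    have hcl : IsClosed (CohB1.support F) := by
      rw [← hJsupp]
      exact J.support.isClosed
    refine ⟨hcl, ?_⟩
    have h1 : i.ker ≤ J := by
      apply hJmax
      rw [ClImmUnit.isIso_unit_iff, Scheme.IdealSheafData.ker_subschemeι]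
      intro U a ha s
      rw [Scheme.Hom.ker_apply] at ha
      have ha' : (i.app U.1).hom a = 0 := RingHom.mem_ker.mp ha
      have h3 : (e.inv ≫ e.hom).app U.1 s = s := by
        rw [e.inv_hom_id]
        rfl
      have hs : e.hom.app U.1 (e.inv.app U.1 s) = s := h3
      rw [← hs, ← Scheme.Modules.Hom.app_smul]
      have h0 : (a • (e.inv.app U.1 s) : Γ((Scheme.Modules.pushforward i).obj G, U.1)) = 0 := by
        have h4 : (a • (e.inv.app U.1 s) : Γ((Scheme.Modules.pushforward i).obj G, U.1)) =
            ((i.app U.1).hom a • (show Γ(G, i ⁻¹ᵁ U.1) from e.inv.app U.1 s) :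
              Γ(G, i ⁻¹ᵁ U.1)) := rfl
        rw [h4, ha', zero_smul]
      rw [h0, map_zero]
    have H : i.ker ≤
        (Scheme.IdealSheafData.vanishingIdeal ⟨CohB1.support F, hcl⟩).subschemeι.ker := by
      rw [Scheme.IdealSheafData.ker_subschemeι]
      exact h1.trans (hle hcl)
    have hfac := IsClosedImmersion.lift_fac i _ H
    haveI : IsClosedImmersion (IsClosedImmersion.lift i _ H) := by
      haveI : IsClosedImmersion (IsClosedImmersion.lift i _ H ≫ i) := by
        rw [hfac]
        infer_instance
      exact IsClosedImmersion.of_comp_isClosedImmersion _ i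
    rw [← hfac, Category.assoc]
    infer_instance

end Groth.Agent.Lib.Helper13.ProperSupp
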