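import Groth.Agent.S0020
import Groth.Agent.Lib.Helper1.FlasqueAcyclic
import Groth.Agent.Lib.Helper3.QCOpen

/-!
# Coherent modules with zero-dimensional support are flasque, hence acyclic
-/

set_option autoImplicit false

universe u

open CategoryTheory TopologicalSpace Opposite AlgebraicGeometry Coherent

namespace Groth.Agent.Lib.Helper13.ZeroDimSupp

/-- In a quasi-sober Noetherian space, a closed set all of whose points are closed is finite. -/
theorem finite_of_isClosed_of_points_closed {α : Type*} [TopologicalSpace α]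
    [NoetherianSpace α] [QuasiSober α] {s : Set α} (hs : IsClosed s)
    (h : ∀ x ∈ s, IsClosed ({x} : Set α)) : s.Finite := by
  obtain ⟨S, hS, hcl, hirr, rfl⟩ := NoetherianSpace.exists_finite_set_isClosed_irreducible hs
  refine Set.Finite.sUnion hS ?_
  intro t ht
  obtain ⟨x, hx⟩ := QuasiSober.sober (hirr t ht) (hcl t ht)
  have hxt : x ∈ t := hx.mem
  have hxc : IsClosed ({x} : Set α) := h x (Set.mem_sUnion.mpr ⟨t, ht, hxt⟩)
  have htx : t = {x} := by rw [← hx.def, hxc.closure_eq]
  rw [htx]
  exact Set.finite_singleton x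

/-- a finite set of closed points is closed. -/
theorem isClosed_of_finite_of_points_closed {α : Type*} [TopologicalSpace α] {s : Set α}
    (hs : s.Finite) (h : ∀ x ∈ s, IsClosed ({x} : Set α)) : IsClosed s := by
  have : s = ⋃ x ∈ s, ({x} : Set α) := (Set.biUnion_of_singleton s).symm
  rw [this]
  exact hs.isClosed_biUnion h

/-- extension of sections from `V` to the whole space for a sheaf supported on a set all of whose
subsets are closed. -/
theorem exists_extension {X : TopCat.{u}} (F : TopCat.Sheaf AddCommGrpCat.{u} X) (Z : Set X)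
    (hZ : ∀ T : Set X, T ⊆ Z → IsClosed T)
    (h0 : ∀ W : Opens X, Disjoint (W : Set X) Z → Subsingleton (F.1.obj (op W)))
    (V : Opens X) (s : F.1.obj (op V)) :
    ∃ t : F.1.obj (op ⊤), F.1.map (homOfLE (le_top : V ≤ ⊤)).op t = s := by
  have hT : IsClosed (Z ∩ (V : Set X)) := hZ _ Set.inter_subset_left
  let W' : Opens X := ⟨(Z ∩ (V : Set X))ᶜ, hT.isOpen_compl⟩
  let Uf : Bool → Opens X := fun b => bif b then V else W'
  let sf : ∀ b, ToType (F.1.obj (op (Uf b))) := fun b =>
    match b with
    | true => s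
    | false => (0 : F.1.obj (op W'))
  have hsubVW : Subsingleton (F.1.obj (op (V ⊓ W'))) := by
    apply h0
    rw [Set.disjoint_left]
    rintro x ⟨hxV, hxW⟩ hxZ
    exact hxW ⟨hxZ, hxV⟩
  have hsubWV : Subsingleton (F.1.obj (op (W' ⊓ V))) := by
    apply h0
    rw [Set.disjoint_left]
    rintro x ⟨hxW, hxV⟩ hxZ
    exact hxW ⟨hxZ, hxV⟩
  have hcompat : TopCat.Presheaf.IsCompatible F.1 Uf sf := by
    intro b b'
    cases b <;> cases b'
    · rfl
    · exact @Subsingleton.elim _ hsubWV _ _
    · exact @Subsingleton.elim _ hsubVW _ _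
    · rfl
  have hcover : (⊤ : Opens X) ≤ iSup Uf := by
    intro x _
    by_cases hx : x ∈ Z ∩ (V : Set X)
    · exact Opens.mem_iSup.mpr ⟨true, hx.2⟩
    · exact Opens.mem_iSup.mpr ⟨false, hx⟩
  obtain ⟨t, ht, -⟩ := F.existsUnique_gluing' Uf ⊤ (fun b => homOfLE le_top) hcover sf hcompat
  exact ⟨t, ht true⟩

/-- a sheaf supported on a set all of whose subsets are closed is flasque. -/
theorem isFlasque_of_closed_support {X : TopCat.{u}} (F : TopCat.Sheaf AddCommGrpCat.{u} X)
    (Z : Set X) (hZ : ∀ T : Set X, T ⊆ Z → IsClosed T)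
    (h0 : ∀ W : Opens X, Disjoint (W : Set X) Z → Subsingleton (F.1.obj (op W))) :
    TopCat.Sheaf.IsFlasque F := by
  constructor
  intro U V i
  rw [AddCommGrpCat.epi_iff_surjective]
  intro s
  obtain ⟨t, ht⟩ := exists_extension F Z hZ h0 V.unop s
  refine ⟨F.1.map (homOfLE (le_top : U.unop ≤ ⊤)).op t, ?_⟩
  rw [← ConcreteCategory.comp_apply, ← F.1.map_comp]
  exact ht

/-- every subset of the support is closed. -/
theorem isClosed_of_subset_support (X : Scheme.{u}) [IsLocallyNoetherian X]
    (M : X.Modules) (hM : Coh.IsCoh M) (h0 : ∀ x ∈ CohB1.support M, IsClosed ({x} : Set X))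
    (T : Set X) (hT : T ⊆ CohB1.support M) : IsClosed T := by
  have hZcl : IsClosed (CohB1.support M) := Groth.Agent.S0020.result X M hM.2
  rw [TopologicalSpace.IsOpenCover.isClosed_iff_coe_preimage (iSup_affineOpens_eq_top X)]
  intro U
  haveI : IsNoetherianRing Γ(X, U.1) := IsLocallyNoetherian.component_noetherian U
  have hN : NoetherianSpace {x : X // x ∈ (U : X.Opens)} :=
    noetherianSpace_of_isAffineOpen U.1 U.2
  have hQ : QuasiSober {x : X // x ∈ (U : X.Opens)} :=
    U.1.2.isOpenEmbedding_subtypeVal.quasiSober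
  have hpt : ∀ x : {x : X // x ∈ (U : X.Opens)}, x.1 ∈ CohB1.support M →
      IsClosed ({x} : Set {x : X // x ∈ (U : X.Opens)}) := by
    intro x hx
    have e : ({x} : Set {x : X // x ∈ (U : X.Opens)}) = Subtype.val ⁻¹' ({x.1} : Set X) := by
      ext y
      constructor
      · intro h
        exact congrArg Subtype.val (Set.mem_singleton_iff.mp h)
      · intro h
        exact Set.mem_singleton_iff.mpr (Subtype.ext (Set.mem_singleton_iff.mp h))
    rw [e]
    exact (h0 x.1 hx).preimage continuous_subtype_val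
  have hfin : (Subtype.val ⁻¹' (CohB1.support M) : Set {x : X // x ∈ (U : X.Opens)}).Finite :=
    @finite_of_isClosed_of_points_closed _ _ hN hQ _ (hZcl.preimage continuous_subtype_val)
      (fun x hx => hpt x hx)
  exact isClosed_of_finite_of_points_closed (hfin.subset (Set.preimage_mono hT))
    (fun x hx => hpt x (hT hx))

theorem isFlasque_toAb (X : Scheme.{u}) [IsLocallyNoetherian X]
    (M : X.Modules) (hM : Coh.IsCoh M) (h0 : ∀ x ∈ CohB1.support M, IsClosed ({x} : Set X)) :
    TopCat.Sheaf.IsFlasque (Coh.toAb M) := by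
  refine isFlasque_of_closed_support (Coh.toAb M) (CohB1.support M)
    (isClosed_of_subset_support X M hM h0) ?_
  intro W hW
  have : Subsingleton Γ(M, W) := by
    apply Groth.Agent.Lib.Helper3.QCOpen.subsingleton_sections_of_stalks
    intro x hx
    by_contra hn
    exact (Set.disjoint_left.mp hW) hx hn
  exact this

theorem subsingleton_HH (X : Scheme.{u}) [IsLocallyNoetherian X]
    (M : X.Modules) (hM : Coh.IsCoh M) (h0 : ∀ x ∈ CohB1.support M, IsClosed ({x} : Set X))
    (i : ℕ) (hi : 0 < i) : Subsingleton (Coh.HH X M i) := by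
  obtain ⟨n, rfl⟩ : ∃ n, i = n + 1 := ⟨i - 1, by omega⟩
  haveI := isFlasque_toAb X M hM h0
  exact Groth.Agent.Lib.Helper1.FlasqueAcyclic.flasque_H_subsingleton (Coh.toAb M) n

end Groth.Agent.Lib.Helper13.ZeroDimSupp
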