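import Groth.Agent.Lib.Helper13.LerayCollapse
import Groth.Agent.Lib.Helper13.SerreCrit1

/-!
# Vanishing of higher direct images above a degree is stable under base change (helper13)

* `subsingleton_HU_preimage_of_isZero`: for `f` qcqs, `M` quasi-coherent, `V` affine open of the base:
  if `R^q f_* M = 0` then `H^q(f⁻¹V, M) = 0` (collapse of the Leray spectral sequence over `V`).
* `subsingleton_HH_preimage`: if `R^n f_*` kills all quasi-coherent modules then `H^n(f⁻¹V, N) = 0` for every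
  quasi-coherent `N` on the open subscheme `f⁻¹V`, `V` affine.
* `isZero_Rpush_baseChange`: base change of the vanishing.
-/

set_option autoImplicit false
universe v u

namespace Groth.Agent.Lib.Helper13.BaseChangeVanish

open CategoryTheory CategoryTheory.Limits AlgebraicGeometry Opposite TopologicalSpace
open Groth.Agent.Lib.Helper13 Groth.Agent.Lib.Helper2 Groth.Agent.Lib.Helper13.LerayCollapse

lemma subsingleton_ext_of_isZero {C : Type*} [Category C] [Abelian C] [HasExt C] {A F : C}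
    (hF : IsZero F) (n : ℕ) : Subsingleton (Abelian.Ext A F n) := by
  refine ⟨fun a b => ?_⟩
  have hx : ∀ x : Abelian.Ext A F n, x = 0 := by
    intro x
    have h1 : x = x.comp (Abelian.Ext.mk₀ (𝟙 F)) (add_zero _) := (Abelian.Ext.comp_mk₀_id x).symm
    rw [h1, hF.eq_of_src (𝟙 F) 0, Abelian.Ext.mk₀_zero, Abelian.Ext.comp_zero]
  rw [hx a, hx b]

section Sch

variable {X S : Scheme.{u}} (f : X ⟶ S)

/-- `R^q f_* M = 0` implies `H^q(f⁻¹V, M) = 0` for `V` affine, `f` qcqs and `M` quasi-coherent. -/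
theorem subsingleton_HU_preimage_of_isZero [QuasiCompact f] [QuasiSeparated f]
    (M : X.Modules) [M.IsQuasicoherent] {V : S.Opens} (hV : IsAffineOpen V) (q : ℕ)
    (h0 : IsZero ((Coh.RpushAb f q).obj (Coh.toAb M))) :
    Subsingleton (CohTop.HU (Coh.toAb M) q (f ⁻¹ᵁ V)) := by
  haveI : EnoughInjectives X.Modules := ModGrothendieck.enoughInjectives X.ringCatSheaf
  obtain ⟨E, a, hfin, -, hE2⟩ := GSS.leray_sections (Opens.grothendieckTopology X)
    (Opens.grothendieckTopology S) (Opens.map f.base) (fun I hI V n => hacyc f I hI V n)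
    (Coh.toAb M) V
  have hvan : ∀ (n p' : ℕ), Subsingleton (CohSite.HU ((CohSite.Rpush (Opens.grothendieckTopology X)
      (Opens.grothendieckTopology S) (Opens.map f.base) n).obj (Coh.toAb M)) (p' + 1) V) := by
    intro n p'
    obtain ⟨e⟩ := RpushCompare.nonempty_toAb_Rpush_iso f M n
    haveI : ((Coh.Rpush f n).obj M).IsQuasicoherent := QCohRpush.isQuasicoherent_Rpush f M n
    exact AffineHomCrit.subsingleton_ext_of_iso e (p' + 1)
      (AffineVanish.subsingleton_HU_of_isAffineOpen ((Coh.Rpush f n).obj M) hV p')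
  have hzero : ∀ p n : ℤ, p ≠ 0 → IsZero ((E.page 2 le_rfl).X (p, n)) := by
    intro p n hp
    obtain ⟨e⟩ := hE2 p n
    refine IsZero.of_iso ?_ e
    by_cases h : 0 ≤ p ∧ 0 ≤ n
    · rw [if_pos h]
      obtain ⟨p', rfl⟩ : ∃ p' : ℕ, p = (p' : ℤ) + 1 := ⟨(p - 1).toNat, by omega⟩
      have hp' : ((p' : ℤ) + 1).toNat = p' + 1 := by omega
      rw [hp']
      haveI := hvan n.toNat p'
      exact AddCommGrpCat.isZero_of_subsingleton _
    · rw [if_neg h]
      exact AddCommGrpCat.isZero_of_subsingleton _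
  obtain ⟨e⟩ := collapse E a hfin hzero (q : ℤ)
  obtain ⟨e2⟩ := hE2 0 q
  have h0' : (0 : ℤ) ≤ (q : ℤ) := Int.natCast_nonneg q
  have e' : AddCommGrpCat.of (CohSite.HU (Coh.toAb M) q ((Opens.map f.base).obj V)) ≅
      (E.page 2 le_rfl).X (0, (q : ℤ)) := by
    refine ?_ ≪≫ e
    simp only [h0', if_true, Int.toNat_natCast]
    exact Iso.refl _
  have e2' : (E.page 2 le_rfl).X (0, (q : ℤ)) ≅
      AddCommGrpCat.of (CohSite.HU ((CohSite.Rpush (Opens.grothendieckTopology X)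
        (Opens.grothendieckTopology S) (Opens.map f.base) q).obj (Coh.toAb M)) 0 V) := by
    refine e2 ≪≫ ?_
    simp only [le_refl, h0', and_self, if_true, Int.toNat_natCast, Int.toNat_zero]
    exact Iso.refl _
  have hsub : Subsingleton (CohSite.HU ((CohSite.Rpush (Opens.grothendieckTopology X)
      (Opens.grothendieckTopology S) (Opens.map f.base) q).obj (Coh.toAb M)) 0 V) :=
    subsingleton_ext_of_isZero h0 0
  exact ((e' ≪≫ e2').addCommGroupIsoToAddEquiv).toEquiv.subsingleton_congr.2 hsub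

/-- If `R^n f_*` kills all quasi-coherent modules on `X`, then `H^n(f⁻¹V, N) = 0` for all quasi-coherent
modules `N` on the open subscheme `f⁻¹V`, for `V` affine. -/
theorem subsingleton_HH_preimage [QuasiCompact f] [QuasiSeparatedSpace X] (n : ℕ)
    (hvan : ∀ (M : X.Modules), Coh.IsQCoh M → IsZero ((Coh.RpushAb f n).obj (Coh.toAb M)))
    {V : S.Opens} (hV : IsAffineOpen V)
    (N : ((f ⁻¹ᵁ V : X.Opens) : Scheme.{u}).Modules) [N.IsQuasicoherent] :
    Subsingleton (Coh.HH ((f ⁻¹ᵁ V : X.Opens) : Scheme.{u}) N n) := by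
  haveI : CompactSpace ((f ⁻¹ᵁ V : X.Opens) : Scheme.{u}) :=
    isCompact_iff_compactSpace.mp (QuasiCompact.isCompact_preimage (f := f) _ V.2 hV.isCompact)
  haveI : QuasiCompact (f ⁻¹ᵁ V).ι := inferInstance
  let M : X.Modules := (Scheme.Modules.pushforward (f ⁻¹ᵁ V).ι).obj N
  haveI : M.IsQuasicoherent :=
    Groth.Agent.Lib.Helper3.QCSec.isQuasicoherent_pushforward (f ⁻¹ᵁ V).ι N
  have h1 := subsingleton_HU_preimage_of_isZero f M hV n (hvan M inferInstance)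
  have h2 : Subsingleton (Coh.HHon X M (f ⁻¹ᵁ V) n) :=
    (AffineVanish.HUEquivHHon M (f ⁻¹ᵁ V) n).toEquiv.subsingleton_congr.1 h1
  let e : M.restrict (f ⁻¹ᵁ V).ι ≅ N :=
    (Scheme.Modules.restrictFunctorAdjCounitIso (f ⁻¹ᵁ V).ι).app N
  exact AffineHomCrit.subsingleton_ext_of_iso
    ((SerreCrit1.TT ((f ⁻¹ᵁ V : X.Opens) : Scheme.{u})).mapIso e) n h2

end Sch

section BC

variable {X Y X' Y' : Scheme.{u}} (f : X ⟶ Y)

/-- cohomology along an affine morphism. -/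
lemma nonempty_HH_equiv_push {X S : Scheme.{u}} (h : X ⟶ S) [IsAffineHom h]
    (M : X.Modules) [M.IsQuasicoherent] (i : ℕ) :
    Nonempty (Coh.HH X M i ≃+ Coh.HH S ((Scheme.Modules.pushforward h).obj M) i) := by
  have hz : ∀ q : ℕ, IsZero ((CohTop.Rpush h.base (q + 1)).obj (Coh.toAb M)) := fun q =>
    LocallyZero.isZero_Rpush_of_basis h.base (Coh.toAb M) (q + 1)
      S.affineOpens S.isBasis_affineOpens
      (fun V hV => AffineVanish.subsingleton_HU_of_isAffineOpen M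
        (IsAffineOpen.preimage hV h) q)
  exact ⟨PushAcyclic.HEquivPushOfVanish h.base (Coh.toAb M) hz i⟩

theorem isZero_Rpush_baseChange [CompactSpace X] [QuasiSeparatedSpace X] [QuasiSeparatedSpace Y]
    (i : ℕ)
    (hvan : ∀ (M : X.Modules), Coh.IsQCoh M → IsZero ((Coh.RpushAb f i).obj (Coh.toAb M)))
    (g : Y' ⟶ Y) (f' : X' ⟶ Y') (g' : X' ⟶ X) (sq : IsPullback g' f' f g)
    (M' : X'.Modules) [M'.IsQuasicoherent] :
    IsZero ((Coh.RpushAb f' i).obj (Coh.toAb M')) := by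
  let B : Set Y'.Opens := {V' | IsAffineOpen V' ∧ ∃ V : Y.Opens, IsAffineOpen V ∧ V' ≤ g ⁻¹ᵁ V}
  have hB : Opens.IsBasis B := by
    rw [Opens.isBasis_iff_nbhd]
    intro W x hx
    obtain ⟨V, hV, hxV, -⟩ := (Opens.isBasis_iff_nbhd.1 Y.isBasis_affineOpens)
      (show g x ∈ (⊤ : Y.Opens) from trivial)
    have hx' : x ∈ g ⁻¹ᵁ V ⊓ W := ⟨hxV, hx⟩
    obtain ⟨V', hV', hxV', hV'W⟩ := (Opens.isBasis_iff_nbhd.1 Y'.isBasis_affineOpens) hx'
    exact ⟨V', ⟨hV', V, hV, hV'W.trans inf_le_left⟩, hxV', hV'W.trans inf_le_right⟩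
  refine LocallyZero.isZero_Rpush_of_basis f'.base (Coh.toAb M') i B hB ?_
  rintro V' ⟨hV', V, hV, hV'V⟩
  have hUY : f' ⁻¹ᵁ V' = g' ⁻¹ᵁ (f ⁻¹ᵁ V) ⊓ f' ⁻¹ᵁ V' := by
    refine le_antisymm (le_inf ?_ le_rfl) inf_le_right
    have h1 : f' ⁻¹ᵁ V' ≤ f' ⁻¹ᵁ (g ⁻¹ᵁ V) := f'.preimage_mono hV'V
    rwa [← Scheme.Hom.comp_preimage, ← sq.w, Scheme.Hom.comp_preimage] at h1
  have e₁ : f' ⁻¹ᵁ V' ≤ g' ⁻¹ᵁ (f ⁻¹ᵁ V) := by rw [hUY]; exact inf_le_left
  have sq' : IsPullback (g'.resLE (f ⁻¹ᵁ V) (f' ⁻¹ᵁ V') e₁) (f'.resLE V' (f' ⁻¹ᵁ V') le_rfl)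
      (f.resLE V (f ⁻¹ᵁ V) le_rfl) (g.resLE V V' hV'V) :=
    Scheme.Hom.isPullback_resLE sq hV'V le_rfl hUY
  haveI : IsAffine (V : Scheme.{u}) := hV
  haveI : IsAffine (V' : Scheme.{u}) := hV'
  haveI : IsAffineHom (g'.resLE (f ⁻¹ᵁ V) (f' ⁻¹ᵁ V') e₁) :=
    MorphismProperty.of_isPullback (P := @IsAffineHom) sq'.flip inferInstance
  let P : ((f' ⁻¹ᵁ V' : X'.Opens) : Scheme.{u}).Modules := M'.restrict (f' ⁻¹ᵁ V').ι
  haveI : P.IsQuasicoherent := Scheme.Modules.isQuasicoherent_restrictFunctor (f' ⁻¹ᵁ V').ι M'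
  obtain ⟨eq1⟩ := nonempty_HH_equiv_push (g'.resLE (f ⁻¹ᵁ V) (f' ⁻¹ᵁ V') e₁) P i
  haveI : ((Scheme.Modules.pushforward (g'.resLE (f ⁻¹ᵁ V) (f' ⁻¹ᵁ V') e₁)).obj P).IsQuasicoherent :=
    Groth.Agent.Lib.Helper3.QCSec.isQuasicoherent_pushforward _ P
  have h3 := subsingleton_HH_preimage f i hvan hV
    ((Scheme.Modules.pushforward (g'.resLE (f ⁻¹ᵁ V) (f' ⁻¹ᵁ V') e₁)).obj P)
  have h4 : Subsingleton (Coh.HH ((f' ⁻¹ᵁ V' : X'.Opens) : Scheme.{u}) P i) :=
    eq1.toEquiv.subsingleton_congr.2 h3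
  exact (AffineVanish.HUEquivHHon M' (f' ⁻¹ᵁ V') i).toEquiv.subsingleton_congr.2 h4

end BC

end Groth.Agent.Lib.Helper13.BaseChangeVanish
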