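import Groth.Agent.Lib.Helper2.DCoprod
import Groth.Agent.Lib.Helper13.ModGrothendieck
import Groth.Agent.Lib.Helper3.QCProps
import Groth.Prelude.Def_DCoh2

/-!
# Coproducts of quasi-coherent modules and of objects of `D_QCoh` (helper13)

* `isQuasicoherent_sigma`: a small coproduct of quasi-coherent modules on a scheme is quasi-coherent;
* `homologySigmaIso`: cohomology of complexes commutes with exact coproducts;
* `isColimitCofanQ'`: helper2's description of coproducts in `D(A)`, with the index type in an arbitrary universe;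
* `isQCohD_sigma`: `D_QCoh(O_X)` is stable under coproducts in `D(O_X)`.
-/

set_option autoImplicit false
set_option backward.isDefEq.respectTransparency false
universe w' w v u

namespace Groth.Agent.Lib.Helper13.QCohCoprod

open CategoryTheory CategoryTheory.Limits AlgebraicGeometry Opposite
open Groth.Agent.Lib.Helper2 Groth.Agent.Lib.Helper2.DCoprod Groth.Agent.Lib.Helper3

section QC

open AlgebraicGeometry.Scheme.Modules

/-- a small coproduct of quasi-coherent modules is quasi-coherent. -/
theorem isQuasicoherent_sigma {X : Scheme.{u}} {ι : Type u} (M : ι → X.Modules)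
    (hM : ∀ i, (M i).IsQuasicoherent) : (∐ M : X.Modules).IsQuasicoherent := by
  apply QCProps.isQuasicoherent_of_charts
  intro x
  obtain ⟨_, ⟨U, hU : IsAffineOpen U, rfl⟩, hxU, -⟩ :=
    X.isBasis_affineOpens.exists_subset_of_mem_open (Set.mem_univ x) isOpen_univ
  refine ⟨U, hU, hxU, ?_⟩
  let L := restrictFunctor hU.fromSpec
  haveI : PreservesColimitsOfSize.{u, u} L :=
    (restrictAdjunction hU.fromSpec).leftAdjoint_preservesColimits
  let e1 : L.obj (∐ M) ≅ ∐ fun i => L.obj (M i) := PreservesCoproduct.iso L M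
  have hq : ∀ i, (tilde.functor Γ(X, U)).essImage (L.obj (M i)) := by
    intro i
    haveI : (M i).IsQuasicoherent := hM i
    haveI : (L.obj (M i)).IsQuasicoherent := isQuasicoherent_restrictFunctor hU.fromSpec (M i)
    exact isIso_fromTildeΓ_iff.1 inferInstance
  choose N hN using hq
  let e2 : (∐ fun i => (tilde.functor Γ(X, U)).obj (N i)) ≅ ∐ fun i => L.obj (M i) :=
    Sigma.mapIso (fun i => (hN i).some)
  haveI : PreservesColimitsOfSize.{u, u} (tilde.functor Γ(X, U)) :=
    (tilde.adjunction (R := Γ(X, U))).leftAdjoint_preservesColimits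
  let e3 : (tilde.functor Γ(X, U)).obj (∐ N) ≅ ∐ fun i => (tilde.functor Γ(X, U)).obj (N i) :=
    PreservesCoproduct.iso (tilde.functor Γ(X, U)) N
  have h0 : ((tilde.functor Γ(X, U)).obj (∐ N)).IsQuasicoherent := inferInstance
  exact (SheafOfModules.isQuasicoherent (Spec Γ(X, U)).ringCatSheaf).prop_of_iso (e3 ≪≫ e2 ≪≫ e1.symm) h0

end QC

section Homology

variable {A : Type u} [Category.{v} A] [Abelian A] {J : Type w}
  [HasColimitsOfShape (Discrete J) A] [HasExactColimitsOfShape (Discrete J) A]

/-- the homology of a family of short complexes, computed pointwise. -/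
noncomputable def famHomologyIso (S : J → ShortComplex A) :
    (famSC S).homology ≅ Discrete.functor (fun j => (S j).homology) :=
  Discrete.natIso (fun ⟨j⟩ =>
    ((famSC S).mapHomologyIso ((evaluation (Discrete J) A).obj ⟨j⟩)).symm)

/-- the homology of a coproduct of short complexes. -/
noncomputable def sigmaSCHomologyIso (S : J → ShortComplex A) :
    (sigmaSC S).homology ≅ ∐ fun j => (S j).homology :=
  haveI : (colim : (Discrete J ⥤ A) ⥤ A).PreservesHomology := inferInstance
  (famSC S).mapHomologyIso colim ≪≫ colim.mapIso (famHomologyIso S)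

/-- cohomology commutes with exact coproducts. -/
noncomputable def homologySigmaIso (K : J → CochainComplex A ℤ) (n : ℤ) :
    (∐ K).homology n ≅ ∐ fun j => (K j).homology n :=
  (ShortComplex.homologyMapIso (scIso K n)).symm ≪≫ sigmaSCHomologyIso (fun j => (K j).sc n)

end Homology

section Derived

variable {A : Type u} [Category.{v} A] [Abelian A] [HasDerivedCategory.{w} A]

open DerivedCategory

variable {J : Type w'} [HasColimitsOfShape (Discrete J) A]
  [HasExactColimitsOfShape (Discrete J) A]

lemma exists_desc' (K : J → CochainComplex A ℤ) (L : CochainComplex A ℤ)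
    (g : ∀ j, Q.obj (K j) ⟶ Q.obj L) :
    ∃ d : Q.obj (∐ K) ⟶ Q.obj L, ∀ j, Q.map (Limits.Sigma.ι K j) ≫ d = g j := by
  have ex := fun j => right_fac (g j)
  choose K' s hs f hg using ex
  haveI : ∀ j, QuasiIso (s j) := fun j => (isIso_Q_map_iff_quasiIso _ (s j)).1 (hs j)
  haveI : IsIso (Q.map (Limits.Sigma.map s)) := by
    rw [isIso_Q_map_iff_quasiIso]; infer_instance
  refine ⟨inv (Q.map (Limits.Sigma.map s)) ≫ Q.map (Limits.Sigma.desc f), fun j => ?_⟩
  haveI := hs j
  rw [hg j, ← cancel_epi (Q.map (s j)), IsIso.hom_inv_id_assoc]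
  have e1 : Q.map (s j) ≫ Q.map (Limits.Sigma.ι K j) =
      Q.map (Limits.Sigma.ι K' j) ≫ Q.map (Limits.Sigma.map s) := by
    rw [← Q.map_comp, ← Q.map_comp, Limits.Sigma.ι_map]
  rw [reassoc_of% e1, IsIso.hom_inv_id_assoc, ← Q.map_comp, Limits.Sigma.ι_desc]

lemma eq_zero_of_comp_ι' (K : J → CochainComplex A ℤ) (L : CochainComplex A ℤ)
    (d : Q.obj (∐ K) ⟶ Q.obj L) (h : ∀ j, Q.map (Limits.Sigma.ι K j) ≫ d = 0) : d = 0 := by
  obtain ⟨L', g, t, ht, rfl⟩ := left_fac d
  haveI := ht
  have hg : ∀ j, Q.map (Limits.Sigma.ι K j ≫ g) = 0 := fun j => by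
    have := h j =≫ Q.map t
    simpa using this
  have ex := fun j => exists_quasiIso_comp_homotopy_zero _ (hg j)
  choose K'' u hu hH using ex
  haveI : ∀ j, QuasiIso (u j) := hu
  have hUg : Nonempty (Homotopy (Limits.Sigma.map u ≫ g) 0) := by
    apply homotopy_zero_of_sigma
    intro j
    obtain ⟨H⟩ := hH j
    exact ⟨(Homotopy.ofEq (by rw [Limits.Sigma.ι_map_assoc])).trans H⟩
  obtain ⟨H⟩ := hUg
  have h0 : Q.map (Limits.Sigma.map u) ≫ Q.map g = 0 := by
    rw [← Q.map_comp, Q_map_eq_of_homotopy _ H, Q.map_zero]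
  haveI : IsIso (Q.map (Limits.Sigma.map u)) := by
    rw [isIso_Q_map_iff_quasiIso]; infer_instance
  have : Q.map g = 0 := by rw [← cancel_epi (Q.map (Limits.Sigma.map u)), h0, comp_zero]
  rw [this, zero_comp]

/-- `Q` sends the coproduct of a family of cochain complexes to a coproduct in `D(A)` (index type in any universe). -/
noncomputable def isColimitCofanQ' (K : J → CochainComplex A ℤ) :
    IsColimit (Cofan.mk (Q.obj (∐ K)) (fun j => Q.map (Limits.Sigma.ι K j))) :=
  mkCofanColimit _
    (fun s => (exists_desc' K (Q.objPreimage s.pt)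
      (fun j => s.inj j ≫ (Q.objObjPreimageIso s.pt).inv)).choose ≫ (Q.objObjPreimageIso s.pt).hom)
    (fun s j => by
      have := (exists_desc' K (Q.objPreimage s.pt)
        (fun j => s.inj j ≫ (Q.objObjPreimageIso s.pt).inv)).choose_spec j
      dsimp only [Cofan.mk_pt, Cofan.mk_ι_app, Cofan.inj] at this ⊢
      rw [reassoc_of% this, Iso.inv_hom_id, Category.comp_id])
    (fun s m hm => by
      have spec := (exists_desc' K (Q.objPreimage s.pt)
        (fun j => s.inj j ≫ (Q.objObjPreimageIso s.pt).inv)).choose_spec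
      rw [← cancel_mono (Q.objObjPreimageIso s.pt).inv, Category.assoc, Iso.hom_inv_id,
        Category.comp_id, ← sub_eq_zero]
      apply eq_zero_of_comp_ι' K (Q.objPreimage s.pt)
      intro j
      rw [Preadditive.comp_sub, spec j, sub_eq_zero]
      have := hm j
      dsimp only [Cofan.mk_pt, Cofan.mk_ι_app, Cofan.inj] at this ⊢
      rw [← this, Category.assoc])

/-- the cohomology of a coproduct in `D(A)`. -/
theorem nonempty_homology_sigma_iso (K : J → DerivedCategory A) [HasCoproduct K] (n : ℤ) :
    ∃ K' : J → CochainComplex A ℤ,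
      (∀ j, Nonempty ((K' j).homology n ≅ (homologyFunctor A n).obj (K j))) ∧
      Nonempty ((homologyFunctor A n).obj (∐ K) ≅ ∐ fun j => (K' j).homology n) := by
  let K' : J → CochainComplex A ℤ := fun j => Q.objPreimage (K j)
  let e : ∀ j, Q.obj (K' j) ≅ K j := fun j => Q.objObjPreimageIso (K j)
  refine ⟨K', fun j => ⟨((homologyFunctorFactors A n).app (K' j)).symm ≪≫
    (homologyFunctor A n).mapIso (e j)⟩, ⟨?_⟩⟩
  let E : ∐ K ≅ Q.obj (∐ K') :=
    IsColimit.coconePointsIsoOfNatIso (colimit.isColimit (Discrete.functor K))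
      (isColimitCofanQ' K') (Discrete.natIso (fun ⟨j⟩ => (e j).symm))
  exact (homologyFunctor A n).mapIso E ≪≫ (homologyFunctorFactors A n).app (∐ K') ≪≫
    homologySigmaIso K' n

end Derived

section Scheme

attribute [local instance] HasDerivedCategory.standard

/-- `D_QCoh(O_X)` is stable under small coproducts. -/
theorem isQCohD_sigma (X : Scheme.{u}) {ι : Type u} (K : ι → DCoh.D X)
    (hK : ∀ i, DCoh.IsQCohD (K i)) [HasCoproduct K] : DCoh.IsQCohD (∐ K) := by
  haveI : IsGrothendieckAbelian.{u} X.Modules :=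
    Groth.Agent.Lib.Helper13.ModGrothendieck.isGrothendieckAbelian X.ringCatSheaf
  intro n
  obtain ⟨K', h1, ⟨e⟩⟩ := nonempty_homology_sigma_iso K n
  have hq : ∀ i, ((K' i).homology n).IsQuasicoherent := fun i =>
    (SheafOfModules.isQuasicoherent X.ringCatSheaf).prop_of_iso (h1 i).some.symm (hK i n)
  exact (SheafOfModules.isQuasicoherent X.ringCatSheaf).prop_of_iso e.symm
    (isQuasicoherent_sigma (fun i => (K' i).homology n) hq)

end Scheme

end Groth.Agent.Lib.Helper13.QCohCoprod
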