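import Mathlib
import Groth.Agent.Lib.Helper13.PCohNoeth
import Groth.Agent.Lib.Helper13.PCohQC

/-!
# Perfect objects on Noetherian schemes have bounded coherent cohomology (helper13)
-/

set_option autoImplicit false
set_option backward.isDefEq.respectTransparency false
universe u

namespace Groth.Agent.Lib.Helper13.PerfNoeth

open CategoryTheory CategoryTheory.Limits AlgebraicGeometry
open AlgebraicGeometry.Scheme.Modules
open Groth.Agent.Lib.Helper13
open Groth.Agent.Lib.Helper3 Groth.Agent.Lib.Helper17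
open Groth.Agent.Lib.Helper13.GoodMap Groth.Agent.Lib.Helper13.PCohTri
  Groth.Agent.Lib.Helper13.PerfTri Groth.Agent.Lib.Helper13.PCohSum
  Groth.Agent.Lib.Helper13.PCohFT Groth.Agent.Lib.Helper13.PCohSingle
  Groth.Agent.Lib.Helper13.PCohNoeth
open CategoryTheory.Pretriangulated ZeroObject

attribute [local instance] HasDerivedCategory.standard

variable {X : Scheme.{u}}

/-- local description of the cohomology of an object locally represented by a complex -/
noncomputable def lpdHomologyIso (E : DCoh.D X) (V : X.Opens)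
    (P : CochainComplex (V : Scheme.{u}).Modules ℤ)
    (e : (DCoh.restrictD V.ι).obj E ≅ DerivedCategory.Q.obj P) (i : ℤ) :
    (restrictFunctor V.ι).obj (DCoh.HD E i) ≅ P.homology i :=
  (resHDIso V.ι E i).symm ≪≫ (DerivedCategory.homologyFunctor _ i).mapIso e ≪≫
    (DerivedCategory.homologyFunctorFactors _ i).app P

lemma isZero_homology_of_isZero_X {Y : Scheme.{u}} (P : CochainComplex Y.Modules ℤ) (i : ℤ)
    (h : IsZero (P.X i)) : IsZero (P.homology i) :=
  (P.sc i).exact_iff_isZero_homology.1 ((P.sc i).exact_of_isZero_X₂ h)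

theorem isCohD_of_isPerfect [IsLocallyNoetherian X] (E : DCoh.D X) (hE : DCoh.IsPerfect E) :
    DCoh.IsCohD E := by
  rw [isPerfect_iff] at hE
  intro i
  constructor
  · apply QCOpen.isQuasicoherent_of_open_cover
    intro x
    obtain ⟨V, hxV, P, hP, ⟨e⟩⟩ := hE x
    refine ⟨V, hxV, ?_⟩
    have hq : (P.homology i).IsQuasicoherent :=
      PCohQC.isQuasicoherent_homology P
        (fun k => LocFreeCrit.isQuasicoherent_of_isFinLocFree (hP.2 k)) i
    exact (SheafOfModules.isQuasicoherent (V : Scheme.{u}).ringCatSheaf).prop_of_iso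
      (lpdHomologyIso E V P e i).symm hq
  · apply isFiniteType_of_openImmersions
    intro x
    obtain ⟨V, hxV, P, hP, ⟨e⟩⟩ := hE x
    refine ⟨V, V.ι, inferInstance, ⟨x, hxV⟩, rfl, ?_⟩
    haveI := isFiniteType_homology_noeth P hP i
    exact QCProps.isFiniteType_of_iso (lpdHomologyIso E V P e i).symm

theorem exists_bounds_of_isPerfect [CompactSpace X] (E : DCoh.D X) (hE : DCoh.IsPerfect E) :
    ∃ a b : ℤ, E.IsGE a ∧ E.IsLE b := by
  rw [isPerfect_iff] at hE
  choose V hxV hV using hE
  have hb : ∀ x : X, ∃ a b : ℤ, ∀ i : ℤ, (i < a ∨ b < i) →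
      IsZero ((restrictFunctor (V x).ι).obj (DCoh.HD E i)) := by
    intro x
    obtain ⟨P, ⟨⟨a, b, hab⟩, -⟩, ⟨e⟩⟩ := hV x
    exact ⟨a, b, fun i hi => IsZero.of_iso (isZero_homology_of_isZero_X P i (hab i hi))
      (lpdHomologyIso E (V x) P e i)⟩
  choose a b hab using hb
  obtain ⟨t, ht⟩ := isCompact_univ.elim_finite_subcover (fun x => ((V x : X.Opens) : Set X))
    (fun x => (V x).isOpen) (fun x _ => Set.mem_iUnion.2 ⟨x, hxV x⟩)
  obtain ⟨B, hB⟩ := (t.image b).exists_le
  obtain ⟨A, hA⟩ := (t.image (fun x => -a x)).exists_le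
  have key : ∀ i : ℤ, (i < -A ∨ B < i) → IsZero (DCoh.HD E i) := by
    intro i hi
    apply isZero_of_locally
    intro y
    obtain ⟨x, hxt, hyx⟩ : ∃ x ∈ t, y ∈ (V x : Set X) := by
      have := ht (Set.mem_univ y)
      simpa using this
    have h1 := hB (b x) (Finset.mem_image_of_mem b hxt)
    have h2 := hA (-a x) (Finset.mem_image_of_mem (fun x => -a x) hxt)
    refine ⟨V x, hyx, hab x i ?_⟩
    rcases hi with hi | hi
    · exact Or.inl (by omega)
    · exact Or.inr (by omega)
  refine ⟨-A, B, ?_, ?_⟩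
  · rw [DerivedCategory.isGE_iff]
    intro i hi
    exact key i (Or.inl hi)
  · rw [DerivedCategory.isLE_iff]
    intro i hi
    exact key i (Or.inr hi)

theorem isCohD_and_bounded_of_isPerfect (X : Scheme.{u}) [IsNoetherian X] (E : DCoh.D X)
    (hE : DCoh.IsPerfect E) : DCoh.IsCohD E ∧ ∃ a b : ℤ, E.IsGE a ∧ E.IsLE b :=
  ⟨isCohD_of_isPerfect E hE, exists_bounds_of_isPerfect E hE⟩

end Groth.Agent.Lib.Helper13.PerfNoeth
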