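import Mathlib
import Groth.Agent.Lib.Helper13.PerfNoeth
import Groth.Agent.Lib.Helper13.PCohFT
import Groth.Agent.Lib.Helper3.LocFreeCrit
import Groth.Agent.Lib.Helper17.LocConstRank

/-!
# The locus where the cohomology sheaves of a perfect object are finite free (helper13)
-/

set_option autoImplicit false
set_option backward.isDefEq.respectTransparency false
universe u

namespace Groth.Agent.Lib.Helper13.FreeLocus

open CategoryTheory CategoryTheory.Limits AlgebraicGeometry TopologicalSpace Opposite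
open AlgebraicGeometry.Scheme.Modules
open Groth.Agent.Lib.Helper13
open Groth.Agent.Lib.Helper3 Groth.Agent.Lib.Helper17
open Groth.Agent.Lib.Helper13.PerfTri Groth.Agent.Lib.Helper13.PCohFT
  Groth.Agent.Lib.Helper13.PerfNoeth
open Groth.Agent.Lib.Helper3.FreeBasis Groth.Agent.Lib.Helper3.QCSec
  Groth.Agent.Lib.Helper3.InvGen

/-! ### algebra: finite presentation along a semilinear isomorphism -/

section Alg

lemma finitePresentation_of_semilinear {R S : Type*} [CommRing R] [CommRing S] {N N' : Type*}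
    [AddCommGroup N] [AddCommGroup N'] [Module R N] [Module S N'] (τ : R →+* S)
    (hτ : Function.Bijective τ) (φ : N ≃+ N') (hφ : ∀ (r : R) (n : N), φ (r • n) = τ r • φ n)
    [Module.FinitePresentation R N] : Module.FinitePresentation S N' := by
  obtain ⟨n, K, e, hK⟩ := Module.FinitePresentation.exists_fin R N
  obtain ⟨f, hf⟩ : ∃ f : (Fin n → R) →ₗ[R] N, f = e.symm.toLinearMap ∘ₗ K.mkQ := ⟨_, rfl⟩
  have hfs : Function.Surjective f := by
    rw [hf]
    exact e.symm.surjective.comp K.mkQ_surjective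
  have hfk : LinearMap.ker f = K := by
    rw [hf, LinearEquiv.ker_comp, Submodule.ker_mkQ]
  haveI : RingHomSurjective τ := ⟨hτ.2⟩
  obtain ⟨T, hT⟩ : ∃ T : (Fin n → R) →ₛₗ[τ] (Fin n → S), ∀ a i, T a i = τ (a i) :=
    ⟨{ toFun := fun a i => τ (a i)
       map_add' := fun a b => by funext i; simp
       map_smul' := fun r a => by funext i; simp }, fun _ _ => rfl⟩
  obtain ⟨g, hg⟩ : ∃ g : (Fin n → S) →ₗ[S] N',
      ∀ b, g b = ∑ i, b i • φ (f (Pi.single i 1)) :=
    ⟨Fintype.linearCombination S (fun i => φ (f (Pi.single i 1))),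
      fun b => Fintype.linearCombination_apply _ _ _⟩
  have key : ∀ a : Fin n → R, g (T a) = φ (f a) := by
    intro a
    have ha : a = ∑ i, a i • (Pi.single i 1 : Fin n → R) := by
      ext j
      simp [Finset.sum_apply, Pi.single_apply]
    rw [hg]
    conv_rhs => rw [ha]
    rw [map_sum, map_sum]
    refine Finset.sum_congr rfl (fun i _ => ?_)
    rw [hT, LinearMap.map_smul, hφ]
  have hgs : Function.Surjective g := by
    intro n'
    obtain ⟨a, ha⟩ := hfs (φ.symm n')
    exact ⟨T a, by rw [key, ha, AddEquiv.apply_symm_apply]⟩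
  have hgk : LinearMap.ker g = K.map T := by
    ext b
    rw [LinearMap.mem_ker, Submodule.mem_map]
    constructor
    · intro hb
      choose a ha using fun i => hτ.2 (b i)
      have hTa : T a = b := by
        funext i
        rw [hT, ha]
      refine ⟨a, ?_, hTa⟩
      rw [← hfk, LinearMap.mem_ker]
      apply φ.injective
      rw [← key, hTa, hb, map_zero]
    · rintro ⟨a, ha, rfl⟩
      rw [key]
      rw [← hfk, LinearMap.mem_ker] at ha
      rw [ha, map_zero]
  exact Module.finitePresentation_of_surjective g hgs (hgk ▸ hK.map T)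

end Alg

variable {X : Scheme.{u}}

/-! ### sections of a restriction -/

lemma finitePresentation_sections_image {Y : Scheme.{u}} (j : Y ⟶ X) [IsOpenImmersion j]
    (M : X.Modules) (V : Y.Opens) [Module.FinitePresentation Γ(Y, V) Γ(M.restrict j, V)] :
    Module.FinitePresentation Γ(X, j ''ᵁ V) Γ(M, j ''ᵁ V) := by
  have hbij : Function.Bijective ((j.appIso V).inv.hom : Γ(Y, V) →+* Γ(X, j ''ᵁ V)) :=
    (ConcreteCategory.isIso_iff_bijective (j.appIso V).inv).mp inferInstance
  exact finitePresentation_of_semilinear (j.appIso V).inv.hom hbij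
    (AddEquiv.refl _ : ↑Γ(M.restrict j, V) ≃+ ↑Γ(M, j ''ᵁ V)) (fun r n => rfl)

/-! ### cycles and cohomology of a strictly perfect complex with locally free higher cohomology -/

theorem isFinLocFree_cycles' (E : CochainComplex X.Modules ℤ) (hE : DCoh.IsStrictlyPerfect E)
    (m : ℤ) (h : ∀ i : ℤ, m < i → FlatMod.IsFinLocFree (E.homology i)) (i : ℤ) (hi : m ≤ i) :
    FlatMod.IsFinLocFree (E.cycles i) := by
  obtain ⟨⟨a, b, hab⟩, hfl⟩ := hE
  have key : ∀ k : ℕ, ∀ i : ℤ, m ≤ i → b < i + k → FlatMod.IsFinLocFree (E.cycles i) := by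
    intro k
    induction k with
    | zero =>
      intro i _ hb
      apply PerfLocal.isFinLocFree_of_isZero
      have hz : IsZero (E.X i) := hab i (Or.inr (by simpa using hb))
      exact IsZero.of_mono (E.iCycles i) hz
    | succ k ih =>
      intro i hi hb
      have h1 : FlatMod.IsFinLocFree (E.cycles (i + 1)) :=
        ih (i + 1) (by omega) (by push_cast at hb ⊢; omega)
      have hH : FlatMod.IsFinLocFree (E.homology (i + 1)) := h (i + 1) (by omega)
      -- the boundaries
      let S1 : ShortComplex X.Modules :=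
        ShortComplex.mk (kernel.ι (E.homologyπ (i + 1))) (E.homologyπ (i + 1))
          (kernel.condition _)
      have hS1 : S1.ShortExact :=
        { exact := ShortComplex.exact_of_f_is_kernel S1 (kernelIsKernel _)
          mono_f := by dsimp [S1]; infer_instance
          epi_g := by dsimp [S1]; infer_instance }
      have hB : FlatMod.IsFinLocFree (kernel (E.homologyπ (i + 1))) :=
        isFinLocFree_of_shortExact S1 hS1 h1 hH
      -- the map onto the boundaries
      let S' : ShortComplex X.Modules :=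
        ShortComplex.mk (E.toCycles i (i + 1)) (E.homologyπ (i + 1))
          (E.toCycles_comp_homologyπ i (i + 1))
      have hS' : S'.Exact :=
        ShortComplex.exact_of_g_is_cokernel S' (E.homologyIsCokernel i (i + 1) (by simp))
      haveI hepi : Epi (kernel.lift S'.g S'.f S'.zero) := hS'.epi_kernelLift
      have hz : E.iCycles i ≫ kernel.lift S'.g S'.f S'.zero = 0 := by
        rw [← cancel_mono (kernel.ι S'.g), Category.assoc, kernel.lift_ι, zero_comp]
        show E.iCycles i ≫ E.toCycles i (i + 1) = 0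
        rw [← cancel_mono (E.iCycles (i + 1)), Category.assoc, E.toCycles_i, E.iCycles_d,
          zero_comp]
      let S2 : ShortComplex X.Modules :=
        ShortComplex.mk (E.iCycles i) (kernel.lift S'.g S'.f S'.zero) hz
      have hfg : kernel.lift S'.g S'.f S'.zero ≫ (kernel.ι S'.g ≫ E.iCycles (i + 1)) =
          E.d i (i + 1) := by
        rw [← Category.assoc, kernel.lift_ι]
        exact E.toCycles_i i (i + 1)
      have hker : IsLimit (KernelFork.ofι S2.f S2.zero) :=
        isKernelOfComp (kernel.ι S'.g ≫ E.iCycles (i + 1)) (E.d i (i + 1))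
          (E.cyclesIsKernel i (i + 1) (by simp)) hz hfg
      have hS2 : S2.ShortExact :=
        { exact := ShortComplex.exact_of_f_is_kernel S2 hker
          mono_f := by dsimp [S2]; infer_instance
          epi_g := hepi }
      exact isFinLocFree_of_shortExact S2 hS2 (hfl i) hB
  obtain ⟨k, hk⟩ : ∃ k : ℕ, b < i + k :=
    ⟨(b - i + 1).toNat, by have := Int.self_le_toNat (b - i + 1); omega⟩
  exact key k i hi hk

theorem isFinitePresentation_homology' (E : CochainComplex X.Modules ℤ)
    (hE : DCoh.IsStrictlyPerfect E) (n : ℤ)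
    (h : ∀ i : ℤ, n < i → FlatMod.IsFinLocFree (E.homology i)) :
    SheafOfModules.IsFinitePresentation (R := X.ringCatSheaf) (E.homology n) := by
  have hZ := isFinLocFree_cycles' E hE n h n le_rfl
  have hX := hE.2 (n - 1)
  haveI qZ := LocFreeCrit.isQuasicoherent_of_isFinLocFree hZ
  haveI qX := LocFreeCrit.isQuasicoherent_of_isFinLocFree hX
  let S : ShortComplex X.Modules := ShortComplex.mk (E.toCycles (n - 1) n) (E.homologyπ n)
    (E.toCycles_comp_homologyπ (n - 1) n)
  have hcok : IsColimit (CokernelCofork.ofπ S.g S.zero) :=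
    E.homologyIsCokernel (n - 1) n (by simp)
  have hS : S.Exact := ShortComplex.exact_of_g_is_cokernel S hcok
  haveI qH : (E.homology n).IsQuasicoherent := by
    have hk := QCProps.isQuasicoherent_cokernel (E.toCycles (n - 1) n)
    have e : cokernel (E.toCycles (n - 1) n) ≅ E.homology n :=
      IsColimit.coconePointUniqueUpToIso (cokernelIsCokernel _) hcok
    exact (SheafOfModules.isQuasicoherent X.ringCatSheaf).prop_of_iso e hk
  rw [QCProps.isFinitePresentation_iff_finitePresentation_sections]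
  intro U hU
  obtain ⟨hfZ, hpZ⟩ := LocFreeCrit.finite_projective_sections hZ hU
  obtain ⟨hfX, hpX⟩ := LocFreeCrit.finite_projective_sections hX hU
  haveI : Module.FinitePresentation Γ(X, U) Γ(E.cycles n, U) :=
    Module.finitePresentation_of_projective _ _
  refine Module.finitePresentation_of_surjective (QCProps.appₗ (E.homologyπ n) U)
    ((QCExact.epi_iff_surjective_on_affines (E.homologyπ n)).1 inferInstance U hU) ?_
  have hker : LinearMap.ker (QCProps.appₗ (E.homologyπ n) U) =
      LinearMap.range (QCProps.appₗ (E.toCycles (n - 1) n) U) := by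
    ext y
    constructor
    · intro hy
      have hy' : (E.homologyπ n).app U y = 0 := hy
      obtain ⟨x, hx⟩ := exact_sections_affine S hS hU y hy'
      exact ⟨x, hx⟩
    · rintro ⟨x, rfl⟩
      show (E.homologyπ n).app U ((E.toCycles (n - 1) n).app U x) = 0
      exact QCExact.app_f_g_apply S U x
  rw [hker]
  exact Submodule.fg_range _

/-! ### modules free of finite rank over an open -/

/-- `M` has a finite basis over the open `W` -/
def FreeOn (M : X.Modules) (W : X.Opens) : Prop :=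
  ∃ (n : ℕ) (e : Fin n → Γ(M, W)), IsBasis M W e

lemma FreeOn.mono {M : X.Modules} {W W' : X.Opens} (h : FreeOn M W) (hle : W' ≤ W) :
    FreeOn M W' := by
  obtain ⟨n, e, he⟩ := h
  exact ⟨n, _, he.mono hle⟩

lemma freeOn_of_isZero_restrict (M : X.Modules) (V : X.Opens) (h : IsZero (M.restrict V.ι))
    (W : X.Opens) (hW : W ≤ V) : FreeOn M W := by
  refine ⟨0, fun i => i.elim0, ?_⟩
  intro W' hW'
  have hsub : Subsingleton Γ(M, W') := by
    have h1 : Subsingleton Γ(M.restrict V.ι, V.ι ⁻¹ᵁ W') := ModBasic.subsingleton_of_isZero h _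
    have h2 : Subsingleton Γ(M, V.ι ''ᵁ (V.ι ⁻¹ᵁ W')) := h1
    rwa [ι_image_preimage_of_le (hW'.trans hW)] at h2
  constructor
  · intro a b _
    funext i
    exact i.elim0
  · intro m
    exact ⟨fun i => i.elim0, Subsingleton.elim _ _⟩

lemma free_finite_stalk_of_freeOn (M : X.Modules) [M.IsQuasicoherent] {W : X.Opens}
    (h : FreeOn M W) (y : X) (hy : y ∈ W) :
    Module.Free (X.presheaf.stalk y) (M.presheaf.stalk y) ∧
      Module.Finite (X.presheaf.stalk y) (M.presheaf.stalk y) := by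
  obtain ⟨n, e, hb⟩ := h
  obtain ⟨_, ⟨W', hW', rfl⟩, hyW, hWU⟩ :=
    X.isBasis_affineOpens.exists_subset_of_mem_open hy W.2
  have hbW := hb W' hWU
  let φ : (Fin n → Γ(X, W')) →ₗ[Γ(X, W')] Γ(M, W') :=
    Fintype.linearCombination Γ(X, W') (fun i => QCSec.res M hWU (e i))
  have hφ : Function.Bijective φ := by
    have h : (φ : (Fin n → Γ(X, W')) → Γ(M, W')) =
        fun a => ∑ i, a i • QCSec.res M hWU (e i) := by
      funext a
      exact Fintype.linearCombination_apply _ _ _
    rw [h]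
    exact hbW
  let eq : (Fin n → Γ(X, W')) ≃ₗ[Γ(X, W')] Γ(M, W') := LinearEquiv.ofBijective φ hφ
  haveI : Module.Free Γ(X, W') Γ(M, W') := Module.Free.of_equiv eq
  haveI : Module.Finite Γ(X, W') Γ(M, W') := Module.Finite.equiv eq
  obtain ⟨i1, i2, i3, i4, g, h1, h2, h3⟩ := QS.exists_isLocalizedModule hW' M y hyW
  haveI : Nontrivial Γ(X, W') := (algebraMap Γ(X, W') (X.presheaf.stalk y)).domain_nontrivial
  exact ⟨Module.free_of_isLocalizedModule (hW'.primeIdealOf ⟨y, hyW⟩).asIdeal.primeCompl g,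
    Module.Finite.of_isLocalizedModule (hW'.primeIdealOf ⟨y, hyW⟩).asIdeal.primeCompl g⟩

lemma exists_freeOn_of_free_stalk (M : X.Modules) [M.IsQuasicoherent] (x : X) {U : X.Opens}
    (hU : IsAffineOpen U) (hxU : x ∈ U) [Module.FinitePresentation Γ(X, U) Γ(M, U)]
    (hfree : Module.Free (X.presheaf.stalk x) (M.presheaf.stalk x)) :
    ∃ W : X.Opens, x ∈ W ∧ W ≤ U ∧ FreeOn M W := by
  obtain ⟨f, r, e, hxf, he⟩ := LocFreeCrit.exists_isBasis_of_mem_freeLocus M hU x hxU
    ((LocFreeCrit.free_stalk_iff_mem_freeLocus M hU x hxU).mp hfree)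
  exact ⟨X.basicOpen f, hxf, X.basicOpen_le f, r, e, he⟩

/-! ### the induction -/

section Main

attribute [local instance] HasDerivedCategory.standard

lemma isQuasicoherent_HD_of_isPerfect (E : DCoh.D X) (hE : DCoh.IsPerfect E) (i : ℤ) :
    (DCoh.HD E i).IsQuasicoherent := by
  rw [isPerfect_iff] at hE
  apply QCOpen.isQuasicoherent_of_open_cover
  intro x
  obtain ⟨V, hxV, P, hP, ⟨e⟩⟩ := hE x
  refine ⟨V, hxV, ?_⟩
  have hq : (P.homology i).IsQuasicoherent :=
    PCohQC.isQuasicoherent_homology P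
      (fun k => LocFreeCrit.isQuasicoherent_of_isFinLocFree (hP.2 k)) i
  exact (SheafOfModules.isQuasicoherent (V : Scheme.{u}).ringCatSheaf).prop_of_iso
    (lpdHomologyIso E V P e i).symm hq

lemma step (E : DCoh.D X) (hE : DCoh.IsPerfect E) (x : X) (W : X.Opens) (hxW : x ∈ W)
    (hL : LPD E W.ι) (i₀ : ℤ) (hhigh : ∀ i : ℤ, i₀ < i → FreeOn (DCoh.HD E i) W)
    (hfree : Module.Free (X.presheaf.stalk x) ((DCoh.HD E i₀).presheaf.stalk x)) :
    ∃ W' : X.Opens, x ∈ W' ∧ W' ≤ W ∧ FreeOn (DCoh.HD E i₀) W' := by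
  obtain ⟨P, hP, ⟨e⟩⟩ := hL
  have hflf : ∀ i : ℤ, i₀ < i → FlatMod.IsFinLocFree (P.homology i) := by
    intro i hi
    obtain ⟨n, b, hb⟩ := hhigh i hi
    have h1 : FlatMod.IsFinLocFree ((DCoh.HD E i).restrict W.ι) :=
      (LocFreeCrit.isFinLocFree_restrict_iff _ W).2 (fun y hy => ⟨W, n, b, hy, le_rfl, hb⟩)
    exact LocFreeCrit.isFinLocFree_of_iso (lpdHomologyIso E W P e i) h1
  have hfp := isFinitePresentation_homology' P hP i₀ hflf
  haveI hfp' : SheafOfModules.IsFinitePresentation (R := (W : Scheme.{u}).ringCatSheaf)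
      ((DCoh.HD E i₀).restrict W.ι) :=
    (SheafOfModules.isFinitePresentation (W : Scheme.{u}).ringCatSheaf).prop_of_iso
      (lpdHomologyIso E W P e i₀).symm hfp
  obtain ⟨_, ⟨U, hU, rfl⟩, hxU, hUW⟩ :=
    X.isBasis_affineOpens.exists_subset_of_mem_open hxW W.2
  have hU' : IsAffineOpen (W.ι ⁻¹ᵁ U) :=
    hU.preimage_of_isOpenImmersion W.ι (by rw [Scheme.Opens.opensRange_ι]; exact hUW)
  haveI h1 := QCProps.finitePresentation_sections ((DCoh.HD E i₀).restrict W.ι) hU'
  have h2 := finitePresentation_sections_image W.ι (DCoh.HD E i₀) (W.ι ⁻¹ᵁ U)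
  rw [ι_image_preimage_of_le hUW] at h2
  haveI := h2
  haveI := isQuasicoherent_HD_of_isPerfect E hE i₀
  obtain ⟨W', hx, hle, hfr⟩ := exists_freeOn_of_free_stalk (DCoh.HD E i₀) x hU hxU hfree
  exact ⟨W', hx, hle.trans hUW, hfr⟩

theorem exists_open_freeOn (E : DCoh.D X) (hE : DCoh.IsPerfect E) (x : X)
    (hfree : ∀ i : ℤ, Module.Free (X.presheaf.stalk x) ((DCoh.HD E i).presheaf.stalk x)) :
    ∃ W : X.Opens, x ∈ W ∧ ∀ i : ℤ, FreeOn (DCoh.HD E i) W := by
  obtain ⟨V, hxV, hLV⟩ := (isPerfect_iff E).1 hE x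
  have hLV' := hLV
  obtain ⟨P, ⟨⟨a, b, hab⟩, hfl⟩, ⟨e⟩⟩ := hLV'
  have hzero : ∀ i : ℤ, (i < a ∨ b < i) → IsZero ((DCoh.HD E i).restrict V.ι) := fun i hi =>
    IsZero.of_iso (isZero_homology_of_isZero_X P i (hab i hi)) (lpdHomologyIso E V P e i)
  have claim : ∀ k : ℕ, ∃ W : X.Opens, x ∈ W ∧ W ≤ V ∧
      ∀ i : ℤ, b - k < i → FreeOn (DCoh.HD E i) W := by
    intro k
    induction k with
    | zero =>
      exact ⟨V, hxV, le_rfl, fun i hi =>
        freeOn_of_isZero_restrict _ V (hzero i (Or.inr (by simpa using hi))) V le_rfl⟩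
    | succ k ih =>
      obtain ⟨W, hxW, hWV, hW⟩ := ih
      have hLW : LPD E W.ι :=
        LPD.comp (X.homOfLE hWV) V.ι W.ι (X.homOfLE_ι hWV).symm hLV
      obtain ⟨W', hxW', hW'W, hfr⟩ :=
        step E hE x W hxW hLW (b - k) (fun i hi => hW i hi) (hfree (b - k))
      refine ⟨W', hxW', hW'W.trans hWV, fun i hi => ?_⟩
      by_cases h : i = b - k
      · subst h
        exact hfr
      · exact (hW i (by push_cast at hi; omega)).mono hW'W
  obtain ⟨W, hxW, hWV, hW⟩ := claim (b - a + 1).toNat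
  refine ⟨W, hxW, fun i => ?_⟩
  by_cases hi : i < a
  · exact freeOn_of_isZero_restrict _ V (hzero i (Or.inl hi)) W hWV
  · have := Int.self_le_toNat (b - a + 1)
    exact hW i (by omega)

theorem locus (E : DCoh.D X) (hE : DCoh.IsPerfect E) :
    ∃ U : X.Opens,
      (U : Set X) = {x : X | ∀ i : ℤ,
        Module.Free (X.presheaf.stalk x) ((DCoh.HD E i).presheaf.stalk x) ∧
        Module.Finite (X.presheaf.stalk x) ((DCoh.HD E i).presheaf.stalk x)} ∧
      (∀ i : ℤ, FlatMod.IsFinLocFree ((DCoh.HD E i).restrict U.ι)) ∧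
      ∀ W : X.Opens, (∀ i : ℤ, FlatMod.IsFinLocFree ((DCoh.HD E i).restrict W.ι)) → W ≤ U := by
  haveI qc : ∀ i : ℤ, (DCoh.HD E i).IsQuasicoherent := isQuasicoherent_HD_of_isPerfect E hE
  obtain ⟨S, hS⟩ : ∃ S : Set X, S = {x : X | ∀ i : ℤ,
        Module.Free (X.presheaf.stalk x) ((DCoh.HD E i).presheaf.stalk x) ∧
        Module.Finite (X.presheaf.stalk x) ((DCoh.HD E i).presheaf.stalk x)} := ⟨_, rfl⟩
  have key : ∀ x ∈ S, ∃ W : X.Opens, x ∈ W ∧ (W : Set X) ⊆ S ∧
      ∀ i : ℤ, FreeOn (DCoh.HD E i) W := by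
    intro x hx
    rw [hS] at hx
    obtain ⟨W, hxW, hW⟩ := exists_open_freeOn E hE x (fun i => (hx i).1)
    refine ⟨W, hxW, fun y hy => ?_, hW⟩
    rw [hS]
    intro i
    exact free_finite_stalk_of_freeOn (DCoh.HD E i) (hW i) y hy
  have hopen : IsOpen S := by
    rw [isOpen_iff_forall_mem_open]
    intro x hx
    obtain ⟨W, hxW, hWS, -⟩ := key x hx
    exact ⟨W, hWS, W.2, hxW⟩
  refine ⟨⟨S, hopen⟩, hS, ?_, ?_⟩
  · intro i
    rw [LocFreeCrit.isFinLocFree_restrict_iff]
    intro x hx
    obtain ⟨W, hxW, hWS, hfr⟩ := key x hx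
    obtain ⟨n, e, he⟩ := hfr i
    exact ⟨W, n, e, hxW, fun y hy => hWS hy, he⟩
  · intro W hW y hy
    show y ∈ S
    rw [hS]
    intro i
    obtain ⟨W', n, e, hyW', -, he⟩ :=
      (LocFreeCrit.isFinLocFree_restrict_iff _ W).1 (hW i) y hy
    exact free_finite_stalk_of_freeOn (DCoh.HD E i) ⟨n, e, he⟩ y hyW'

end Main

end Groth.Agent.Lib.Helper13.FreeLocus
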