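import Mathlib
import Groth.Agent.Lib.Helper2.K0Der.Main
import Groth.Agent.Lib.Helper3.QCProps
import Groth.Agent.Lib.Helper3.QCOpen
import Groth.Agent.Lib.Helper3.AssPoints
import Groth.Agent.Lib.Helper17.StalkExact
import Groth.Agent.Lib.Helper13.PerfNoeth
import Groth.Agent.Lib.Helper13.PerfTri

/-!
# `K₀` of coherent modules supported in a closed subset versus `K₀` of perfect complexes supported
there (helper13)

Assuming every coherent module supported in `Y'` is perfect, the perfect objects with cohomology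
supported in `Y'` are exactly the bounded objects whose cohomology sheaves are coherent and supported
in `Y'`; the comparison of Grothendieck groups is then helper2's `K0Der.main`.
-/

set_option autoImplicit false
universe u

namespace Groth.Agent.Lib.Helper13.K0Supp

open CategoryTheory CategoryTheory.Limits Pretriangulated ZeroObject DerivedCategory AlgebraicGeometry
open Groth.Agent.Lib.Helper2 Groth.Agent.Lib.Helper3 Groth.Agent.Lib.Helper13
attribute [local instance] HasDerivedCategory.standard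

variable {X : Scheme.{u}}

lemma subsingleton_stalk_of_mono {M N : X.Modules} (φ : M ⟶ N) [Mono φ] (x : X)
    (h : Subsingleton (N.presheaf.stalk x)) : Subsingleton (M.presheaf.stalk x) := by
  haveI := h
  exact (Groth.Agent.Lib.Helper17.StalkExact.stalkLin_injective φ x).subsingleton

lemma support_subset_of_mono {M N : X.Modules} (φ : M ⟶ N) [Mono φ] :
    CohB1.support M ⊆ CohB1.support N :=
  fun x hx hs => hx (subsingleton_stalk_of_mono φ x hs)

/-- an object concentrated in one degree whose cohomology is in `P` is perfect -/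
lemma isPerfect_of_conc (P : ObjectProperty X.Modules) [P.IsClosedUnderIsomorphisms]
    (hperf : ∀ G : X.Modules, P G → DCoh.IsPerfect (DCoh.inD X G))
    (a : ℤ) (K : DCoh.D X)
    (hK : ∀ i, P ((DerivedCategory.homologyFunctor X.Modules i).obj K))
    [K.IsGE a] [K.IsLE a] : DCoh.IsPerfect K := by
  obtain ⟨Y, ⟨e⟩⟩ := exists_iso_singleFunctor_obj_of_isGE_of_isLE K a
  have hY : P Y := P.prop_of_iso ((DerivedCategory.homologyFunctor X.Modules a).mapIso e ≪≫
      (singleFunctorCompHomologyFunctorIso X.Modules a).app Y) (hK a)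
  have h1 : DCoh.IsPerfect ((DCoh.inD X Y)⟦-a⟧) := PerfTri.isPerfect_shift _ (-a) (hperf Y hY)
  exact PerfTri.isPerfect_of_iso
    (((DerivedCategory.singleFunctors X.Modules).shiftIso (-a) a 0 (by omega)).app Y ≪≫ e.symm) h1

/-- a bounded object whose cohomology sheaves are in `P` is perfect, if the objects of `P` are -/
lemma isPerfect_of_bdd (P : ObjectProperty X.Modules) [P.IsClosedUnderIsomorphisms]
    [P.ContainsZero]
    (hperf : ∀ G : X.Modules, P G → DCoh.IsPerfect (DCoh.inD X G)) :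
    ∀ (n : ℕ) (a : ℤ) (K : DCoh.D X),
      (∀ i, P ((DerivedCategory.homologyFunctor X.Modules i).obj K)) →
      K.IsGE a → K.IsLE (a + n) → DCoh.IsPerfect K := by
  intro n
  induction n with
  | zero =>
    intro a K hK hGE hLE
    haveI := hGE
    haveI : K.IsLE a := TStructure.t.isLE_of_le K (a + ((0 : ℕ) : ℤ)) a (by simp)
    exact isPerfect_of_conc P hperf a K hK
  | succ n ih =>
    intro a K hK hGE hLE
    let Q' : ObjectProperty (DerivedCategory X.Modules) := fun L =>
      (∀ i, P ((DerivedCategory.homologyFunctor X.Modules i).obj L)) ∧ K0Der.Bdd L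
    have hQ' : ∀ L, Q' L ↔
        (∀ i, P ((DerivedCategory.homologyFunctor X.Modules i).obj L)) ∧ K0Der.Bdd L :=
      fun L => Iff.rfl
    obtain ⟨A, B, hA, hB, f, g, h, hT⟩ :=
      (TStructure.t (C := X.Modules)).exists_triangle K (a + n) (a + n + 1) rfl
    haveI : (Triangle.mk f g h).obj₁.IsLE (a + n) := ⟨hA⟩
    haveI : (Triangle.mk f g h).obj₃.IsGE (a + n + 1) := ⟨hB⟩
    haveI : (Triangle.mk f g h).obj₂.IsGE a := hGE
    haveI : (Triangle.mk f g h).obj₂.IsLE (a + ((n + 1 : ℕ) : ℤ)) := hLE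
    have hKQ : Q' (Triangle.mk f g h).obj₂ := ⟨hK, a, a + ((n + 1 : ℕ) : ℤ), hGE, hLE⟩
    obtain ⟨qA, gA⟩ := K0Der.Q_trunc₁ P Q' hQ' (Triangle.mk f g h) hT (a + n) a hKQ
    obtain ⟨qB, lB⟩ := K0Der.Q_trunc₃ P Q' hQ' (Triangle.mk f g h) hT (a + n)
      (a + ((n + 1 : ℕ) : ℤ)) hKQ
    have pA : DCoh.IsPerfect A := ih a A qA.1 gA ⟨hA⟩
    haveI : B.IsGE (a + n + 1) := ⟨hB⟩
    haveI : B.IsLE (a + n + 1) := by
      haveI : B.IsLE (a + ((n + 1 : ℕ) : ℤ)) := lB
      exact TStructure.t.isLE_of_le B (a + ((n + 1 : ℕ) : ℤ)) (a + n + 1) (by push_cast; omega)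
    have pB : DCoh.IsPerfect B := isPerfect_of_conc P hperf (a + n + 1) B qB.1
    exact (PerfTri.two_of_three (Triangle.mk f g h) hT).2.1 pA pB

theorem main (X : Scheme.{u}) [IsNoetherian X] (Y' : Set X)
    (hperf : ∀ G : X.Modules, Coh.IsCoh G → CohB1.support G ⊆ Y' →
      DCoh.IsPerfect (DCoh.inD X G)) :
    ∃ φ : KZero.K0sub (fun G : X.Modules => Coh.IsCoh G ∧ CohB1.support G ⊆ Y') ≃+
        KZero.K0tr (fun K : DCoh.D X => DCoh.IsPerfect K ∧
          ∀ i : ℤ, CohB1.support (DCoh.HD K i) ⊆ Y'),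
      ∀ G : X.Modules, Coh.IsCoh G → CohB1.support G ⊆ Y' →
        φ (KZero.clSub (fun G : X.Modules => Coh.IsCoh G ∧ CohB1.support G ⊆ Y') G) =
          KZero.clTr (fun K : DCoh.D X => DCoh.IsPerfect K ∧
            ∀ i : ℤ, CohB1.support (DCoh.HD K i) ⊆ Y') (DCoh.inD X G) := by
  let P : ObjectProperty X.Modules := fun G => Coh.IsCoh G ∧ CohB1.support G ⊆ Y'
  haveI : P.IsClosedUnderIsomorphisms := ⟨fun {M N} e h => by
    obtain ⟨⟨h1, h2⟩, h3⟩ := h
    haveI := h1
    haveI := h2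
    exact ⟨⟨(SheafOfModules.isQuasicoherent X.ringCatSheaf).prop_of_iso e h1,
      QCProps.isFiniteType_of_iso e⟩, (support_subset_of_mono e.inv).trans h3⟩⟩
  haveI : P.ContainsZero := ⟨⟨_, isZero_zero _,
    ⟨QCOpen.isQuasicoherent_of_isZero (isZero_zero _),
      QCOpen.isFiniteType_of_isZero (isZero_zero _)⟩,
    fun x hx => (hx (QS.subsingleton_stalk_of_isZero _ (isZero_zero _) x)).elim⟩⟩
  haveI : P.IsClosedUnderKernels := ⟨by
    rintro _ ⟨f, k, hk, ⟨⟨⟨q1, t1⟩, s1⟩, ⟨⟨q2, t2⟩, s2⟩⟩⟩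
    haveI := q1
    haveI := t1
    haveI := q2
    haveI := t2
    have e0 := IsLimit.conePointUniqueUpToIso hk (kernelIsKernel f)
    have e : k.pt ≅ kernel f := e0
    haveI hq : (kernel f : X.Modules).IsQuasicoherent := QCProps.isQuasicoherent_kernel f
    haveI hf : SheafOfModules.IsFiniteType (R := X.ringCatSheaf) (kernel f : X.Modules) :=
      QCProps.isFiniteType_of_mono (kernel.ι f)
    haveI : Mono (Fork.ι k) := mono_of_isLimit_fork hk
    exact ⟨⟨(SheafOfModules.isQuasicoherent X.ringCatSheaf).prop_of_iso e.symm hq,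
      QCProps.isFiniteType_of_iso e.symm⟩, (support_subset_of_mono (Fork.ι k)).trans s1⟩⟩
  let Q : ObjectProperty (DerivedCategory X.Modules) := fun K => DCoh.IsPerfect K ∧
    ∀ i : ℤ, CohB1.support (DCoh.HD K i) ⊆ Y'
  have hQ : ∀ K, Q K ↔
      (∀ i, P ((DerivedCategory.homologyFunctor X.Modules i).obj K)) ∧ K0Der.Bdd K := by
    intro K
    constructor
    · rintro ⟨h1, h2⟩
      obtain ⟨hc, hb⟩ := PerfNoeth.isCohD_and_bounded_of_isPerfect X K h1
      exact ⟨fun i => ⟨hc i, h2 i⟩, hb⟩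
    · rintro ⟨h1, a, b, hGE, hLE⟩
      refine ⟨?_, fun i => (h1 i).2⟩
      haveI := hLE
      exact isPerfect_of_bdd P (fun G hG => hperf G hG.1 hG.2) (b - a).toNat a K h1 hGE
        (TStructure.t.isLE_of_le K b _ (by have := Int.self_le_toNat (b - a); omega))
  obtain ⟨φ, hφ⟩ := K0Der.main P Q hQ
  exact ⟨φ, fun G h1 h2 => hφ G ⟨h1, h2⟩⟩

end Groth.Agent.Lib.Helper13.K0Supp
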