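import Mathlib
import Groth.Agent.S0563
import Groth.Agent.Lib.Helper3.GlobGen
import Groth.Agent.Lib.Helper17.StalkExact
import Groth.Agent.Lib.Helper17.CohStalk
import Groth.Agent.Lib.Helper17.LocConstRank
import Groth.Agent.Lib.Helper13.FreeLocus
import Groth.Agent.Lib.Helper13.PerfTor
import Groth.Agent.Lib.Helper13.K0Supp

/-!
# Coherent modules on regular schemes are perfect (helper13)

* `exists_perfect_nhds`: on an affine locally Noetherian scheme, a coherent module whose stalk at
  `y` has finite projective dimension is perfect near `y` (induction on the projective dimension,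
  through the kernel of a surjection from a finite free module).
* `isPerfect_inD_of_regular`: on a locally Noetherian scheme with regular local rings, every
  coherent module placed in degree `0` is perfect (Serre's theorem `S0563` at the stalks).
* `isPerfect_of_bounded_coherent`: bounded objects with coherent cohomology are perfect.
-/

set_option autoImplicit false
set_option backward.isDefEq.respectTransparency false
universe u

namespace Groth.Agent.Lib.Helper13.RegPerf

open CategoryTheory CategoryTheory.Limits Pretriangulated DerivedCategory AlgebraicGeometry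
open AlgebraicGeometry.Scheme.Modules
open Groth.Agent.Lib.Helper2 Groth.Agent.Lib.Helper3 Groth.Agent.Lib.Helper13
  Groth.Agent.Lib.Helper17
attribute [local instance] HasDerivedCategory.standard

lemma exists_nat_dim (R : Type u) [CommRing R] [IsNoetherianRing R] [IsLocalRing R] :
    ∃ d : ℕ, ringKrullDim R = d := by
  obtain ⟨a, ha⟩ := WithBot.ne_bot_iff_exists.1 (ringKrullDim_ne_bot (R := R))
  have hat : a ≠ ⊤ := by
    rintro rfl
    exact ringKrullDim_ne_top (R := R) ha.symm
  obtain ⟨n, hn⟩ := ENat.ne_top_iff_exists.1 hat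
  exact ⟨n, by rw [← ha, ← hn]; rfl⟩

variable {Y : Scheme.{u}}

lemma isPerfect_inD_of_isFinLocFree (P : Y.Modules) (hP : FlatMod.IsFinLocFree P) :
    DCoh.IsPerfect (DCoh.inD Y P) :=
  PerfTri.isPerfect_of_iso ((DerivedCategory.singleFunctorIsoCompQ Y.Modules 0).app P).symm
    (PerfTor.isPerfect_of_isStrictlyPerfect _ (ClImmPC.isStrictlyPerfect_single' P hP 0))

/-- a coherent module on an affine locally Noetherian scheme whose stalk at `y` has finite
projective dimension is perfect near `y` -/
theorem exists_perfect_nhds [IsAffine Y] [IsLocallyNoetherian Y] :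
    ∀ (d : ℕ) (G : Y.Modules), Coh.IsCoh G → ∀ y : Y,
      HasProjectiveDimensionLT
        (ModuleCat.of (Y.presheaf.stalk y) (G.presheaf.stalk y)) (d + 1) →
      ∃ V : Y.Opens, y ∈ V ∧ DCoh.IsPerfect ((DCoh.restrictD V.ι).obj (DCoh.inD Y G)) := by
  intro d
  induction d with
  | zero =>
    intro G hG y hpd
    obtain ⟨hq, hf⟩ := hG
    haveI := hq
    haveI := hf
    haveI : Module.Finite (Y.presheaf.stalk y) (G.presheaf.stalk y) := CohStalk.finite_stalk G y
    have hproj : Projective (ModuleCat.of (Y.presheaf.stalk y) (G.presheaf.stalk y)) :=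
      projective_iff_hasProjectiveDimensionLT_one.2 hpd
    haveI : Module.Projective (Y.presheaf.stalk y) (G.presheaf.stalk y) :=
      (IsProjective.iff_projective _).2 hproj
    haveI : Module.Free (Y.presheaf.stalk y) (G.presheaf.stalk y) :=
      Module.free_of_flat_of_isLocalRing
    obtain ⟨U, hU, hyU⟩ := QCProps.exists_affine_nbhd y
    haveI : Module.Finite Γ(Y, U) Γ(G, U) := QCProps.finite_sections G hU
    haveI : IsNoetherianRing Γ(Y, U) := IsLocallyNoetherian.component_noetherian ⟨U, hU⟩
    haveI : Module.FinitePresentation Γ(Y, U) Γ(G, U) := Module.finitePresentation_of_finite _ _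
    obtain ⟨W, hyW, -, n, e, hb⟩ := FreeLocus.exists_freeOn_of_free_stalk G y hU hyU inferInstance
    obtain ⟨φ⟩ := FreeBasis.nonempty_iso_of_isBasis hb
    refine ⟨W, hyW, ?_⟩
    exact PerfTri.isPerfect_of_iso
      ((DerivedCategory.singleFunctor _ 0).mapIso φ.symm ≪≫
        (PCohSingle.restrictInDIso W.ι G).symm)
      (isPerfect_inD_of_isFinLocFree _ (PerfFree.isFinLocFree_freeMod _ n))
  | succ d ih =>
    intro G hG y hpd
    obtain ⟨hq, hf⟩ := hG
    haveI := hq
    haveI := hf
    haveI hfin : Module.Finite Γ(Y, ⊤) Γ(G, ⊤) := QCProps.finite_sections G (isAffineOpen_top Y)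
    obtain ⟨n, s, hs⟩ := Module.Finite.exists_fin (R := Γ(Y, ⊤)) (M := Γ(G, ⊤))
    obtain ⟨σ, hσ⟩ : ∃ σ : ULift.{u} (Fin n) → Γ(G, ⊤), σ = fun i => s i.down := ⟨_, rfl⟩
    have hspan : Submodule.span Γ(Y, ⊤) (Set.range σ) = ⊤ := by
      rw [eq_top_iff, ← hs]
      apply Submodule.span_mono
      rintro _ ⟨i, rfl⟩
      exact ⟨⟨i⟩, by rw [hσ]⟩
    haveI : Finite (ULift.{u} (Fin n)) := inferInstance
    haveI hπ : Epi (GlobGen.freeHom G σ) := by
      apply GlobGen.epi_freeHom
      intro x
      refine ⟨⊤, isAffineOpen_top Y, trivial, ?_⟩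
      have : (fun i => QCSec.res G (le_top : (⊤ : Y.Opens) ≤ ⊤) (σ i)) = σ := by
        funext i
        exact QCSec.res_self G _ _
      rw [this]
      exact hspan
    haveI : (QCExtend.freeMod Y (ULift.{u} (Fin n))).IsQuasicoherent :=
      QCExtend.isQuasicoherent_freeMod _ _
    haveI : (QCExtend.freeMod Y (ULift.{u} (Fin n))).IsFiniteType :=
      QCExtend.isFiniteType_freeMod _ _
    haveI hKq : (kernel (GlobGen.freeHom G σ) : Y.Modules).IsQuasicoherent :=
      QCProps.isQuasicoherent_kernel _
    haveI hKf : SheafOfModules.IsFiniteType (R := Y.ringCatSheaf)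
        (kernel (GlobGen.freeHom G σ) : Y.Modules) :=
      QCProps.isFiniteType_of_mono (kernel.ι (GlobGen.freeHom G σ))
    -- the short exact sequence of sheaves
    let S : ShortComplex Y.Modules :=
      ShortComplex.mk (kernel.ι (GlobGen.freeHom G σ)) (GlobGen.freeHom G σ) (kernel.condition _)
    have hS : S.ShortExact :=
      { exact := ShortComplex.exact_of_f_is_kernel S (kernelIsKernel _)
        mono_f := by dsimp [S]; infer_instance
        epi_g := by dsimp [S]; infer_instance }
    -- stalks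
    have hex : Function.Exact (StalkExact.stalkLin (kernel.ι (GlobGen.freeHom G σ)) y)
        (StalkExact.stalkLin (GlobGen.freeHom G σ) y) := by
      haveI : Mono S.f := hS.mono_f
      exact StalkExact.stalkLin_exact S hS.exact y
    have hinj := StalkExact.stalkLin_injective (kernel.ι (GlobGen.freeHom G σ)) y
    have hsurj := StalkExact.stalkLin_surjective (GlobGen.freeHom G σ) y
    let S' : ShortComplex (ModuleCat.{u} (Y.presheaf.stalk y)) :=
      ModuleCat.shortComplexOfCompEqZero
        (StalkExact.stalkLin (kernel.ι (GlobGen.freeHom G σ)) y)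
        (StalkExact.stalkLin (GlobGen.freeHom G σ) y) hex.linearMap_comp_eq_zero
    have hS' : S'.ShortExact := ModuleCat.shortComplex_shortExact S' hex hinj hsurj
    have h3 : HasProjectiveDimensionLT S'.X₃ (d + 1 + 1) := hpd
    have h2 : HasProjectiveDimensionLT S'.X₂ (d + 1) := by
      haveI : Module.Free (Y.presheaf.stalk y)
          ((QCExtend.freeMod Y (ULift.{u} (Fin n))).presheaf.stalk y) :=
        LocConstRank.free_stalk_of_isFinLocFree _ (PCohSingle.isFinLocFree_free _) y
      haveI : Projective S'.X₂ := (IsProjective.iff_projective _).1 inferInstance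
      haveI : HasProjectiveDimensionLT S'.X₂ 1 := projective_iff_hasProjectiveDimensionLT_one.1
        inferInstance
      exact hasProjectiveDimensionLT_of_ge S'.X₂ 1 (d + 1) (by omega)
    have h1 : HasProjectiveDimensionLT S'.X₁ (d + 1) :=
      hS'.hasProjectiveDimensionLT_X₁ (d + 1) h2 h3
    obtain ⟨V, hyV, hV⟩ := ih (kernel (GlobGen.freeHom G σ)) ⟨hKq, hKf⟩ y h1
    refine ⟨V, hyV, ?_⟩
    have hT := (DCoh.restrictD V.ι).map_distinguished _ hS.singleTriangle_distinguished
    exact PerfTri.isPerfect_cone _ hT hV (PerfTor.single_free_facts V (ULift.{u} (Fin n)) 0).2.1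

/-- coherent modules on an affine regular scheme are perfect -/
theorem isPerfect_inD_of_affine_regular [IsAffine Y] [IsLocallyNoetherian Y]
    (hreg : ∀ y : Y, IsRegularLocalRing (Y.presheaf.stalk y)) (G : Y.Modules)
    (hG : Coh.IsCoh G) : DCoh.IsPerfect (DCoh.inD Y G) := by
  apply PerfTor.isPerfect_of_locally
  intro y
  haveI := hreg y
  obtain ⟨d, hd⟩ := exists_nat_dim (Y.presheaf.stalk y)
  have hpd := Groth.Agent.S0563.result (Y.presheaf.stalk y) d hd (G.presheaf.stalk y)
  obtain ⟨V, hyV, hV⟩ := exists_perfect_nhds d G hG y hpd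
  exact ⟨V, V.ι, inferInstance, ⟨y, hyV⟩, rfl, hV⟩

/-- coherent modules on a regular locally Noetherian scheme are perfect -/
theorem isPerfect_inD_of_regular {X : Scheme.{u}} [IsLocallyNoetherian X]
    (hreg : ∀ x : X, IsRegularLocalRing (X.presheaf.stalk x)) (G : X.Modules)
    (hG : Coh.IsCoh G) : DCoh.IsPerfect (DCoh.inD X G) := by
  apply PerfTor.isPerfect_of_locally
  intro x
  obtain ⟨U, hU, hxU⟩ := QCProps.exists_affine_nbhd x
  haveI : IsAffine (U : Scheme.{u}) := hU
  obtain ⟨hq, hf⟩ := hG
  haveI := hq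
  haveI := hf
  have hGU : Coh.IsCoh ((restrictFunctor U.ι).obj G) :=
    ⟨Scheme.Modules.isQuasicoherent_restrictFunctor U.ι G, QCProps.isFiniteType_restrict U.ι G⟩
  have hregU : ∀ y : (U : Scheme.{u}),
      IsRegularLocalRing ((U : Scheme.{u}).presheaf.stalk y) := by
    intro y
    haveI := hreg (U.ι y)
    exact IsRegularLocalRing.of_ringEquiv (asIso (U.ι.stalkMap y)).commRingCatIsoToRingEquiv
  refine ⟨U, U.ι, inferInstance, ⟨x, hxU⟩, rfl, ?_⟩
  exact PerfTri.isPerfect_of_iso (PCohSingle.restrictInDIso U.ι G).symm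
    (isPerfect_inD_of_affine_regular hregU _ hGU)

/-- bounded objects with coherent cohomology on a regular scheme are perfect -/
theorem isPerfect_of_bounded_coherent (X : Scheme.{u}) [IsLocallyNoetherian X]
    (hreg : ∀ x : X, IsRegularLocalRing (X.presheaf.stalk x))
    (K : DCoh.D X) (a b : ℤ) [K.IsGE a] [K.IsLE b] (hK : DCoh.IsCohD K) : DCoh.IsPerfect K := by
  let P : ObjectProperty X.Modules := fun M => Coh.IsCoh M
  haveI : P.IsClosedUnderIsomorphisms := ⟨fun {M N} e h => by
    obtain ⟨h1, h2⟩ := h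
    haveI := h1
    haveI := h2
    exact ⟨(SheafOfModules.isQuasicoherent X.ringCatSheaf).prop_of_iso e h1,
      QCProps.isFiniteType_of_iso e⟩⟩
  haveI : P.ContainsZero := ⟨⟨_, isZero_zero _,
    QCOpen.isQuasicoherent_of_isZero (isZero_zero _),
    QCOpen.isFiniteType_of_isZero (isZero_zero _)⟩⟩
  have hLE : K.IsLE (a + ((b - a).toNat : ℤ)) :=
    TStructure.t.isLE_of_le K b _ (by have := Int.self_le_toNat (b - a); omega)
  exact K0Supp.isPerfect_of_bdd P (fun G hG => isPerfect_inD_of_regular hreg G hG)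
    (b - a).toNat a K hK inferInstance hLE

/-- transport of `K₀` along an equality of object properties -/
lemma exists_K0tr_equiv_of_eq {X : Scheme.{u}} (P₁ P₂ : ObjectProperty (DCoh.D X))
    (h : P₁ = P₂) :
    ∃ φ : KZero.K0tr P₁ ≃+ KZero.K0tr P₂, ∀ K : DCoh.D X,
      φ (KZero.clTr P₁ K) = KZero.clTr P₂ K := by
  subst h
  exact ⟨AddEquiv.refl _, fun _ => rfl⟩

theorem K0_perfect_equiv_K0_DbCoh (X : Scheme.{u}) [IsNoetherian X]
    (hreg : ∀ x : X, IsRegularLocalRing (X.presheaf.stalk x)) :
    ∃ φ : KZero.K0tr (fun K : DCoh.D X => DCoh.IsPerfect K) ≃+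
        KZero.K0tr (fun K : DCoh.D X => DCoh.IsCohD K ∧ ∃ a b : ℤ, K.IsGE a ∧ K.IsLE b),
      ∀ K : DCoh.D X, DCoh.IsPerfect K →
        φ (KZero.clTr (fun K : DCoh.D X => DCoh.IsPerfect K) K) =
          KZero.clTr (fun K : DCoh.D X => DCoh.IsCohD K ∧ ∃ a b : ℤ, K.IsGE a ∧ K.IsLE b) K := by
  have h : (fun K : DCoh.D X => DCoh.IsPerfect K) =
      (fun K : DCoh.D X => DCoh.IsCohD K ∧ ∃ a b : ℤ, K.IsGE a ∧ K.IsLE b) := by
    funext K
    refine propext ⟨fun hK => PerfNoeth.isCohD_and_bounded_of_isPerfect X K hK, ?_⟩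
    rintro ⟨hK, a, b, hGE, hLE⟩
    haveI := hGE
    haveI := hLE
    exact isPerfect_of_bounded_coherent X hreg K a b hK
  obtain ⟨φ, hφ⟩ := exists_K0tr_equiv_of_eq _ _ h
  exact ⟨φ, fun K _ => hφ K⟩

end Groth.Agent.Lib.Helper13.RegPerf
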