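import Mathlib
import Groth.Agent.S0563
import Groth.Agent.Lib.Helper1.CurveFlat
import Groth.Agent.Lib.Helper2.K0Der.Basic
import Groth.Agent.Lib.Helper3.QCProps
import Groth.Agent.Lib.Helper3.QCExact
import Groth.Agent.Lib.Helper3.LocFreeCrit
import Groth.Agent.Lib.Helper17.StalkExact
import Groth.Agent.Lib.Helper17.CohStalk
import Groth.Agent.Lib.Helper17.LocConstRank
import Groth.Agent.Lib.Helper13.RegPerf
import Groth.Agent.Lib.Helper13.FreeLocus

/-!
# Projective dimension of stalks of `O_X`-modules (helper13)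

`PdLT G x n`: the stalk of `G` at `x` has projective dimension `< n` over the local ring.
Bookkeeping along short exact sequences and long exact sequences of sheaves; a coherent module on
a locally Noetherian scheme is finite locally free iff all stalks are projective; syzygies of
coherent modules on regular schemes of dimension `≤ m` are finite locally free.
-/

set_option autoImplicit false
set_option backward.isDefEq.respectTransparency false
universe u

namespace Groth.Agent.Lib.Helper13.StalkPd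

open CategoryTheory CategoryTheory.Limits AlgebraicGeometry
open AlgebraicGeometry.Scheme.Modules
open Groth.Agent.Lib.Helper1 Groth.Agent.Lib.Helper2 Groth.Agent.Lib.Helper3
  Groth.Agent.Lib.Helper13 Groth.Agent.Lib.Helper17

variable {X : Scheme.{u}}

/-- the stalk of `G` at `x` has projective dimension `< n` -/
def PdLT (G : X.Modules) (x : X) (n : ℕ) : Prop :=
  HasProjectiveDimensionLT (ModuleCat.of (X.presheaf.stalk x) (G.presheaf.stalk x)) n

lemma PdLT.mono {G : X.Modules} {x : X} {n m : ℕ} (h : PdLT G x n) (hnm : n ≤ m) :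
    PdLT G x m := by
  unfold PdLT at h ⊢
  haveI := h
  exact hasProjectiveDimensionLT_of_ge _ n m hnm

section SES

variable (S : ShortComplex X.Modules) (hS : S.ShortExact) (x : X)

include hS in
lemma stalk_exact :
    Function.Exact (StalkExact.stalkLin S.f x) (StalkExact.stalkLin S.g x) := by
  haveI := hS.mono_f
  exact StalkExact.stalkLin_exact S hS.exact x

/-- the short complex of stalks -/
noncomputable def stalkSC : ShortComplex (ModuleCat.{u} (X.presheaf.stalk x)) :=
  ModuleCat.shortComplexOfCompEqZero (StalkExact.stalkLin S.f x) (StalkExact.stalkLin S.g x)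
    (stalk_exact S hS x).linearMap_comp_eq_zero

lemma stalkSC_shortExact : (stalkSC S hS x).ShortExact := by
  haveI := hS.mono_f
  haveI := hS.epi_g
  exact ModuleCat.shortComplex_shortExact _ (stalk_exact S hS x)
    (StalkExact.stalkLin_injective S.f x) (StalkExact.stalkLin_surjective S.g x)

include hS in
lemma pdLT_X₁ (n : ℕ) (h₂ : PdLT S.X₂ x n) (h₃ : PdLT S.X₃ x (n + 1)) : PdLT S.X₁ x n :=
  (stalkSC_shortExact S hS x).hasProjectiveDimensionLT_X₁ n h₂ h₃

include hS in
lemma pdLT_X₂ (n : ℕ) (h₁ : PdLT S.X₁ x n) (h₃ : PdLT S.X₃ x n) : PdLT S.X₂ x n :=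
  (stalkSC_shortExact S hS x).hasProjectiveDimensionLT_X₂ n h₁ h₃

include hS in
lemma pdLT_X₃ (n : ℕ) (h₁ : PdLT S.X₁ x n) (h₂ : PdLT S.X₂ x (n + 1)) :
    PdLT S.X₃ x (n + 1) :=
  (stalkSC_shortExact S hS x).hasProjectiveDimensionLT_X₃ n h₁ h₂

end SES

lemma pdLT_of_iso {G G' : X.Modules} (e : G ≅ G') (x : X) (n : ℕ) (h : PdLT G x n) :
    PdLT G' x n := by
  unfold PdLT at h ⊢
  haveI := h
  have hbij : Function.Bijective (StalkExact.stalkLin e.hom x) :=
    ⟨StalkExact.stalkLin_injective e.hom x, StalkExact.stalkLin_surjective e.hom x⟩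
  exact hasProjectiveDimensionLT_of_iso (LinearEquiv.ofBijective _ hbij).toModuleIso n

lemma pdLT_one_of_isFinLocFree (G : X.Modules) (hG : FlatMod.IsFinLocFree G) (x : X) :
    PdLT G x 1 := by
  haveI := LocFreeCrit.isQuasicoherent_of_isFinLocFree hG
  haveI : Module.Free (X.presheaf.stalk x) (G.presheaf.stalk x) :=
    LocConstRank.free_stalk_of_isFinLocFree G hG x
  unfold PdLT
  haveI : Projective (ModuleCat.of (X.presheaf.stalk x) (G.presheaf.stalk x)) :=
    (IsProjective.iff_projective _).1 inferInstance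
  exact projective_iff_hasProjectiveDimensionLT_one.1 inferInstance

lemma free_stalk_of_pdLT_one (G : X.Modules) (hG : Coh.IsCoh G) (x : X) (h : PdLT G x 1) :
    Module.Free (X.presheaf.stalk x) (G.presheaf.stalk x) := by
  obtain ⟨hq, hf⟩ := hG
  haveI := hq
  haveI := hf
  haveI : Module.Finite (X.presheaf.stalk x) (G.presheaf.stalk x) := CohStalk.finite_stalk G x
  have hproj : Projective (ModuleCat.of (X.presheaf.stalk x) (G.presheaf.stalk x)) :=
    projective_iff_hasProjectiveDimensionLT_one.2 h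
  haveI : Module.Projective (X.presheaf.stalk x) (G.presheaf.stalk x) :=
    (IsProjective.iff_projective _).2 hproj
  exact Module.free_of_flat_of_isLocalRing

/-- a coherent module with projective stalks is finite locally free -/
theorem isFinLocFree_of_pdLT_one [IsLocallyNoetherian X] (G : X.Modules) (hG : Coh.IsCoh G)
    (h : ∀ x, PdLT G x 1) : FlatMod.IsFinLocFree G := by
  obtain ⟨hq, hf⟩ := hG
  haveI := hq
  haveI := hf
  apply LocFreeCrit.isFinLocFree_of_forall_mem_freeLocus
  intro x
  obtain ⟨U, hU, hxU⟩ := QCProps.exists_affine_nbhd x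
  haveI : Module.Finite Γ(X, U) Γ(G, U) := QCProps.finite_sections G hU
  haveI : IsNoetherianRing Γ(X, U) := IsLocallyNoetherian.component_noetherian ⟨U, hU⟩
  refine ⟨U, hU, hxU, Module.finitePresentation_of_finite _ _, ?_⟩
  exact (LocFreeCrit.free_stalk_iff_mem_freeLocus G hU x hxU).1
    (free_stalk_of_pdLT_one G ⟨hq, hf⟩ x (h x))

lemma pdLT_of_regular (hreg : ∀ x : X, IsRegularLocalRing (X.presheaf.stalk x)) (G : X.Modules)
    (x : X) (d : ℕ) (hd : ringKrullDim (X.presheaf.stalk x) ≤ (d : WithBot ℕ∞)) :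
    PdLT G x (d + 1) := by
  haveI := hreg x
  obtain ⟨e, he⟩ := RegPerf.exists_nat_dim (X.presheaf.stalk x)
  have hpd := Groth.Agent.S0563.result (X.presheaf.stalk x) e he (G.presheaf.stalk x)
  have hle : e ≤ d := by
    rw [he] at hd
    exact_mod_cast hd
  unfold PdLT
  haveI := hpd
  exact hasProjectiveDimensionLT_of_ge _ (e + 1) (d + 1) (by omega)

lemma coh_of_lf {G : X.Modules} (hG : FlatMod.IsFinLocFree G) : Coh.IsCoh G := by
  haveI := LocFreeCrit.isQuasicoherent_of_isFinLocFree hG
  exact ⟨inferInstance, LocConstRank.isFiniteType_of_isFinLocFree G hG⟩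

lemma coh_of_iso {M N : X.Modules} (e : M ≅ N) (hM : Coh.IsCoh M) : Coh.IsCoh N := by
  obtain ⟨h1, h2⟩ := hM
  haveI := h1
  haveI := h2
  exact ⟨(SheafOfModules.isQuasicoherent X.ringCatSheaf).prop_of_iso e h1,
    QCProps.isFiniteType_of_iso e⟩

lemma coh_kernel [IsLocallyNoetherian X] {M N : X.Modules} (φ : M ⟶ N) (hM : Coh.IsCoh M)
    (hN : Coh.IsCoh N) : Coh.IsCoh (kernel φ) := by
  obtain ⟨hq, hf⟩ := hM
  obtain ⟨hq', hf'⟩ := hN
  haveI := hq
  haveI := hf
  haveI := hq'
  haveI := hf'
  haveI hKq : (kernel φ : X.Modules).IsQuasicoherent := QCProps.isQuasicoherent_kernel _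
  exact ⟨hKq, QCProps.isFiniteType_of_mono (kernel.ι φ)⟩

/-- the first kernel of an exact sequence `S₀ → S₁ → ⋯ → S_{m+1} → 0` with projective stalks
at `S₀, …, S_m`, in terms of the projective dimension of the stalk of `S_{m+1}` -/
theorem pdLT_kernel (x : X) : ∀ (m : ℕ) (S : ComposableArrows X.Modules (m + 1)), S.Exact →
    Epi (S.map' m (m + 1)) →
    (∀ (i : ℕ) (hi : i ≤ m), PdLT (S.obj ⟨i, by omega⟩) x 1) →
    ∀ j : ℕ, PdLT (S.obj ⟨m + 1, by omega⟩) x (m + 1 + (j + 1)) →
      PdLT (kernel (S.map' 0 1)) x (j + 1) := by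
  intro m
  induction m with
  | zero =>
    intro S hS hepi hE j hF
    let T : ShortComplex X.Modules :=
      ShortComplex.mk (kernel.ι (S.map' 0 1)) (S.map' 0 1) (kernel.condition _)
    have hT : T.ShortExact :=
      { exact := ShortComplex.exact_of_f_is_kernel T (kernelIsKernel _)
        mono_f := by dsimp [T]; infer_instance
        epi_g := hepi }
    have h2 : PdLT T.X₂ x (j + 1) := (hE 0 le_rfl).mono (by omega)
    have h3 : PdLT T.X₃ x (j + 1 + 1) := hF.mono (by omega)
    exact pdLT_X₁ T hT x (j + 1) h2 h3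
  | succ k ih =>
    intro S hS hepi hE j hF
    have hK : PdLT (kernel (S.δ₀.map' 0 1)) x (j + 1 + 1) := by
      apply ih S.δ₀ hS.δ₀ hepi (fun i hi => hE (i + 1) (by omega)) (j + 1)
      exact hF.mono (by omega)
    have hT : (S.sc hS.toIsComplex 0).Exact := hS.exact 0
    have hU := K0Der.ses_of_exact _ hT
    exact pdLT_X₁ _ hU x (j + 1) ((hE 0 (by omega)).mono (by omega)) hK

/-- **syzygies on a regular scheme**: in an exact sequence
`0 → G → E_m → ⋯ → E_1 → F → 0` on a locally Noetherian regular scheme of dimension `≤ m` with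
the `E_i` finite locally free and `F` coherent, `G` is finite locally free. -/
theorem isFinLocFree_of_exact [IsLocallyNoetherian X]
    (hreg : ∀ x : X, IsRegularLocalRing (X.presheaf.stalk x)) (m : ℕ)
    (hdim : topologicalKrullDim X ≤ (m : WithBot ℕ∞))
    (S : ComposableArrows X.Modules (m + 1)) (hS : S.Exact)
    (hmono : Mono (S.map' 0 1)) (hepi : Epi (S.map' m (m + 1)))
    (hE : ∀ (i : ℕ), 1 ≤ i → ∀ (hi : i ≤ m), FlatMod.IsFinLocFree (S.obj ⟨i, by omega⟩))
    (hF : Coh.IsCoh (S.obj ⟨m + 1, by omega⟩)) :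
    FlatMod.IsFinLocFree (S.obj ⟨0, by omega⟩) := by
  have hd : ∀ x : X, ringKrullDim (X.presheaf.stalk x) ≤ (m : WithBot ℕ∞) :=
    fun x => (CurveFlat.ringKrullDim_stalk_le X x).trans hdim
  cases m with
  | zero =>
    haveI := hmono
    haveI := hepi
    have hiso : IsIso (S.map' 0 1 (by omega) (by omega)) := isIso_of_mono_of_epi _
    have hF' : FlatMod.IsFinLocFree (S.obj ⟨1, by omega⟩) :=
      isFinLocFree_of_pdLT_one _ hF (fun x => pdLT_of_regular hreg _ x 0 (hd x))
    exact LocFreeCrit.isFinLocFree_of_iso (@asIso _ _ _ _ _ hiso).symm hF'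
  | succ k =>
    have hT : (S.sc hS.toIsComplex 0).Exact := hS.exact 0
    haveI : Mono (S.sc hS.toIsComplex 0).f := hmono
    have e := IsLimit.conePointUniqueUpToIso hT.fIsKernel
      (kernelIsKernel (S.sc hS.toIsComplex 0).g)
    have h1 : Coh.IsCoh (S.obj ⟨1, by omega⟩) := coh_of_lf (hE 1 le_rfl (by omega))
    have h2 : Coh.IsCoh (S.obj ⟨2, by omega⟩) := by
      rcases Nat.eq_zero_or_pos k with rfl | hk
      · exact hF
      · exact coh_of_lf (hE 2 (by omega) (by omega))
    have hK : Coh.IsCoh (kernel (S.map' 1 2)) := coh_kernel _ h1 h2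
    have hpd : ∀ x, PdLT (kernel (S.map' 1 2)) x 1 := by
      intro x
      refine pdLT_kernel x k S.δ₀ hS.δ₀ hepi
        (fun i hi => pdLT_one_of_isFinLocFree _ (hE (i + 1) (by omega) (by omega)) x) 0 ?_
      exact (pdLT_of_regular hreg (S.obj ⟨k + 1 + 1, by omega⟩) x (k + 1) (hd x)).mono (by omega)
    exact LocFreeCrit.isFinLocFree_of_iso (M := kernel (S.map' 1 2 (by omega) (by omega)))
      (N := S.obj ⟨0, by omega⟩) e.symm (isFinLocFree_of_pdLT_one _ hK hpd)

end Groth.Agent.Lib.Helper13.StalkPd
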