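import Mathlib
import Groth.Agent.S3200
import Groth.Agent.Lib.Helper13.StalkPd

/-!
# `K₀(vector bundles) ≅ K₀(coherent)` on a regular Noetherian scheme with enough locally frees
(helper13)

Checks the hypotheses of the abstract resolution theorem `S3200` for finite locally free modules
inside coherent modules: extensions, kernels of epimorphisms, the pullback condition, and the
uniform bound for the length of resolutions (openness of the loci `pd < n` + quasi-compactness).
-/

set_option autoImplicit false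
set_option backward.isDefEq.respectTransparency false
universe u

namespace Groth.Agent.Lib.Helper13.RegK0

open CategoryTheory CategoryTheory.Limits AlgebraicGeometry
open AlgebraicGeometry.Scheme.Modules
open Groth.Agent.Lib.Helper1 Groth.Agent.Lib.Helper2 Groth.Agent.Lib.Helper3
  Groth.Agent.Lib.Helper13 Groth.Agent.Lib.Helper17
open Groth.Agent.Lib.Helper13.StalkPd

variable {X : Scheme.{u}}

/-- coherent modules are closed under extensions -/
lemma coh_ext (S : ShortComplex X.Modules) (hS : S.ShortExact) (h1 : Coh.IsCoh S.X₁)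
    (h3 : Coh.IsCoh S.X₃) : Coh.IsCoh S.X₂ := by
  obtain ⟨hq1, hf1⟩ := h1
  obtain ⟨hq3, hf3⟩ := h3
  haveI := hq1
  haveI := hf1
  haveI := hq3
  haveI := hf3
  haveI hq2 : S.X₂.IsQuasicoherent := QCExact.isQuasicoherent_of_shortExact S hS
  refine ⟨hq2, (QCProps.isFiniteType_iff_finite_sections S.X₂).2 (fun U hU => ?_)⟩
  haveI : Module.Finite Γ(X, U) Γ(S.X₁, U) := QCProps.finite_sections S.X₁ hU
  haveI : Module.Finite Γ(X, U) Γ(S.X₃, U) := QCProps.finite_sections S.X₃ hU
  haveI := hS.mono_f
  have hex : Function.Exact (QCProps.appₗ S.f U) (QCProps.appₗ S.g U) := by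
    intro y
    constructor
    · intro hy
      obtain ⟨z, hz⟩ := QCExact.exact_sections S hS.exact U y hy
      exact ⟨z, hz⟩
    · rintro ⟨z, rfl⟩
      exact QCExact.app_f_g_apply S U z
  have hsurj : Function.Surjective (QCProps.appₗ S.g U) := by
    intro s
    obtain ⟨t, ht⟩ := QCExact.surjective_app_of_isAffineOpen S hS hU s
    exact ⟨t, ht⟩
  exact Module.Finite.of_exact hex hsurj

lemma coh_X₁ [IsLocallyNoetherian X] (S : ShortComplex X.Modules) (hS : S.ShortExact)
    (h2 : Coh.IsCoh S.X₂) (h3 : Coh.IsCoh S.X₃) : Coh.IsCoh S.X₁ := by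
  haveI := hS.mono_f
  have e := IsLimit.conePointUniqueUpToIso hS.exact.fIsKernel (kernelIsKernel S.g)
  exact coh_of_iso (M := kernel S.g) (N := S.X₁) e.symm (coh_kernel S.g h2 h3)

lemma coh_biprod (A D : X.Modules) (hA : Coh.IsCoh A) (hD : Coh.IsCoh D) : Coh.IsCoh (A ⊞ D) :=
  coh_ext _ (ShortComplex.Splitting.ofHasBinaryBiproduct A D).shortExact hA hD

lemma coh_pullback [IsLocallyNoetherian X] {A B D : X.Modules} (u : A ⟶ B) (v : D ⟶ B)
    (hA : Coh.IsCoh A) (hB : Coh.IsCoh B) (hD : Coh.IsCoh D) : Coh.IsCoh (pullback u v) := by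
  have e := IsLimit.conePointUniqueUpToIso
    (Abelian.PullbackToBiproductIsKernel.isLimitPullbackToBiproduct u v)
    (kernelIsKernel (biprod.desc u (-v)))
  exact coh_of_iso (M := kernel (biprod.desc u (-v))) (N := pullback u v) e.symm
    (coh_kernel _ (coh_biprod A D hA hD) hB)

/-- the locus where the stalk has projective dimension `< n + 1` is open -/
theorem isOpen_pdLT [IsLocallyNoetherian X] (hX : KRR.HasEnoughLocFree X) :
    ∀ (n : ℕ) (A : X.Modules), Coh.IsCoh A → IsOpen {x : X | PdLT A x (n + 1)} := by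
  intro n
  induction n with
  | zero =>
    intro A hA
    rw [isOpen_iff_forall_mem_open]
    intro x hx
    have hfree := free_stalk_of_pdLT_one A hA x hx
    obtain ⟨hq, hf⟩ := hA
    haveI := hq
    haveI := hf
    obtain ⟨U, hU, hxU⟩ := QCProps.exists_affine_nbhd x
    haveI : Module.Finite Γ(X, U) Γ(A, U) := QCProps.finite_sections A hU
    haveI : IsNoetherianRing Γ(X, U) := IsLocallyNoetherian.component_noetherian ⟨U, hU⟩
    haveI : Module.FinitePresentation Γ(X, U) Γ(A, U) := Module.finitePresentation_of_finite _ _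
    obtain ⟨W, hxW, -, hW⟩ := FreeLocus.exists_freeOn_of_free_stalk A x hU hxU hfree
    refine ⟨W, fun y hy => ?_, W.2, hxW⟩
    haveI : Module.Free (X.presheaf.stalk y) (A.presheaf.stalk y) :=
      (FreeLocus.free_finite_stalk_of_freeOn A hW y hy).1
    change PdLT A y 1
    unfold PdLT
    haveI : Projective (ModuleCat.of (X.presheaf.stalk y) (A.presheaf.stalk y)) :=
      (IsProjective.iff_projective _).1 inferInstance
    exact projective_iff_hasProjectiveDimensionLT_one.1 inferInstance
  | succ n ih =>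
    intro A hA
    obtain ⟨E, p, hE, hp⟩ := hX A hA
    haveI := hp
    let T : ShortComplex X.Modules := ShortComplex.mk (kernel.ι p) p (kernel.condition _)
    have hT : T.ShortExact :=
      { exact := ShortComplex.exact_of_f_is_kernel T (kernelIsKernel _)
        mono_f := by dsimp [T]; infer_instance
        epi_g := by dsimp [T]; infer_instance }
    have hK : Coh.IsCoh (kernel p) := coh_kernel p (coh_of_lf hE) hA
    have heq : {x : X | PdLT A x (n + 1 + 1)} = {x : X | PdLT (kernel p) x (n + 1)} := by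
      ext x
      constructor
      · intro h
        exact pdLT_X₁ T hT x (n + 1) ((pdLT_one_of_isFinLocFree E hE x).mono (by omega)) h
      · intro h
        exact pdLT_X₃ T hT x (n + 1) h ((pdLT_one_of_isFinLocFree E hE x).mono (by omega))
    rw [heq]
    exact ih (kernel p) hK

/-- a uniform bound for the projective dimensions of the stalks of a coherent module -/
theorem exists_uniform_pd [IsNoetherian X]
    (hreg : ∀ x : X, IsRegularLocalRing (X.presheaf.stalk x)) (hX : KRR.HasEnoughLocFree X)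
    (A : X.Modules) (hA : Coh.IsCoh A) : ∃ d : ℕ, ∀ x, PdLT A x (d + 1) := by
  haveI : IsLocallyNoetherian X := inferInstance
  haveI : CompactSpace X := inferInstance
  have hcov : (Set.univ : Set X) ⊆ ⋃ n : ℕ, {x : X | PdLT A x (n + 1)} := by
    intro x _
    haveI := hreg x
    obtain ⟨e, he⟩ := RegPerf.exists_nat_dim (X.presheaf.stalk x)
    exact Set.mem_iUnion.2 ⟨e, pdLT_of_regular hreg A x e he.le⟩
  have hdir : Directed (· ⊆ ·) (fun n : ℕ => {x : X | PdLT A x (n + 1)}) :=
    directed_of_isDirected_le (fun i j hij x hx => PdLT.mono (n := i + 1) hx (by omega))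
  obtain ⟨d, hd⟩ := isCompact_univ.elim_directed_cover (fun n : ℕ => {x : X | PdLT A x (n + 1)})
    (fun n => isOpen_pdLT hX n A hA) hcov hdir
  exact ⟨d, fun x => hd (Set.mem_univ x)⟩

/-- projective dimension of the stalks of the cycles of a resolution -/
theorem pdLT_cycles (L : ChainComplex X.Modules ℕ) (hL : ∀ i, FlatMod.IsFinLocFree (L.X i))
    (hex : ∀ i, 1 ≤ i → L.ExactAt i) {A : X.Modules} (e : L.homology 0 ≅ A) (x : X) :
    ∀ (i j : ℕ), PdLT A x (i + (j + 1)) → PdLT (kernel (L.d (i + 1) i)) x (j + 1) := by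
  intro i
  induction i with
  | zero =>
    intro j hA
    have hO : PdLT (L.opcycles 0) x (j + 1 + 1) :=
      (pdLT_of_iso (e.symm ≪≫ ChainComplex.isoHomologyι₀ L) x _ hA).mono (by omega)
    let T₁ : ShortComplex X.Modules :=
      ShortComplex.mk (kernel.ι (L.pOpcycles 0)) (L.pOpcycles 0) (kernel.condition _)
    have hT₁ : T₁.ShortExact :=
      { exact := ShortComplex.exact_of_f_is_kernel T₁ (kernelIsKernel _)
        mono_f := by dsimp [T₁]; infer_instance
        epi_g := by dsimp [T₁]; infer_instance }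
    have hB : PdLT (kernel (L.pOpcycles 0)) x (j + 1) :=
      pdLT_X₁ T₁ hT₁ x (j + 1) ((pdLT_one_of_isFinLocFree _ (hL 0) x).mono (by omega)) hO
    let T₀ : ShortComplex X.Modules :=
      ShortComplex.mk (L.d 1 0) (L.pOpcycles 0) (L.d_pOpcycles 1 0)
    have hT₀ : T₀.Exact :=
      ShortComplex.exact_of_g_is_cokernel T₀ (L.opcyclesIsCokernel 1 0 (by simp))
    have hU := K0Der.ses_of_exact T₀ hT₀
    exact pdLT_X₁ _ hU x (j + 1) ((pdLT_one_of_isFinLocFree _ (hL 1) x).mono (by omega))
      (hB.mono (by omega))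
  | succ i ih =>
    intro j hA
    have hZ : PdLT (kernel (L.d (i + 1) i)) x (j + 1 + 1) := ih (j + 1) (hA.mono (by omega))
    have hT : (L.sc' (i + 2) (i + 1) i).Exact :=
      (L.exactAt_iff' (i + 2) (i + 1) i (by simp) (by simp)).1 (hex (i + 1) (by omega))
    have hU := K0Der.ses_of_exact _ hT
    exact pdLT_X₁ _ hU x (j + 1) ((pdLT_one_of_isFinLocFree _ (hL (i + 2)) x).mono (by omega)) hZ

theorem isFinLocFree_cycles [IsLocallyNoetherian X] (L : ChainComplex X.Modules ℕ)
    (hL : ∀ i, FlatMod.IsFinLocFree (L.X i)) (hex : ∀ i, 1 ≤ i → L.ExactAt i) {A : X.Modules}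
    (e : L.homology 0 ≅ A) (d : ℕ) (hd : ∀ x, PdLT A x (d + 1)) :
    FlatMod.IsFinLocFree (L.cycles (d + 1)) := by
  have e' := IsLimit.conePointUniqueUpToIso (L.cyclesIsKernel (d + 1) d (by simp))
    (kernelIsKernel (L.d (d + 1) d))
  have hK : Coh.IsCoh (kernel (L.d (d + 1) d)) :=
    coh_kernel _ (coh_of_lf (hL _)) (coh_of_lf (hL _))
  exact LocFreeCrit.isFinLocFree_of_iso (M := kernel (L.d (d + 1) d)) (N := L.cycles (d + 1))
    e'.symm (isFinLocFree_of_pdLT_one _ hK (fun x => pdLT_cycles L hL hex e x d 0 (hd x)))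

/-- **Poincaré duality for `K₀`** on a regular Noetherian scheme with enough locally frees -/
theorem poincare_bijective (X : Scheme.{u}) [IsNoetherian X]
    (hreg : ∀ x : X, IsRegularLocalRing (X.presheaf.stalk x)) (hX : KRR.HasEnoughLocFree X)
    (h : ∀ M : X.Modules, FlatMod.IsFinLocFree M → Coh.IsCoh M) :
    Function.Bijective
      (SGA6.mapSub (𝟭 X.Modules) (KRR.vbP X) (fun M : X.Modules => Coh.IsCoh M) h) := by
  haveI : IsLocallyNoetherian X := inferInstance
  haveI : (KRR.vbP X).IsClosedUnderIsomorphisms :=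
    ⟨fun {M N} e h => LocFreeCrit.isFinLocFree_of_iso e h⟩
  haveI : ObjectProperty.IsClosedUnderIsomorphisms (fun M : X.Modules => Coh.IsCoh M) :=
    ⟨fun {M N} e h => coh_of_iso e h⟩
  refine Groth.Agent.S3200.result (KRR.vbP X) (fun M : X.Modules => Coh.IsCoh M) h
    ?_ ?_ ?_ ?_ ?_ ?_
  · intro S hS h1 h3
    exact isFinLocFree_of_pdLT_one _ (coh_ext S hS (h _ h1) (h _ h3))
      (fun x => pdLT_X₂ S hS x 1 (pdLT_one_of_isFinLocFree _ h1 x)
        (pdLT_one_of_isFinLocFree _ h3 x))
  · intro S hS h1 h3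
    exact coh_ext S hS h1 h3
  · intro S hS h2 h3
    exact isFinLocFree_of_pdLT_one _ (coh_X₁ S hS (h _ h2) (h _ h3))
      (fun x => pdLT_X₁ S hS x 1 (pdLT_one_of_isFinLocFree _ h2 x)
        ((pdLT_one_of_isFinLocFree _ h3 x).mono (by omega)))
  · intro S hS h2 h3
    exact coh_X₁ S hS h2 h3
  · intro A B D u v hu hA hB hD
    haveI := hu
    obtain ⟨L, p, hL, hp⟩ := hX (pullback u v) (coh_pullback u v hA hB hD)
    haveI := hp
    refine ⟨L, p ≫ pullback.snd u v, p ≫ pullback.fst u v, hL, epi_comp _ _, ?_⟩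
    rw [Category.assoc, Category.assoc, pullback.condition]
  · intro A hA
    obtain ⟨d, hd⟩ := exists_uniform_pd hreg hX A hA
    refine ⟨d, fun L hL hex he => ?_⟩
    obtain ⟨e⟩ := he
    exact isFinLocFree_cycles L hL hex e d hd

end Groth.Agent.Lib.Helper13.RegK0
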