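import Mathlib

/-!
# `O_Y → f_* O_X` bijective on small opens around every point ⇒ bijective on all opens
-/

set_option autoImplicit false
universe u
open CategoryTheory CategoryTheory.Limits AlgebraicGeometry TopologicalSpace Opposite

namespace Groth.Agent.Lib.Helper13.CBCGlue

theorem bijective_app_of_locally {X Y : Scheme.{u}} (f : X ⟶ Y)
    (h : ∀ y : Y, ∃ U : Y.Opens, y ∈ U ∧ ∀ V : Y.Opens, V ≤ U → Function.Bijective (f.app V))
    (V : Y.Opens) : Function.Bijective (f.app V) := by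
  choose U hyU hU using h
  let W : V → Y.Opens := fun i => V ⊓ U i.1
  have hWV : ∀ i, W i ≤ V := fun i => inf_le_left
  have hWU : ∀ i, W i ≤ U i.1 := fun i => inf_le_right
  have hcover : V ≤ iSup W := fun x hx => Opens.mem_iSup.mpr ⟨⟨x, hx⟩, hx, hyU x⟩
  have hpre : ∀ {V₁ V₂ : Y.Opens}, V₁ ≤ V₂ → f ⁻¹ᵁ V₁ ≤ f ⁻¹ᵁ V₂ := fun h12 _ hx => h12 hx
  have hcover' : f ⁻¹ᵁ V ≤ ⨆ i, f ⁻¹ᵁ (W i) := by
    intro x hx
    exact Opens.mem_iSup.mpr ⟨⟨f x, hx⟩, hx, hyU (f x)⟩
  have hnat : ∀ (V₁ V₂ : Y.Opens) (h12 : V₁ ≤ V₂) (a : Γ(Y, V₂)),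
      (f.app V₁) (Y.presheaf.map (homOfLE h12).op a) =
        X.presheaf.map (homOfLE (hpre h12)).op (f.app V₂ a) := by
    intro V₁ V₂ h12 a
    have h1 := f.naturality (homOfLE h12).op
    exact congr($h1 a)
  have hres : ∀ (Z : Scheme.{u}) (V₁ V₂ V₃ : Z.Opens) (h12 : V₁ ≤ V₂) (h23 : V₂ ≤ V₃)
      (a : Γ(Z, V₃)), Z.presheaf.map (homOfLE h12).op (Z.presheaf.map (homOfLE h23).op a) =
        Z.presheaf.map (homOfLE (h12.trans h23)).op a := by
    intro Z V₁ V₂ V₃ h12 h23 a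
    have h1 : Z.presheaf.map (homOfLE h23).op ≫ Z.presheaf.map (homOfLE h12).op =
        Z.presheaf.map (homOfLE (h12.trans h23)).op := by
      rw [← Functor.map_comp]
      rfl
    exact congr($h1 a)
  constructor
  · intro a a' haa
    refine Y.sheaf.eq_of_locally_eq' W V (fun i => homOfLE (hWV i)) hcover a a' (fun i => ?_)
    apply (hU i.1 (W i) (hWU i)).1
    exact (hnat _ _ (hWV i) a).trans ((congrArg _ haa).trans (hnat _ _ (hWV i) a').symm)
  · intro t
    have hloc : ∀ i : V, ∃ s : Γ(Y, W i), f.app (W i) s =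
        X.presheaf.map (homOfLE (hpre (hWV i))).op t := fun i => (hU i.1 (W i) (hWU i)).2 _
    choose sf hsf using hloc
    have hcompat : TopCat.Presheaf.IsCompatible Y.sheaf.1 W sf := by
      intro i j
      apply (hU i.1 (W i ⊓ W j) (inf_le_left.trans (hWU i))).1
      have h1 : (f.app (W i ⊓ W j)) (Y.presheaf.map (homOfLE (inf_le_left : W i ⊓ W j ≤ W i)).op
          (sf i)) = X.presheaf.map (homOfLE (hpre (inf_le_left.trans (hWV i)))).op t := by
        rw [hnat, hsf, hres]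
      have h2 : (f.app (W i ⊓ W j)) (Y.presheaf.map (homOfLE (inf_le_right : W i ⊓ W j ≤ W j)).op
          (sf j)) = X.presheaf.map (homOfLE (hpre (inf_le_left.trans (hWV i)))).op t := by
        rw [hnat, hsf, hres]
      exact h1.trans h2.symm
    obtain ⟨s, hs, -⟩ := Y.sheaf.existsUnique_gluing' W V (fun i => homOfLE (hWV i)) hcover sf
      hcompat
    refine ⟨s, ?_⟩
    refine X.sheaf.eq_of_locally_eq' (fun i : V => f ⁻¹ᵁ (W i)) (f ⁻¹ᵁ V)
      (fun i => homOfLE (hpre (hWV i))) hcover' _ _ (fun i => ?_)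
    have h3 : Y.presheaf.map (homOfLE (hWV i)).op s = sf i := hs i
    exact (hnat _ _ (hWV i) s).symm.trans ((congrArg _ h3).trans (hsf i))

end Groth.Agent.Lib.Helper13.CBCGlue
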