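import Mathlib
import Groth.Agent.Lib.Helper3.PbBasic
import Groth.Agent.Lib.Helper3.InvGen

/-!
# Generation of an invertible module by a section, detected after pullback

If the pullback of a section `e` of an invertible module generates near `x₁`, then `e` generates
near the image of `x₁`.  The locus where a section generates is open.
-/

set_option autoImplicit false
universe u
open CategoryTheory CategoryTheory.Limits AlgebraicGeometry TopologicalSpace Opposite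
open Scheme.Modules

namespace Groth.Agent.Lib.Helper13.CBCGenPull

open Groth.Agent.Lib.Helper3 Groth.Agent.Lib.Helper3.QCSec Groth.Agent.Lib.Helper3.InvGen
  Groth.Agent.Lib.Helper3.PbBasic

variable {X₁ X : Scheme.{u}}

theorem gen_of_pull (g : X₁ ⟶ X) {L : X.Modules} (hL : PicF.IsInvertible L) {W : X.Opens}
    (e : Γ(L, W)) (x₁ : X₁) (W₁ : X₁.Opens) (hx₁ : x₁ ∈ W₁) (hW₁ : W₁ ≤ g ⁻¹ᵁ W)
    (hgen : IsGen ((Scheme.Modules.pullback g).obj L) W₁ (res _ hW₁ (pull g L W e))) :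
    ∃ (W' : X.Opens) (hW' : W' ≤ W), g x₁ ∈ W' ∧ IsGen L W' (res L hW' e) := by
  obtain ⟨W₀, e₀, hxW₀, hg₀⟩ := exists_isGen hL (g x₁)
  have hxW : g x₁ ∈ W := hW₁ hx₁
  have hg₂ : IsGen L (W₀ ⊓ W) (res L inf_le_left e₀) := hg₀.mono inf_le_left
  obtain ⟨a, ha⟩ := hg₂.self.exists_coord (res L (inf_le_right : W₀ ⊓ W ≤ W) e)
  have hp : pull g L (W₀ ⊓ W) (res L inf_le_right e) =
      (g.app (W₀ ⊓ W) a) • pull g L (W₀ ⊓ W) (res L inf_le_left e₀) := by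
    rw [← ha, pull_smul]
  have hgp : IsGen _ (g ⁻¹ᵁ (W₀ ⊓ W)) (pull g L (W₀ ⊓ W) (res L inf_le_left e₀)) :=
    isGen_pull g hg₂
  have hx₃ : x₁ ∈ W₁ ⊓ g ⁻¹ᵁ (W₀ ⊓ W) := ⟨hx₁, ⟨hxW₀, hxW⟩⟩
  have h1 := hgp (W₁ ⊓ g ⁻¹ᵁ (W₀ ⊓ W)) inf_le_right
  have h2 := hgen (W₁ ⊓ g ⁻¹ᵁ (W₀ ⊓ W)) inf_le_left
  have h3 : res _ (inf_le_left : W₁ ⊓ g ⁻¹ᵁ (W₀ ⊓ W) ≤ W₁) (res _ hW₁ (pull g L W e)) =
      rres X₁ (inf_le_right : W₁ ⊓ g ⁻¹ᵁ (W₀ ⊓ W) ≤ g ⁻¹ᵁ (W₀ ⊓ W)) (g.app (W₀ ⊓ W) a) •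
        res _ (inf_le_right : W₁ ⊓ g ⁻¹ᵁ (W₀ ⊓ W) ≤ g ⁻¹ᵁ (W₀ ⊓ W))
          (pull g L (W₀ ⊓ W) (res L inf_le_left e₀)) := by
    rw [← res_smul, ← hp, ← res_pull g L (inf_le_right : W₀ ⊓ W ≤ W) e, res_res, res_res]
  obtain ⟨u, hu, hu'⟩ := h1.exists_unit h2
  have h4 : rres X₁ (inf_le_right : W₁ ⊓ g ⁻¹ᵁ (W₀ ⊓ W) ≤ g ⁻¹ᵁ (W₀ ⊓ W))
      (g.app (W₀ ⊓ W) a) = u := h1.smul_inj (h3.symm.trans hu')
  have h5 : W₁ ⊓ g ⁻¹ᵁ (W₀ ⊓ W) ≤ X₁.basicOpen (g.app (W₀ ⊓ W) a) := by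
    have h6 : X₁.basicOpen (rres X₁ (inf_le_right : W₁ ⊓ g ⁻¹ᵁ (W₀ ⊓ W) ≤ g ⁻¹ᵁ (W₀ ⊓ W))
        (g.app (W₀ ⊓ W) a)) = W₁ ⊓ g ⁻¹ᵁ (W₀ ⊓ W) := by
      rw [h4]
      exact Scheme.basicOpen_of_isUnit _ hu
    have h7 := Scheme.basicOpen_res X₁ (g.app (W₀ ⊓ W) a)
      (homOfLE (inf_le_right : W₁ ⊓ g ⁻¹ᵁ (W₀ ⊓ W) ≤ g ⁻¹ᵁ (W₀ ⊓ W))).op
    rw [← h6]
    exact (le_of_eq h7).trans inf_le_right
  have h8 : g x₁ ∈ X.basicOpen a := by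
    have h9 := h5 hx₃
    rw [← Scheme.preimage_basicOpen] at h9
    exact h9
  refine ⟨X.basicOpen a, (X.basicOpen_le a).trans inf_le_right, h8, ?_⟩
  have h9 : res L ((X.basicOpen_le a).trans (inf_le_right : W₀ ⊓ W ≤ W)) e =
      rres X (X.basicOpen_le a) a • res L ((X.basicOpen_le a).trans inf_le_left) e₀ := by
    rw [← res_res L (X.basicOpen_le a) (inf_le_right : W₀ ⊓ W ≤ W) e, ← ha, res_smul, res_res]
  rw [h9]
  exact (hg₀.mono _).smul_unit (RingedSpace.isUnit_res_basicOpen _ a)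

/-- the locus where a section generates. -/
def genSet (L : X.Modules) {W : X.Opens} (e : Γ(L, W)) : Set X :=
  {x | ∃ (W' : X.Opens) (hW' : W' ≤ W), x ∈ W' ∧ IsGen L W' (res L hW' e)}

lemma isOpen_genSet (L : X.Modules) {W : X.Opens} (e : Γ(L, W)) : IsOpen (genSet L e) := by
  rw [isOpen_iff_forall_mem_open]
  rintro x ⟨W', hW', hx, hg⟩
  exact ⟨W', fun z hz => ⟨W', hW', hz, hg⟩, W'.2, hx⟩

lemma genSet_subset (L : X.Modules) {W : X.Opens} (e : Γ(L, W)) : genSet L e ⊆ W := by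
  rintro x ⟨W', hW', hx, -⟩
  exact hW' hx

/-- `e` generates on any open contained in the generating locus. -/
lemma isGen_of_le_genSet (L : X.Modules) {W : X.Opens} (e : Γ(L, W)) (U : X.Opens)
    (hU : (U : Set X) ⊆ genSet L e) :
    IsGen L U (res L (fun x hx => genSet_subset L e (hU hx)) e) := by
  apply isGen_of_local
  intro x hx
  obtain ⟨W', hW', hxW', hg⟩ := hU hx
  refine ⟨U ⊓ W', inf_le_left, ⟨hx, hxW'⟩, ?_⟩
  have := hg.mono (inf_le_right : U ⊓ W' ≤ W')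
  rw [res_res] at this ⊢
  exact this

end Groth.Agent.Lib.Helper13.CBCGenPull
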