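import Mathlib
import Groth.Agent.Lib.Helper13.CBCModPow2
import Groth.Agent.Lib.Helper13.CBCTransfer
import Groth.Agent.Lib.Helper7.TFunExact2
import Groth.Agent.Lib.Helper7.TFunLib
import Groth.Agent.S2408

/-!
# Surjectivity of `H^n(X, F) → H^n(X, F/m^(p+1)F)` from vanishing of `T_{-(n+1)}(k)`, and the
consequence for global sections
-/

set_option autoImplicit false
universe u
open CategoryTheory CategoryTheory.Limits AlgebraicGeometry TopologicalSpace Opposite

namespace Groth.Agent.Lib.Helper13.CBCModPow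

theorem surjective_Hm_modPowπ (A : Type u) [CommRing A] [IsNoetherianRing A] [IsLocalRing A]
    (X : Scheme.{u}) [X.Over (Spec (CommRingCat.of A))] (F : X.Modules) (hF : Coh.IsCoh F)
    (Q : ChainComplex (ModuleCat.{u} A) ℤ)
    (hQ : ∀ i, Module.Finite A (Q.X i) ∧ Module.Flat A (Q.X i)) (n : ℕ)
    (ν0 : CohIII.tensorAFunctor A F ⋙ CohIII.HAb X n ≅
      CohIII.TFun Q (-(n : ℤ)) ⋙ forget₂ (ModuleCat.{u} A) AddCommGrpCat.{u})
    (hk : IsZero ((CohIII.TFun Q (-((n + 1 : ℕ) : ℤ))).obj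
      (ModuleCat.of A (IsLocalRing.ResidueField A)))) (p : ℕ) :
    Function.Surjective (Hm (Formal.modPowπ (IsLocalRing.maximalIdeal A) (p + 1) F) n) := by
  haveI : F.IsQuasicoherent := hF.1
  have hQfl : ∀ i, Module.Flat A (Q.X i) := fun i => (hQ i).2
  have hz := Groth.Agent.S2408.result Q hQ _ hk
  have hmono := (Groth.Agent.Lib.Helper7.preservesMonoEpi_of_isZero _ hz).1
  have hepi : (CohIII.TFun Q (-(n : ℤ))).PreservesEpimorphisms :=
    (Groth.Agent.Lib.Helper7.TFun_preservesMono_iff_preservesEpi Q hQfl (-(n : ℤ))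
      (-((n + 1 : ℕ) : ℤ)) (show -((n + 1 : ℕ) : ℤ) + 1 = -(n : ℤ) by push_cast; ring)).1 hmono
  haveI hG : (CohIII.tensorAFunctor A F ⋙ CohIII.HAb X n).PreservesEpimorphisms :=
    (Groth.Agent.Lib.Helper13.CBCTransfer.preservesEpi_iff ν0).2 hepi
  haveI hψ := isIso_ψ_one A F
  haveI hχ := isIso_χ A F (IsLocalRing.maximalIdeal A) (p + 1) hF
  have hcomm : Formal.modPowπ (IsLocalRing.maximalIdeal A) (p + 1) F ≫
      (asIso (χ A F (IsLocalRing.maximalIdeal A) (p + 1))).hom =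
      (asIso (ψ A F (ModuleCat.of A A) (1 : A))).hom ≫
        (CohIII.tensorAFunctor A F).map (q A (IsLocalRing.maximalIdeal A ^ (p + 1))) := by
    rw [asIso_hom, asIso_hom, π_χ, ψ_one_q]
  have hepi' : Epi ((CohIII.tensorAFunctor A F ⋙ CohIII.HAb X n).map
      (q A (IsLocalRing.maximalIdeal A ^ (p + 1)))) := inferInstance
  have hsurj : Function.Surjective (Hm
      ((CohIII.tensorAFunctor A F).map (q A (IsLocalRing.maximalIdeal A ^ (p + 1)))) n) :=
    (AddCommGrpCat.epi_iff_surjective _).1 hepi'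
  exact surjective_Hm_of_comm _ _ _ _ hcomm n hsurj

lemma surjective_app_top_of_Hm {X : Scheme.{u}} {M N : X.Modules} (π : M ⟶ N)
    (h : Function.Surjective (Hm π 0)) : Function.Surjective (π.app ⊤) := by
  intro t
  have hT := Limits.isTerminalTop (α := X.Opens)
  obtain ⟨x, hx⟩ := h ((Sheaf.H.equiv₀ ((SheafOfModules.toSheaf X.ringCatSheaf).obj N) hT).symm t)
  refine ⟨Sheaf.H.equiv₀ ((SheafOfModules.toSheaf X.ringCatSheaf).obj M) hT x, ?_⟩
  have h1 := Sheaf.H.equiv₀_naturality hT ((SheafOfModules.toSheaf X.ringCatSheaf).map π) x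
  refine h1.trans ?_
  have h2 : Sheaf.H.map ((SheafOfModules.toSheaf X.ringCatSheaf).map π) 0 x =
      (Sheaf.H.equiv₀ ((SheafOfModules.toSheaf X.ringCatSheaf).obj N) hT).symm t := hx
  rw [h2, AddEquiv.apply_symm_apply]

end Groth.Agent.Lib.Helper13.CBCModPow
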