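import Mathlib
import Groth.Agent.Lib.Helper13.CBCLift
import Groth.Agent.Lib.Helper13.CBCLift2
import Groth.Agent.Lib.Helper13.CBCGenPull
import Groth.Agent.Lib.Helper13.CBCStalk
import Groth.Agent.Lib.Helper13.CBCStalk2
import Groth.Agent.Lib.Helper3.InvCoh

/-!
# An invertible module trivial on a fibre with `H^1(X_y, O) = 0` is trivial over `Spec O_{Y,y}`
-/

set_option autoImplicit false
universe u
open CategoryTheory CategoryTheory.Limits AlgebraicGeometry TopologicalSpace Opposite
open Scheme.Modules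

namespace Groth.Agent.Lib.Helper13.CBCInvFibre

open Groth.Agent.Lib.Helper3 Groth.Agent.Lib.Helper3.QCSec Groth.Agent.Lib.Helper3.InvGen
  Groth.Agent.Lib.Helper3.PbBasic
open Groth.Agent.Lib.Helper13.CBCSec Groth.Agent.Lib.Helper13.CBCBase
  Groth.Agent.Lib.Helper13.CBCModPow Groth.Agent.Lib.Helper13.CBCGenPull
  Groth.Agent.Lib.Helper13.CBCRank

lemma isGen_sec_of_isIso {X : Scheme.{u}} {K : X.Modules} (s : Coh.structureModule X ⟶ K)
    [IsIso s] (U : X.Opens) : IsGen K U (sec s U) := by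
  intro V hV
  rw [res_sec, ← bijective_app_iff]
  exact Groth.Agent.Lib.Helper17.AffIso.bijective_app_of_isIso s V

lemma subsingleton_HH_of_iso {X : Scheme.{u}} {M N : X.Modules} (e : M ≅ N) (n : ℕ)
    (h : Subsingleton (Coh.HH X N n)) : Subsingleton (Coh.HH X M n) :=
  (bijective_Hm_of_iso e n).1.subsingleton

variable {X Y : Scheme.{u}} (f : X ⟶ Y) [IsProper f] [IsLocallyNoetherian Y] (y : Y)

theorem exists_gen_stalk (N : X.Modules) (hN : PicF.IsInvertible N)
    (hfl : FlatMod.IsFlatOver f N)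
    (ε : CohIII.fiberMod f N y ≅ Coh.structureModule (f.fiber y))
    (h1 : Subsingleton (Coh.HH (f.fiber y) (Coh.structureModule (f.fiber y)) 1)) :
    ∃ s₁ : Γ((Scheme.Modules.pullback (pullback.fst f (Y.fromSpecStalk y))).obj N, ⊤),
      IsGen ((Scheme.Modules.pullback (pullback.fst f (Y.fromSpecStalk y))).obj N) ⊤ s₁ := by
  classical
  have hF : Coh.IsCoh N := ⟨Groth.Agent.Lib.Helper3.InvCoh.isQuasicoherent_of_isInvertible hN,
    Groth.Agent.Lib.Helper3.InvCoh.isFiniteType_of_isInvertible hN⟩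
  haveI : N.IsQuasicoherent := hF.1
  letI : (pullback f (Y.fromSpecStalk y)).Over (Spec (CommRingCat.of (Y.presheaf.stalk y))) :=
    ⟨pullback.snd f (Y.fromSpecStalk y)⟩
  have hsq : IsPullback (pullback.fst f (Y.fromSpecStalk y))
      ((pullback f (Y.fromSpecStalk y)) ↘ Spec (CommRingCat.of (Y.presheaf.stalk y))) f
      (Y.fromSpecStalk y) := IsPullback.of_hasPullback _ _
  haveI : IsProper ((pullback f (Y.fromSpecStalk y)) ↘
      Spec (CommRingCat.of (Y.presheaf.stalk y))) :=
    MorphismProperty.of_isPullback hsq ‹IsProper f›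
  have hcoh : Coh.IsCoh ((Scheme.Modules.pullback (pullback.fst f (Y.fromSpecStalk y))).obj N) :=
    Groth.Agent.Lib.Helper23.T2.isCoh_pullback _ hF
  haveI : ((Scheme.Modules.pullback (pullback.fst f (Y.fromSpecStalk y))).obj N).IsQuasicoherent :=
    hcoh.1
  have hN₁ : PicF.IsInvertible
      ((Scheme.Modules.pullback (pullback.fst f (Y.fromSpecStalk y))).obj N) :=
    isInvertible_pullback _ hN
  have hfl1 : FlatMod.IsFlatOver ((pullback f (Y.fromSpecStalk y)) ↘
      Spec (CommRingCat.of (Y.presheaf.stalk y)))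
      ((Scheme.Modules.pullback (pullback.fst f (Y.fromSpecStalk y))).obj N) := fun x' =>
    Groth.Agent.Lib.Helper17.FibreFlat.isFlatOverAt_baseChange hsq N x' (hfl _)
  obtain ⟨Q, hQ, hb, hpos, hν⟩ := Groth.Agent.Lib.Helper13.CBCMain.bridge (Y.presheaf.stalk y)
    (pullback f (Y.fromSpecStalk y)) _ hcoh hfl1
  obtain ⟨ν0⟩ := hν 0
  obtain ⟨ν1⟩ := hν 1
  have hQ' : ∀ i, Module.Finite (Y.presheaf.stalk y) (Q.X i) ∧
      Module.Flat (Y.presheaf.stalk y) (Q.X i) := fun i =>
    ⟨(hQ i).1, haveI := (hQ i).2; inferInstance⟩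
  -- the rank in degree one at the closed point vanishes
  have hrk := Groth.Agent.Lib.Helper13.CBCStalk.fiberRank_eq_dRank_of_stalk f y _ hsq N 1 Q ν1
    (IsLocalRing.closedPoint (Y.presheaf.stalk y))
  rw [Scheme.fromSpecStalk_closedPoint] at hrk
  have h0 : CohIII.fiberRank f N 1 y = 0 := by
    unfold CohIII.fiberRank
    haveI : Subsingleton (CohIII.fiberH f N y 1) := subsingleton_HH_of_iso ε 1 h1
    exact Module.finrank_zero_of_subsingleton
  have hk : IsZero ((CohIII.TFun Q (-((0 + 1 : ℕ) : ℤ))).obj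
      (ModuleCat.of (Y.presheaf.stalk y) (IsLocalRing.ResidueField (Y.presheaf.stalk y)))) :=
    Groth.Agent.Lib.Helper13.CBCStalk2.isZero_T_residue_of_dRank_eq_zero Q _
      (fun i => (hQ i).1) (hrk.symm.trans h0)
  have hsurj0 := surjective_Hm_modPowπ (Y.presheaf.stalk y) (pullback f (Y.fromSpecStalk y)) _
    hcoh Q hQ' 0 ν0 hk 0
  have hπ := surjective_app_top_of_Hm _ hsurj0
  -- the fibre as a base change of `X₁`
  letI over' : (f.fiber y).Over (Spec (CommRingCat.of ↑(Y.residueField y))) :=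
    ⟨f.fiberToSpecResidueField y⟩
  let gB : Spec (CommRingCat.of ↑(Y.residueField y)) ⟶
      Spec (CommRingCat.of (Y.presheaf.stalk y)) := Spec.map (Y.residue y)
  have hgB : gB ≫ Y.fromSpecStalk y = Y.fromSpecResidueField y := rfl
  have hw : f.fiberι y ≫ f = (f.fiberToSpecResidueField y ≫ gB) ≫ Y.fromSpecStalk y := by
    rw [Category.assoc, hgB]
    exact pullback.condition
  let g' : f.fiber y ⟶ pullback f (Y.fromSpecStalk y) :=
    hsq.lift (f.fiberι y) (f.fiberToSpecResidueField y ≫ gB) hw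
  have hg'1 : g' ≫ pullback.fst f (Y.fromSpecStalk y) = f.fiberι y := hsq.lift_fst _ _ _
  have hg'2 : g' ≫ sm (Y.presheaf.stalk y) (pullback f (Y.fromSpecStalk y)) =
      f.fiberToSpecResidueField y ≫ gB := hsq.lift_snd _ _ _
  have hbig : IsPullback (g' ≫ pullback.fst f (Y.fromSpecStalk y))
      (f.fiberToSpecResidueField y) f (gB ≫ Y.fromSpecStalk y) := by
    rw [hg'1, hgB]
    exact IsPullback.of_hasPullback f (Y.fromSpecResidueField y)
  have hc : IsPullback g' (sm ↑(Y.residueField y) (f.fiber y))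
      (sm (Y.presheaf.stalk y) (pullback f (Y.fromSpecStalk y))) gB :=
    IsPullback.of_right hbig hg'2 hsq
  have hφ : ∀ a, φg (Y.presheaf.stalk y) ↑(Y.residueField y) gB a =
      IsLocalRing.residue (Y.presheaf.stalk y) a := fun a =>
    φg_specMap (Y.presheaf.stalk y) ↑(Y.residueField y) (Y.residue y) a
  have hsurjφ : Function.Surjective (φg (Y.presheaf.stalk y) ↑(Y.residueField y) gB) := by
    intro b
    obtain ⟨a, ha⟩ := IsLocalRing.residue_surjective (show IsLocalRing.ResidueField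
      (Y.presheaf.stalk y) from b)
    exact ⟨a, (hφ a).trans ha⟩
  have hker : RingHom.ker (φg (Y.presheaf.stalk y) ↑(Y.residueField y) gB) =
      IsLocalRing.maximalIdeal (Y.presheaf.stalk y) ^ (0 + 1) := by
    rw [zero_add, pow_one]
    ext a
    rw [RingHom.mem_ker, hφ]
    exact IsLocalRing.residue_eq_zero_iff a
  -- the generator on the fibre
  let E : Coh.structureModule (f.fiber y) ≅
      F' g' ((Scheme.Modules.pullback (pullback.fst f (Y.fromSpecStalk y))).obj N) :=
    ε.symm ≪≫ ((Scheme.Modules.pullbackComp g' (pullback.fst f (Y.fromSpecStalk y))).app N ≪≫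
      (Scheme.Modules.pullbackCongr hg'1).app N).symm
  obtain ⟨s₁, hs₁⟩ := Groth.Agent.Lib.Helper13.CBCLift.exists_lift (Y.presheaf.stalk y)
    ↑(Y.residueField y) gB g' hc _ hsurjφ (IsLocalRing.maximalIdeal (Y.presheaf.stalk y)) (0 + 1)
    hker hπ (sec E.hom (g' ⁻¹ᵁ ⊤))
  refine ⟨s₁, ?_⟩
  -- `s₁` generates near every point of the closed fibre
  have hfib : ∀ x' : f.fiber y, g' x' ∈ genSet _ s₁ := by
    intro x'
    obtain ⟨W', hW', hx, hg⟩ := gen_of_pull g' hN₁ s₁ x' (g' ⁻¹ᵁ ⊤) trivial le_rfl (by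
      rw [res_self, hs₁]
      exact isGen_sec_of_isIso E.hom _)
    exact ⟨W', hW', hx, hg⟩
  -- hence everywhere
  have hall : genSet ((Scheme.Modules.pullback (pullback.fst f (Y.fromSpecStalk y))).obj N) s₁ =
      Set.univ := by
    by_contra hne
    obtain ⟨x₁, hx₁⟩ := (Set.ne_univ_iff_exists_notMem _).1 hne
    have hC : IsClosed (genSet ((Scheme.Modules.pullback
        (pullback.fst f (Y.fromSpecStalk y))).obj N) s₁)ᶜ := (isOpen_genSet _ s₁).isClosed_compl
    have hD := (sm (Y.presheaf.stalk y) (pullback f (Y.fromSpecStalk y))).isClosedMap _ hC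
    have hmem : IsLocalRing.closedPoint (Y.presheaf.stalk y) ∈
        (sm (Y.presheaf.stalk y) (pullback f (Y.fromSpecStalk y))) ''
          (genSet ((Scheme.Modules.pullback (pullback.fst f (Y.fromSpecStalk y))).obj N) s₁)ᶜ :=
      (IsLocalRing.specializes_closedPoint _).mem_closed hD ⟨x₁, hx₁, rfl⟩
    obtain ⟨x₂, hx₂, hx₂'⟩ := hmem
    -- `x₂` lies over `y`
    have hy₂ : f (pullback.fst f (Y.fromSpecStalk y) x₂) = y := by
      have h3 := congrArg (fun k => k x₂) (congrArg (fun (k : _ ⟶ _) => (k : _ → _)) hsq.w)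
      simp only [Scheme.Hom.comp_apply] at h3
      rw [h3]
      show (Y.fromSpecStalk y) ((sm (Y.presheaf.stalk y) (pullback f (Y.fromSpecStalk y))) x₂) = y
      rw [hx₂']
      exact Scheme.fromSpecStalk_closedPoint
    have hr : pullback.fst f (Y.fromSpecStalk y) x₂ ∈ Set.range (f.fiberι y) := by
      rw [Scheme.Hom.range_fiberι]
      exact hy₂
    obtain ⟨x', hx'⟩ := hr
    have hinj : Function.Injective (pullback.fst f (Y.fromSpecStalk y)) :=
      (pullback.fst f (Y.fromSpecStalk y)).isEmbedding.injective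
    have h4 : g' x' = x₂ := by
      apply hinj
      rw [← hx', ← hg'1]
      rfl
    exact hx₂ (h4 ▸ hfib x')
  have hfin := isGen_of_le_genSet _ s₁ ⊤ (by rw [hall]; exact Set.subset_univ _)
  rw [res_self] at hfin
  exact hfin

end Groth.Agent.Lib.Helper13.CBCInvFibre
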