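import Mathlib
import Groth.Agent.Lib.Helper13.CBCInvFibre
import Groth.Agent.Lib.Helper13.CBCFib
import Groth.Agent.Lib.Helper13.CBCTransfer
import Groth.Agent.Lib.Helper5.UnitSections

/-!
# Invertible modules over a proper flat scheme over a Noetherian local ring: trivial on the closed
fibre and `H^1(X₀, O) = 0` imply trivial
-/

set_option autoImplicit false
set_option linter.style.haveILetI false
universe u
open CategoryTheory CategoryTheory.Limits AlgebraicGeometry TopologicalSpace Opposite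
open Scheme.Modules

namespace Groth.Agent.Lib.Helper13.CBCInvLocal

open Groth.Agent.Lib.Helper3 Groth.Agent.Lib.Helper3.QCSec Groth.Agent.Lib.Helper3.InvGen
  Groth.Agent.Lib.Helper3.PbBasic
open Groth.Agent.Lib.Helper13.CBCSec Groth.Agent.Lib.Helper13.CBCBase
  Groth.Agent.Lib.Helper13.CBCModPow Groth.Agent.Lib.Helper13.CBCGenPull
  Groth.Agent.Lib.Helper13.CBCRank Groth.Agent.Lib.Helper13.CBCCech
  Groth.Agent.Lib.Helper13.CBCInvFibre

/-- a module generated by a global section is trivial. -/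
theorem iso_of_isGen_top {X : Scheme.{u}} {L : X.Modules} (s₁ : Γ(L, ⊤)) (h : IsGen L ⊤ s₁) :
    Nonempty (L ≅ Coh.structureModule X) := by
  obtain ⟨φ, hφ⟩ := (Groth.Agent.Lib.Helper5.bijective_evTop L).2 s₁
  have hsec : sec φ ⊤ = s₁ := hφ
  haveI : IsIso φ := by
    rw [Scheme.Modules.Hom.isIso_iff_isIso_app]
    intro V
    apply (ConcreteCategory.isIso_iff_bijective (φ.app V)).mpr
    rw [bijective_app_iff]
    have h2 := h V le_top
    rw [← hsec, res_sec] at h2
    exact h2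
  exact ⟨(asIso φ).symm⟩

section Main

variable (A B : Type u) [CommRing A] [IsNoetherianRing A] [IsLocalRing A] [CommRing B]
  {X X' : Scheme.{u}} [X.Over (Spec (CommRingCat.of A))] [X'.Over (Spec (CommRingCat.of B))]
  [IsProper (X ↘ Spec (CommRingCat.of A))]
  (g : Spec (CommRingCat.of B) ⟶ Spec (CommRingCat.of A)) (g' : X' ⟶ X)

/-- the residue field of `A` as the restriction of scalars of `B`. -/
noncomputable def resIsoMA (hsurj : Function.Surjective (φg A B g))
    (hker : RingHom.ker (φg A B g) = IsLocalRing.maximalIdeal A) :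
    ModuleCat.of A (IsLocalRing.ResidueField A) ≅
      Groth.Agent.Lib.Helper13.CBCBase.MA A B g (ModuleCat.of B B) := by
  let r : IsLocalRing.ResidueField A →+* B :=
    Ideal.Quotient.lift (IsLocalRing.maximalIdeal A) (φg A B g) (fun a ha => by
      rw [← RingHom.mem_ker, hker]; exact ha)
  have hr : ∀ a : A, r (IsLocalRing.residue A a) = φg A B g a := fun a =>
    Ideal.Quotient.lift_mk _ _ _
  have hinj : Function.Injective r := by
    rw [injective_iff_map_eq_zero]
    intro x hx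
    obtain ⟨a, rfl⟩ := IsLocalRing.residue_surjective x
    rw [hr, ← RingHom.mem_ker, hker] at hx
    exact (IsLocalRing.residue_eq_zero_iff a).2 hx
  have hsur : Function.Surjective r := by
    intro b
    obtain ⟨a, ha⟩ := hsurj b
    exact ⟨IsLocalRing.residue A a, (hr a).trans ha⟩
  let l : IsLocalRing.ResidueField A →ₗ[A]
      ↑(Groth.Agent.Lib.Helper13.CBCBase.MA A B g (ModuleCat.of B B)) :=
    { toFun := fun x => r x
      map_add' := fun x y => map_add r x y
      map_smul' := fun a x => by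
        obtain ⟨b, rfl⟩ := IsLocalRing.residue_surjective x
        show r (IsLocalRing.residue A (a * b)) = φg A B g a * r (IsLocalRing.residue A b)
        rw [hr, hr, map_mul] }
  exact (LinearEquiv.ofBijective l ⟨hinj, hsur⟩).toModuleIso

variable {A B g g'} in
/-- **Triviality from the closed fibre.** -/
theorem exists_gen_local (hc : IsPullback g' (sm B X') (sm A X) g)
    (hsurj : Function.Surjective (φg A B g))
    (hker : RingHom.ker (φg A B g) = IsLocalRing.maximalIdeal A)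
    (hpt : ∀ x : X, (sm A X) x = IsLocalRing.closedPoint A → x ∈ Set.range g')
    (N : X.Modules) (hN : PicF.IsInvertible N)
    (hfl : FlatMod.IsFlatOver (sm A X) N)
    (ε : F' g' N ≅ Coh.structureModule X')
    (h1 : Subsingleton (Coh.HH X' (Coh.structureModule X') 1)) :
    ∃ s₁ : Γ(N, ⊤), IsGen N ⊤ s₁ := by
  classical
  have hF : Coh.IsCoh N := ⟨Groth.Agent.Lib.Helper3.InvCoh.isQuasicoherent_of_isInvertible hN,
    Groth.Agent.Lib.Helper3.InvCoh.isFiniteType_of_isInvertible hN⟩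
  haveI : N.IsQuasicoherent := hF.1
  obtain ⟨Q, hQ, hb, hpos, hν⟩ := Groth.Agent.Lib.Helper13.CBCMain.bridge A X N hF hfl
  obtain ⟨ν0⟩ := hν 0
  obtain ⟨ν1⟩ := hν 1
  have hQ' : ∀ i, Module.Finite A (Q.X i) ∧ Module.Flat A (Q.X i) := fun i =>
    ⟨(hQ i).1, haveI := (hQ i).2; inferInstance⟩
  -- `T^1(k) = 0`
  obtain ⟨ι, hfin, U, hcov, -, hU⟩ := Groth.Agent.Lib.Helper13.CBCCover.exists_cover A X
  obtain ⟨fb, -⟩ := Groth.Agent.Lib.Helper13.CBCFib.exists_fibre_equiv A B g g' hc N U 1 hcov hU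
  haveI hs1 : Subsingleton (Coh.HH X' (F' g' N) 1) := subsingleton_HH_of_iso ε 1 h1
  haveI hs2 : Subsingleton (Coh.HH X
      (TM A N (Groth.Agent.Lib.Helper13.CBCBase.MA A B g (ModuleCat.of B B))) 1) :=
    fb.symm.injective.subsingleton
  have hz1 : IsZero ((CohIII.tensorAFunctor A N ⋙ CohIII.HAb X 1).obj
      (Groth.Agent.Lib.Helper13.CBCBase.MA A B g (ModuleCat.of B B))) := by
    haveI : Subsingleton ↑((CohIII.tensorAFunctor A N ⋙ CohIII.HAb X 1).obj
        (Groth.Agent.Lib.Helper13.CBCBase.MA A B g (ModuleCat.of B B))) := hs2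
    exact AddCommGrpCat.isZero_of_subsingleton _
  have hz2 : IsZero ((CohIII.TFun Q (-((1 : ℕ) : ℤ))).obj
      (Groth.Agent.Lib.Helper13.CBCBase.MA A B g (ModuleCat.of B B))) :=
    (Groth.Agent.Lib.Helper13.CBCTransfer.isZero_obj_iff ν1 _).1 hz1
  have hk : IsZero ((CohIII.TFun Q (-((0 + 1 : ℕ) : ℤ))).obj
      (ModuleCat.of A (IsLocalRing.ResidueField A))) :=
    IsZero.of_iso hz2 ((CohIII.TFun Q (-((1 : ℕ) : ℤ))).mapIso (resIsoMA A B g hsurj hker))
  have hsurj0 := surjective_Hm_modPowπ A X N hF Q hQ' 0 ν0 hk 0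
  have hπ := surjective_app_top_of_Hm _ hsurj0
  have hker' : RingHom.ker (φg A B g) = IsLocalRing.maximalIdeal A ^ (0 + 1) := by
    rw [zero_add, pow_one]
    exact hker
  obtain ⟨s₁, hs₁⟩ := Groth.Agent.Lib.Helper13.CBCLift.exists_lift A B g g' hc N hsurj
    (IsLocalRing.maximalIdeal A) (0 + 1) hker' hπ (sec ε.symm.hom (g' ⁻¹ᵁ ⊤))
  refine ⟨s₁, ?_⟩
  have hfib : ∀ x' : X', g' x' ∈ genSet N s₁ := by
    intro x'
    obtain ⟨W', hW', hx, hg⟩ := gen_of_pull g' hN s₁ x' (g' ⁻¹ᵁ ⊤) trivial le_rfl (by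
      rw [res_self, hs₁]
      exact isGen_sec_of_isIso ε.symm.hom _)
    exact ⟨W', hW', hx, hg⟩
  have hall : genSet N s₁ = Set.univ := by
    by_contra hne
    obtain ⟨x₁, hx₁⟩ := (Set.ne_univ_iff_exists_notMem _).1 hne
    have hC : IsClosed (genSet N s₁)ᶜ := (isOpen_genSet _ s₁).isClosed_compl
    have hD := (sm A X).isClosedMap _ hC
    have hmem : IsLocalRing.closedPoint A ∈ (sm A X) '' (genSet N s₁)ᶜ :=
      (IsLocalRing.specializes_closedPoint _).mem_closed hD ⟨x₁, hx₁, rfl⟩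
    obtain ⟨x₂, hx₂, hx₂'⟩ := hmem
    obtain ⟨x', hx'⟩ := hpt x₂ hx₂'
    exact hx₂ (hx' ▸ hfib x')
  have hfin := isGen_of_le_genSet _ s₁ ⊤ (by rw [hall]; exact Set.subset_univ _)
  rw [res_self] at hfin
  exact hfin

end Main

end Groth.Agent.Lib.Helper13.CBCInvLocal
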