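import Mathlib
import Groth.Agent.Lib.Helper13.CBCGenPull
import Groth.Agent.Lib.Helper17.FlatBC
import Groth.Agent.Lib.Helper3.Reduced
import Groth.Agent.Lib.Helper3.InvCoh

/-!
# Spreading out a generator from `X ×_Y Spec O_{Y,y}` to the preimage of a neighbourhood of `y`
-/

set_option autoImplicit false
universe u
open CategoryTheory CategoryTheory.Limits AlgebraicGeometry TopologicalSpace Opposite
open Scheme.Modules

namespace Groth.Agent.Lib.Helper13.CBCInvSpread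

open Groth.Agent.Lib.Helper3 Groth.Agent.Lib.Helper3.QCSec Groth.Agent.Lib.Helper3.InvGen
  Groth.Agent.Lib.Helper3.PbBasic
open Groth.Agent.Lib.Helper17.UnitBC
open Groth.Agent.Lib.Helper13.CBCGenPull

/-- elements of a base change along a "localization-like" map are fractions. -/
lemma exists_unit_smul_of_isBCHom {R S : Type u} [CommRing R] [CommRing S] (φ : R →+* S)
    {M N : Type u} [AddCommGroup M] [Module R M] [AddCommGroup N] [Module S N] (β : M → N)
    (h : IsBCHom φ β) (hfrac : ∀ z : S, ∃ c r : R, IsUnit (φ c) ∧ φ c * z = φ r) (n : N) :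
    ∃ (c : R) (m : M), IsUnit (φ c) ∧ β m = φ c • n := by
  letI := φ.toAlgebra
  letI : Module R N := Module.compHom N φ
  haveI : IsScalarTower R S N := IsScalarTower.of_algebraMap_smul fun _ _ => rfl
  obtain ⟨lin, hlin, hbc⟩ := h
  have hR : ∀ (r : R) (n : N), r • n = φ r • n := fun _ _ => rfl
  suffices hs : ∃ (c : R) (m : M), IsUnit (φ c) ∧ lin m = φ c • n by
    obtain ⟨c, m, hc, hm⟩ := hs
    exact ⟨c, m, hc, (hlin m).symm.trans hm⟩
  refine hbc.inductionOn n (fun n => ∃ (c : R) (m : M), IsUnit (φ c) ∧ lin m = φ c • n)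
    ?_ ?_ ?_ ?_
  · exact ⟨1, 0, by rw [map_one]; exact isUnit_one, by rw [map_zero, smul_zero]⟩
  · intro m
    exact ⟨1, m, by rw [map_one]; exact isUnit_one, by rw [map_one, one_smul]⟩
  · rintro z n ⟨c, m, hc, hm⟩
    obtain ⟨c', r, hc', hr⟩ := hfrac z
    refine ⟨c' * c, r • m, by rw [map_mul]; exact hc'.mul hc, ?_⟩
    rw [lin.map_smul, hR, hm, map_mul, ← hr, ← mul_smul, ← mul_smul]
    congr 1
    ring
  · rintro n₁ n₂ ⟨c₁, m₁, hc₁, hm₁⟩ ⟨c₂, m₂, hc₂, hm₂⟩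
    refine ⟨c₁ * c₂, c₂ • m₁ + c₁ • m₂, by rw [map_mul]; exact hc₁.mul hc₂, ?_⟩
    rw [map_add, lin.map_smul, lin.map_smul, hR, hR, hm₁, hm₂, map_mul, smul_add, ← mul_smul,
      ← mul_smul, mul_comm (φ c₂) (φ c₁)]

variable {X Y : Scheme.{u}} (f : X ⟶ Y) [IsProper f] (y : Y)

/-- elements of `Γ(Spec O_{Y,y}, ⊤)` are fractions of functions on an affine neighbourhood. -/
lemma exists_frac {V : Y.Opens} (hV : IsAffineOpen V) (hyV : y ∈ V)
    (hV'V : (⊤ : (Spec (CommRingCat.of (Y.presheaf.stalk y))).Opens) ≤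
      (Y.fromSpecStalk y) ⁻¹ᵁ V)
    (z : Γ(Spec (CommRingCat.of (Y.presheaf.stalk y)), ⊤)) :
    ∃ c r : Γ(Y, V), IsUnit (((Y.fromSpecStalk y).appLE V ⊤ hV'V).hom c) ∧
      ((Y.fromSpecStalk y).appLE V ⊤ hV'V).hom c * z =
        ((Y.fromSpecStalk y).appLE V ⊤ hV'V).hom r := by
  have hφ : ∀ r : Γ(Y, V), ((Y.fromSpecStalk y).appLE V ⊤ hV'V).hom r =
      (Scheme.ΓSpecIso (CommRingCat.of (Y.presheaf.stalk y))).inv.hom
        ((Y.presheaf.germ V y hyV).hom r) := by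
    intro r
    have h1 : (Y.fromSpecStalk y).appLE V ⊤ hV'V =
        Y.presheaf.germ V y hyV ≫ (Scheme.ΓSpecIso (CommRingCat.of (Y.presheaf.stalk y))).inv := by
      rw [Scheme.Hom.appLE, Scheme.fromSpecStalk_app hyV, Category.assoc, Category.assoc,
        ← Functor.map_comp]
      have : (homOfLE (le_top : (Y.fromSpecStalk y) ⁻¹ᵁ V ≤ ⊤)).op ≫ (homOfLE hV'V).op = 𝟙 _ :=
        Subsingleton.elim _ _
      rw [this, CategoryTheory.Functor.map_id, Category.comp_id]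
      rfl
    rw [h1]
    rfl
  letI : Algebra Γ(Y, V) (Y.presheaf.stalk y) := (Y.presheaf.germ V y hyV).hom.toAlgebra
  haveI hloc := hV.isLocalization_stalk ⟨y, hyV⟩
  obtain ⟨⟨r, c⟩, hrc⟩ := IsLocalization.surj (hV.primeIdealOf ⟨y, hyV⟩).asIdeal.primeCompl
    ((Scheme.ΓSpecIso (CommRingCat.of (Y.presheaf.stalk y))).hom.hom z)
  have hcu : IsUnit ((Y.presheaf.germ V y hyV).hom (c : Γ(Y, V))) :=
    IsLocalization.map_units (Y.presheaf.stalk y) c
  have hz : z = (Scheme.ΓSpecIso (CommRingCat.of (Y.presheaf.stalk y))).inv.hom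
      ((Scheme.ΓSpecIso (CommRingCat.of (Y.presheaf.stalk y))).hom.hom z) :=
    (congrArg (fun k => k.hom z)
      (Scheme.ΓSpecIso (CommRingCat.of (Y.presheaf.stalk y))).hom_inv_id).symm
  refine ⟨c, r, ?_, ?_⟩
  · rw [hφ]
    exact hcu.map _
  · rw [hφ, hφ, hz, ← map_mul]
    congr 1
    rw [mul_comm]
    exact hrc

theorem exists_nhd_gen [IsLocallyNoetherian Y] (N : X.Modules) (hN : PicF.IsInvertible N)
    (s₁ : Γ((Scheme.Modules.pullback (pullback.fst f (Y.fromSpecStalk y))).obj N, ⊤))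
    (hs₁ : IsGen ((Scheme.Modules.pullback (pullback.fst f (Y.fromSpecStalk y))).obj N) ⊤ s₁) :
    ∃ (U : Y.Opens) (_ : y ∈ U) (e : Γ(N, f ⁻¹ᵁ U)), IsGen N (f ⁻¹ᵁ U) e := by
  haveI : N.IsQuasicoherent := InvCoh.isQuasicoherent_of_isInvertible hN
  haveI : Flat (Y.fromSpecStalk y) := Groth.Agent.Lib.Helper3.flat_fromSpecStalk Y y
  obtain ⟨V, hV, hyV⟩ := QCProps.exists_affine_nbhd y
  have hsq : IsPullback (pullback.fst f (Y.fromSpecStalk y)) (pullback.snd f (Y.fromSpecStalk y))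
      f (Y.fromSpecStalk y) := IsPullback.of_hasPullback _ _
  have hV'V : (⊤ : (Spec (CommRingCat.of (Y.presheaf.stalk y))).Opens) ≤
      (Y.fromSpecStalk y) ⁻¹ᵁ V := by
    intro a _
    have ha : (Y.fromSpecStalk y) a ⤳ y := by
      have : (Y.fromSpecStalk y) a ∈ Set.range (Y.fromSpecStalk y) := ⟨a, rfl⟩
      rw [Scheme.range_fromSpecStalk] at this
      exact this
    exact ha.mem_open V.2 hyV
  have hWc : IsCompact ((f ⁻¹ᵁ V : X.Opens) : Set X) := f.isCompact_preimage hV.isCompact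
  have hWqs : IsQuasiSeparated ((f ⁻¹ᵁ V : X.Opens) : Set X) :=
    f.isQuasiSeparated_preimage hV.isQuasiSeparated
  have hbc := isBCHom_cmp_of_qcqs hsq N hV'V hV
    (isAffineOpen_top (Spec (CommRingCat.of (Y.presheaf.stalk y)))) (le_refl (f ⁻¹ᵁ V)) hWc hWqs
  obtain ⟨c, e, hcu, hce⟩ := exists_unit_smul_of_isBCHom _ _ hbc
    (exists_frac y hV hyV hV'V)
    (show SecA (pullback.snd f (Y.fromSpecStalk y)) ⊤
        ((Scheme.Modules.pullback (pullback.fst f (Y.fromSpecStalk y))).obj N)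
        (up (pullback.fst f (Y.fromSpecStalk y)) (pullback.snd f (Y.fromSpecStalk y)) ⊤ (f ⁻¹ᵁ V))
        inf_le_right from res _ le_top s₁)
  -- the pulled back section generates
  have hgen : IsGen ((Scheme.Modules.pullback (pullback.fst f (Y.fromSpecStalk y))).obj N)
      (up (pullback.fst f (Y.fromSpecStalk y)) (pullback.snd f (Y.fromSpecStalk y)) ⊤ (f ⁻¹ᵁ V))
      (res _ inf_le_left (pull (pullback.fst f (Y.fromSpecStalk y)) N (f ⁻¹ᵁ V)
        (show Γ(N, f ⁻¹ᵁ V) from e))) := by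
    have h2a : cmp (pullback.fst f (Y.fromSpecStalk y)) (pullback.snd f (Y.fromSpecStalk y)) ⊤ N
        (f ⁻¹ᵁ V) (le_refl _) e =
        res _ inf_le_left (pull (pullback.fst f (Y.fromSpecStalk y)) N (f ⁻¹ᵁ V)
          (show Γ(N, f ⁻¹ᵁ V) from e)) := rfl
    have h2b : (((Y.fromSpecStalk y).appLE V ⊤ hV'V).hom c •
        (show SecA (pullback.snd f (Y.fromSpecStalk y)) ⊤
        ((Scheme.Modules.pullback (pullback.fst f (Y.fromSpecStalk y))).obj N)
        (up (pullback.fst f (Y.fromSpecStalk y)) (pullback.snd f (Y.fromSpecStalk y)) ⊤ (f ⁻¹ᵁ V))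
        inf_le_right from res _ le_top s₁)) =
        ((pullback.snd f (Y.fromSpecStalk y)).appLE ⊤
          (up (pullback.fst f (Y.fromSpecStalk y)) (pullback.snd f (Y.fromSpecStalk y)) ⊤
            (f ⁻¹ᵁ V)) inf_le_right).hom
          (((Y.fromSpecStalk y).appLE V ⊤ hV'V).hom c) • res _ le_top s₁ := rfl
    have h2 := h2a.symm.trans (hce.trans h2b)
    rw [h2]
    exact (hs₁.mono le_top).smul_unit (hcu.map _)
  -- so `e` generates at all points in the image of `X₁`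
  have himg : ∀ x₁ : ↑(pullback f (Y.fromSpecStalk y)),
      pullback.fst f (Y.fromSpecStalk y) x₁ ∈ genSet N (show Γ(N, f ⁻¹ᵁ V) from e) := by
    intro x₁
    have hx₁ : x₁ ∈ up (pullback.fst f (Y.fromSpecStalk y)) (pullback.snd f (Y.fromSpecStalk y))
        ⊤ (f ⁻¹ᵁ V) := by
      refine ⟨?_, trivial⟩
      show f (pullback.fst f (Y.fromSpecStalk y) x₁) ∈ V
      have h3 := congrArg (fun k => k x₁) (congrArg (fun (k : _ ⟶ _) => (k : _ → _)) hsq.w)
      simp only [Scheme.Hom.comp_apply] at h3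
      rw [h3]
      exact hV'V trivial
    obtain ⟨W', hW', hx, hg⟩ := gen_of_pull (pullback.fst f (Y.fromSpecStalk y)) hN
      (show Γ(N, f ⁻¹ᵁ V) from e) x₁ _ hx₁ inf_le_left hgen
    exact ⟨W', hW', hx, hg⟩
  have hfib : f ⁻¹' {y} ⊆ genSet N (show Γ(N, f ⁻¹ᵁ V) from e) := by
    intro x hx
    obtain ⟨x₁, hx₁, -⟩ := Scheme.Pullback.exists_preimage_pullback (f := f)
      (g := Y.fromSpecStalk y) x (IsLocalRing.closedPoint (Y.presheaf.stalk y))
      (by rw [Scheme.fromSpecStalk_closedPoint]; exact hx)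
    rw [← hx₁]
    exact himg x₁
  have hC : IsClosed (genSet N (show Γ(N, f ⁻¹ᵁ V) from e))ᶜ :=
    (isOpen_genSet N _).isClosed_compl
  have hD := f.isClosedMap _ hC
  let U : Y.Opens := ⟨(f '' (genSet N (show Γ(N, f ⁻¹ᵁ V) from e))ᶜ)ᶜ, hD.isOpen_compl⟩
  have hyU : y ∈ U := by
    rintro ⟨x, hx, hxy⟩
    exact hx (hfib hxy)
  have hU : ((f ⁻¹ᵁ U : X.Opens) : Set X) ⊆ genSet N (show Γ(N, f ⁻¹ᵁ V) from e) := by
    intro x hx
    by_contra hx'
    exact hx ⟨x, hx', rfl⟩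
  exact ⟨U, hyU, _, isGen_of_le_genSet N _ (f ⁻¹ᵁ U) hU⟩

end Groth.Agent.Lib.Helper13.CBCInvSpread
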