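import Mathlib
import Groth.Agent.Lib.Helper13.CBCInvFibre
import Groth.Agent.Lib.Helper13.CBCInvSpread
import Groth.Agent.Lib.Helper13.CBCInvLocal
import Groth.Agent.Lib.Helper13.CBCEtStalk
import Groth.Agent.Lib.Helper13.CBCGlue
import Groth.Agent.Lib.Helper13.CBCTransfer
import Groth.Agent.Lib.Helper16.PicFF.Family
import Groth.Agent.S2381
import Groth.Agent.S2393

/-!
# The seesaw step over a reduced base: an invertible module trivial on all fibres of a proper flat
morphism with `h^0(X_y, O) = 1` is pulled back from the base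
-/

set_option autoImplicit false
set_option linter.style.haveILetI false
universe u
open CategoryTheory CategoryTheory.Limits AlgebraicGeometry TopologicalSpace Opposite
open Scheme.Modules

namespace Groth.Agent.Lib.Helper13.CBCModPow

theorem surjective_Hm_modPowπ_of_preservesEpi (A : Type u) [CommRing A] [IsNoetherianRing A]
    [IsLocalRing A] (X : Scheme.{u}) [X.Over (Spec (CommRingCat.of A))] (F : X.Modules)
    (hF : Coh.IsCoh F) (n : ℕ)
    (hG : (CohIII.tensorAFunctor A F ⋙ CohIII.HAb X n).PreservesEpimorphisms) (p : ℕ) :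
    Function.Surjective (Hm (Formal.modPowπ (IsLocalRing.maximalIdeal A) (p + 1) F) n) := by
  haveI : F.IsQuasicoherent := hF.1
  haveI := hG
  haveI hψ := isIso_ψ_one A F
  haveI hχ := isIso_χ A F (IsLocalRing.maximalIdeal A) (p + 1) hF
  have hcomm : Formal.modPowπ (IsLocalRing.maximalIdeal A) (p + 1) F ≫
      (asIso (χ A F (IsLocalRing.maximalIdeal A) (p + 1))).hom =
      (asIso (ψ A F (ModuleCat.of A A) (1 : A))).hom ≫
        (CohIII.tensorAFunctor A F).map (q A (IsLocalRing.maximalIdeal A ^ (p + 1))) := by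
    rw [asIso_hom, asIso_hom, π_χ, ψ_one_q]
  have hepi' : Epi ((CohIII.tensorAFunctor A F ⋙ CohIII.HAb X n).map
      (q A (IsLocalRing.maximalIdeal A ^ (p + 1)))) := inferInstance
  have hsurj : Function.Surjective (Hm
      ((CohIII.tensorAFunctor A F).map (q A (IsLocalRing.maximalIdeal A ^ (p + 1)))) n) :=
    (AddCommGrpCat.epi_iff_surjective _).1 hepi'
  exact surjective_Hm_of_comm _ _ _ _ hcomm n hsurj

end Groth.Agent.Lib.Helper13.CBCModPow

namespace Groth.Agent.Lib.Helper13.CBCSeesaw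

open Groth.Agent.Lib.Helper3 Groth.Agent.Lib.Helper3.QCSec Groth.Agent.Lib.Helper3.InvGen
  Groth.Agent.Lib.Helper3.PbBasic
open Groth.Agent.Lib.Helper13.CBCSec Groth.Agent.Lib.Helper13.CBCBase
  Groth.Agent.Lib.Helper13.CBCModPow Groth.Agent.Lib.Helper13.CBCGenPull
  Groth.Agent.Lib.Helper13.CBCRank Groth.Agent.Lib.Helper13.CBCInvFibre

lemma bijective_algebraMap_of_finrank_eq_one (K B : Type*) [Field K] [CommRing B] [Algebra K B]
    (h : Module.finrank K B = 1) : Function.Bijective (algebraMap K B) := by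
  haveI : Module.Finite K B := Module.finite_of_finrank_pos (by rw [h]; exact one_pos)
  haveI : Nontrivial B := Module.nontrivial_of_finrank_pos (R := K) (by rw [h]; exact one_pos)
  have hinj : Function.Injective (algebraMap K B) := (algebraMap K B).injective
  refine ⟨hinj, ?_⟩
  have h2 : Module.finrank K K = Module.finrank K B := by rw [h, Module.finrank_self]
  exact (LinearMap.injective_iff_surjective_of_finrank_eq_finrank h2
    (f := Algebra.linearMap K B)).1 hinj

/-- an invertible module on a flat `Y`-scheme is flat over `Y`. -/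
theorem isFlatOver_of_isInvertible {X Y : Scheme.{u}} (f : X ⟶ Y) [Flat f] {N : X.Modules}
    (hN : PicF.IsInvertible N) : FlatMod.IsFlatOver f N := by
  intro x
  refine Groth.Agent.Lib.Helper13.RelPerf.isFlatOverAt_of_isFlatAt f _ x ?_
    (AlgebraicGeometry.Flat.stalkMap f x)
  obtain ⟨U, e, hxU, hg⟩ := Groth.Agent.Lib.Helper3.InvGen.exists_isGen hN x
  have hb := Groth.Agent.Lib.Helper23.Inverse.germ_gen_bijective hg x hxU
  exact Module.Flat.of_linearEquiv (LinearEquiv.ofBijective _ hb).symm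

section Rank

variable {X Y : Scheme.{u}} (f : X ⟶ Y) (y : Y)

theorem fiberRank_zero_eq_of_iso (N : X.Modules)
    (ε : CohIII.fiberMod f N y ≅ Coh.structureModule (f.fiber y)) :
    CohIII.fiberRank f N 0 y = Module.finrank (Y.residueField y) Γ(f.fiber y, ⊤) := by
  letI over' : (f.fiber y).Over (Spec (CommRingCat.of ↑(Y.residueField y))) :=
    ⟨f.fiberToSpecResidueField y⟩
  have e1 : Coh.HH (f.fiber y) (CohIII.fiberMod f N y) 0
      ≃ₗ[↑(Y.residueField y)] Coh.HH (f.fiber y) (Coh.structureModule (f.fiber y)) 0 :=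
    Groth.Agent.Lib.Helper13.CBCStalk.HHcongr ↑(Y.residueField y) ε 0
  have e2 : Coh.HH (f.fiber y) (Coh.structureModule (f.fiber y)) 0
      ≃ₗ[↑(Y.residueField y)] Γ(f.fiber y, ⊤) :=
    Groth.Agent.Lib.Helper23.GeomH0.H0structEquiv ↑(Y.residueField y) (f.fiber y)
  have h1 : Module.finrank ↑(Y.residueField y)
      (Coh.HH (f.fiber y) (CohIII.fiberMod f N y) 0) =
      Module.finrank (Y.residueField y) Γ(f.fiber y, ⊤) :=
    e1.finrank_eq.trans e2.finrank_eq
  exact h1

end Rank

section Bij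

variable {X Y : Scheme.{u}} (f : X ⟶ Y) [IsProper f] [Flat f] [IsLocallyNoetherian Y]

theorem bijective_app_of_finrank_one
    (h0 : ∀ y : Y, Module.finrank (Y.residueField y) Γ(f.fiber y, ⊤) = 1) (V : Y.Opens) :
    Function.Bijective (f.app V) := by
  refine Groth.Agent.Lib.Helper13.CBCGlue.bijective_app_of_locally f (fun y => ?_) V
  obtain ⟨U, hyU, hU⟩ := Groth.Agent.S2393.result f y
    (bijective_algebraMap_of_finrank_eq_one _ _ (h0 y))
  refine ⟨U, hyU, fun V hV => ?_⟩
  haveI := hU V hV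
  exact ConcreteCategory.bijective_of_isIso (f.app V)

end Bij

section Gen

variable {X Y : Scheme.{u}} (f : X ⟶ Y) [IsProper f] [IsLocallyNoetherian Y] (y : Y)

/-- over a reduced base, if `h^0` of the fibres of `N` is locally constant and `N` is trivial on
the fibre over `y`, then `N` is trivial on `X ×_Y Spec O_{Y,y}`. -/
theorem exists_gen_stalk_of_const [IsReduced Y] (N : X.Modules) (hN : PicF.IsInvertible N)
    (hfl : FlatMod.IsFlatOver f N)
    (ε : CohIII.fiberMod f N y ≅ Coh.structureModule (f.fiber y))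
    (hconst : IsLocallyConstant (CohIII.fiberRank f N 0)) :
    ∃ s₁ : Γ((Scheme.Modules.pullback (pullback.fst f (Y.fromSpecStalk y))).obj N, ⊤),
      IsGen ((Scheme.Modules.pullback (pullback.fst f (Y.fromSpecStalk y))).obj N) ⊤ s₁ := by
  classical
  have hF : Coh.IsCoh N := ⟨Groth.Agent.Lib.Helper3.InvCoh.isQuasicoherent_of_isInvertible hN,
    Groth.Agent.Lib.Helper3.InvCoh.isFiniteType_of_isInvertible hN⟩
  haveI : N.IsQuasicoherent := hF.1
  letI : (pullback f (Y.fromSpecStalk y)).Over (Spec (CommRingCat.of (Y.presheaf.stalk y))) :=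
    ⟨pullback.snd f (Y.fromSpecStalk y)⟩
  have hsq : IsPullback (pullback.fst f (Y.fromSpecStalk y))
      ((pullback f (Y.fromSpecStalk y)) ↘ Spec (CommRingCat.of (Y.presheaf.stalk y))) f
      (Y.fromSpecStalk y) := IsPullback.of_hasPullback _ _
  haveI : IsProper ((pullback f (Y.fromSpecStalk y)) ↘
      Spec (CommRingCat.of (Y.presheaf.stalk y))) :=
    MorphismProperty.of_isPullback hsq ‹IsProper f›
  have hcoh : Coh.IsCoh ((Scheme.Modules.pullback (pullback.fst f (Y.fromSpecStalk y))).obj N) :=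
    Groth.Agent.Lib.Helper23.T2.isCoh_pullback _ hF
  haveI : ((Scheme.Modules.pullback (pullback.fst f (Y.fromSpecStalk y))).obj N).IsQuasicoherent :=
    hcoh.1
  have hN₁ : PicF.IsInvertible
      ((Scheme.Modules.pullback (pullback.fst f (Y.fromSpecStalk y))).obj N) :=
    isInvertible_pullback _ hN
  have hfl1 : FlatMod.IsFlatOver ((pullback f (Y.fromSpecStalk y)) ↘
      Spec (CommRingCat.of (Y.presheaf.stalk y)))
      ((Scheme.Modules.pullback (pullback.fst f (Y.fromSpecStalk y))).obj N) := fun x' =>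
    Groth.Agent.Lib.Helper17.FibreFlat.isFlatOverAt_baseChange hsq N x' (hfl _)
  obtain ⟨Q, hQ, hb, hpos, hν⟩ := Groth.Agent.Lib.Helper13.CBCMain.bridge (Y.presheaf.stalk y)
    (pullback f (Y.fromSpecStalk y)) _ hcoh hfl1
  obtain ⟨ν0⟩ := hν 0
  have hQ' : ∀ i, Module.Finite (Y.presheaf.stalk y) (Q.X i) ∧
      Module.Flat (Y.presheaf.stalk y) (Q.X i) := fun i =>
    ⟨(hQ i).1, haveI := (hQ i).2; inferInstance⟩
  -- the rank function of `Q` in degree `0` is locally constant, hence `T_0` is exact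
  have hfun : (fun q : ↥(Spec (CommRingCat.of (Y.presheaf.stalk y))) =>
      CohIII.dRank Q (-((0 : ℕ) : ℤ)) q) = CohIII.fiberRank f N 0 ∘ (Y.fromSpecStalk y) :=
    funext (fun q => (Groth.Agent.Lib.Helper13.CBCStalk.fiberRank_eq_dRank_of_stalk f y _ hsq N 0
      Q ν0 q).symm)
  have hd : IsLocallyConstant (CohIII.dRank Q (-((0 : ℕ) : ℤ))) := by
    have h2 : IsLocallyConstant (CohIII.fiberRank f N 0 ∘ (Y.fromSpecStalk y)) :=
      hconst.comp_continuous (Y.fromSpecStalk y).continuous
    rw [← hfun] at h2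
    exact h2
  have hex := (Groth.Agent.S2381.result Q hQ' (-((0 : ℕ) : ℤ))).2 inferInstance hd
  have hG : (CohIII.tensorAFunctor (Y.presheaf.stalk y)
      ((Scheme.Modules.pullback (pullback.fst f (Y.fromSpecStalk y))).obj N) ⋙
      CohIII.HAb (pullback f (Y.fromSpecStalk y)) 0).PreservesEpimorphisms :=
    (Groth.Agent.Lib.Helper13.CBCTransfer.preservesEpi_iff ν0).2 hex.2
  have hsurj0 := surjective_Hm_modPowπ_of_preservesEpi (Y.presheaf.stalk y)
    (pullback f (Y.fromSpecStalk y)) _ hcoh 0 hG 0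
  have hπ := surjective_app_top_of_Hm _ hsurj0
  -- the fibre as a base change of `X₁`
  letI over' : (f.fiber y).Over (Spec (CommRingCat.of ↑(Y.residueField y))) :=
    ⟨f.fiberToSpecResidueField y⟩
  let gB : Spec (CommRingCat.of ↑(Y.residueField y)) ⟶
      Spec (CommRingCat.of (Y.presheaf.stalk y)) := Spec.map (Y.residue y)
  have hgB : gB ≫ Y.fromSpecStalk y = Y.fromSpecResidueField y := rfl
  have hw : f.fiberι y ≫ f = (f.fiberToSpecResidueField y ≫ gB) ≫ Y.fromSpecStalk y := by
    rw [Category.assoc, hgB]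
    exact pullback.condition
  let g' : f.fiber y ⟶ pullback f (Y.fromSpecStalk y) :=
    hsq.lift (f.fiberι y) (f.fiberToSpecResidueField y ≫ gB) hw
  have hg'1 : g' ≫ pullback.fst f (Y.fromSpecStalk y) = f.fiberι y := hsq.lift_fst _ _ _
  have hg'2 : g' ≫ sm (Y.presheaf.stalk y) (pullback f (Y.fromSpecStalk y)) =
      f.fiberToSpecResidueField y ≫ gB := hsq.lift_snd _ _ _
  have hbig : IsPullback (g' ≫ pullback.fst f (Y.fromSpecStalk y))
      (f.fiberToSpecResidueField y) f (gB ≫ Y.fromSpecStalk y) := by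
    rw [hg'1, hgB]
    exact IsPullback.of_hasPullback f (Y.fromSpecResidueField y)
  have hc : IsPullback g' (sm ↑(Y.residueField y) (f.fiber y))
      (sm (Y.presheaf.stalk y) (pullback f (Y.fromSpecStalk y))) gB :=
    IsPullback.of_right hbig hg'2 hsq
  have hφ : ∀ a, φg (Y.presheaf.stalk y) ↑(Y.residueField y) gB a =
      IsLocalRing.residue (Y.presheaf.stalk y) a := fun a =>
    φg_specMap (Y.presheaf.stalk y) ↑(Y.residueField y) (Y.residue y) a
  have hsurjφ : Function.Surjective (φg (Y.presheaf.stalk y) ↑(Y.residueField y) gB) := by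
    intro b
    obtain ⟨a, ha⟩ := IsLocalRing.residue_surjective (show IsLocalRing.ResidueField
      (Y.presheaf.stalk y) from b)
    exact ⟨a, (hφ a).trans ha⟩
  have hker : RingHom.ker (φg (Y.presheaf.stalk y) ↑(Y.residueField y) gB) =
      IsLocalRing.maximalIdeal (Y.presheaf.stalk y) ^ (0 + 1) := by
    rw [zero_add, pow_one]
    ext a
    rw [RingHom.mem_ker, hφ]
    exact IsLocalRing.residue_eq_zero_iff a
  -- the generator on the fibre
  let E : Coh.structureModule (f.fiber y) ≅
      F' g' ((Scheme.Modules.pullback (pullback.fst f (Y.fromSpecStalk y))).obj N) :=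
    ε.symm ≪≫ ((Scheme.Modules.pullbackComp g' (pullback.fst f (Y.fromSpecStalk y))).app N ≪≫
      (Scheme.Modules.pullbackCongr hg'1).app N).symm
  obtain ⟨s₁, hs₁⟩ := Groth.Agent.Lib.Helper13.CBCLift.exists_lift (Y.presheaf.stalk y)
    ↑(Y.residueField y) gB g' hc _ hsurjφ (IsLocalRing.maximalIdeal (Y.presheaf.stalk y)) (0 + 1)
    hker hπ (sec E.hom (g' ⁻¹ᵁ ⊤))
  refine ⟨s₁, ?_⟩
  -- `s₁` generates near every point of the closed fibre
  have hfib : ∀ x' : f.fiber y, g' x' ∈ genSet _ s₁ := by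
    intro x'
    obtain ⟨W', hW', hx, hg⟩ := gen_of_pull g' hN₁ s₁ x' (g' ⁻¹ᵁ ⊤) trivial le_rfl (by
      rw [res_self, hs₁]
      exact isGen_sec_of_isIso E.hom _)
    exact ⟨W', hW', hx, hg⟩
  -- hence everywhere
  have hall : genSet ((Scheme.Modules.pullback (pullback.fst f (Y.fromSpecStalk y))).obj N) s₁ =
      Set.univ := by
    by_contra hne
    obtain ⟨x₁, hx₁⟩ := (Set.ne_univ_iff_exists_notMem _).1 hne
    have hC : IsClosed (genSet ((Scheme.Modules.pullback
        (pullback.fst f (Y.fromSpecStalk y))).obj N) s₁)ᶜ := (isOpen_genSet _ s₁).isClosed_compl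
    have hD := (sm (Y.presheaf.stalk y) (pullback f (Y.fromSpecStalk y))).isClosedMap _ hC
    have hmem : IsLocalRing.closedPoint (Y.presheaf.stalk y) ∈
        (sm (Y.presheaf.stalk y) (pullback f (Y.fromSpecStalk y))) ''
          (genSet ((Scheme.Modules.pullback (pullback.fst f (Y.fromSpecStalk y))).obj N) s₁)ᶜ :=
      (IsLocalRing.specializes_closedPoint _).mem_closed hD ⟨x₁, hx₁, rfl⟩
    obtain ⟨x₂, hx₂, hx₂'⟩ := hmem
    -- `x₂` lies over `y`
    have hy₂ : f (pullback.fst f (Y.fromSpecStalk y) x₂) = y := by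
      have h3 := congrArg (fun k => k x₂) (congrArg (fun (k : _ ⟶ _) => (k : _ → _)) hsq.w)
      simp only [Scheme.Hom.comp_apply] at h3
      rw [h3]
      show (Y.fromSpecStalk y) ((sm (Y.presheaf.stalk y) (pullback f (Y.fromSpecStalk y))) x₂) = y
      rw [hx₂']
      exact Scheme.fromSpecStalk_closedPoint
    have hr : pullback.fst f (Y.fromSpecStalk y) x₂ ∈ Set.range (f.fiberι y) := by
      rw [Scheme.Hom.range_fiberι]
      exact hy₂
    obtain ⟨x', hx'⟩ := hr
    have hinj : Function.Injective (pullback.fst f (Y.fromSpecStalk y)) :=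
      (pullback.fst f (Y.fromSpecStalk y)).isEmbedding.injective
    have h4 : g' x' = x₂ := by
      apply hinj
      rw [← hx', ← hg'1]
      rfl
    exact hx₂ (h4 ▸ hfib x')
  have hfin := isGen_of_le_genSet _ s₁ ⊤ (by rw [hall]; exact Set.subset_univ _)
  rw [res_self] at hfin
  exact hfin

end Gen

section Main

open Groth.Agent.Lib.Helper17.UnitBC Groth.Agent.Lib.Helper3.FreeBasis
  Groth.Agent.Lib.Helper3.SecLoc

variable {X Y : Scheme.{u}} (f : X ⟶ Y) [IsProper f] [Flat f] [IsLocallyNoetherian Y]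

/-- **Seesaw over a reduced base.** -/
theorem pushforward_invertible_and_counit_isIso [IsReduced Y]
    (h0 : ∀ y : Y, Module.finrank (Y.residueField y) Γ(f.fiber y, ⊤) = 1)
    (L : X.Modules) (hL : PicF.IsInvertible L)
    (htriv : ∀ y : Y, Nonempty (CohIII.fiberMod f L y ≅ Coh.structureModule (f.fiber y))) :
    PicF.IsInvertible ((Scheme.Modules.pushforward f).obj L) ∧
      IsIso ((Scheme.Modules.pullbackPushforwardAdjunction f).counit.app L) := by
  have hf := bijective_app_of_finrank_one f h0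
  have hflL : FlatMod.IsFlatOver f L := isFlatOver_of_isInvertible f hL
  have hrank : ∀ y, CohIII.fiberRank f L 0 y = 1 := fun y => by
    obtain ⟨ε⟩ := htriv y
    exact (fiberRank_zero_eq_of_iso f y L ε).trans (h0 y)
  have hconst : IsLocallyConstant (CohIII.fiberRank f L 0) := by
    have h1 : CohIII.fiberRank f L 0 = fun _ => 1 := funext hrank
    rw [h1]
    exact IsLocallyConstant.const 1
  have hT : ∀ (_ : Unit) (y' : Y), ∃ V'' : Y.Opens, y' ∈ V'' ∧
      ∃ t : Γ((Scheme.Modules.pullback (𝟙 X)).obj L, f ⁻¹ᵁ V''),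
        IsGen ((Scheme.Modules.pullback (𝟙 X)).obj L) (f ⁻¹ᵁ V'') t := by
    intro _ y
    obtain ⟨ε⟩ := htriv y
    obtain ⟨s₁, hs₁⟩ := exists_gen_stalk_of_const f y L hL hflL ε hconst
    obtain ⟨U, hyU, e, he⟩ :=
      Groth.Agent.Lib.Helper13.CBCInvSpread.exists_nhd_gen f y L hL s₁ hs₁
    exact ⟨U, hyU, pull (𝟙 X) L (f ⁻¹ᵁ U) e, isGen_pull (𝟙 X) he⟩
  have hM := H16PicFF.isInvertible_pushforward_of_family f (fun _ : Unit => 𝟙 Y)
    (fun _ => 𝟙 X) (fun _ => f) hf (fun _ => IsPullback.id_horiz f) (fun _ => IsOpenMap.id)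
    (fun y => ⟨(), y, rfl⟩) L hL hT
  exact ⟨hM, H16PicFF.isIso_counit_of_family f (fun _ : Unit => 𝟙 Y)
    (fun _ => 𝟙 X) (fun _ => f) hf (fun _ => IsPullback.id_horiz f)
    (fun y => ⟨(), y, rfl⟩) L hL hT hM⟩

end Main

end Groth.Agent.Lib.Helper13.CBCSeesaw
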