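import Mathlib
import Groth.Agent.Lib.Helper13.CBCSeesaw

/-!
# A module pulled back from the base is trivial on the fibres
-/

set_option autoImplicit false
set_option linter.style.haveILetI false
universe u
open CategoryTheory CategoryTheory.Limits AlgebraicGeometry TopologicalSpace Opposite
open Scheme.Modules

namespace Groth.Agent.Lib.Helper13.CBCSeesaw

open Groth.Agent.Lib.Helper3 Groth.Agent.Lib.Helper3.QCSec Groth.Agent.Lib.Helper3.InvGen
  Groth.Agent.Lib.Helper3.PbBasic

/-- an invertible module over a one-point scheme is trivial. -/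
theorem iso_structureModule_of_unique (Z : Scheme.{u}) [Unique Z]
    (N : Z.Modules) (hN : PicF.IsInvertible N) :
    Nonempty (N ≅ Coh.structureModule Z) := by
  obtain ⟨U, s, hxU, hg⟩ := exists_isGen hN (default : Z)
  have hU : U = ⊤ := by
    rw [eq_top_iff]
    intro x _
    rw [Unique.eq_default x]
    exact hxU
  subst hU
  exact Groth.Agent.Lib.Helper13.CBCInvLocal.iso_of_isGen_top s hg

theorem fibre_trivial_of_pullback {X Y : Scheme.{u}} (f : X ⟶ Y) (M : Y.Modules)
    (hM : PicF.IsInvertible M) (L : X.Modules)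
    (e : (Scheme.Modules.pullback f).obj M ≅ L) (y : Y) :
    Nonempty (CohIII.fiberMod f L y ≅ Coh.structureModule (f.fiber y)) := by
  have hM' : PicF.IsInvertible ((Scheme.Modules.pullback (Y.fromSpecResidueField y)).obj M) :=
    isInvertible_pullback _ hM
  obtain ⟨τ⟩ := iso_structureModule_of_unique (Spec (Y.residueField y)) _ hM'
  exact ⟨(Scheme.Modules.pullback (f.fiberι y)).mapIso e.symm ≪≫
    (Scheme.Modules.pullbackComp (f.fiberι y) f).app M ≪≫
    (Scheme.Modules.pullbackCongr (f.fiber_fac y)).app M ≪≫
    ((Scheme.Modules.pullbackComp (f.fiberToSpecResidueField y)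
      (Y.fromSpecResidueField y)).app M).symm ≪≫
    (Scheme.Modules.pullback (f.fiberToSpecResidueField y)).mapIso τ ≪≫
    pbUnit (f.fiberToSpecResidueField y)⟩

end Groth.Agent.Lib.Helper13.CBCSeesaw
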