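import Mathlib
import Groth.Agent.Lib.Helper13.CBCEtStalk
import Groth.Agent.Lib.Helper13.CBCSeesaw
import Groth.Agent.S2381

/-!
# Local constancy of `h^0(X_y, O)` near a point whose fibre has an étale ring of functions
-/

set_option autoImplicit false
set_option linter.style.haveILetI false
universe u
open CategoryTheory CategoryTheory.Limits AlgebraicGeometry TopologicalSpace Opposite TensorProduct
open Scheme.Modules

namespace Groth.Agent.Lib.Helper13.CBCEtConst

open Groth.Agent.Lib.Helper13.CBCSec Groth.Agent.Lib.Helper13.CBCCech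
  Groth.Agent.Lib.Helper13.CBCUp Groth.Agent.Lib.Helper13.CBCBase
  Groth.Agent.Lib.Helper13.CBCBC Groth.Agent.Lib.Helper13.CBCFib
  Groth.Agent.Lib.Helper13.CBCRank Groth.Agent.Lib.Helper13.CBCEtStalk
open Groth.Agent.Lib.Helper7

section Main

variable {X Y : Scheme.{u}} (f : X ⟶ Y) [IsProper f] [Flat f] [IsLocallyNoetherian Y] (y : Y)

/-- `h^0(X_{y'}, O)` is constant on the generizations `y'` of a point `y` whose fibre has an étale
ring of functions. -/
theorem fiberRank_const_of_etale (het : Algebra.Etale (Y.residueField y) Γ(f.fiber y, ⊤))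
    (q : ↥(Spec (CommRingCat.of (Y.presheaf.stalk y)))) :
    CohIII.fiberRank f (Coh.structureModule X) 0 ((Y.fromSpecStalk y) q) =
      CohIII.fiberRank f (Coh.structureModule X) 0 y := by
  classical
  have hF : Coh.IsCoh (Coh.structureModule X) :=
    Groth.Agent.Lib.Helper23.T2.isCoh_structureModule X
  haveI : (Coh.structureModule X).IsQuasicoherent := hF.1
  have hfl : FlatMod.IsFlatOver f (Coh.structureModule X) := isFlatOver_structureModule f
  letI : (pullback f (Y.fromSpecStalk y)).Over (Spec (CommRingCat.of (Y.presheaf.stalk y))) :=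
    ⟨pullback.snd f (Y.fromSpecStalk y)⟩
  have hsq : IsPullback (pullback.fst f (Y.fromSpecStalk y))
      ((pullback f (Y.fromSpecStalk y)) ↘ Spec (CommRingCat.of (Y.presheaf.stalk y))) f
      (Y.fromSpecStalk y) := IsPullback.of_hasPullback _ _
  haveI : IsProper ((pullback f (Y.fromSpecStalk y)) ↘
      Spec (CommRingCat.of (Y.presheaf.stalk y))) :=
    MorphismProperty.of_isPullback hsq ‹IsProper f›
  haveI : Flat ((pullback f (Y.fromSpecStalk y)) ↘
      Spec (CommRingCat.of (Y.presheaf.stalk y))) :=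
    MorphismProperty.of_isPullback hsq ‹Flat f›
  have hcoh : Coh.IsCoh ((Scheme.Modules.pullback (pullback.fst f (Y.fromSpecStalk y))).obj
      (Coh.structureModule X)) :=
    Groth.Agent.Lib.Helper23.T2.isCoh_pullback _ hF
  haveI : ((Scheme.Modules.pullback (pullback.fst f (Y.fromSpecStalk y))).obj
      (Coh.structureModule X)).IsQuasicoherent := hcoh.1
  have hfl1 : FlatMod.IsFlatOver ((pullback f (Y.fromSpecStalk y)) ↘
      Spec (CommRingCat.of (Y.presheaf.stalk y)))
      ((Scheme.Modules.pullback (pullback.fst f (Y.fromSpecStalk y))).obj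
        (Coh.structureModule X)) := fun x' =>
    Groth.Agent.Lib.Helper17.FibreFlat.isFlatOverAt_baseChange hsq (Coh.structureModule X) x'
      (hfl _)
  obtain ⟨Q, hQ, hb, hpos, hν⟩ := Groth.Agent.Lib.Helper13.CBCMain.bridge (Y.presheaf.stalk y)
    (pullback f (Y.fromSpecStalk y)) _ hcoh hfl1
  obtain ⟨ν0⟩ := hν 0
  have hQ' : ∀ i, Module.Finite (Y.presheaf.stalk y) (Q.X i) ∧
      Module.Flat (Y.presheaf.stalk y) (Q.X i) := fun i =>
    ⟨(hQ i).1, haveI := (hQ i).2; inferInstance⟩
  have hQfl : ∀ i, Module.Flat (Y.presheaf.stalk y) (Q.X i) := fun i => (hQ' i).2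
  -- the fibre as a base change of `X₁`
  letI over' : (f.fiber y).Over (Spec (CommRingCat.of ↑(Y.residueField y))) :=
    ⟨f.fiberToSpecResidueField y⟩
  let gB : Spec (CommRingCat.of ↑(Y.residueField y)) ⟶
      Spec (CommRingCat.of (Y.presheaf.stalk y)) := Spec.map (Y.residue y)
  have hgB : gB ≫ Y.fromSpecStalk y = Y.fromSpecResidueField y := rfl
  have hw : f.fiberι y ≫ f = (f.fiberToSpecResidueField y ≫ gB) ≫ Y.fromSpecStalk y := by
    rw [Category.assoc, hgB]
    exact pullback.condition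
  let g' : f.fiber y ⟶ pullback f (Y.fromSpecStalk y) :=
    hsq.lift (f.fiberι y) (f.fiberToSpecResidueField y ≫ gB) hw
  have hg'1 : g' ≫ pullback.fst f (Y.fromSpecStalk y) = f.fiberι y := hsq.lift_fst _ _ _
  have hg'2 : g' ≫ sm (Y.presheaf.stalk y) (pullback f (Y.fromSpecStalk y)) =
      f.fiberToSpecResidueField y ≫ gB := hsq.lift_snd _ _ _
  have hbig : IsPullback (g' ≫ pullback.fst f (Y.fromSpecStalk y))
      (f.fiberToSpecResidueField y) f (gB ≫ Y.fromSpecStalk y) := by
    rw [hg'1, hgB]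
    exact IsPullback.of_hasPullback f (Y.fromSpecResidueField y)
  have hc : IsPullback g' (sm ↑(Y.residueField y) (f.fiber y))
      (sm (Y.presheaf.stalk y) (pullback f (Y.fromSpecStalk y))) gB :=
    IsPullback.of_right hbig hg'2 hsq
  have hφ : ∀ a, φg (Y.presheaf.stalk y) ↑(Y.residueField y) gB a =
      IsLocalRing.residue (Y.presheaf.stalk y) a := fun a =>
    φg_specMap (Y.presheaf.stalk y) ↑(Y.residueField y) (Y.residue y) a
  have hsurjφ : Function.Surjective (φg (Y.presheaf.stalk y) ↑(Y.residueField y) gB) := by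
    intro b
    obtain ⟨a, ha⟩ := IsLocalRing.residue_surjective (show IsLocalRing.ResidueField
      (Y.presheaf.stalk y) from b)
    exact ⟨a, (hφ a).trans ha⟩
  have hker : RingHom.ker (φg (Y.presheaf.stalk y) ↑(Y.residueField y) gB) =
      IsLocalRing.maximalIdeal (Y.presheaf.stalk y) := by
    ext a
    rw [RingHom.mem_ker, hφ]
    exact IsLocalRing.residue_eq_zero_iff a
  have halg : algebraMap ↑(Y.residueField y) Γ(f.fiber y, ⊤) =
      Groth.Agent.Lib.Helper13.CBCSec.φ ↑(Y.residueField y) (⊤ : (f.fiber y).Opens) := by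
    have h7 : (sm ↑(Y.residueField y) (f.fiber y)).appLE ⊤ ⊤ le_top =
        (sm ↑(Y.residueField y) (f.fiber y)).appTop := by
      rw [Scheme.Hom.appTop, Scheme.Hom.app_eq_appLE]
      rfl
    unfold Groth.Agent.Lib.Helper13.CBCSec.φ
    rw [h7]
    rfl
  have hsep : ∀ α : Γ(f.fiber y, ⊤), ∃ P : Polynomial (Y.presheaf.stalk y),
      P.eval₂ ((Groth.Agent.Lib.Helper13.CBCSec.φ ↑(Y.residueField y)
        (⊤ : (f.fiber y).Opens)).comp (φg (Y.presheaf.stalk y) ↑(Y.residueField y) gB)) α = 0 ∧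
      IsUnit ((Polynomial.derivative P).eval₂
        ((Groth.Agent.Lib.Helper13.CBCSec.φ ↑(Y.residueField y)
          (⊤ : (f.fiber y).Opens)).comp
          (φg (Y.presheaf.stalk y) ↑(Y.residueField y) gB)) α) := by
    intro α
    have := het
    obtain ⟨p, hp0, hpu⟩ := Groth.Agent.Lib.Helper13.EtHensel.exists_sep_poly
      ↑(Y.residueField y) Γ(f.fiber y, ⊤) α
    obtain ⟨P, hP⟩ := Polynomial.map_surjective _ hsurjφ p
    refine ⟨P, ?_, ?_⟩
    · rw [← Polynomial.eval₂_map, hP, ← halg]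
      exact hp0
    · rw [← Polynomial.eval₂_map, ← Polynomial.derivative_map, hP, ← halg]
      exact hpu
  have hex := Groth.Agent.Lib.Helper13.CBCEtExact.preserves_of_sep (Y.presheaf.stalk y)
    (pullback f (Y.fromSpecStalk y)) ↑(Y.residueField y) gB g'
    (Groth.Agent.Lib.Helper23.T2.isCoh_structureModule _)
    (isFlatOver_structureModule _) hc hsurjφ hker hsep
  -- transport to `g₁^* O_X` and to `T_0`
  have hm0 : (CohIII.TFun Q (-((0 : ℕ) : ℤ))).PreservesMonomorphisms :=
    (Groth.Agent.Lib.Helper13.CBCTransfer.preservesMono_iff ν0).1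
      ((Functor.PreservesMonomorphisms.iso_iff
        (Groth.Agent.Lib.Helper13.CBCCongr.HAbCongr (Y.presheaf.stalk y)
          (Groth.Agent.Lib.Helper3.PbBasic.pbUnit (pullback.fst f (Y.fromSpecStalk y))) 0)).2
        hex.1)
  have he0 : (CohIII.TFun Q (-((0 : ℕ) : ℤ))).PreservesEpimorphisms :=
    (Groth.Agent.Lib.Helper13.CBCTransfer.preservesEpi_iff ν0).1
      ((Functor.PreservesEpimorphisms.iso_iff
        (Groth.Agent.Lib.Helper13.CBCCongr.HAbCongr (Y.presheaf.stalk y)
          (Groth.Agent.Lib.Helper3.PbBasic.pbUnit (pullback.fst f (Y.fromSpecStalk y))) 0)).2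
        hex.2)
  have hd : IsLocallyConstant (CohIII.dRank Q (-((0 : ℕ) : ℤ))) :=
    (Groth.Agent.S2381.result Q hQ' (-((0 : ℕ) : ℤ))).1 ⟨hm0, he0⟩
  have hrk := fun q' => Groth.Agent.Lib.Helper13.CBCStalk.fiberRank_eq_dRank_of_stalk f y _ hsq
    (Coh.structureModule X) 0 Q ν0 q'
  have hcl := hrk (IsLocalRing.closedPoint (Y.presheaf.stalk y))
  rw [Scheme.fromSpecStalk_closedPoint] at hcl
  have hsp : q ⤳ IsLocalRing.closedPoint (Y.presheaf.stalk y) :=
    IsLocalRing.specializes_closedPoint q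
  have hqc : CohIII.dRank Q (-((0 : ℕ) : ℤ)) q =
      CohIII.dRank Q (-((0 : ℕ) : ℤ)) (IsLocalRing.closedPoint (Y.presheaf.stalk y)) := by
    have hopen := hd.isOpen_fiber (CohIII.dRank Q (-((0 : ℕ) : ℤ))
      (IsLocalRing.closedPoint (Y.presheaf.stalk y)))
    exact hsp.mem_open hopen rfl
  rw [hrk q, hqc, ← hcl]

end Main

end Groth.Agent.Lib.Helper13.CBCEtConst
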