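import Mathlib
import Groth.Agent.Lib.Helper13.CBCEtConst
import Groth.Agent.Lib.Helper13.CBCSeesaw2
import Groth.Agent.Lib.Helper8.ProperAtDvr

/-!
# The seesaw step for flat proper families with integral fibres over an integral base of finite
type over an algebraically closed field
-/

set_option autoImplicit false
set_option linter.style.haveILetI false
universe u
open CategoryTheory CategoryTheory.Limits AlgebraicGeometry TopologicalSpace Opposite
open Scheme.Modules

namespace Groth.Agent.Lib.Helper13.CBCSeesawK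

open Groth.Agent.Lib.Helper3 Groth.Agent.Lib.Helper3.QCSec Groth.Agent.Lib.Helper3.InvGen
  Groth.Agent.Lib.Helper3.PbBasic
open Groth.Agent.Lib.Helper13.CBCSeesaw

section Rank

variable (k : Type u) [Field k] [IsAlgClosed k] {X Y : Scheme.{u}}
  (g : Y ⟶ Spec (CommRingCat.of k)) [LocallyOfFiniteType g] [QuasiCompact g]
  (f : X ⟶ Y) [IsProper f] [Flat f]

include g in
/-- at a closed point the ring of functions of an integral fibre is the residue field. -/
theorem finrank_eq_one_of_isClosed (y : Y) (hy : IsClosed ({y} : Set Y))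
    [IsIntegral (f.fiber y)] :
    Module.finrank (Y.residueField y) Γ(f.fiber y, ⊤) = 1 := by
  let e : Y.residueField y ≅ CommRingCat.of k := residueFieldIsoBase g y hy
  haveI : IsAlgClosed ↑(Y.residueField y) :=
    IsAlgClosed.of_ringEquiv k _ e.symm.commRingCatIsoToRingEquiv
  letI over' : (f.fiber y).Over (Spec (CommRingCat.of ↑(Y.residueField y))) :=
    ⟨f.fiberToSpecResidueField y⟩
  haveI hp : IsProper ((f.fiber y) ↘ Spec (CommRingCat.of ↑(Y.residueField y))) :=
    (inferInstance : IsProper (pullback.snd f (Y.fromSpecResidueField y)))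
  have h1 := Groth.Agent.Lib.Helper23.GeomH0.finrank_H0_eq_one_of_isAlgClosed
    ↑(Y.residueField y) (f.fiber y)
  have e2 : Coh.HH (f.fiber y) (Coh.structureModule (f.fiber y)) 0
      ≃ₗ[↑(Y.residueField y)] Γ(f.fiber y, ⊤) :=
    Groth.Agent.Lib.Helper23.GeomH0.H0structEquiv ↑(Y.residueField y) (f.fiber y)
  have h2 : Module.finrank ↑(Y.residueField y)
      (Coh.HH (f.fiber y) (Coh.structureModule (f.fiber y)) 0) =
      Module.finrank (Y.residueField y) Γ(f.fiber y, ⊤) := e2.finrank_eq
  exact h2.symm.trans h1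

include g in
/-- at every point the ring of functions of the fibre is one-dimensional. -/
theorem finrank_eq_one (hint : ∀ y : Y, IsIntegral (f.fiber y)) (y' : Y) :
    Module.finrank (Y.residueField y') Γ(f.fiber y', ⊤) = 1 := by
  haveI : IsLocallyNoetherian Y := LocallyOfFiniteType.isLocallyNoetherian g
  haveI : CompactSpace Y := QuasiCompact.compactSpace_of_compactSpace g
  obtain ⟨y, hy1, hy2⟩ := IsClosed.exists_closed_singleton (isClosed_closure (s := {y'}))
    ⟨y', subset_closure rfl⟩
  have hsp : y' ⤳ y := specializes_iff_mem_closure.2 hy1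
  have hr : y' ∈ Set.range (Y.fromSpecStalk y) := by
    rw [Scheme.range_fromSpecStalk]
    exact hsp
  obtain ⟨q, hq⟩ := hr
  haveI := hint y
  have h1 := finrank_eq_one_of_isClosed k g f y hy2
  have het : Algebra.Etale (Y.residueField y) Γ(f.fiber y, ⊤) :=
    Algebra.Etale.of_equiv (AlgEquiv.ofBijective (Algebra.ofId _ _)
      (bijective_algebraMap_of_finrank_eq_one _ _ h1))
  have h2 := Groth.Agent.Lib.Helper13.CBCEtConst.fiberRank_const_of_etale f y het q
  rw [hq] at h2
  have h3 := fiberRank_zero_eq_of_iso f y' _ (pbUnit (f.fiberι y'))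
  have h4 := fiberRank_zero_eq_of_iso f y _ (pbUnit (f.fiberι y))
  rw [← h3, h2, h4, h1]

end Rank

section Tensor

variable {X Y : Scheme.{u}} (f : X ⟶ Y)

/-- if `L` and `M` are isomorphic on a fibre, then `M^∨ ⊗ L` is trivial there. -/
noncomputable def fibreTrivIso (y : Y) {L M : X.Modules} (hL : PicF.IsInvertible L)
    (hM : PicF.IsInvertible M)
    (κ : CohB1.tensorMod M (Groth.Agent.Lib.Helper23.Inverse.dual M) ≅ Coh.structureModule X)
    (e : (Scheme.Modules.pullback (f.fiberι y)).obj L ≅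
      (Scheme.Modules.pullback (f.fiberι y)).obj M) :
    CohIII.fiberMod f (CohB1.tensorMod (Groth.Agent.Lib.Helper23.Inverse.dual M) L) y ≅
      Coh.structureModule (f.fiber y) :=
  Groth.Agent.Lib.Helper3.PbTensor.pbTensorIso (f.fiberι y) _ L
      (Groth.Agent.Lib.Helper23.Inverse.isInvertible_dual hM) hL ≪≫
    Groth.Agent.Lib.Helper3.InvMonoidal.tensorMapIso (Iso.refl _) e ≪≫
    Groth.Agent.Lib.Helper3.InvMonoidal.braid _ _ ≪≫
    (Groth.Agent.Lib.Helper3.PbTensor.pbTensorIso (f.fiberι y) M _ hM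
      (Groth.Agent.Lib.Helper23.Inverse.isInvertible_dual hM)).symm ≪≫
    (Scheme.Modules.pullback (f.fiberι y)).mapIso κ ≪≫
    Groth.Agent.Lib.Helper3.PbBasic.pbUnit (f.fiberι y)

/-- `M ⊗ (M^∨ ⊗ L) ≅ L`. -/
noncomputable def cancelIso {L M : X.Modules}
    (κ : CohB1.tensorMod M (Groth.Agent.Lib.Helper23.Inverse.dual M) ≅ Coh.structureModule X) :
    CohB1.tensorMod M (CohB1.tensorMod (Groth.Agent.Lib.Helper23.Inverse.dual M) L) ≅ L :=
  (Groth.Agent.Lib.Helper3.InvMonoidal.assoc M _ L).symm ≪≫
    Groth.Agent.Lib.Helper3.InvMonoidal.tensorMapIso κ (Iso.refl L) ≪≫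
    Groth.Agent.Lib.Helper3.InvMonoidal.unitorL L

end Tensor

section Main

variable (k : Type u) [Field k] [IsAlgClosed k] {X Y : Scheme.{u}}
  (g : Y ⟶ Spec (CommRingCat.of k)) [LocallyOfFiniteType g] [QuasiCompact g] [IsIntegral Y]
  (f : X ⟶ Y) [IsProper f] [Flat f]

include g in
theorem pushforward_invertible_and_counit_isIso (hint : ∀ y : Y, IsIntegral (f.fiber y))
    (E : X.Modules) (hE : PicF.IsInvertible E)
    (htriv : ∀ y : Y, Nonempty ((Scheme.Modules.pullback (f.fiberι y)).obj E ≅
      Coh.structureModule (f.fiber y))) :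
    PicF.IsInvertible ((Scheme.Modules.pushforward f).obj E) ∧
      IsIso ((Scheme.Modules.pullbackPushforwardAdjunction f).counit.app E) := by
  haveI : IsLocallyNoetherian Y := LocallyOfFiniteType.isLocallyNoetherian g
  exact Groth.Agent.Lib.Helper13.CBCSeesaw.pushforward_invertible_and_counit_isIso f
    (finrank_eq_one k g f hint) E hE htriv

include g in
theorem exists_iso_tensor_pullback (hint : ∀ y : Y, IsIntegral (f.fiber y))
    (L M : X.Modules) (hL : PicF.IsInvertible L) (hM : PicF.IsInvertible M)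
    (hLM : ∀ y : Y, Nonempty ((Scheme.Modules.pullback (f.fiberι y)).obj L ≅
      (Scheme.Modules.pullback (f.fiberι y)).obj M)) :
    ∃ E : Y.Modules, PicF.IsInvertible E ∧
      Nonempty (L ≅ CohB1.tensorMod M ((Scheme.Modules.pullback f).obj E)) := by
  obtain ⟨κ⟩ := Groth.Agent.Lib.Helper23.Inverse.tensor_dual_iso hM
  have hM' : PicF.IsInvertible (Groth.Agent.Lib.Helper23.Inverse.dual M) :=
    Groth.Agent.Lib.Helper23.Inverse.isInvertible_dual hM
  have hN : PicF.IsInvertible
      (CohB1.tensorMod (Groth.Agent.Lib.Helper23.Inverse.dual M) L) :=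
    Groth.Agent.Lib.Helper3.InvTensor.isInvertible_tensorMod hM' hL
  have htriv : ∀ y : Y, Nonempty ((Scheme.Modules.pullback (f.fiberι y)).obj
      (CohB1.tensorMod (Groth.Agent.Lib.Helper23.Inverse.dual M) L) ≅
      Coh.structureModule (f.fiber y)) := fun y => by
    obtain ⟨e⟩ := hLM y
    exact ⟨fibreTrivIso f y hL hM κ e⟩
  obtain ⟨hE, hiso⟩ := pushforward_invertible_and_counit_isIso k g f hint _ hN htriv
  haveI := hiso
  refine ⟨_, hE, ⟨(Groth.Agent.Lib.Helper3.InvMonoidal.tensorMapIso (Iso.refl M)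
    (asIso ((Scheme.Modules.pullbackPushforwardAdjunction f).counit.app
      (CohB1.tensorMod (Groth.Agent.Lib.Helper23.Inverse.dual M) L))) ≪≫ cancelIso κ).symm⟩⟩

end Main

end Groth.Agent.Lib.Helper13.CBCSeesawK
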