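import Mathlib
import Groth.Agent.Lib.Helper13.CBCStalk
import Groth.Agent.Lib.Helper13.CBCMain
import Groth.Agent.S2380

/-!
# Upper semicontinuity of `y ↦ dim H^p(X_y, F_y)` over a locally Noetherian base
-/

set_option autoImplicit false
set_option linter.style.haveILetI false
universe u
open CategoryTheory CategoryTheory.Limits AlgebraicGeometry TopologicalSpace Opposite TensorProduct
  MonoidalCategory
open Scheme.Modules

namespace Groth.Agent.Lib.Helper13.CBCUsc

open Groth.Agent.Lib.Helper13.CBCSec Groth.Agent.Lib.Helper13.CBCCech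
  Groth.Agent.Lib.Helper13.CBCUp Groth.Agent.Lib.Helper13.CBCBase
  Groth.Agent.Lib.Helper13.CBCBC Groth.Agent.Lib.Helper13.CBCFib
  Groth.Agent.Lib.Helper13.CBCRank Groth.Agent.Lib.Helper13.CBCStalk
open Groth.Agent.Lib.Helper7

section FibreRank

variable {X Y : Scheme.{u}} (f : X ⟶ Y) (A : Type u) [CommRing A]
  (j : Spec (CommRingCat.of A) ⟶ Y)
  {X₁ : Scheme.{u}} [X₁.Over (Spec (CommRingCat.of A))] (g : X₁ ⟶ X)
  (hsq : IsPullback g (X₁ ↘ Spec (CommRingCat.of A)) f j)

include hsq in
theorem fiberRank_eq_dRank_of_base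
    [IsSeparated (sm A X₁)] [QuasiCompact (sm A X₁)]
    (F : X.Modules) [F.IsQuasicoherent] (p : ℕ)
    (Q : ChainComplex (ModuleCat.{u} A) ℤ)
    (ν : CohIII.tensorAFunctor A ((Scheme.Modules.pullback g).obj F) ⋙
        CohIII.HAb X₁ p ≅
      CohIII.TFun Q (-(p : ℤ)) ⋙ forget₂ (ModuleCat.{u} A) AddCommGrpCat.{u})
    (q : ↥(Spec (CommRingCat.of A)))
    (hρbij : Function.Bijective (j.residueFieldMap q).hom) :
    CohIII.fiberRank f F p (j q) = CohIII.dRank Q (-(p : ℤ)) q := by
  classical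
  haveI hqc1 : ((Scheme.Modules.pullback g).obj F).IsQuasicoherent := qc_F' g F
  obtain ⟨ι, hfin, U, hcov, -, hU⟩ := CBCCover.exists_cover A X₁
  haveI hρ : IsIso (j.residueFieldMap q) :=
    (ConcreteCategory.isIso_iff_bijective _).2 hρbij
  -- the map `Spec κ(y') ⟶ Spec O_{Y,y}`
  let ψ₀ : CommRingCat.of A ⟶
      CommRingCat.of ↑(Y.residueField (j q)) :=
    (CommRingCat.ofHom (algebraMap A q.asIdeal.ResidueField) ≫
      (Scheme.Spec.residueFieldIso (CommRingCat.of A) q).inv) ≫
      inv (j.residueFieldMap q)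
  let gB : Spec (CommRingCat.of ↑(Y.residueField (j q))) ⟶
      Spec (CommRingCat.of A) := Spec.map ψ₀
  have hgB : gB ≫ j = Y.fromSpecResidueField (j q) := by
    have h1 : Spec.map (j.residueFieldMap q) ≫
        Y.fromSpecResidueField (j q) =
        (Spec (CommRingCat.of A)).fromSpecResidueField q ≫
          j :=
      Scheme.Hom.SpecMap_residueFieldMap_fromSpecResidueField j q
    have h2 : gB = Spec.map (inv (j.residueFieldMap q)) ≫
        (Spec (CommRingCat.of A)).fromSpecResidueField q := by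
      show Spec.map ψ₀ = _
      rw [Spec.map_comp]
      congr 1
      rw [Spec.map_comp]
      exact Scheme.Spec.map_residueFieldIso_inv_eq_fromSpecResidueField
        (CommRingCat.of A) q
    rw [h2, Category.assoc, ← h1, ← Category.assoc, ← Spec.map_comp, IsIso.hom_inv_id,
      Spec.map_id]
    exact Category.id_comp _
  letI : (f.fiber (j q)).Over
      (Spec (CommRingCat.of ↑(Y.residueField (j q)))) :=
    ⟨f.fiberToSpecResidueField (j q)⟩
  have hw : f.fiberι (j q) ≫ f =
      (f.fiberToSpecResidueField (j q) ≫ gB) ≫ j := by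
    rw [Category.assoc, hgB]
    exact pullback.condition
  let g' : f.fiber (j q) ⟶ X₁ :=
    hsq.lift (f.fiberι (j q))
      (f.fiberToSpecResidueField (j q) ≫ gB) hw
  have hg'1 : g' ≫ g = f.fiberι (j q) := hsq.lift_fst _ _ _
  have hg'2 : g' ≫ sm A X₁ =
      f.fiberToSpecResidueField (j q) ≫ gB := hsq.lift_snd _ _ _
  have hbig : IsPullback (g' ≫ g) (f.fiberToSpecResidueField (j q)) f
      (gB ≫ j) := by
    rw [hg'1, hgB]
    exact IsPullback.of_hasPullback f (Y.fromSpecResidueField (j q))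
  have hc : IsPullback g'
      (sm ↑(Y.residueField (j q)) (f.fiber (j q)))
      (sm A X₁) gB := IsPullback.of_right hbig hg'2 hsq
  have key := finrank_fibre_eq A ↑(Y.residueField (j q))
    gB g' hc ((Scheme.Modules.pullback g).obj F) U p hcov hU Q ν
    (algebraMap A q.asIdeal.ResidueField)
    ((Scheme.Spec.residueFieldIso (CommRingCat.of A) q).hom.hom.comp
      (j.residueFieldMap q).hom)
    ((Scheme.Spec.residueFieldIso (CommRingCat.of
      A) q).commRingCatIsoToRingEquiv.bijective.comp hρbij)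
    (by
      intro a
      rw [φg_specMap]
      show (Scheme.Spec.residueFieldIso (CommRingCat.of A) q).hom.hom
        ((j.residueFieldMap q).hom
          ((inv (j.residueFieldMap q)).hom
            ((Scheme.Spec.residueFieldIso (CommRingCat.of A) q).inv.hom
              (algebraMap A q.asIdeal.ResidueField a)))) = _
      have e1 : ∀ z, (j.residueFieldMap q).hom
          ((inv (j.residueFieldMap q)).hom z) = z := fun z =>
        congrArg (fun k => k.hom z) (IsIso.inv_hom_id (j.residueFieldMap q))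
      rw [e1]
      exact congrArg (fun k => k.hom (algebraMap A q.asIdeal.ResidueField a))
        (Scheme.Spec.residueFieldIso (CommRingCat.of A) q).inv_hom_id)
    (by
      intro cc
      obtain ⟨t, ht, a, hta⟩ := exists_smul_eq_algebraMap q.asIdeal cc
      refine ⟨t, a, ?_, ?_⟩
      · rw [Ne, Ideal.algebraMap_residueField_eq_zero]
        exact ht
      · rw [← Algebra.smul_def]
        exact hta)
  -- identify the two restrictions to the fibre
  let ε : F' g' ((Scheme.Modules.pullback g).obj F) ≅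
      CohIII.fiberMod f F (j q) :=
    (Scheme.Modules.pullbackComp g' g).app F ≪≫ (Scheme.Modules.pullbackCongr hg'1).app F
  have hε := (HHcongr ↑(Y.residueField (j q)) ε p).finrank_eq
  exact hε.symm.trans key

end FibreRank

section Usc

variable {X Y : Scheme.{u}} (f : X ⟶ Y) [IsProper f] [IsLocallyNoetherian Y]

/-- **Semicontinuity**: `{y | n ≤ dim H^p(X_y, F_y)}` is closed. -/
theorem isClosed_setOf_le_fiberRank (F : X.Modules) (hF : Coh.IsCoh F)
    (hfl : FlatMod.IsFlatOver f F) (p n : ℕ) :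
    IsClosed {y : Y | n ≤ CohIII.fiberRank f F p y} := by
  classical
  rw [← isOpen_compl_iff, isOpen_iff_forall_mem_open]
  intro y hy
  obtain ⟨V, hV, hyV, -⟩ := exists_isAffineOpen_mem_and_subset (x := y) (U := ⊤) trivial
  haveI : IsNoetherianRing Γ(Y, V) := IsLocallyNoetherian.component_noetherian ⟨V, hV⟩
  haveI : F.IsQuasicoherent := hF.1
  let j : Spec (CommRingCat.of Γ(Y, V)) ⟶ Y := hV.fromSpec
  haveI : IsOpenImmersion j := inferInstanceAs (IsOpenImmersion hV.fromSpec)
  letI : (pullback f j).Over (Spec (CommRingCat.of Γ(Y, V))) := ⟨pullback.snd f j⟩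
  have hsq : IsPullback (pullback.fst f j) ((pullback f j) ↘ Spec (CommRingCat.of Γ(Y, V))) f j :=
    IsPullback.of_hasPullback _ _
  haveI : IsProper ((pullback f j) ↘ Spec (CommRingCat.of Γ(Y, V))) :=
    MorphismProperty.of_isPullback hsq ‹IsProper f›
  have hcoh : Coh.IsCoh ((Scheme.Modules.pullback (pullback.fst f j)).obj F) :=
    Groth.Agent.Lib.Helper23.T2.isCoh_pullback _ hF
  haveI : ((Scheme.Modules.pullback (pullback.fst f j)).obj F).IsQuasicoherent := hcoh.1
  have hfl1 : FlatMod.IsFlatOver ((pullback f j) ↘ Spec (CommRingCat.of Γ(Y, V)))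
      ((Scheme.Modules.pullback (pullback.fst f j)).obj F) := fun x' =>
    Groth.Agent.Lib.Helper17.FibreFlat.isFlatOverAt_baseChange hsq F x' (hfl _)
  obtain ⟨Q, hQ, hb, hpos, hν⟩ := Groth.Agent.Lib.Helper13.CBCMain.bridge Γ(Y, V)
    (pullback f j) _ hcoh hfl1
  obtain ⟨ν⟩ := hν p
  have hQ' : ∀ i, Module.Finite Γ(Y, V) (Q.X i) ∧ Module.Flat Γ(Y, V) (Q.X i) := fun i =>
    ⟨(hQ i).1, haveI := (hQ i).2; inferInstance⟩
  have husc := Groth.Agent.S2380.result Q hQ' (-(p : ℤ))
  have hrk : ∀ q : ↥(Spec (CommRingCat.of Γ(Y, V))),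
      CohIII.fiberRank f F p (j q) = CohIII.dRank Q (-(p : ℤ)) q := fun q =>
    fiberRank_eq_dRank_of_base f Γ(Y, V) j _ hsq F p Q ν q
      (ConcreteCategory.bijective_of_isIso (j.residueFieldMap q))
  have hopen : IsOpen {q : ↥(Spec (CommRingCat.of Γ(Y, V))) |
      CohIII.dRank Q (-(p : ℤ)) q < n} :=
    (upperSemicontinuous_iff_isOpen_preimage.1 husc) n
  refine ⟨j '' {q | CohIII.dRank Q (-(p : ℤ)) q < n}, ?_,
    j.isOpenEmbedding.isOpenMap _ hopen, ?_⟩
  · rintro _ ⟨q, hq, rfl⟩
    show ¬ (n ≤ CohIII.fiberRank f F p (j q))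
    rw [hrk q]
    exact not_le.2 hq
  · obtain ⟨q, hq⟩ : y ∈ Set.range j := by
      show y ∈ Set.range hV.fromSpec
      rw [hV.range_fromSpec]
      exact hyV
    refine ⟨q, ?_, hq⟩
    show CohIII.dRank Q (-(p : ℤ)) q < n
    rw [← hrk q, hq]
    exact not_le.1 hy

end Usc

end Groth.Agent.Lib.Helper13.CBCUsc
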