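import Mathlib
import Groth.Agent.Lib.Helper23.GammaField
import Groth.Agent.Lib.Helper23.CurveC
import Groth.Agent.Lib.Helper23.Inverse
import Groth.Agent.Lib.Helper23.GeomH0
import Groth.Agent.Lib.Helper23.T2N
import Groth.Agent.Lib.Helper3.InvTensor
import Groth.Agent.Lib.Helper3.TwistMul
import Groth.Agent.Lib.Helper3.InvMonoidal
import Groth.Agent.Lib.Helper3.PbTensor
import Groth.Agent.Lib.Helper3.InvAmple
import Groth.Agent.Lib.Helper13.CBCUsc
import Groth.Agent.Lib.Helper13.CBCSeesaw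

/-!
# The locus where an invertible sheaf is trivial on the fibre is closed (integral fibres)
-/

set_option autoImplicit false
set_option linter.style.haveILetI false
universe u
open CategoryTheory CategoryTheory.Limits AlgebraicGeometry

namespace Groth.Agent.Lib.Helper13.CBCTrivLocus

open Groth.Agent.Lib.Helper3 Groth.Agent.Lib.Helper3.QCSec Groth.Agent.Lib.Helper3.InvGen
  Groth.Agent.Lib.Helper3.InvTensor

/-- On an integral scheme proper over a field, if `L ⊗ M ≅ O` and both `L` and `M` have a nonzero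
global section then `L ≅ O`. -/
theorem iso_of_sections_pair (k : Type u) [Field k] (X : Scheme.{u})
    [X.Over (Spec (CommRingCat.of k))]
    [IsIntegral X] [IsProper (X ↘ (Spec (CommRingCat.of k)))]
    (L M : X.Modules) (hL : PicF.IsInvertible L) (hM : PicF.IsInvertible M)
    (hLM : ClSub.IsInverseOf L M)
    (s : Coh.structureModule X ⟶ L) (hs : s ≠ 0) (t : Coh.structureModule X ⟶ M) (ht : t ≠ 0) :
    Nonempty (L ≅ Coh.structureModule X) := by
  classical
  obtain ⟨φ⟩ := hLM
  have hO := Groth.Agent.Lib.Helper3.InvGen.isInvertible_structureModule X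
  haveI hms : Mono s := Groth.Agent.Lib.Helper23.Curve.mono_of_ne_zero hO hL s hs
  haveI hmt : Mono t := Groth.Agent.Lib.Helper23.Curve.mono_of_ne_zero hO hM t ht
  have hf : IsField Γ(X, ⊤) := Groth.Agent.Lib.Helper23.GammaField.isField_gamma k X
  -- nonvanishing of sections on nonempty opens
  have hsec_ne : ∀ {N : X.Modules} (v : Coh.structureModule X ⟶ N) [Mono v] (U : X.Opens),
      (U : Set X).Nonempty → sec v U ≠ 0 := by
    intro N v _ U hU h0
    obtain ⟨y, hy⟩ := hU
    haveI : Nonempty U := ⟨⟨y, hy⟩⟩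
    haveI : Nontrivial Γ(X, U) := Scheme.component_nontrivial X U
    have h1 : v.app U (ofFun U 1) = (1 : Γ(X, U)) • sec v U := app_eq_smul_sec v U 1
    rw [h0, smul_zero] at h1
    have h2 : v.app U (ofFun U 1) = v.app U 0 := by rw [h1, QCExact.app_zero]
    have h3 := QCExact.injective_sections v U h2
    exact (one_ne_zero (α := Γ(X, U))) (ofFun_injective U h3)
  -- the global function
  let ω : Γ(Coh.structureModule X, ⊤) := φ.hom.app ⊤ (tm L M ⊤ (sec s ⊤) (sec t ⊤))
  let f : Γ(X, ⊤) := toFun ⊤ ω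
  -- local description
  have key : ∀ x : X, ∃ (U : X.Opens) (e : Γ(L, U)) (a c : Γ(X, U)), x ∈ U ∧ IsGen L U e ∧
      sec s U = a • e ∧ rres X (le_top : U ≤ ⊤) f = a * c ∧ a ≠ 0 ∧ c ≠ 0 := by
    intro x
    obtain ⟨U₁, e₁, _, hx₁, hg₁⟩ := exists_affine_isGen hL x
    obtain ⟨U, e', _, hxU, hUU₁, hg'⟩ := exists_affine_isGen_le hM x U₁ hx₁
    have hg : IsGen L U (res L hUU₁ e₁) := hg₁.mono hUU₁
    haveI : Nonempty U := ⟨⟨x, hxU⟩⟩
    haveI : IsDomain Γ(X, U) := IsIntegral.component_integral (X := X) U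
    obtain ⟨a, ha⟩ := hg.self.exists_coord (sec s U)
    obtain ⟨b, hb⟩ := hg'.self.exists_coord (sec t U)
    have hgt : IsGenAt (CohB1.tensorMod L M) U (tm L M U (res L hUU₁ e₁) e') :=
      (isGen_tm hg hg').self
    -- the image of the generator under `φ`
    have hbij : Function.Bijective (φ.hom.app U) := by
      constructor
      · intro p q hpq
        have h1 : φ.inv.app U (φ.hom.app U p) = p :=
          congrArg (fun ψ : CohB1.tensorMod L M ⟶ CohB1.tensorMod L M =>
            Scheme.Modules.Hom.app ψ U p) φ.hom_inv_id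
        have h2 : φ.inv.app U (φ.hom.app U q) = q :=
          congrArg (fun ψ : CohB1.tensorMod L M ⟶ CohB1.tensorMod L M =>
            Scheme.Modules.Hom.app ψ U q) φ.hom_inv_id
        rw [← h1, ← h2, hpq]
      · intro q
        refine ⟨φ.inv.app U q, ?_⟩
        exact congrArg (fun ψ : Coh.structureModule X ⟶ Coh.structureModule X =>
            Scheme.Modules.Hom.app ψ U q) φ.inv_hom_id
    have hφg : IsGenAt (Coh.structureModule X) U
        (φ.hom.app U (tm L M U (res L hUU₁ e₁) e')) := by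
      have : (fun r : Γ(X, U) => r • φ.hom.app U (tm L M U (res L hUU₁ e₁) e')) =
          (φ.hom.app U) ∘ (fun r : Γ(X, U) => r • tm L M U (res L hUU₁ e₁) e') := by
        funext r
        exact (Scheme.Modules.Hom.app_smul φ.hom r _).symm
      unfold IsGenAt
      rw [this]
      exact hbij.comp hgt
    obtain ⟨u, hu, hu'⟩ := (isGenAt_one (X := X) U).exists_unit hφg
    refine ⟨U, res L hUU₁ e₁, a, b * u, hxU, hg, ha.symm, ?_, ?_, ?_⟩
    · -- computation of the restriction of `f`
      have h1 : res (Coh.structureModule X) (le_top : U ≤ ⊤) ω =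
          φ.hom.app U (tm L M U (sec s U) (sec t U)) := by
        show res (Coh.structureModule X) (le_top : U ≤ ⊤)
          (φ.hom.app ⊤ (tm L M ⊤ (sec s ⊤) (sec t ⊤))) = _
        rw [← QCExact.app_res', tm_res, res_sec, res_sec]
      have h2 : φ.hom.app U (tm L M U (sec s U) (sec t U)) = ofFun U (a * (b * u)) := by
        rw [← ha, ← hb, tm_smul_left, tm_smul_right, Scheme.Modules.Hom.app_smul,
          Scheme.Modules.Hom.app_smul, hu', smul_ofFun, smul_ofFun, smul_ofFun, mul_one]
      have h3 : rres X (le_top : U ≤ ⊤) f = toFun U (res (Coh.structureModule X)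
          (le_top : U ≤ ⊤) ω) := rfl
      rw [h3, h1, h2]
      rfl
    · intro ha0
      apply hsec_ne s U ⟨x, hxU⟩
      rw [← ha, ha0, zero_smul]
    · intro hc0
      have hb0 : b = 0 := by
        rcases mul_eq_zero.mp hc0 with h | h
        · exact h
        · exact absurd h hu.ne_zero
      apply hsec_ne t U ⟨x, hxU⟩
      rw [← hb, hb0, zero_smul]
  -- `f` is a unit
  have hfne : f ≠ 0 := by
    obtain ⟨x₀⟩ := (inferInstance : Nonempty X)
    obtain ⟨U, e, a, c, hxU, _, _, hfac, ha, hc⟩ := key x₀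
    haveI : Nonempty U := ⟨⟨x₀, hxU⟩⟩
    haveI : IsDomain Γ(X, U) := IsIntegral.component_integral (X := X) U
    intro h0
    rw [h0] at hfac
    have : rres X (le_top : U ≤ ⊤) (0 : Γ(X, ⊤)) = 0 := map_zero _
    rw [this] at hfac
    exact mul_ne_zero ha hc hfac.symm
  have hfu : IsUnit f := by
    letI := hf.toField
    exact isUnit_iff_ne_zero.mpr hfne
  -- `s` generates `L`
  have hgen : IsGen L ⊤ (sec s ⊤) := by
    apply isGen_of_local
    intro x _
    obtain ⟨U, e, a, c, hxU, hg, hsa, hfac, _, _⟩ := key x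
    refine ⟨U, le_top, hxU, ?_⟩
    rw [res_sec, hsa]
    apply hg.smul_unit
    have h1 : IsUnit (rres X (le_top : U ≤ ⊤) f) := rres_isUnit _ hfu
    rw [hfac] at h1
    exact isUnit_of_mul_isUnit_left h1
  haveI : IsIso s := by
    apply Groth.Agent.Lib.Helper3.TwistMul.isIso_of_locally_bijective s
    intro x
    refine ⟨⊤, trivial, fun V _ => ?_⟩
    rw [bijective_app_iff]
    have := hgen V le_top
    rwa [res_sec] at this
  exact ⟨(asIso s).symm⟩

section Fibre

variable {X Y : Scheme.{u}} (f : X ⟶ Y) [IsProper f]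

/-- a nonzero class in `H⁰` gives a nonzero morphism from the structure sheaf. -/
lemma exists_hom_ne_zero {Z : Scheme.{u}} (N : Z.Modules) (h : Nontrivial (Coh.HH Z N 0)) :
    ∃ s : Coh.structureModule Z ⟶ N, s ≠ 0 := by
  obtain ⟨x, hx⟩ := exists_ne (0 : Coh.HH Z N 0)
  let σ : Γ(N, ⊤) := Groth.Agent.Lib.Helper23.T2.H0equiv N x
  have hσ : σ ≠ 0 := fun h0 => hx ((Groth.Agent.Lib.Helper23.T2.H0equiv N).injective
    (h0.trans (map_zero _).symm))
  refine ⟨InvAmple.globalHom N σ, fun h0 => hσ ?_⟩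
  have h1 := InvAmple.sec_globalHom N σ ⊤
  rw [res_self, h0] at h1
  rw [← h1]
  show (0 : Coh.structureModule Z ⟶ N).app ⊤ (ofFun ⊤ 1) = 0
  rw [Scheme.Modules.Hom.zero_app]
  rfl

/-- pointwise criterion: on an integral fibre, `L_y` is trivial iff both `L_y` and `M_y` have
sections, `M` an inverse of `L`. -/
theorem trivial_iff_ranks (y : Y) [IsIntegral (f.fiber y)] (L M : X.Modules)
    (hL : PicF.IsInvertible L) (hM : PicF.IsInvertible M)
    (φLM : CohB1.tensorMod L M ≅ Coh.structureModule X) :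
    Nonempty (CohIII.fiberMod f L y ≅ Coh.structureModule (f.fiber y)) ↔
      1 ≤ CohIII.fiberRank f L 0 y ∧ 1 ≤ CohIII.fiberRank f M 0 y := by
  letI over' : (f.fiber y).Over (Spec (CommRingCat.of ↑(Y.residueField y))) :=
    ⟨f.fiberToSpecResidueField y⟩
  haveI hp : IsProper ((f.fiber y) ↘ Spec (CommRingCat.of ↑(Y.residueField y))) :=
    (inferInstance : IsProper (pullback.snd f (Y.fromSpecResidueField y)))
  have hLy := PbBasic.isInvertible_pullback (f.fiberι y) hL
  have hMy := PbBasic.isInvertible_pullback (f.fiberι y) hM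
  let φy : CohB1.tensorMod (CohIII.fiberMod f L y) (CohIII.fiberMod f M y) ≅
      Coh.structureModule (f.fiber y) :=
    (PbTensor.pbTensorIso (f.fiberι y) L M hL hM).symm ≪≫
      (Scheme.Modules.pullback (f.fiberι y)).mapIso φLM ≪≫ PbBasic.pbUnit (f.fiberι y)
  -- positivity of `h⁰(O)`
  have hpos : 1 ≤ Module.finrank (Y.residueField y) Γ(f.fiber y, ⊤) := by
    have e2 : Coh.HH (f.fiber y) (Coh.structureModule (f.fiber y)) 0
        ≃ₗ[↑(Y.residueField y)] Γ(f.fiber y, ⊤) :=
      Groth.Agent.Lib.Helper23.GeomH0.H0structEquiv ↑(Y.residueField y) (f.fiber y)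
    haveI : Module.Finite ↑(Y.residueField y)
        (Coh.HH (f.fiber y) (Coh.structureModule (f.fiber y)) 0) :=
      Groth.Agent.Lib.Helper23.T2.finite_HH ↑(Y.residueField y) _
        (Groth.Agent.Lib.Helper23.T2.isCoh_structureModule (f.fiber y)) 0
    haveI : Module.Finite ↑(Y.residueField y) Γ(f.fiber y, ⊤) := Module.Finite.equiv e2
    obtain ⟨x₀⟩ := (inferInstance : Nonempty ↥(f.fiber y))
    haveI : Nonempty (⊤ : (f.fiber y).Opens) := ⟨⟨x₀, trivial⟩⟩
    haveI : Nontrivial Γ(f.fiber y, ⊤) := Scheme.component_nontrivial (f.fiber y) ⊤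
    exact Module.finrank_pos
  constructor
  · rintro ⟨ε⟩
    let εM : CohIII.fiberMod f M y ≅ Coh.structureModule (f.fiber y) :=
      (InvMonoidal.unitorL (CohIII.fiberMod f M y)).symm ≪≫
        InvMonoidal.tensorMapIso ε.symm (Iso.refl _) ≪≫ φy
    refine ⟨?_, ?_⟩
    · rw [Groth.Agent.Lib.Helper13.CBCSeesaw.fiberRank_zero_eq_of_iso f y L ε]
      exact hpos
    · rw [Groth.Agent.Lib.Helper13.CBCSeesaw.fiberRank_zero_eq_of_iso f y M εM]
      exact hpos
  · rintro ⟨h1, h2⟩
    have n1 : Nontrivial (CohIII.fiberH f L y 0) :=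
      Module.nontrivial_of_finrank_pos (R := ↑(Y.residueField y)) (Nat.lt_of_lt_of_le one_pos h1)
    have n2 : Nontrivial (CohIII.fiberH f M y 0) :=
      Module.nontrivial_of_finrank_pos (R := ↑(Y.residueField y)) (Nat.lt_of_lt_of_le one_pos h2)
    obtain ⟨s, hs⟩ := exists_hom_ne_zero (CohIII.fiberMod f L y) n1
    obtain ⟨t, ht⟩ := exists_hom_ne_zero (CohIII.fiberMod f M y) n2
    exact iso_of_sections_pair ↑(Y.residueField y) (f.fiber y) _ _ hLy hMy ⟨φy⟩ s hs t ht

end Fibre

section Closed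

variable {X Y : Scheme.{u}} (f : X ⟶ Y) [IsProper f] [Flat f] [IsLocallyNoetherian Y]

/-- **The trivial locus is closed.** -/
theorem isClosed_trivLocus (hint : ∀ y : Y, IsIntegral (f.fiber y)) (L : X.Modules)
    (hL : PicF.IsInvertible L) :
    IsClosed {y : Y | Nonempty (CohIII.fiberMod f L y ≅ Coh.structureModule (f.fiber y))} := by
  obtain ⟨M, hM, ⟨φLM⟩⟩ := Groth.Agent.Lib.Helper23.Inverse.exists_isInverseOf hL
  have hcohL : Coh.IsCoh L := ⟨InvCoh.isQuasicoherent_of_isInvertible hL,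
    InvCoh.isFiniteType_of_isInvertible hL⟩
  have hcohM : Coh.IsCoh M := ⟨InvCoh.isQuasicoherent_of_isInvertible hM,
    InvCoh.isFiniteType_of_isInvertible hM⟩
  have hA := Groth.Agent.Lib.Helper13.CBCUsc.isClosed_setOf_le_fiberRank f L hcohL
    (Groth.Agent.Lib.Helper13.CBCSeesaw.isFlatOver_of_isInvertible f hL) 0 1
  have hB := Groth.Agent.Lib.Helper13.CBCUsc.isClosed_setOf_le_fiberRank f M hcohM
    (Groth.Agent.Lib.Helper13.CBCSeesaw.isFlatOver_of_isInvertible f hM) 0 1
  have hset : {y : Y | Nonempty (CohIII.fiberMod f L y ≅ Coh.structureModule (f.fiber y))} =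
      {y : Y | 1 ≤ CohIII.fiberRank f L 0 y} ∩ {y : Y | 1 ≤ CohIII.fiberRank f M 0 y} := by
    ext y
    haveI := hint y
    exact trivial_iff_ranks f y L M hL hM φLM
  rw [hset]
  exact hA.inter hB

end Closed

end Groth.Agent.Lib.Helper13.CBCTrivLocus
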