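import Mathlib
import Groth.Agent.Lib.Helper13.CBCSeesawK
import Groth.Agent.Lib.Helper13.CBCTrivLocus
import Groth.Agent.S1536

/-!
# The seesaw step for proper flat families with geometrically integral fibres
-/

set_option autoImplicit false
set_option linter.style.haveILetI false
universe u
open CategoryTheory CategoryTheory.Limits AlgebraicGeometry TopologicalSpace Opposite
open Scheme.Modules

namespace Groth.Agent.Lib.Helper13.CBCSeesawG

open Groth.Agent.Lib.Helper13.CBCSeesaw Groth.Agent.Lib.Helper13.CBCSeesawK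

lemma geometricallyConnected_of_geometricallyIrreducible {X S : Scheme.{u}} (f : X ⟶ S)
    [GeometricallyIrreducible f] : GeometricallyConnected f :=
  ⟨fun K _ y Z fst snd h => by
    haveI : IrreducibleSpace Z :=
      GeometricallyIrreducible.geometrically_irreducibleSpace (f := f) y fst snd h
    infer_instance⟩

/-- `h⁰(X_y, O) = 1` for proper morphisms with geometrically integral fibres. -/
theorem finrank_eq_one {X Y : Scheme.{u}} (f : X ⟶ Y) [IsProper f] [GeometricallyIntegral f]
    (y : Y) : Module.finrank (Y.residueField y) Γ(f.fiber y, ⊤) = 1 := by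
  letI over' : (f.fiber y).Over (Spec (CommRingCat.of ↑(Y.residueField y))) :=
    ⟨f.fiberToSpecResidueField y⟩
  haveI : IsProper ((f.fiber y) ↘ Spec (CommRingCat.of ↑(Y.residueField y))) :=
    (inferInstance : IsProper (pullback.snd f (Y.fromSpecResidueField y)))
  haveI : GeometricallyIntegral ((f.fiber y) ↘ Spec (CommRingCat.of ↑(Y.residueField y))) :=
    (inferInstance : GeometricallyIntegral (f.fiberToSpecResidueField y))
  haveI : GeometricallyReduced ((f.fiber y) ↘ Spec (CommRingCat.of ↑(Y.residueField y))) :=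
    inferInstance
  haveI : GeometricallyConnected ((f.fiber y) ↘ Spec (CommRingCat.of ↑(Y.residueField y))) :=
    geometricallyConnected_of_geometricallyIrreducible _
  have h1 := Groth.Agent.S1536.result ↑(Y.residueField y) (f.fiber y)
  have e2 : Coh.HH (f.fiber y) (Coh.structureModule (f.fiber y)) 0
      ≃ₗ[↑(Y.residueField y)] Γ(f.fiber y, ⊤) :=
    Groth.Agent.Lib.Helper23.GeomH0.H0structEquiv ↑(Y.residueField y) (f.fiber y)
  exact e2.finrank_eq.symm.trans h1

/-- the seesaw step: an invertible sheaf trivial on all fibres descends. -/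
theorem exists_iso_tensor_pullback {X Y : Scheme.{u}} (f : X ⟶ Y) [IsProper f] [Flat f]
    [IsLocallyNoetherian Y] [IsReduced Y]
    (h0 : ∀ y : Y, Module.finrank (Y.residueField y) Γ(f.fiber y, ⊤) = 1)
    (L M : X.Modules) (hL : PicF.IsInvertible L) (hM : PicF.IsInvertible M)
    (htriv : ∀ y : Y, Nonempty ((Scheme.Modules.pullback (f.fiberι y)).obj
      (CohB1.tensorMod (Groth.Agent.Lib.Helper23.Inverse.dual M) L) ≅
      Coh.structureModule (f.fiber y))) :
    ∃ E : Y.Modules, PicF.IsInvertible E ∧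
      Nonempty (L ≅ CohB1.tensorMod M ((Scheme.Modules.pullback f).obj E)) := by
  obtain ⟨κ⟩ := Groth.Agent.Lib.Helper23.Inverse.tensor_dual_iso hM
  have hM' : PicF.IsInvertible (Groth.Agent.Lib.Helper23.Inverse.dual M) :=
    Groth.Agent.Lib.Helper23.Inverse.isInvertible_dual hM
  have hN : PicF.IsInvertible
      (CohB1.tensorMod (Groth.Agent.Lib.Helper23.Inverse.dual M) L) :=
    Groth.Agent.Lib.Helper3.InvTensor.isInvertible_tensorMod hM' hL
  obtain ⟨hE, hiso⟩ := Groth.Agent.Lib.Helper13.CBCSeesaw.pushforward_invertible_and_counit_isIso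
    f h0 _ hN htriv
  haveI := hiso
  refine ⟨_, hE, ⟨(Groth.Agent.Lib.Helper3.InvMonoidal.tensorMapIso (Iso.refl M)
    (asIso ((Scheme.Modules.pullbackPushforwardAdjunction f).counit.app
      (CohB1.tensorMod (Groth.Agent.Lib.Helper23.Inverse.dual M) L))) ≪≫ cancelIso κ).symm⟩⟩

/-- seesaw over a Jacobson base: it suffices to compare `L` and `M` on the fibres over closed
points. -/
theorem exists_iso_tensor_pullback_of_closedPoints {X Y : Scheme.{u}} (f : X ⟶ Y) [IsProper f]
    [Flat f] [GeometricallyIntegral f] [IsLocallyNoetherian Y] [IsReduced Y] [JacobsonSpace Y]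
    (L M : X.Modules) (hL : PicF.IsInvertible L) (hM : PicF.IsInvertible M)
    (h : ∀ y : Y, IsClosed ({y} : Set Y) →
      Nonempty ((Scheme.Modules.pullback (f.fiberι y)).obj L ≅
        (Scheme.Modules.pullback (f.fiberι y)).obj M)) :
    ∃ E : Y.Modules, PicF.IsInvertible E ∧
      Nonempty (L ≅ CohB1.tensorMod M ((Scheme.Modules.pullback f).obj E)) := by
  obtain ⟨κ⟩ := Groth.Agent.Lib.Helper23.Inverse.tensor_dual_iso hM
  have hM' : PicF.IsInvertible (Groth.Agent.Lib.Helper23.Inverse.dual M) :=
    Groth.Agent.Lib.Helper23.Inverse.isInvertible_dual hM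
  have hN : PicF.IsInvertible
      (CohB1.tensorMod (Groth.Agent.Lib.Helper23.Inverse.dual M) L) :=
    Groth.Agent.Lib.Helper3.InvTensor.isInvertible_tensorMod hM' hL
  have hcl := Groth.Agent.Lib.Helper13.CBCTrivLocus.isClosed_trivLocus f
    (fun y => inferInstance) _ hN
  refine exists_iso_tensor_pullback f (finrank_eq_one f) L M hL hM (fun y₀ => ?_)
  by_contra hy₀
  obtain ⟨y, hyZ, hycl⟩ := nonempty_inter_closedPoints
    (Z := {y : Y | Nonempty (CohIII.fiberMod f
      (CohB1.tensorMod (Groth.Agent.Lib.Helper23.Inverse.dual M) L) y ≅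
      Coh.structureModule (f.fiber y))}ᶜ) ⟨y₀, hy₀⟩ hcl.isOpen_compl.isLocallyClosed
  obtain ⟨e⟩ := h y hycl
  exact hyZ ⟨fibreTrivIso f y hL hM κ e⟩

end Groth.Agent.Lib.Helper13.CBCSeesawG
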