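import Mathlib
import Groth.Prelude
import Groth.Agent.Lib.Helper13.CBCSeesawG
import Groth.Agent.Lib.Helper13.CBCSeesaw2
import Groth.Agent.Lib.Helper11.KPts
import Groth.Agent.Lib.Helper3.PbTensor
import Groth.Agent.Lib.Helper3.InvMonoidal

/-!
# Translation invariant invertible modules on abelian varieties

`L` translation invariant `↔ m^*L ≅ p₁^*L ⊗ p₂^*L` (over an algebraically closed field).
-/

set_option autoImplicit false
set_option linter.style.haveILetI false
universe u
open CategoryTheory CategoryTheory.Limits AlgebraicGeometry TopologicalSpace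
open MonoidalCategory CartesianMonoidalCategory MonObj GrpObj

namespace Groth.Agent.Lib.Helper13.AbVarSq

open Groth.Agent.Lib.Helper3.PbBasic Groth.Agent.Lib.Helper3.PbTensor
  Groth.Agent.Lib.Helper3.InvMonoidal

/-- `f^* g^* N ≅ h^* N` when `f ≫ g = h`. -/
noncomputable def pbCompIso {X Y Z : Scheme.{u}} (f : X ⟶ Y) (g : Y ⟶ Z) (h : X ⟶ Z)
    (w : f ≫ g = h) (N : Z.Modules) :
    (Scheme.Modules.pullback f).obj ((Scheme.Modules.pullback g).obj N) ≅
      (Scheme.Modules.pullback h).obj N :=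
  (Scheme.Modules.pullbackComp f g).app N ≪≫ (Scheme.Modules.pullbackCongr w).app N

/-- transport an isomorphism of pullbacks along a factorisation. -/
noncomputable def isoOfFactor {X Y Z : Scheme.{u}} (i0 : Z ⟶ Y) (θ : Z ⟶ X) (j : X ⟶ Y)
    (h : θ ≫ j = i0) {N₁ N₂ : Y.Modules}
    (e : (Scheme.Modules.pullback j).obj N₁ ≅ (Scheme.Modules.pullback j).obj N₂) :
    (Scheme.Modules.pullback i0).obj N₁ ≅ (Scheme.Modules.pullback i0).obj N₂ :=
  (pbCompIso θ j i0 h N₁).symm ≪≫ (Scheme.Modules.pullback θ).mapIso e ≪≫ pbCompIso θ j i0 h N₂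

variable {K : Type u} [Field K]

/-- the pullback of an invertible module along a constant map is trivial. -/
theorem const_pullback_trivial {T A : Over (Spec (CommRingCat.of K))}
    (a : 𝟙_ (Over (Spec (CommRingCat.of K))) ⟶ A) (L : A.left.Modules)
    (hL : PicF.IsInvertible L) :
    Nonempty ((Scheme.Modules.pullback (toUnit T ≫ a).left).obj L ≅
      Coh.structureModule T.left) := by
  haveI : Unique ↥(Spec (CommRingCat.of K)) := inferInstanceAs (Unique (PrimeSpectrum K))
  obtain ⟨τ⟩ := Groth.Agent.Lib.Helper13.CBCSeesaw.iso_structureModule_of_unique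
    (Spec (CommRingCat.of K)) ((Scheme.Modules.pullback a.left).obj L)
    (isInvertible_pullback _ hL)
  exact ⟨(pbCompIso T.hom a.left (toUnit T ≫ a).left rfl L).symm ≪≫
    (Scheme.Modules.pullback T.hom).mapIso τ ≪≫ pbUnit T.hom⟩

variable (A : Over (Spec (CommRingCat.of K))) [GrpObj A]

/-- `(⇐)`: if `m^*L ≅ p₁^*L ⊗ p₂^*L` then `L` is translation invariant. -/
theorem translate_iso_of_mul_iso (L : A.left.Modules) (hL : PicF.IsInvertible L)
    (e : (Scheme.Modules.pullback (fst A A * snd A A).left).obj L ≅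
      CohB1.tensorMod ((Scheme.Modules.pullback (fst A A).left).obj L)
        ((Scheme.Modules.pullback (snd A A).left).obj L))
    (a : 𝟙_ (Over (Spec (CommRingCat.of K))) ⟶ A) :
    Nonempty ((Scheme.Modules.pullback ((𝟙 A * (toUnit A ≫ a))).left).obj L ≅ L) := by
  let j : A ⟶ A ⊗ A := lift (𝟙 A) (toUnit A ≫ a)
  have hj : j ≫ (fst A A * snd A A) = 𝟙 A * (toUnit A ≫ a) := by
    rw [MonObj.comp_mul]
    congr 1
    · exact lift_fst _ _
    · exact lift_snd _ _
  have w0 : j.left ≫ (fst A A * snd A A).left = (𝟙 A * (toUnit A ≫ a)).left :=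
    congrArg CommaMorphism.left hj
  have w1 : j.left ≫ (fst A A).left = 𝟙 A.left :=
    congrArg CommaMorphism.left (show j ≫ fst A A = 𝟙 A from lift_fst _ _)
  have w2 : j.left ≫ (snd A A).left = (toUnit A ≫ a).left :=
    congrArg CommaMorphism.left (show j ≫ snd A A = toUnit A ≫ a from lift_snd _ _)
  obtain ⟨τ⟩ := const_pullback_trivial (T := A) a L hL
  exact ⟨(pbCompIso j.left _ _ w0 L).symm ≪≫ (Scheme.Modules.pullback j.left).mapIso e ≪≫
    pbTensorIso j.left _ _ (isInvertible_pullback _ hL) (isInvertible_pullback _ hL) ≪≫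
    tensorMapIso (pbCompIso j.left _ _ w1 L ≪≫ (Scheme.Modules.pullbackId A.left).app L)
      (pbCompIso j.left _ _ w2 L ≪≫ τ) ≪≫ SecTwist.unitorR L⟩

end Groth.Agent.Lib.Helper13.AbVarSq
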