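import Mathlib
import Groth.Prelude
import Groth.Agent.Lib.Helper13.AbVarSq
import Groth.Agent.Lib.Helper23.Inverse
import Groth.Agent.Lib.Helper3.InvAmple

/-!
# The commutative monoid of isomorphism classes of modules, and pullback of classes
-/

set_option autoImplicit false
set_option linter.style.haveILetI false
universe u
open CategoryTheory CategoryTheory.Limits AlgebraicGeometry
open MonoidalCategory CartesianMonoidalCategory MonObj GrpObj

namespace Groth.Agent.Lib.Helper13.ClMon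

open Groth.Agent.Lib.Helper3.PbBasic Groth.Agent.Lib.Helper3.PbTensor
  Groth.Agent.Lib.Helper3.InvMonoidal Groth.Agent.Lib.Helper13.AbVarSq

/-- isomorphism classes of modules form a commutative monoid under the tensor product. -/
noncomputable instance instCommMonoidCl (Y : Scheme.{u}) : CommMonoid (PicF.Cl Y) where
  mul := PicGrp.mulCl
  one := PicF.cl (Coh.structureModule Y)
  mul_assoc := by
    rintro ⟨L⟩ ⟨M⟩ ⟨N⟩
    exact Quot.sound ⟨assoc L M N⟩
  one_mul := by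
    rintro ⟨L⟩
    exact Quot.sound ⟨unitorL L⟩
  mul_one := by
    rintro ⟨L⟩
    exact Quot.sound ⟨SecTwist.unitorR L⟩
  mul_comm := by
    rintro ⟨L⟩ ⟨M⟩
    exact Quot.sound ⟨braid L M⟩

variable {X Y Z : Scheme.{u}}

theorem cl_mul (L M : Y.Modules) :
    PicF.cl L * PicF.cl M = PicF.cl (CohB1.tensorMod L M) := rfl

theorem one_def : (1 : PicF.Cl Y) = PicF.cl (Coh.structureModule Y) := rfl

theorem cl_eq_iff (L M : Y.Modules) : PicF.cl L = PicF.cl M ↔ Nonempty (L ≅ M) :=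
  PicGrp.cl_eq_cl_iff L M

theorem isInvCl_cl {L : Y.Modules} (hL : PicF.IsInvertible L) :
    PicF.IsInvertibleCl (PicF.cl L) := ⟨L, rfl, hL⟩

theorem isInvertible_of_isInvCl {L : Y.Modules} (h : PicF.IsInvertibleCl (PicF.cl L)) :
    PicF.IsInvertible L := by
  obtain ⟨M, hM, hMi⟩ := h
  obtain ⟨e⟩ := (cl_eq_iff M L).1 hM
  exact Groth.Agent.Lib.Helper3.InvAmple.isInvertible_of_iso e hMi

theorem isInvCl_one : PicF.IsInvertibleCl (1 : PicF.Cl Y) :=
  ⟨_, rfl, PicLoc.isInvertible_structureModule Y⟩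

theorem isInvCl_mul {a b : PicF.Cl Y} (ha : PicF.IsInvertibleCl a) (hb : PicF.IsInvertibleCl b) :
    PicF.IsInvertibleCl (a * b) := by
  obtain ⟨L, rfl, hL⟩ := ha
  obtain ⟨M, rfl, hM⟩ := hb
  exact ⟨_, rfl, Groth.Agent.Lib.Helper3.InvTensor.isInvertible_tensorMod hL hM⟩

theorem exists_inv {a : PicF.Cl Y} (ha : PicF.IsInvertibleCl a) :
    ∃ b : PicF.Cl Y, PicF.IsInvertibleCl b ∧ a * b = 1 := by
  obtain ⟨L, rfl, hL⟩ := ha
  obtain ⟨e⟩ := Groth.Agent.Lib.Helper23.Inverse.tensor_dual_iso hL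
  exact ⟨PicF.cl (Groth.Agent.Lib.Helper23.Inverse.dual L),
    ⟨_, rfl, Groth.Agent.Lib.Helper23.Inverse.isInvertible_dual hL⟩, (cl_eq_iff _ _).2 ⟨e⟩⟩

theorem isUnit_of_isInvCl {a : PicF.Cl Y} (ha : PicF.IsInvertibleCl a) : IsUnit a := by
  obtain ⟨b, -, hab⟩ := exists_inv ha
  exact IsUnit.of_mul_eq_one b hab

theorem mul_left_cancel_of_isInvCl {a b c : PicF.Cl Y} (ha : PicF.IsInvertibleCl a)
    (h : a * b = a * c) : b = c :=
  (isUnit_of_isInvCl ha).mul_left_cancel h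

theorem isInvCl_of_mul_eq {a b c : PicF.Cl Y} (ha : PicF.IsInvertibleCl a)
    (hc : PicF.IsInvertibleCl c) (h : a * b = c) : PicF.IsInvertibleCl b := by
  obtain ⟨a', ha', haa'⟩ := exists_inv ha
  have hb : b = a' * c := by
    rw [← h, ← _root_.mul_assoc, _root_.mul_comm a' a, haa', _root_.one_mul]
  rw [hb]
  exact isInvCl_mul ha' hc

theorem pullCl_cl (g : X ⟶ Y) (L : Y.Modules) :
    PicF.pullCl g (PicF.cl L) = PicF.cl ((Scheme.Modules.pullback g).obj L) := rfl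

theorem pullCl_one (g : X ⟶ Y) : PicF.pullCl g (1 : PicF.Cl Y) = 1 :=
  (cl_eq_iff _ _).2 ⟨pbUnit g⟩

theorem isInvCl_pullCl (g : X ⟶ Y) {a : PicF.Cl Y} (ha : PicF.IsInvertibleCl a) :
    PicF.IsInvertibleCl (PicF.pullCl g a) := by
  obtain ⟨L, rfl, hL⟩ := ha
  exact ⟨_, rfl, isInvertible_pullback g hL⟩

theorem pullCl_mul (g : X ⟶ Y) {a b : PicF.Cl Y} (ha : PicF.IsInvertibleCl a)
    (hb : PicF.IsInvertibleCl b) :
    PicF.pullCl g (a * b) = PicF.pullCl g a * PicF.pullCl g b := by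
  obtain ⟨L, rfl, hL⟩ := ha
  obtain ⟨M, rfl, hM⟩ := hb
  exact (cl_eq_iff _ _).2 ⟨pbTensorIso g L M hL hM⟩

theorem pullCl_comp (f : X ⟶ Y) (g : Y ⟶ Z) (c : PicF.Cl Z) :
    PicF.pullCl f (PicF.pullCl g c) = PicF.pullCl (f ≫ g) c := by
  obtain ⟨N⟩ := c
  exact (cl_eq_iff _ _).2 ⟨(Scheme.Modules.pullbackComp f g).app N⟩

theorem pullCl_id (c : PicF.Cl Y) : PicF.pullCl (𝟙 Y) c = c := by
  obtain ⟨N⟩ := c
  exact (cl_eq_iff _ _).2 ⟨(Scheme.Modules.pullbackId Y).app N⟩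

theorem pullCl_comp_left {S : Scheme.{u}} {A B C : Over S} (f : A ⟶ B) (g : B ⟶ C)
    (c : PicF.Cl C.left) :
    PicF.pullCl f.left (PicF.pullCl g.left c) = PicF.pullCl (f ≫ g).left c :=
  pullCl_comp f.left g.left c

theorem pullCl_id_left {S : Scheme.{u}} {A : Over S} (c : PicF.Cl A.left) :
    PicF.pullCl (𝟙 A : A ⟶ A).left c = c :=
  pullCl_id c

/-- over a field, the pullback of an invertible class along the trivial point is trivial. -/
theorem pullCl_one_hom {K : Type u} [Field K] {T A : Over (Spec (CommRingCat.of K))} [GrpObj A]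
    {c : PicF.Cl A.left} (hc : PicF.IsInvertibleCl c) :
    PicF.pullCl (1 : T ⟶ A).left c = 1 := by
  obtain ⟨L, rfl, hL⟩ := hc
  obtain ⟨τ⟩ := const_pullback_trivial (T := T) η[A] L hL
  exact (cl_eq_iff _ _).2 ⟨τ⟩

end Groth.Agent.Lib.Helper13.ClMon
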