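import Mathlib

set_option autoImplicit false
set_option linter.style.haveILetI false

/-!
# Sum of the lengths of the localizations of a finite algebra over an algebraically closed field
(sub-lemma of RF-b for S6556, requested by helper22)
-/

universe u

open IsLocalRing

namespace Groth.Agent.Lib.Helper13.LenSum

/-- a ring homomorphism from a field to a nontrivial ring is local. -/
lemma isLocalHom_of_field {Ω B : Type*} [Field Ω] [CommRing B] [Nontrivial B] (f : Ω →+* B) :
    IsLocalHom f :=
  ⟨fun a ha => by
    rcases eq_or_ne a 0 with rfl | h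
    · rw [map_zero] at ha
      exact (not_isUnit_zero ha).elim
    · exact h.isUnit⟩

/-- a local finite algebra over an algebraically closed field: its length over itself is its
dimension. -/
theorem length_eq_finrank_of_local (Ω B : Type u) [Field Ω] [IsAlgClosed Ω] [CommRing B]
    [IsLocalRing B] [Algebra Ω B] [Module.Finite Ω B] :
    Module.length B B = (Module.finrank Ω B : ℕ∞) := by
  haveI : IsLocalHom (algebraMap Ω B) := isLocalHom_of_field _
  have h := IsLocalRing.length_restrictScalars Ω B B
  have h1 : Module.length (ResidueField Ω) (ResidueField B) = 1 := by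
    haveI : Algebra.IsIntegral Ω (ResidueField B) := Algebra.IsIntegral.of_finite Ω _
    have hbij0 : Function.Bijective (algebraMap Ω (ResidueField B)) :=
      IsAlgClosed.algebraMap_bijective_of_isIntegral
    have hbij : Function.Bijective (algebraMap (ResidueField Ω) (ResidueField B)) := by
      refine ⟨RingHom.injective _, fun y => ?_⟩
      obtain ⟨x, hx⟩ := hbij0.2 y
      refine ⟨algebraMap Ω (ResidueField Ω) x, ?_⟩
      rw [← IsScalarTower.algebraMap_apply Ω (ResidueField Ω) (ResidueField B)]
      exact hx
    let e : ResidueField Ω ≃ₗ[ResidueField Ω] ResidueField B :=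
      LinearEquiv.ofBijective (Algebra.linearMap (ResidueField Ω) (ResidueField B)) hbij
    rw [← e.length_eq, Module.length_eq_finrank, Module.finrank_self]
    rfl
  rw [h1, mul_one] at h
  rw [← h, Module.length_eq_finrank]

theorem sum_length_localization (Ω A : Type u) [Field Ω] [IsAlgClosed Ω] [CommRing A]
    [Algebra Ω A] [Module.Finite Ω A] [Fintype (PrimeSpectrum A)] :
    ∑ Q : PrimeSpectrum A, Module.length (Localization.AtPrime Q.asIdeal)
      (Localization.AtPrime Q.asIdeal) = (Module.finrank Ω A : ℕ∞) := by
  haveI : IsArtinianRing A := IsArtinianRing.of_finite Ω A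
  have hfin : ∀ Q : PrimeSpectrum A, Module.Finite Ω (Localization.AtPrime Q.asIdeal) := by
    intro Q
    refine Module.Finite.of_surjective
      (IsScalarTower.toAlgHom Ω A (Localization.AtPrime Q.asIdeal)).toLinearMap ?_
    exact IsArtinianRing.localization_surjective Q.asIdeal.primeCompl _
  have hlen : ∀ Q : PrimeSpectrum A, Module.length (Localization.AtPrime Q.asIdeal)
      (Localization.AtPrime Q.asIdeal) =
        (Module.finrank Ω (Localization.AtPrime Q.asIdeal) : ℕ∞) := by
    intro Q
    haveI := hfin Q
    exact length_eq_finrank_of_local Ω _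
  rw [Finset.sum_congr rfl (fun Q _ => hlen Q)]
  let e₀ : A ≃ₐ[A] PrimeSpectrum.PiLocalization A :=
    AlgEquiv.ofBijective (PrimeSpectrum.toPiLocalization A) PrimeSpectrum.toPiLocalization_bijective
  let e : A ≃ₗ[Ω] PrimeSpectrum.PiLocalization A := e₀.toLinearEquiv.restrictScalars Ω
  rw [e.finrank_eq]
  haveI := hfin
  rw [Module.finrank_pi_fintype]
  push_cast
  rfl

end Groth.Agent.Lib.Helper13.LenSum
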