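import Mathlib
import Groth.Agent.Lib.Helper13.DerivedCommute

/-!
# Helper13: functor-level commutation of right derived functors with exact functors

* `rightDerivedCompExactIso`: `R^n (F ⋙ G) ≅ R^n F ⋙ G` for `G` exact.
* `rightDerivedExactCompIso`: `R^n (G' ⋙ F) ≅ G' ⋙ R^n F` for `G'` exact and preserving injectives.
* `rightDerivedIsoOfNatIso`: `F ≅ F'` gives `R^n F ≅ R^n F'`.
* `rightDerivedBaseChangeIso`: `F ⋙ G ≅ G' ⋙ F'` gives `R^n F ⋙ G ≅ G' ⋙ R^n F'`.
-/

set_option autoImplicit false
open CategoryTheory CategoryTheory.Limits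

namespace Groth.Agent.Lib.Helper13.DerivedCommute

universe v v' v'' v''' u u' u'' u'''

section Abstract

variable {D : Type u'} [Category.{v'} D] {E : Type u''} [Category.{v''} E]

lemma nat_aux (G : D ⥤ E) {AX AY BX BY : E} {KX KY RX RY : D}
    (aX : AX ≅ BX) (aY : AY ≅ BY) (mX : BX ≅ G.obj KX) (mY : BY ≅ G.obj KY)
    (iX : RX ≅ KX) (iY : RY ≅ KY) (r : AX ⟶ AY) (hE : BX ⟶ BY) (hD : KX ⟶ KY) (s : RX ⟶ RY)
    (hr : r = aX.hom ≫ hE ≫ aY.inv) (hs : s = iX.hom ≫ hD ≫ iY.inv)
    (key : hE ≫ mY.hom = mX.hom ≫ G.map hD) :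
    r ≫ (aY ≪≫ mY ≪≫ G.mapIso iY.symm).hom = (aX ≪≫ mX ≪≫ G.mapIso iX.symm).hom ≫ G.map s := by
  subst hr hs
  simp only [Iso.trans_hom, Functor.mapIso_hom, Iso.symm_hom, Category.assoc, Iso.inv_hom_id_assoc,
    Functor.map_comp, Iso.map_inv_hom_id_assoc]
  rw [reassoc_of% key]

lemma nat_aux2 {AX AY BX BY RX RY : E}
    (aX : AX ≅ BX) (aY : AY ≅ BY) (pX : RX ≅ BX) (pY : RY ≅ BY)
    (r : AX ⟶ AY) (h : BX ⟶ BY) (s : RX ⟶ RY)
    (hr : r = aX.hom ≫ h ≫ aY.inv) (hs : s = pX.hom ≫ h ≫ pY.inv) :
    r ≫ (aY ≪≫ pY.symm).hom = (aX ≪≫ pX.symm).hom ≫ s := by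
  subst hr hs
  simp

end Abstract

section Derived

variable {C : Type u} [Category.{v} C] [Abelian C] [HasInjectiveResolutions C]
  {D : Type u'} [Category.{v'} D] [Abelian D]
  {E : Type u''} [Category.{v''} E] [Abelian E]

/-- `R^n (F ⋙ G) ≅ R^n F ⋙ G` for an exact functor `G`. -/
noncomputable def rightDerivedCompExactIso (F : C ⥤ D) [F.Additive] (G : D ⥤ E) [G.Additive]
    [PreservesFiniteLimits G] [PreservesFiniteColimits G] (n : ℕ) :
    (F ⋙ G).rightDerived n ≅ F.rightDerived n ⋙ G :=
  NatIso.ofComponents (fun X => rightDerivedCompExactObjIso F G n X) (by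
    intro X Y f
    have w := InjectiveResolution.desc_commutes f (injectiveResolution Y) (injectiveResolution X)
    set φ := InjectiveResolution.desc f (injectiveResolution Y) (injectiveResolution X) with hφ
    have h1 := Functor.rightDerived_map_eq (F ⋙ G) n f φ w
    have h2 := Functor.rightDerived_map_eq F n f φ w
    exact nat_aux G _ _ _ _ _ _ _ _ _ _ h1 h2
      (ShortComplex.mapHomologyIso_hom_naturality
      ((HomologicalComplex.shortComplexFunctor D (ComplexShape.up ℕ) n).map
        ((F.mapHomologicalComplex (ComplexShape.up ℕ)).map φ)) G))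

/-- A natural isomorphism of additive functors induces an isomorphism of right derived
functors. -/
noncomputable def rightDerivedIsoOfNatIso {F F' : C ⥤ D} [F.Additive] [F'.Additive]
    (e : F ≅ F') (n : ℕ) : F.rightDerived n ≅ F'.rightDerived n where
  hom := NatTrans.rightDerived e.hom n
  inv := NatTrans.rightDerived e.inv n
  hom_inv_id := by
    rw [← NatTrans.rightDerived_comp, e.hom_inv_id, NatTrans.rightDerived_id]
  inv_hom_id := by
    rw [← NatTrans.rightDerived_comp, e.inv_hom_id, NatTrans.rightDerived_id]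

end Derived

section Derived2

variable {C' : Type u'''} [Category.{v'''} C'] [Abelian C'] [HasInjectiveResolutions C']
  {C : Type u} [Category.{v} C] [Abelian C] [HasInjectiveResolutions C]
  {D : Type u'} [Category.{v'} D] [Abelian D]
  {E : Type u''} [Category.{v''} E] [Abelian E]

lemma mapInjectiveResolution_comm (G' : C' ⥤ C) [G'.Additive]
    [PreservesFiniteLimits G'] [PreservesFiniteColimits G']
    (hG : ∀ (Y : C'), Injective Y → Injective (G'.obj Y)) {X Y : C'} (f : X ⟶ Y)
    (I : InjectiveResolution X) (J : InjectiveResolution Y) (φ : I.cocomplex ⟶ J.cocomplex)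
    (w : I.ι ≫ φ = (CochainComplex.single₀ C').map f ≫ J.ι) :
    (mapInjectiveResolution G' hG I).ι ≫ (G'.mapHomologicalComplex _).map φ =
      (CochainComplex.single₀ C).map (G'.map f) ≫ (mapInjectiveResolution G' hG J).ι := by
  dsimp only [mapInjectiveResolution]
  rw [Category.assoc, ← Functor.map_comp, w, Functor.map_comp]
  have := (HomologicalComplex.singleMapHomologicalComplex G' (ComplexShape.up ℕ) 0).inv.naturality f
  exact (reassoc_of% this) _ |>.symm

/-- `R^n (G' ⋙ F) ≅ G' ⋙ R^n F` for an exact functor `G'` preserving injectives. -/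
noncomputable def rightDerivedExactCompIso (G' : C' ⥤ C) [G'.Additive]
    [PreservesFiniteLimits G'] [PreservesFiniteColimits G']
    (hG : ∀ (Y : C'), Injective Y → Injective (G'.obj Y))
    (F : C ⥤ D) [F.Additive] (n : ℕ) :
    (G' ⋙ F).rightDerived n ≅ G' ⋙ F.rightDerived n :=
  NatIso.ofComponents (fun X => rightDerivedExactCompObjIso G' hG F n X) (by
    intro X Y f
    have w := InjectiveResolution.desc_commutes f (injectiveResolution Y) (injectiveResolution X)
    set φ := InjectiveResolution.desc f (injectiveResolution Y) (injectiveResolution X) with hφ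
    have h1 := Functor.rightDerived_map_eq (G' ⋙ F) n f φ w
    have h2 := Functor.rightDerived_map_eq F n (G'.map f)
      (P := mapInjectiveResolution G' hG (injectiveResolution X))
      (Q := mapInjectiveResolution G' hG (injectiveResolution Y))
      ((G'.mapHomologicalComplex _).map φ)
      (mapInjectiveResolution_comm G' hG f _ _ φ w)
    exact nat_aux2 _ _ _ _ _ _ _ h1 h2)

/-- Base change for derived functors, functor level: if `F ⋙ G ≅ G' ⋙ F'` with `G` exact and
`G'` exact and preserving injectives, then `R^n F ⋙ G ≅ G' ⋙ R^n F'`. -/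
noncomputable def rightDerivedBaseChangeIso
    (F : C' ⥤ D) [F.Additive] (G : D ⥤ E) [G.Additive]
    [PreservesFiniteLimits G] [PreservesFiniteColimits G]
    (G' : C' ⥤ C) [G'.Additive] [PreservesFiniteLimits G'] [PreservesFiniteColimits G']
    (hG : ∀ (Y : C'), Injective Y → Injective (G'.obj Y))
    (F' : C ⥤ E) [F'.Additive] (e : F ⋙ G ≅ G' ⋙ F') (n : ℕ) :
    F.rightDerived n ⋙ G ≅ G' ⋙ F'.rightDerived n :=
  (rightDerivedCompExactIso F G n).symm ≪≫ rightDerivedIsoOfNatIso e n ≪≫
    rightDerivedExactCompIso G' hG F' n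

end Derived2

end Groth.Agent.Lib.Helper13.DerivedCommute
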