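import Groth.Agent.Lib.Helper13.DiscFibLan
import Groth.Prelude.Def_EtShriek2

/-!
# Helper13: extension by zero along an etale morphism is exact
-/

set_option autoImplicit false
open CategoryTheory CategoryTheory.Limits AlgebraicGeometry Opposite

namespace Groth.Agent.Lib.Helper13.ExtZeroExact

universe u

open Groth.Agent.Lib.Helper13.DiscFibLan

set_option backward.isDefEq.respectTransparency.types false in
/-- Local decomposition data of `compEtale j` at an etale `X`-scheme `W`: the `X`-morphisms `W → U`. -/
noncomputable def localData {U X : Scheme.{u}} (j : U ⟶ X) [hj : AlgebraicGeometry.Etale j]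
    (W : X.Etale) : LocalData.{u, u, u + 1, u + 1, u} (EtShriek.compEtale j) W where
  α := {φ : W.left ⟶ U // φ ≫ j = W.hom}
  V φ := MorphismProperty.Over.mk ⊤ φ.1
    (EtCoh.etaleMP.of_postcomp (W' := EtCoh.etaleMP) φ.1 j hj (by rw [φ.2]; exact W.prop))
  e φ := MorphismProperty.Over.isoMk (Iso.refl _) ((Category.id_comp _).trans φ.2.symm)
  exists_lift {V'} g := by
    refine ⟨⟨g.left ≫ V'.hom, by rw [Category.assoc]; exact MorphismProperty.Over.w g⟩,
      MorphismProperty.Over.homMk g.left rfl, ?_⟩
    apply MorphismProperty.Over.Hom.ext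
    exact (Category.id_comp _).symm
  unique {V'} φ φ' m m' h := by
    have h1 : m.left = m'.left := by
      have h2 : 𝟙 _ ≫ m.left = 𝟙 _ ≫ m'.left := congrArg (fun k => k.left) h
      simpa using h2
    apply Subtype.ext
    have e1 : m.left ≫ V'.hom = φ.1 := MorphismProperty.Over.w m
    have e2 : m'.left ≫ V'.hom = φ'.1 := MorphismProperty.Over.w m'
    exact e1.symm.trans ((congrArg (· ≫ V'.hom) h1).trans e2)

instance faithful_compEtale' {U X : Scheme.{u}} (j : U ⟶ X) [AlgebraicGeometry.Etale j] :
    (EtShriek.compEtale j).Faithful := EtShriek.faithful_compEtale j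

/-- `compEtale j` is continuous for EVERY etale `j` (the prelude proves this for monomorphisms only). -/
instance jCont {U X : Scheme.{u}} (j : U ⟶ X) [AlgebraicGeometry.Etale j] : EtShriek.JCont j :=
  Functor.isContinuous_of_coverPreserving
    (compatiblePreserving (EtShriek.compEtale j) X.smallEtaleTopology (localData j))
    (EtShriek.coverPreserving_compEtale j)

/-- Coproducts indexed by `u`-small types are exact in `AddCommGrpCat.{u+1}`. -/
instance ab4 : AB4OfSize.{u} AddCommGrpCat.{u + 1} :=
  AB4OfSize_shrink.{u, u + 1} AddCommGrpCat.{u + 1}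

/-- The presheaf-level extension by zero is left exact. -/
instance lan_compEtale_preservesFiniteLimits {U X : Scheme.{u}} (j : U ⟶ X)
    [AlgebraicGeometry.Etale j] :
    PreservesFiniteLimits ((EtShriek.compEtale j).op.lan :
      (U.Etaleᵒᵖ ⥤ AddCommGrpCat.{u + 1}) ⥤ X.Etaleᵒᵖ ⥤ AddCommGrpCat.{u + 1}) := by
  have : ∀ W : X.Etale,
      HasExactColimitsOfShape (Discrete (localData j W).α) AddCommGrpCat.{u + 1} :=
    fun W => inferInstance
  exact lan_preservesFiniteLimits AddCommGrpCat.{u + 1} (EtShriek.compEtale j) (localData j)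

/-- Extension by zero `j_!` along an etale morphism is left exact (hence exact). -/
instance extZero_preservesFiniteLimits {U X : Scheme.{u}} (j : U ⟶ X) [AlgebraicGeometry.Etale j]
    [EtShriek.JCont j] : PreservesFiniteLimits (EtShriek.extZero j) :=
  sheafPullback_preservesFiniteLimits AddCommGrpCat.{u + 1} (EtShriek.compEtale j)
    U.smallEtaleTopology X.smallEtaleTopology

end Groth.Agent.Lib.Helper13.ExtZeroExact
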