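import Mathlib

/-!
# Helper13: long exact sequence of right derived functors for a short exact sequence of functors

Let `F₁ ⟶ F₂ ⟶ F₃` be additive functors between abelian categories with `α ≫ β = 0`, short exact on
every injective object.

* `δNat q : R^q F₃ ⟶ R^{q+1} F₁` the natural connecting morphism.
* `isIso_δNat`: an isomorphism when `R^q F₂ = 0 = R^{q+1} F₂`.
* `cokernelIso`: `coker (β) ≅ R^1 F₁` when `F₂`, `F₃` are left exact and `R^1 F₂ = 0`.
-/

set_option autoImplicit false
open CategoryTheory CategoryTheory.Limits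

namespace Groth.Agent.Lib.Helper13.FunctorLES

universe v v' u u'

section Eval

variable {A : Type u} [Category.{v} A] {B : Type u'} [Category.{v'} B] [Abelian B]

lemma exact_of_evaluation (S : ShortComplex (A ⥤ B))
    (h : ∀ X : A, (S.map ((evaluation A B).obj X)).Exact) : S.Exact := by
  rw [ShortComplex.exact_iff_isZero_homology, Functor.isZero_iff]
  intro X
  exact IsZero.of_iso ((ShortComplex.exact_iff_isZero_homology _).1 (h X))
    (S.mapHomologyIso ((evaluation A B).obj X)).symm

lemma nat_aux3 {AX AY BX BY CX CY DX DY : B} (aX : AX ≅ BX) (aY : AY ≅ BY) (cX : CX ≅ DX)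
    (cY : CY ≅ DY) (r : AX ⟶ AY) (hB : BX ⟶ BY) (s : CX ⟶ CY) (hD : DX ⟶ DY) (δX : BX ⟶ DX)
    (δY : BY ⟶ DY) (hr : r = aX.hom ≫ hB ≫ aY.inv) (hs : s = cX.hom ≫ hD ≫ cY.inv)
    (key : hB ≫ δY = δX ≫ hD) :
    r ≫ (aY.hom ≫ δY ≫ cY.inv) = (aX.hom ≫ δX ≫ cX.inv) ≫ s := by
  subst hr hs
  simp only [Category.assoc, Iso.inv_hom_id_assoc]
  rw [reassoc_of% key]

end Eval

variable {A : Type u} [Category.{v} A] [Abelian A] [HasInjectiveResolutions A]
  {B : Type u'} [Category.{v'} B] [Abelian B]
  {F₁ F₂ F₃ : A ⥤ B} [F₁.Additive] [F₂.Additive] [F₃.Additive] (α : F₁ ⟶ F₂) (β : F₂ ⟶ F₃)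
  (hαβ : α ≫ β = 0)

include hαβ in
lemma app_zero (X : A) : α.app X ≫ β.app X = 0 := by
  rw [← NatTrans.comp_app, hαβ]; rfl

/-- The short complex of cochain complexes `F₁ K ⟶ F₂ K ⟶ F₃ K`. -/
noncomputable def SC (K : CochainComplex A ℕ) : ShortComplex (CochainComplex B ℕ) :=
  ShortComplex.mk ((NatTrans.mapHomologicalComplex α _).app K)
    ((NatTrans.mapHomologicalComplex β _).app K) (by
      have h0 := app_zero α β hαβ
      ext i
      exact h0 _)

variable (hex : ∀ (I : A), Injective I →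
  (ShortComplex.mk (α.app I) (β.app I) (app_zero α β hαβ I)).ShortExact)

include hex in
lemma SC_shortExact (K : CochainComplex A ℕ) (hK : ∀ i, Injective (K.X i)) :
    (SC α β hαβ K).ShortExact :=
  HomologicalComplex.shortExact_of_degreewise_shortExact _ (fun i => hex (K.X i) (hK i))

/-- functoriality of `SC`. -/
noncomputable def SCmap {K L : CochainComplex A ℕ} (φ : K ⟶ L) : SC α β hαβ K ⟶ SC α β hαβ L where
  τ₁ := (F₁.mapHomologicalComplex _).map φ
  τ₂ := (F₂.mapHomologicalComplex _).map φ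
  τ₃ := (F₃.mapHomologicalComplex _).map φ
  comm₁₂ := ((NatTrans.mapHomologicalComplex α _).naturality φ)
  comm₂₃ := ((NatTrans.mapHomologicalComplex β _).naturality φ)

include hex in
lemma shortExact_res (X : A) : (SC α β hαβ (injectiveResolution X).cocomplex).ShortExact :=
  SC_shortExact α β hαβ hex _ (fun i => (injectiveResolution X).injective i)

/-- The connecting morphism `R^q F₃ ⟶ R^{q+1} F₁`. -/
noncomputable def δNat (q : ℕ) : F₃.rightDerived q ⟶ F₁.rightDerived (q + 1) where
  app X := ((injectiveResolution X).isoRightDerivedObj F₃ q).hom ≫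
    (shortExact_res α β hαβ hex X).δ q (q + 1) rfl ≫
    ((injectiveResolution X).isoRightDerivedObj F₁ (q + 1)).inv
  naturality X Y f := by
    have w := InjectiveResolution.desc_commutes f (injectiveResolution Y) (injectiveResolution X)
    set φ := InjectiveResolution.desc f (injectiveResolution Y) (injectiveResolution X) with hφ
    have h := HomologicalComplex.HomologySequence.δ_naturality (SCmap α β hαβ φ)
      (shortExact_res α β hαβ hex X) (shortExact_res α β hαβ hex Y) q (q + 1) rfl
    exact nat_aux3 _ _ _ _ _ _ _ _ _ _ (Functor.rightDerived_map_eq F₃ q f φ w)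
      (Functor.rightDerived_map_eq F₁ (q + 1) f φ w) h.symm


lemma isZero_homology_X₂ (q : ℕ) (X : A) (h : IsZero ((F₂.rightDerived q).obj X)) :
    IsZero ((SC α β hαβ (injectiveResolution X).cocomplex).X₂.homology q) :=
  IsZero.of_iso h ((injectiveResolution X).isoRightDerivedObj F₂ q).symm

lemma epi_δNat_app (q : ℕ) (X : A) (h : IsZero ((F₂.rightDerived (q + 1)).obj X)) :
    Epi ((δNat α β hαβ hex q).app X) := by
  have : Epi ((shortExact_res α β hαβ hex X).δ q (q + 1) rfl) :=
    (shortExact_res α β hαβ hex X).epi_δ q (q + 1) rfl (isZero_homology_X₂ α β hαβ (q + 1) X h)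
  dsimp only [δNat]
  exact @epi_comp _ _ _ _ _ _ inferInstance _ (@epi_comp _ _ _ _ _ _ this _ inferInstance)

lemma isIso_δNat_app (q : ℕ) (X : A) (h : IsZero ((F₂.rightDerived q).obj X))
    (h' : IsZero ((F₂.rightDerived (q + 1)).obj X)) :
    IsIso ((δNat α β hαβ hex q).app X) := by
  have : IsIso ((shortExact_res α β hαβ hex X).δ q (q + 1) rfl) :=
    (shortExact_res α β hαβ hex X).isIso_δ q (q + 1) rfl (isZero_homology_X₂ α β hαβ q X h)
      (isZero_homology_X₂ α β hαβ (q + 1) X h')
  dsimp only [δNat]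
  exact @IsIso.comp_isIso _ _ _ _ _ _ _ inferInstance
    (@IsIso.comp_isIso _ _ _ _ _ _ _ this inferInstance)

/-- `R^q F₃ ≅ R^{q+1} F₁` when `R^q F₂ = 0 = R^{q+1} F₂`. -/
noncomputable def δIso (q : ℕ) (h : ∀ X, IsZero ((F₂.rightDerived q).obj X))
    (h' : ∀ X, IsZero ((F₂.rightDerived (q + 1)).obj X)) :
    F₃.rightDerived q ≅ F₁.rightDerived (q + 1) :=
  haveI : ∀ X, IsIso ((δNat α β hαβ hex q).app X) := fun X =>
    isIso_δNat_app α β hαβ hex q X (h X) (h' X)
  haveI : IsIso (δNat α β hαβ hex q) := NatIso.isIso_of_isIso_app _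
  asIso (δNat α β hαβ hex q)

section Zero

/-- comparison `F X ⟶ H⁰(F I_X)`. -/
noncomputable def cmp (F : A ⥤ B) [F.Additive] (X : A) :
    F.obj X ⟶ ((F.mapHomologicalComplex _).obj (injectiveResolution X).cocomplex).homology 0 :=
  F.toRightDerivedZero.app X ≫ ((injectiveResolution X).isoRightDerivedObj F 0).hom

lemma cmp_eq (F : A ⥤ B) [F.Additive] (X : A) :
    cmp F X = (injectiveResolution X).toRightDerivedZero' F ≫
      HomologicalComplex.homologyπ _ 0 := by
  dsimp only [cmp]
  rw [(injectiveResolution X).toRightDerivedZero_eq F]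
  simp

instance isIso_cmp (F : A ⥤ B) [F.Additive] [PreservesFiniteLimits F] (X : A) :
    IsIso (cmp F X) := by
  dsimp only [cmp]
  infer_instance

lemma cmp_naturality (X : A) :
    β.app X ≫ cmp F₃ X = cmp F₂ X ≫ HomologicalComplex.homologyMap
      ((NatTrans.mapHomologicalComplex β _).app (injectiveResolution X).cocomplex) 0 := by
  rw [cmp_eq, cmp_eq, Category.assoc, HomologicalComplex.homologyπ_naturality, ← Category.assoc,
    ← Category.assoc]
  congr 1
  rw [← cancel_mono (HomologicalComplex.iCycles _ _)]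
  simp only [Category.assoc, InjectiveResolution.toRightDerivedZero'_comp_iCycles,
    HomologicalComplex.cyclesMap_i, InjectiveResolution.toRightDerivedZero'_comp_iCycles_assoc,
    NatTrans.mapHomologicalComplex_app_f]
  exact (β.naturality _).symm

/-- The morphism `F₃ ⟶ R¹ F₁`. -/
noncomputable def π' : F₃ ⟶ F₁.rightDerived 1 := F₃.toRightDerivedZero ≫ δNat α β hαβ hex 0

lemma π'_app (X : A) : (π' α β hαβ hex).app X = cmp F₃ X ≫
    (shortExact_res α β hαβ hex X).δ 0 1 rfl ≫
    ((injectiveResolution X).isoRightDerivedObj F₁ 1).inv := by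
  dsimp only [π', δNat, cmp, NatTrans.comp_app]
  simp only [Category.assoc]
  rfl

lemma β_π'_app (X : A) : β.app X ≫ (π' α β hαβ hex).app X = 0 := by
  rw [π'_app, ← Category.assoc, cmp_naturality, Category.assoc]
  have h1 := (shortExact_res α β hαβ hex X).comp_δ 0 1 rfl
  have h2 := reassoc_of% h1
  refine (congrArg (fun t => cmp F₂ X ≫ t) (h2 _)).trans ?_
  rw [zero_comp]
  exact comp_zero

lemma β_π' : β ≫ π' α β hαβ hex = 0 := by
  ext X
  exact β_π'_app α β hαβ hex X

variable [PreservesFiniteLimits F₂] [PreservesFiniteLimits F₃]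

lemma exact_app (X : A) :
    (ShortComplex.mk (β.app X) ((π' α β hαβ hex).app X) (β_π'_app α β hαβ hex X)).Exact := by
  have h := (shortExact_res α β hαβ hex X).homology_exact₃ 0 1 rfl
  refine ShortComplex.exact_of_iso ?_ h
  refine (ShortComplex.isoMk (@asIso _ _ _ _ (cmp F₂ X) (isIso_cmp F₂ X))
    (@asIso _ _ _ _ (cmp F₃ X) (isIso_cmp F₃ X))
    ((injectiveResolution X).isoRightDerivedObj F₁ 1) ?_ ?_).symm
  · exact (cmp_naturality β X).symm
  · dsimp
    rw [π'_app]
    simp only [Category.assoc, Iso.inv_hom_id, Category.comp_id]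
    rfl

lemma epi_π' (h : ∀ X, IsZero ((F₂.rightDerived 1).obj X)) : Epi (π' α β hαβ hex) := by
  haveI : ∀ X, Epi ((π' α β hαβ hex).app X) := by
    intro X
    have := epi_δNat_app α β hαβ hex 0 X (h X)
    dsimp only [π', NatTrans.comp_app]
    infer_instance
  exact NatTrans.epi_of_epi_app _

/-- `coker β ≅ R¹ F₁`. -/
noncomputable def cokernelIso (h : ∀ X, IsZero ((F₂.rightDerived 1).obj X)) :
    cokernel β ≅ F₁.rightDerived 1 := by
  have hS : (ShortComplex.mk β (π' α β hαβ hex) (β_π' α β hαβ hex)).Exact :=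
    exact_of_evaluation _ (fun X => exact_app α β hαβ hex X)
  haveI := epi_π' α β hαβ hex h
  exact (colimit.isColimit (parallelPair β 0)).coconePointUniqueUpToIso hS.gIsCokernel

end Zero

end Groth.Agent.Lib.Helper13.FunctorLES
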