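import Mathlib
import Groth.Prelude.Def_ModSite
import Groth.Agent.Lib.Helper13.ModSiteUnitor

/-!
# Restriction commutes with the internal hom of sheaves of modules on a small ringed site
-/

set_option autoImplicit false
universe u
open CategoryTheory CategoryTheory.Limits Opposite MonoidalCategory
open Groth.Agent.Lib.Helper13 Groth.Agent.Lib.Helper13.ModSiteTensor
open Groth.Agent.Lib.Helper13.ModSiteFlat Groth.Agent.Lib.Helper13.ModSiteFreeOn

noncomputable section

namespace Groth.Agent.Lib.Helper13.ModSiteHomRestr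

variable {C : Type u} [SmallCategory C] {J : GrothendieckTopology C} (O : Sheaf J CommRingCat.{u})

/-- `j^* Hom_O(M, -) ≅ Hom_{O|X}(j^* M, j^* -)`. -/
def restrSheafHomIso (X : C) (M : ModSite.Mod O) [ModSite.HasSheafHom M]
    [ModSite.HasSheafHom ((ModSite.restr O X).obj M)] :
    ModSite.sheafHom M ⋙ ModSite.restr O X ≅
      ModSite.restr O X ⋙ ModSite.sheafHom ((ModSite.restr O X).obj M) :=
  Adjunction.rightAdjointUniq
    (((ModSite.extZeroAdj O X).comp (ModSite.sheafHomAdj M)).ofNatIsoLeft
      (ModSiteProj.projIsoLeft O X M).symm)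
    ((ModSite.sheafHomAdj ((ModSite.restr O X).obj M)).comp (ModSite.extZeroAdj O X))

end Groth.Agent.Lib.Helper13.ModSiteHomRestr
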