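import Mathlib
import Groth.Prelude.Def_ModSite2
import Groth.Agent.Lib.Helper13.DerivedCommuteNat
import Groth.Agent.Lib.Helper13.ModSiteHomRestr
import Groth.Agent.Lib.Helper13.ModSiteExtZero
import Groth.Agent.Lib.Helper13.ModSiteProj
import Groth.Agent.Lib.Helper2.RestrExact

/-!
# Local Ext sheaves on a ringed site commute with localisation
-/

set_option autoImplicit false
universe u
open CategoryTheory CategoryTheory.Limits Opposite

namespace Groth.Agent.Lib.Helper13.ExtShRestr

variable {C : Type u} [SmallCategory C] {J : GrothendieckTopology C} (O : Sheaf J CommRingCat.{u})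

open Groth.Agent.Lib.Helper13 Groth.Agent.Lib.Helper2.RestrExact in
/-- restriction preserves injective modules. -/
theorem injective_restr (X : C) (Y : ModSite.Mod O) (hY : Injective Y) :
    Injective ((ModSite.restr O X).obj Y) := by
  haveI : PreservesFiniteLimits (ModSite.extZero O X) :=
    ModSiteExtZero.extZero_preservesFiniteLimits O X
  haveI : (ModSite.extZero O X).PreservesMonomorphisms := inferInstance
  exact Injective.injective_of_adjoint (ModSite.extZeroAdj O X) Y

open Groth.Agent.Lib.Helper13 Groth.Agent.Lib.Helper2.RestrExact in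
theorem main (X : C) (M : ModSite.Mod O)
    [ModSite.HasSheafHom M] [ModSite.HasSheafHom ((ModSite.restr O X).obj M)]
    [HasInjectiveResolutions (ModSite.Mod O)] [HasInjectiveResolutions (ModSite.Mod (O.over X))]
    (q : ℕ) :
    Nonempty (ModSite.extSh M q ⋙ ModSite.restr O X ≅
      ModSite.restr O X ⋙ ModSite.extSh ((ModSite.restr O X).obj M) q) :=
  ⟨DerivedCommute.rightDerivedBaseChangeIso (ModSite.sheafHom M) (ModSite.restr O X)
    (ModSite.restr O X) (injective_restr O X) (ModSite.sheafHom ((ModSite.restr O X).obj M))
    (ModSiteHomRestr.restrSheafHomIso O X M) q⟩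

end Groth.Agent.Lib.Helper13.ExtShRestr
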