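import Mathlib
import Groth.Prelude.Def_ModSite2
import Groth.Agent.Lib.Helper13.ModSiteExtZero

/-!
# Helper13: for a subterminal object `U`, the counit `j_! j^* M ⟶ M` is a monomorphism, and the
unit `I ⟶ j_* j^* I` is a split epimorphism for injective `I`.
-/

set_option autoImplicit false
universe u
open CategoryTheory CategoryTheory.Limits Opposite
open Groth.Agent.Lib.Helper13 Groth.Agent.Lib.Helper13.ModSiteTensor
  Groth.Agent.Lib.Helper13.ModSiteExtZero

namespace Groth.Agent.Lib.Helper13.SubterminalCounit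

section Presheaf

open Classical

variable {C : Type u} [SmallCategory C] {X : C} {R : Cᵒᵖ ⥤ RingCat.{u}}

open OverShriek

lemma desc_id_injective (hX : ∀ V : C, Subsingleton (V ⟶ X)) (N : PresheafOfModules.{u} R) (V : C) :
    Function.Injective (desc (𝟙 ((restrP X R).obj N)) V) := by
  rw [injective_iff_map_eq_zero]
  intro t ht
  by_cases hne : Nonempty (V ⟶ X)
  · obtain ⟨φ₀⟩ := hne
    have ht' : t = DirectSum.of (fun φ : V ⟶ X => cmp ((restrP X R).obj N) φ) φ₀ (t φ₀) := by
      refine DFinsupp.ext (fun φ => ?_)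
      obtain rfl : φ = φ₀ := (hX V).elim _ _
      exact (DirectSum.of_eq_same (β := fun φ : V ⟶ X => cmp ((restrP X R).obj N) φ) φ (t φ)).symm
    rw [ht'] at ht
    have ht2 := (desc_of (𝟙 ((restrP X R).obj N)) φ₀ (t φ₀)).symm.trans ht
    rw [ht']
    have h0 : t φ₀ = 0 := ht2
    rw [h0, map_zero]
  · refine DFinsupp.ext (fun φ => ?_)
    exact (hne ⟨φ⟩).elim

lemma mono_counit (hX : ∀ V : C, Subsingleton (V ⟶ X)) (N : PresheafOfModules.{u} R) :
    Mono ((shriekAdj X R).counit.app N) := by
  have h : (shriekAdj X R).counit.app N = descHom (𝟙 ((restrP X R).obj N)) := rfl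
  rw [h]
  apply PresheafOfModules.mono_of_injective
  intro W
  exact desc_id_injective hX N W.unop

end Presheaf

variable {C : Type u} [SmallCategory C] {J : GrothendieckTopology C} (O : Sheaf J CommRingCat.{u})
  (U : C)

lemma mono_adjL_counit (hU : ∀ V : C, Subsingleton (V ⟶ U)) (M : ModSite.Mod O) :
    Mono ((adjL O U).counit.app M) := by
  have h := Adjunction.map_restrictFullyFaithful_counit_app
    ((OverShriek.shriekAdj U (ModSite.ringSh O).obj).comp (shfAdj O))
    (iC := fgtU O U) (iD := 𝟭 _)
    (SheafOfModules.fullyFaithfulForget _) (Functor.FullyFaithful.id _)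
    (Functor.rightUnitor _).symm (comm2 O U) M
  have hshf : PreservesFiniteLimits (shf O) :=
    inferInstanceAs (PreservesFiniteLimits
      (PresheafOfModules.sheafification.{u} (𝟙 (ModSite.ringSh O).obj)))
  have h1 : Mono ((OverShriek.shriekAdj U (ModSite.ringSh O).obj).counit.app ((fgt O).obj M)) :=
    mono_counit hU _
  have h2 : Mono ((shf O).map
      ((OverShriek.shriekAdj U (ModSite.ringSh O).obj).counit.app ((fgt O).obj M))) :=
    @Functor.map_mono _ _ _ _ (shf O) _ _ _ _ h1
  have hc : IsIso (shfAdj O).counit :=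
    inferInstanceAs (IsIso (PresheafOfModules.sheafificationAdjunction.{u}
      (𝟙 (ModSite.ringSh O).obj)).counit)
  have h3 : Mono (((OverShriek.shriekAdj U (ModSite.ringSh O).obj).comp (shfAdj O)).counit.app M) := by
    rw [Adjunction.comp_counit_app]
    infer_instance
  have h4 : (adjL O U).counit.app M = _ := h
  rw [h4]
  have h5 : IsIso ((comm2 O U).inv.app M) := inferInstance
  exact @mono_comp _ _ _ _ _ _ inferInstance _ (@mono_comp _ _ _ _ _ _ inferInstance _ h3)

end Groth.Agent.Lib.Helper13.SubterminalCounit
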