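import Mathlib
import Groth.Prelude.Def_ModSite2
import Groth.Agent.Lib.Helper13.FunctorLES
import Groth.Agent.Lib.Helper13.SubterminalCounit
import Groth.Agent.Lib.Helper13.DerivedCommuteNat
import Groth.Agent.Lib.Helper13.ExtShRestr
import Groth.Agent.Lib.Helper13.ModSiteProj
import Groth.Agent.Lib.Helper2.RestrExact

/-!
# Helper13: `ℋ^1_Z = coker (M ⟶ j_* j^* M)` and `ℋ^{q+1}_Z = R^q j_* ∘ j^*` for subterminal `U`
-/

set_option autoImplicit false
universe u
open CategoryTheory CategoryTheory.Limits Opposite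

namespace Groth.Agent.Lib.Helper13.SectOnLES

section Abstract

universe v₁ v₂ u₁ u₂

variable {A : Type u₁} {B : Type u₂} [Category.{v₁} A] [Category.{v₂} B] {L : B ⥤ A} {R : A ⥤ B}
  {P : B ⥤ A} (adj1 : L ⊣ R) (adj2 : R ⊣ P)

lemma exists_lift (hmono : ∀ M, Mono (adj1.counit.app M)) (I : A) [Injective I] (M : A)
    (g : M ⟶ P.obj (R.obj I)) : ∃ f : M ⟶ I, f ≫ adj2.unit.app I = g := by
  let g' : R.obj M ⟶ R.obj I := (adj2.homEquiv M (R.obj I)).symm g
  let g'' : L.obj (R.obj M) ⟶ I := (adj1.homEquiv (R.obj M) I).symm g'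
  haveI := hmono M
  refine ⟨Injective.factorThru g'' (adj1.counit.app M), ?_⟩
  have h1 : adj1.counit.app M ≫ Injective.factorThru g'' (adj1.counit.app M) = g'' :=
    Injective.comp_factorThru _ _
  set f := Injective.factorThru g'' (adj1.counit.app M)
  have h2 : R.map f = g' := by
    apply (adj1.homEquiv _ _).symm.injective
    rw [Adjunction.homEquiv_counit, adj1.counit_naturality]
    exact h1
  have h3 : f ≫ adj2.unit.app I = (adj2.homEquiv M (R.obj I)) (R.map f) := by
    rw [Adjunction.homEquiv_unit]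
    exact (adj2.unit_naturality f).symm
  rw [h3, h2]
  exact (adj2.homEquiv _ _).apply_symm_apply g

lemma epi_unit (hmono : ∀ M, Mono (adj1.counit.app M)) (I : A) [Injective I] :
    Epi (adj2.unit.app I) := by
  obtain ⟨s, hs⟩ := exists_lift adj1 adj2 hmono I _ (𝟙 (P.obj (R.obj I)))
  exact (IsSplitEpi.mk' ⟨s, hs⟩).epi

end Abstract

section Exact

universe v v' u₁ u'

variable {C : Type u₁} [Category.{v} C] [Abelian C] [HasInjectiveResolutions C]
  {D : Type u'} [Category.{v'} D] [Abelian D]

/-- The higher right derived functors of an exact functor vanish. -/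
theorem isZero_rightDerived_succ_of_exact (F : C ⥤ D) [F.Additive] [PreservesFiniteLimits F]
    [PreservesFiniteColimits F] (n : ℕ) (X : C) :
    IsZero ((F.rightDerived (n + 1)).obj X) := by
  let I : InjectiveResolution X := injectiveResolution X
  refine IsZero.of_iso ?_ (I.isoRightDerivedObj F (n + 1))
  erw [← HomologicalComplex.exactAt_iff_isZero_homology]
  have h : I.cocomplex.ExactAt (n + 1) := I.cocomplex_exactAt_succ n
  exact ShortComplex.Exact.map h F

end Exact

variable {C : Type u} [SmallCategory C] {J : GrothendieckTopology C} (O : Sheaf J CommRingCat.{u})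
  (U : C) [ModSite.HasPushOver O U]

open Groth.Agent.Lib.Helper13 Groth.Agent.Lib.Helper2.RestrExact

lemma ι_unit : ModSite.sectOnι O U ≫ (ModSite.restrPushOverAdj O U).unit = 0 := by
  apply NatTrans.ext
  funext X
  exact kernel.condition ((ModSite.restrPushOverAdj O U).unit.app X)

lemma shortExact_of_injective [(ModSite.pushOver O U).Additive]
    (hU : ∀ V : C, Subsingleton (V ⟶ U)) (I : ModSite.Mod O) (hI : Injective I) :
    (ShortComplex.mk ((ModSite.sectOnι O U).app I) ((ModSite.restrPushOverAdj O U).unit.app I)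
      (FunctorLES.app_zero _ _ (ι_unit O U) I)).ShortExact := by
  have hepi : Epi ((ModSite.restrPushOverAdj O U).unit.app I) :=
    epi_unit (ModSiteExtZero.adjL O U) (ModSite.restrPushOverAdj O U)
      (SubterminalCounit.mono_adjL_counit O U hU) I
  have hmono : Mono ((ModSite.sectOnι O U).app I) := by
    change Mono (kernel.ι _)
    infer_instance
  refine ShortComplex.ShortExact.mk (ShortComplex.exact_of_f_is_kernel _ ?_)
  exact kernelIsKernel _

theorem main (hU : ∀ V : C, Subsingleton (V ⟶ U)) [(ModSite.pushOver O U).Additive]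
    [HasInjectiveResolutions (ModSite.Mod O)] [HasInjectiveResolutions (ModSite.Mod (O.over U))] :
    Nonempty (ModSite.HZsh O U 1 ≅ cokernel (ModSite.restrPushOverAdj O U).unit) ∧
      ∀ q : ℕ, 1 ≤ q →
        Nonempty (ModSite.HZsh O U (q + 1) ≅
          ModSite.restr O U ⋙ (ModSite.pushOver O U).rightDerived q) := by
  haveI : PreservesFiniteLimits (ModSite.restr O U) := ModSiteProj.restr_preservesFiniteLimits O U
  haveI : PreservesLimitsOfSize.{0, 0} (ModSite.pushOver O U) :=
    (ModSite.restrPushOverAdj O U).rightAdjoint_preservesLimits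
  haveI : PreservesFiniteLimits (ModSite.pushOver O U) :=
    PreservesLimitsOfSize.preservesFiniteLimits.{0, 0} _
  haveI : PreservesFiniteLimits (ModSite.restr O U ⋙ ModSite.pushOver O U) :=
    comp_preservesFiniteLimits _ _
  have hz : ∀ (q : ℕ) (X : ModSite.Mod O),
      IsZero (((𝟭 (ModSite.Mod O)).rightDerived (q + 1)).obj X) :=
    fun q X => isZero_rightDerived_succ_of_exact _ q X
  constructor
  · exact ⟨(FunctorLES.cokernelIso (ModSite.sectOnι O U) (ModSite.restrPushOverAdj O U).unit
      (ι_unit O U) (shortExact_of_injective O U hU) (hz 0)).symm⟩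
  · intro q hq
    obtain ⟨q', rfl⟩ : ∃ q', q = q' + 1 := ⟨q - 1, by omega⟩
    exact ⟨(FunctorLES.δIso (ModSite.sectOnι O U) (ModSite.restrPushOverAdj O U).unit
      (ι_unit O U) (shortExact_of_injective O U hU) (q' + 1) (hz q') (hz (q' + 1))).symm ≪≫
      DerivedCommute.rightDerivedExactCompIso (ModSite.restr O U)
        (ExtShRestr.injective_restr O U) (ModSite.pushOver O U) (q' + 1)⟩

end Groth.Agent.Lib.Helper13.SectOnLES
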