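import Mathlib
import Groth.Prelude.Def_ModSite
import Groth.Prelude.Def_ModSite2
import Groth.Prelude.Def_ExtSupp
import Groth.Agent.Lib.Helper13.ModSiteTensor
import Groth.Agent.Lib.Helper13.ModSiteFlat
import Groth.Agent.Lib.Helper13.ModSiteFlatSES
import Groth.Agent.Lib.Helper13.ModSiteFreeOn
import Groth.Agent.Lib.Helper13.FunctorLES
import Groth.Agent.Lib.Helper13.SectOnLES

/-!
# Exactness properties of the internal hom in the first variable (helper13)

On a small ringed site, with `ℋ(M, G) := (sheafHom M).obj G`: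
* `transpose_conj`: transposition formula for conjugate natural transformations.
* `mono_sheafHomMap_app`, `exact_sheafHomMap`: `0 → ℋ(M₃,G) → ℋ(M₂,G) → ℋ(M₁,G)` is exact for
  `M₁ → M₂ → M₃ → 0` exact.
* `epi_sheafHomMap_app_of_injective`: `ℋ(M₂,I) → ℋ(M₁,I)` epi for `M₁ ↪ M₂` and `I` injective.
* `nonempty_extSh_iso`, `nonempty_cokernel_iso_extSh_one`: dimension shifting along a short exact
  sequence `0 → K' → E → K → 0` with `ℋ(E, -)` exact.
-/

set_option autoImplicit false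
universe u v u₁ u₂ v₁ v₂

open CategoryTheory CategoryTheory.Limits Opposite

noncomputable section

namespace Groth.Agent.Lib.Helper13.SheafHomExact

section Adj

variable {C : Type u₁} [Category.{v₁} C] {D : Type u₂} [Category.{v₂} D]
  {L₁ L₂ : C ⥤ D} {R₁ R₂ : D ⥤ C} (adj₁ : L₁ ⊣ R₁) (adj₂ : L₂ ⊣ R₂)

/-- transposition formula for conjugates -/
theorem transpose_conj (α : L₂ ⟶ L₁) {N : C} {G : D} (a : N ⟶ R₁.obj G) :
    (adj₂.homEquiv N G).symm (a ≫ (conjugateEquiv adj₁ adj₂ α).app G) =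
      α.app N ≫ (adj₁.homEquiv N G).symm a := by
  rw [Adjunction.homEquiv_counit, Adjunction.homEquiv_counit, Functor.map_comp, Category.assoc,
    conjugateEquiv_counit, ← Category.assoc, ← Category.assoc, α.naturality]

end Adj

section Gen

variable {A : Type u₁} [Category.{v₁} A] [Abelian A] (P : ObjectProperty A)

theorem epi_of_lifts (hP : P.IsSeparating) {X Y : A} (φ : X ⟶ Y)
    (h : ∀ N, P N → ∀ b : N ⟶ Y, ∃ a : N ⟶ X, a ≫ φ = b) : Epi φ := by
  apply Preadditive.epi_of_cancel_zero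
  intro R g hg
  apply hP
  intro N hN b
  obtain ⟨a, rfl⟩ := h N hN b
  rw [Category.assoc, hg, comp_zero, comp_zero]

theorem exact_of_lifts (hP : P.IsSeparating) (S : ShortComplex A)
    (h : ∀ N, P N → ∀ b : N ⟶ S.X₂, b ≫ S.g = 0 → ∃ a : N ⟶ S.X₁, a ≫ S.f = b) : S.Exact := by
  rw [S.exact_iff_epi_kernel_lift]
  apply epi_of_lifts P hP
  intro N hN b
  obtain ⟨a, ha⟩ := h N hN (b ≫ kernel.ι S.g) (by rw [Category.assoc, kernel.condition, comp_zero])
  refine ⟨a, ?_⟩
  rw [← cancel_mono (kernel.ι S.g), Category.assoc, kernel.lift_ι, ha]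

end Gen

variable {C : Type u} [SmallCategory C] {J : GrothendieckTopology C} {O : Sheaf J CommRingCat.{u}}

open Groth.Agent.Lib.Helper13

/-- `N ⊗ -` -/
abbrev TL (N : ModSite.Mod O) : ModSite.Mod O ⥤ ModSite.Mod O := (ModSite.tensorBi O).obj N

/-- transpose `(N ⟶ ℋ(M,G)) → (N ⊗ M ⟶ G)` -/
abbrev tr (M : ModSite.Mod O) [ModSite.HasSheafHom M] {N G : ModSite.Mod O}
    (a : N ⟶ (ModSite.sheafHom M).obj G) : (TL N).obj M ⟶ G :=
  ((ModSite.sheafHomAdj M).homEquiv N G).symm a

/-- inverse transpose -/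
abbrev trInv (M : ModSite.Mod O) [ModSite.HasSheafHom M] {N G : ModSite.Mod O}
    (c : (TL N).obj M ⟶ G) : N ⟶ (ModSite.sheafHom M).obj G :=
  ((ModSite.sheafHomAdj M).homEquiv N G) c

theorem tr_trInv (M : ModSite.Mod O) [ModSite.HasSheafHom M] {N G : ModSite.Mod O}
    (c : (TL N).obj M ⟶ G) : tr M (trInv M c) = c :=
  Equiv.symm_apply_apply _ _

theorem tr_injective (M : ModSite.Mod O) [ModSite.HasSheafHom M] {N G : ModSite.Mod O}
    {a b : N ⟶ (ModSite.sheafHom M).obj G} (h : tr M a = tr M b) : a = b :=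
  ((ModSite.sheafHomAdj M).homEquiv N G).symm.injective h

theorem tr_zero (M : ModSite.Mod O) [ModSite.HasSheafHom M] {N G : ModSite.Mod O} :
    tr M (0 : N ⟶ (ModSite.sheafHom M).obj G) = 0 := by
  dsimp only [tr]
  rw [Adjunction.homEquiv_counit]
  have : ((ModSite.tensorBi O).flip.obj M).map (0 : N ⟶ (ModSite.sheafHom M).obj G) = 0 :=
    Functor.map_zero _ _ _
  rw [this, zero_comp]

theorem tr_sheafHomMap {M M' : ModSite.Mod O} [ModSite.HasSheafHom M] [ModSite.HasSheafHom M']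
    (g : M' ⟶ M) {N G : ModSite.Mod O} (a : N ⟶ (ModSite.sheafHom M).obj G) :
    tr M' (a ≫ (ExtSupp.sheafHomMap g).app G) = (TL N).map g ≫ tr M a :=
  transpose_conj (ModSite.sheafHomAdj M) (ModSite.sheafHomAdj M') _ a

theorem sheafHomMap_comp_app {M₁ M₂ M₃ : ModSite.Mod O} [ModSite.HasSheafHom M₁]
    [ModSite.HasSheafHom M₂] [ModSite.HasSheafHom M₃] (f : M₁ ⟶ M₂) (g : M₂ ⟶ M₃)
    (G : ModSite.Mod O) :
    (ExtSupp.sheafHomMap g).app G ≫ (ExtSupp.sheafHomMap f).app G =
      (ExtSupp.sheafHomMap (f ≫ g)).app G := by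
  apply tr_injective
  have h1 := tr_sheafHomMap f ((ExtSupp.sheafHomMap g).app G)
  have h2 := tr_sheafHomMap g (𝟙 ((ModSite.sheafHom M₃).obj G))
  have h3 := tr_sheafHomMap (f ≫ g) (𝟙 ((ModSite.sheafHom M₃).obj G))
  rw [Category.id_comp] at h2 h3
  rw [h1, h2, h3, Functor.map_comp, Category.assoc]

theorem sheafHomMap_zero_app {M M' : ModSite.Mod O} [ModSite.HasSheafHom M]
    [ModSite.HasSheafHom M'] (G : ModSite.Mod O) :
    (ExtSupp.sheafHomMap (0 : M' ⟶ M)).app G = 0 := by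
  apply tr_injective
  have h2 := tr_sheafHomMap (0 : M' ⟶ M) (𝟙 ((ModSite.sheafHom M).obj G))
  rw [Category.id_comp] at h2
  rw [h2, tr_zero, Functor.map_zero, zero_comp]

theorem sheafHomMap_comp_zero {M₁ M₂ M₃ : ModSite.Mod O} [ModSite.HasSheafHom M₁]
    [ModSite.HasSheafHom M₂] [ModSite.HasSheafHom M₃] (f : M₁ ⟶ M₂) (g : M₂ ⟶ M₃)
    (h : f ≫ g = 0) : ExtSupp.sheafHomMap g ≫ ExtSupp.sheafHomMap f = 0 := by
  ext G
  rw [NatTrans.comp_app, sheafHomMap_comp_app, h, sheafHomMap_zero_app]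
  rfl

/-! ### left exactness in the first variable -/

section LeftExact

variable {M₁ M₂ M₃ : ModSite.Mod O} [ModSite.HasSheafHom M₁] [ModSite.HasSheafHom M₂]
  [ModSite.HasSheafHom M₃] (f : M₁ ⟶ M₂) (g : M₂ ⟶ M₃) (w : f ≫ g = 0)

theorem mono_sheafHomMap_app [Epi g] (G : ModSite.Mod O) :
    Mono ((ExtSupp.sheafHomMap g).app G) := by
  apply Preadditive.mono_of_cancel_zero
  intro N a ha
  apply tr_injective
  have h1 := tr_sheafHomMap g a
  rw [ha, tr_zero] at h1
  have : Epi ((TL N).map g) := inferInstance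
  rw [tr_zero, ← cancel_epi ((TL N).map g), ← h1, comp_zero]

theorem exists_lift (hex : (ShortComplex.mk f g w).Exact) [Epi g] (G : ModSite.Mod O)
    {N : ModSite.Mod O} (b : N ⟶ (ModSite.sheafHom M₂).obj G)
    (hb : b ≫ (ExtSupp.sheafHomMap f).app G = 0) :
    ∃ a : N ⟶ (ModSite.sheafHom M₃).obj G, a ≫ (ExtSupp.sheafHomMap g).app G = b := by
  have h1 := tr_sheafHomMap f b
  rw [hb, tr_zero] at h1
  have hpc : PreservesFiniteColimits (TL (O := O) N) := inferInstance
  have hiff : PreservesFiniteColimits (TL (O := O) N) ↔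
      ∀ (S : ShortComplex (ModSite.Mod O)), S.Exact ∧ Epi S.g →
        (S.map (TL N)).Exact ∧ Epi ((TL N).map S.g) :=
    (Functor.preservesFiniteColimits_tfae (TL (O := O) N)).out 3 1
  have hS := hiff.mp hpc (ShortComplex.mk f g w) ⟨hex, (inferInstance : Epi g)⟩
  obtain ⟨hS1, hS2⟩ := hS
  haveI : Epi ((ShortComplex.mk f g w).map (TL N)).g := hS2
  let c : (TL N).obj M₃ ⟶ G := hS1.desc (tr M₂ b) h1.symm
  have hc : (TL N).map g ≫ c = tr M₂ b := hS1.g_desc (tr M₂ b) h1.symm
  refine ⟨trInv M₃ c, ?_⟩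
  apply tr_injective
  rw [tr_sheafHomMap, tr_trInv, hc]

theorem exact_sheafHomMap (hex : (ShortComplex.mk f g w).Exact) [Epi g] (G : ModSite.Mod O) :
    (ShortComplex.mk ((ExtSupp.sheafHomMap g).app G) ((ExtSupp.sheafHomMap f).app G)
      (by rw [sheafHomMap_comp_app, w, sheafHomMap_zero_app])).Exact := by
  rw [ShortComplex.exact_iff_epi_kernel_lift]
  obtain ⟨a, ha⟩ := exists_lift f g w hex G (kernel.ι ((ExtSupp.sheafHomMap f).app G))
    (kernel.condition _)
  have : a ≫ kernel.lift ((ExtSupp.sheafHomMap f).app G) ((ExtSupp.sheafHomMap g).app G)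
      (by rw [sheafHomMap_comp_app, w, sheafHomMap_zero_app]) = 𝟙 _ := by
    rw [← cancel_mono (kernel.ι _), Category.assoc, kernel.lift_ι, ha, Category.id_comp]
  exact (IsSplitEpi.mk' ⟨a, this⟩).epi

end LeftExact

/-! ### flat generators -/

variable (O) in
/-- the separating family of flat generators -/
def flatGen : ObjectProperty (ModSite.Mod O) :=
  ObjectProperty.ofObj fun X : (Set.univ : Set C) => ModSite.freeOn O (X : C)

theorem flatGen_isSeparating : (flatGen O).IsSeparating := by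
  refine ModSiteFreeOn.freeOn_isSeparating O Set.univ
    (fun X => ⟨PUnit.{u + 1}, fun _ => X, fun _ => 𝟙 X, ?_, fun _ => trivial⟩)
  apply J.covering_of_eq_top
  rw [← Sieve.id_mem_iff_eq_top]
  exact (Sieve.mem_ofArrows_iff _ _ _).2 ⟨PUnit.unit, 𝟙 X, (Category.comp_id _).symm⟩

theorem flatGen_isFlat {N : ModSite.Mod O} (h : flatGen O N) : ModSite.IsFlat N := by
  obtain ⟨X⟩ := h
  exact ModSiteFreeOn.isFlat_freeOn O (X : C)

theorem epi_sheafHomMap_app_of_injective {M₁ M₂ : ModSite.Mod O} [ModSite.HasSheafHom M₁]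
    [ModSite.HasSheafHom M₂] (f : M₁ ⟶ M₂) [Mono f] (I : ModSite.Mod O) [Injective I] :
    Epi ((ExtSupp.sheafHomMap f).app I) := by
  apply epi_of_lifts (flatGen O) flatGen_isSeparating
  intro N hN b
  haveI : Mono ((TL N).map f) := ModSiteFlatSES.mono_obj_map_of_isFlat (flatGen_isFlat hN) f
  refine ⟨trInv M₂ (Injective.factorThru (tr M₁ b) ((TL N).map f)), ?_⟩
  apply tr_injective
  rw [tr_sheafHomMap, tr_trInv, Injective.comp_factorThru]

theorem pfl_sheafHom (M : ModSite.Mod O) [ModSite.HasSheafHom M] :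
    PreservesFiniteLimits (ModSite.sheafHom M) := by
  haveI : (ModSite.sheafHom M).IsRightAdjoint := (ModSite.sheafHomAdj M).isRightAdjoint
  infer_instance

/-! ### dimension shifting -/

section Shift

variable [HasInjectiveResolutions (ModSite.Mod O)]
  {K' E K : ModSite.Mod O} [ModSite.HasSheafHom K'] [ModSite.HasSheafHom E]
  [ModSite.HasSheafHom K] (ι : K' ⟶ E) (p : E ⟶ K) (w : ι ≫ p = 0)
  (hS : (ShortComplex.mk ι p w).ShortExact)

include hS in
theorem shortExact_of_injective (I : ModSite.Mod O) (hI : Injective I) :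
    (ShortComplex.mk ((ExtSupp.sheafHomMap p).app I) ((ExtSupp.sheafHomMap ι).app I)
      (FunctorLES.app_zero _ _ (sheafHomMap_comp_zero ι p w) I)).ShortExact := by
  haveI := hS.epi_g
  haveI := hS.mono_f
  haveI : Epi p := hS.epi_g
  haveI : Mono ι := hS.mono_f
  exact ShortComplex.ShortExact.mk' (exact_sheafHomMap ι p w hS.exact I)
    (mono_sheafHomMap_app p I) (epi_sheafHomMap_app_of_injective ι I)

include hS in
theorem nonempty_extSh_iso (hE : PreservesFiniteColimits (ModSite.sheafHom E)) (q : ℕ)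
    (G : ModSite.Mod O) :
    Nonempty ((ModSite.extSh K' (q + 1)).obj G ≅ (ModSite.extSh K (q + 2)).obj G) := by
  haveI := pfl_sheafHom E
  have hz : ∀ n, IsZero (((ModSite.sheafHom E).rightDerived (n + 1)).obj G) :=
    fun n => SectOnLES.isZero_rightDerived_succ_of_exact _ n G
  have := FunctorLES.isIso_δNat_app (ExtSupp.sheafHomMap p) (ExtSupp.sheafHomMap ι)
    (sheafHomMap_comp_zero ι p w) (shortExact_of_injective ι p w hS) (q + 1) G (hz q) (hz (q + 1))
  exact ⟨asIso ((FunctorLES.δNat (ExtSupp.sheafHomMap p) (ExtSupp.sheafHomMap ι)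
    (sheafHomMap_comp_zero ι p w) (shortExact_of_injective ι p w hS) (q + 1)).app G)⟩

include hS in
theorem nonempty_cokernel_iso (hE : PreservesFiniteColimits (ModSite.sheafHom E))
    (G : ModSite.Mod O) :
    Nonempty (cokernel ((ExtSupp.sheafHomMap ι).app G) ≅ (ModSite.extSh K 1).obj G) := by
  haveI := pfl_sheafHom E
  haveI := pfl_sheafHom K'
  have hz : ∀ n, IsZero (((ModSite.sheafHom E).rightDerived (n + 1)).obj G) :=
    fun n => SectOnLES.isZero_rightDerived_succ_of_exact _ n G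
  have hex := FunctorLES.exact_app (ExtSupp.sheafHomMap p) (ExtSupp.sheafHomMap ι)
    (sheafHomMap_comp_zero ι p w) (shortExact_of_injective ι p w hS) G
  have hepi : Epi ((FunctorLES.π' (ExtSupp.sheafHomMap p) (ExtSupp.sheafHomMap ι)
      (sheafHomMap_comp_zero ι p w) (shortExact_of_injective ι p w hS)).app G) := by
    have := FunctorLES.epi_δNat_app (ExtSupp.sheafHomMap p) (ExtSupp.sheafHomMap ι)
      (sheafHomMap_comp_zero ι p w) (shortExact_of_injective ι p w hS) 0 G (hz 0)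
    dsimp only [FunctorLES.π', NatTrans.comp_app]
    infer_instance
  haveI : Epi (ShortComplex.mk ((ExtSupp.sheafHomMap ι).app G)
      ((FunctorLES.π' (ExtSupp.sheafHomMap p) (ExtSupp.sheafHomMap ι)
      (sheafHomMap_comp_zero ι p w) (shortExact_of_injective ι p w hS)).app G)
      (FunctorLES.β_π'_app _ _ _ _ G)).g := hepi
  exact ⟨(colimit.isColimit (parallelPair ((ExtSupp.sheafHomMap ι).app G) 0)).coconePointUniqueUpToIso
    hex.gIsCokernel⟩

end Shift

end Groth.Agent.Lib.Helper13.SheafHomExact
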