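import Groth.Agent.Lib.Helper13.R1Edge
import Groth.Agent.Lib.Helper13.AffineVanish
import Groth.Agent.Lib.Helper13.PushAcyclic
import Groth.Agent.Lib.Helper3.QCExtend
import Groth.Agent.S0009

/-!
# A quasi-compact morphism with `R¹f_* I = 0` for all quasi-coherent ideals is affine
-/

set_option autoImplicit false

universe u

open CategoryTheory CategoryTheory.Limits TopologicalSpace Opposite AlgebraicGeometry Coherent
  CategoryTheory.Abelian

namespace Groth.Agent.Lib.Helper13.AffineHomCrit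

section Top

variable {X Y : TopCat.{u}} (f : X ⟶ Y)

/-- `Hom(ℤ_{f⁻¹V}, M) ≃ Hom(ℤ_V, f_* M)`. -/
noncomputable def homEquiv (V : Opens Y) (M : CohTop.Ab X) :
    (CohCx.freeSheaf (Opens.grothendieckTopology X) ((Opens.map f).obj V) ⟶ M) ≃
      (CohCx.freeSheaf (Opens.grothendieckTopology Y) V ⟶ (CohTop.push f).obj M) :=
  (CohFree.homEquivSect (Opens.grothendieckTopology X) ((Opens.map f).obj V) M).toEquiv.trans
    (CohFree.homEquivSect (Opens.grothendieckTopology Y) V ((CohTop.push f).obj M)).toEquiv.symm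

lemma homEquiv_naturality (V : Opens Y) {M M' : CohTop.Ab X}
    (φ : CohCx.freeSheaf (Opens.grothendieckTopology X) ((Opens.map f).obj V) ⟶ M) (g : M ⟶ M') :
    homEquiv f V M' (φ ≫ g) = homEquiv f V M φ ≫ (CohTop.push f).map g := by
  apply (CohFree.homEquivSect (Opens.grothendieckTopology Y) V ((CohTop.push f).obj M')).injective
  have h1 : CohFree.homEquivSect (Opens.grothendieckTopology Y) V ((CohTop.push f).obj M')
      (homEquiv f V M' (φ ≫ g)) =
      CohFree.homEquivSect (Opens.grothendieckTopology X) ((Opens.map f).obj V) M' (φ ≫ g) :=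
    (CohFree.homEquivSect (Opens.grothendieckTopology Y) V ((CohTop.push f).obj M')).apply_symm_apply _
  have h2 : CohFree.homEquivSect (Opens.grothendieckTopology Y) V ((CohTop.push f).obj M)
      (homEquiv f V M φ) =
      CohFree.homEquivSect (Opens.grothendieckTopology X) ((Opens.map f).obj V) M φ :=
    (CohFree.homEquivSect (Opens.grothendieckTopology Y) V ((CohTop.push f).obj M)).apply_symm_apply _
  have h3 : CohFree.homEquivSect (Opens.grothendieckTopology Y) V ((CohTop.push f).obj M')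
      (homEquiv f V M φ ≫ (CohTop.push f).map g) =
      (g.hom.app (op ((Opens.map f).obj V))).hom
        (CohFree.homEquivSect (Opens.grothendieckTopology Y) V ((CohTop.push f).obj M)
          (homEquiv f V M φ)) := rfl
  rw [h1, h3, h2]
  rfl

theorem subsingleton_HU_preimage (F : CohTop.Ab X) (V : Opens Y)
    (hR : IsZero ((CohTop.Rpush f 1).obj F))
    (hV : Subsingleton (CohTop.HU ((CohTop.push f).obj F) 1 V)) :
    Subsingleton (CohTop.HU F 1 ((Opens.map f).obj V)) := by
  haveI : PreservesLimitsOfSize.{0, 0} (CohTop.push f) :=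
    (ClosedEmbPush.adj f).rightAdjoint_preservesLimits
  have hA : ∀ x : Ext (CohCx.freeSheaf (Opens.grothendieckTopology Y) V)
      ((CohTop.push f).obj F) 1, x = 0 := fun x =>
    @Subsingleton.elim (CohTop.HU ((CohTop.push f).obj F) 1 V) hV x 0
  have key : ∀ x : Ext (CohCx.freeSheaf (Opens.grothendieckTopology X) ((Opens.map f).obj V))
      F 1, x = 0 :=
    R1Edge.ext_one_eq_zero (CohTop.push f) _ _ (homEquiv f V)
      (fun φ g => homEquiv_naturality f V φ g) F hR hA
  exact ⟨fun a b => (key a).trans (key b).symm⟩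

end Top

lemma subsingleton_ext_of_iso {C : Type*} [Category C] [Abelian C] [HasExt C] {A F F' : C}
    (e : F ≅ F') (n : ℕ) (h : Subsingleton (Ext A F n)) : Subsingleton (Ext A F' n) := by
  refine ⟨fun a b => ?_⟩
  have hx : ∀ x : Ext A F' n, x = 0 := by
    intro x
    have hx : x = (x.comp (Ext.mk₀ e.inv) (add_zero _)).comp (Ext.mk₀ e.hom) (add_zero _) := by
      rw [Ext.comp_assoc_of_third_deg_zero, Ext.mk₀_comp_mk₀, e.inv_hom_id, Ext.comp_mk₀_id]
    have h0 : x.comp (Ext.mk₀ e.inv) (add_zero _) = 0 := Subsingleton.elim _ _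
    rw [hx, h0, Ext.zero_comp]
  rw [hx a, hx b]

section Scheme

variable {X Y : Scheme.{u}} (f : X ⟶ Y)

theorem subsingleton_HU_preimage_of_affine [QuasiCompact f] [QuasiSeparated f]
    (M : X.Modules) [M.IsQuasicoherent]
    (hR : IsZero ((Coh.RpushAb f 1).obj (Coh.toAb M)))
    {V : Y.Opens} (hV : IsAffineOpen V) :
    Subsingleton (CohTop.HU (Coh.toAb M) 1 (f ⁻¹ᵁ V)) := by
  haveI : ((Scheme.Modules.pushforward f).obj M).IsQuasicoherent :=
    Groth.Agent.Lib.Helper3.QCSec.isQuasicoherent_pushforward f M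
  have h := AffineVanish.subsingleton_HU_of_isAffineOpen ((Scheme.Modules.pushforward f).obj M) hV 0
  exact subsingleton_HU_preimage f.base (Coh.toAb M) V hR h

theorem isAffineHom_of_R1 [QuasiCompact f] [QuasiSeparatedSpace X]
    (h : ∀ (I : X.Modules) (i : I ⟶ Coh.structureModule X), Mono i → Coh.IsQCoh I →
      IsZero ((Coh.RpushAb f 1).obj (Coh.toAb I))) : IsAffineHom f := by
  constructor
  intro V hV
  haveI : CompactSpace ((f ⁻¹ᵁ V : X.Opens) : Scheme.{u}) :=
    isCompact_iff_compactSpace.mp (QuasiCompact.isCompact_preimage (f := f) _ V.2 hV.isCompact)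
  haveI : QuasiCompact (f ⁻¹ᵁ V).ι := inferInstance
  apply Groth.Agent.S0009.result
  intro I' i' hmono hq
  haveI := hmono
  haveI : I'.IsQuasicoherent := hq
  let i'' : I' ⟶ (Coh.structureModule X).restrict (f ⁻¹ᵁ V).ι :=
    i' ≫ (Scheme.Modules.restrictUnitIso (f ⁻¹ᵁ V).ι).inv
  haveI : Mono i'' := mono_comp _ _
  obtain ⟨H, ψ, e, hψ, hH, -⟩ :=
    Groth.Agent.Lib.Helper3.QCExtend.exists_canonical_extension (f ⁻¹ᵁ V)
      (Coh.structureModule X) I' i''
  have hR := h H ψ hψ hH
  haveI := hH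
  have h1 : Subsingleton (CohTop.HU (Coh.toAb H) 1 (f ⁻¹ᵁ V)) :=
    subsingleton_HU_preimage_of_affine f H hR hV
  have h2 : Subsingleton (Coh.HHon X H (f ⁻¹ᵁ V) 1) :=
    (AffineVanish.HUEquivHHon H (f ⁻¹ᵁ V) 1).toEquiv.subsingleton_congr.1 h1
  exact subsingleton_ext_of_iso
    ((SheafOfModules.toSheaf ((f ⁻¹ᵁ V : X.Opens) : Scheme.{u}).ringCatSheaf).mapIso e) 1 h2

end Scheme

end Groth.Agent.Lib.Helper13.AffineHomCrit
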