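import Mathlib
import Groth.Prelude
import Groth.Agent.Lib.Helper23.GeomH0

/-!
# The ring of global functions of a proper geometrically reduced scheme over a field is étale
-/

set_option autoImplicit false
set_option linter.style.haveILetI false
universe u
open CategoryTheory CategoryTheory.Limits AlgebraicGeometry TensorProduct

namespace Groth.Agent.Lib.Helper13.EtGamma

/-- a finite reduced algebra over an algebraically closed field is étale. -/
theorem etale_of_isAlgClosed (K : Type u) [Field K] [IsAlgClosed K] (A : Type u) [CommRing A]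
    [Algebra K A] [Module.Finite K A] [IsReduced A] : Algebra.Etale K A := by
  haveI : IsArtinianRing A := IsArtinianRing.of_finite K A
  rw [Algebra.Etale.iff_exists_algEquiv_prod]
  letI : ∀ m : MaximalSpectrum A, Field (A ⧸ m.asIdeal) := fun m =>
    Ideal.Quotient.field m.asIdeal
  have hfin : ∀ m : MaximalSpectrum A, Module.Finite K (A ⧸ m.asIdeal) := fun m =>
    Module.Finite.of_surjective (Ideal.Quotient.mkₐ K m.asIdeal).toLinearMap
      (Ideal.Quotient.mkₐ_surjective K m.asIdeal)
  refine ⟨MaximalSpectrum A, inferInstance, fun m => A ⧸ m.asIdeal, fun m => inferInstance,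
    fun m => inferInstance, (IsArtinianRing.equivPi A).restrictScalars K, fun m => ?_⟩
  haveI := hfin m
  haveI : Algebra.IsAlgebraic K (A ⧸ m.asIdeal) := Algebra.IsAlgebraic.of_finite K _
  exact ⟨inferInstance, inferInstance⟩

/-- a finite algebra over a field which becomes reduced over an algebraically closed extension is
étale. -/
theorem etale_of_reduced_tensor (k K : Type u) [Field k] [Field K] [Algebra k K] [IsAlgClosed K]
    (B : Type u) [CommRing B] [Algebra k B] [Module.Finite k B] (h : IsReduced (B ⊗[k] K)) :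
    Algebra.Etale k B := by
  haveI : IsReduced (K ⊗[k] B) :=
    isReduced_of_injective (Algebra.TensorProduct.comm k K B).toAlgHom
      (Algebra.TensorProduct.comm k K B).injective
  haveI : Module.Finite K (K ⊗[k] B) := inferInstance
  haveI := etale_of_isAlgClosed K (K ⊗[k] B)
  exact Algebra.Etale.of_etale_tensorProduct_of_faithfullyFlat K

section FBC

variable {k K : Type u} [Field k] [Field K] [Algebra k K] {Z Z' : Scheme.{u}}
  (p : Z ⟶ Spec (CommRingCat.of k)) {fst : Z' ⟶ Z} {snd : Z' ⟶ Spec (CommRingCat.of K)}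

/-- flat base change of global sections along a field extension, as an isomorphism of rings. -/
theorem nonempty_ringEquiv [QuasiCompact p] [QuasiSeparated p]
    (H : IsPullback fst snd p (Spec.map (CommRingCat.ofHom (algebraMap k K)))) :
    letI : Algebra k Γ(Z, ⊤) := (Coh.toGlobal p).toAlgebra
    Nonempty ((Γ(Z, ⊤) ⊗[k] K) ≃+* Γ(Z', ⊤)) := by
  letI : Algebra k Γ(Z, ⊤) := (Coh.toGlobal p).toAlgebra
  haveI : CompactSpace Z := (quasiCompact_iff_compactSpace p).mp inferInstance
  haveI : QuasiSeparatedSpace Z := (quasiSeparated_iff_quasiSeparatedSpace p).mp inferInstance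
  obtain ⟨q, hq⟩ : ∃ q : Spec (CommRingCat.of K) ⟶ Spec (CommRingCat.of k),
      q = Spec.map (CommRingCat.ofHom (algebraMap k K)) := ⟨_, rfl⟩
  rw [← hq] at H
  haveI : Flat q := by
    rw [hq, Flat.SpecMap_iff]
    exact RingHom.flat_algebraMap_iff.mpr inferInstance
  have hUST : (⊤ : (Spec (CommRingCat.of K)).Opens) ≤ q ⁻¹ᵁ (⊤ : (Spec (CommRingCat.of k)).Opens) :=
    le_of_eq (by simp)
  have hUSX : (⊤ : Z.Opens) ≤ p ⁻¹ᵁ (⊤ : (Spec (CommRingCat.of k)).Opens) := le_of_eq (by simp)
  have hUY : (⊤ : Z'.Opens) = fst ⁻¹ᵁ (⊤ : Z.Opens) ⊓ snd ⁻¹ᵁ (⊤ : (Spec (CommRingCat.of K)).Opens) := by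
    simp
  have h1 := isIso_pushoutSection_of_isQuasiSeparated_of_flat_right H hUST hUSX hUY
    (isAffineOpen_top _) (isAffineOpen_top _) isCompact_univ isQuasiSeparated_univ
  have h2 := (isIso_pushoutSection_iff H hUST hUSX hUY).mp h1
  have h3 : IsPushout (CommRingCat.ofHom (algebraMap k Γ(Z, ⊤)))
      (CommRingCat.ofHom (algebraMap k K))
      (fst.appLE ⊤ ⊤ (by simp))
      ((Scheme.ΓSpecIso (CommRingCat.of K)).inv ≫ snd.appLE ⊤ ⊤ (by simp)) := by
    refine h2.of_iso (Scheme.ΓSpecIso (CommRingCat.of k)) (Iso.refl _)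
      (Scheme.ΓSpecIso (CommRingCat.of K)) (Iso.refl _) ?_ ?_ ?_ ?_
    · have : CommRingCat.ofHom (algebraMap k Γ(Z, ⊤)) =
          (Scheme.ΓSpecIso (CommRingCat.of k)).inv ≫ p.appTop := rfl
      rw [this]
      simp [Scheme.Hom.appLE]
    · rw [hq]
      have := Scheme.ΓSpecIso_naturality (CommRingCat.ofHom (algebraMap k K))
      simpa [Scheme.Hom.appLE] using this
    · simp
    · simp
  have e := (CommRingCat.isPushout_tensorProduct k Γ(Z, ⊤) K).isoIsPushout _ _ h3
  exact ⟨e.commRingCatIsoToRingEquiv⟩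

end FBC

/-- **Global functions of a proper scheme over a field which becomes reduced over an algebraically
closed extension form an étale algebra.** -/
theorem etale_gamma {k K : Type u} [Field k] [Field K] [Algebra k K] [IsAlgClosed K]
    {Z Z' : Scheme.{u}} (p : Z ⟶ Spec (CommRingCat.of k)) [IsProper p] {fst : Z' ⟶ Z}
    {snd : Z' ⟶ Spec (CommRingCat.of K)}
    (H : IsPullback fst snd p (Spec.map (CommRingCat.ofHom (algebraMap k K)))) [IsReduced Z'] :
    letI : Algebra k Γ(Z, ⊤) := (Coh.toGlobal p).toAlgebra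
    Algebra.Etale k Γ(Z, ⊤) := by
  letI : Algebra k Γ(Z, ⊤) := (Coh.toGlobal p).toAlgebra
  letI : Z.Over (Spec (CommRingCat.of k)) := ⟨p⟩
  haveI : IsProper (Z ↘ Spec (CommRingCat.of k)) := ‹IsProper p›
  haveI : Module.Finite k (Coh.HH Z (Coh.structureModule Z) 0) :=
    Groth.Agent.S0002.result k Z _ (Groth.Agent.Lib.Helper23.T2.isCoh_structureModule Z) 0
  haveI : Module.Finite k Γ(Z, ⊤) :=
    Module.Finite.equiv (Groth.Agent.Lib.Helper23.GeomH0.H0structEquiv k Z)
  obtain ⟨e⟩ := nonempty_ringEquiv p H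
  have hred : IsReduced (Γ(Z, ⊤) ⊗[k] K) := isReduced_of_injective e.toRingHom e.injective
  exact etale_of_reduced_tensor k K Γ(Z, ⊤) hred

end Groth.Agent.Lib.Helper13.EtGamma
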