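import Mathlib
import Groth.Prelude
import Groth.Agent.Lib.Helper13.EtGamma
import Groth.Agent.Lib.Helper11.AA1
import Groth.Agent.Lib.Helper23.FBC5
import Groth.Agent.Lib.Helper3.PbBasic

/-!
# Counting the connected components of the geometric fibres of a proper geometrically reduced
morphism: the number is `dim H^0(X_s, O)`
-/

set_option autoImplicit false
set_option linter.style.haveILetI false
universe u
open CategoryTheory CategoryTheory.Limits AlgebraicGeometry TensorProduct

namespace Groth.Agent.Lib.Helper13.CompCount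

/-- a continuous map to a discrete space with connected fibres identifies the connected components
of the source with the target. -/
theorem nonempty_connectedComponents_equiv {W T : Type*} [TopologicalSpace W] [TopologicalSpace T]
    [DiscreteTopology T] (g : W → T) (hg : Continuous g)
    (hconn : ∀ t, _root_.IsConnected (g ⁻¹' {t})) :
    Nonempty (_root_.ConnectedComponents W ≃ T) := by
  refine ⟨Equiv.ofBijective hg.connectedComponentsLift ⟨?_, ?_⟩⟩
  · intro a b hab
    obtain ⟨x, rfl⟩ := ConnectedComponents.surjective_coe a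
    obtain ⟨y, rfl⟩ := ConnectedComponents.surjective_coe b
    rw [Continuous.connectedComponentsLift_apply_coe,
      Continuous.connectedComponentsLift_apply_coe] at hab
    rw [ConnectedComponents.coe_eq_coe']
    have hy : y ∈ g ⁻¹' {g y} := rfl
    have hx : x ∈ g ⁻¹' {g y} := hab
    exact (hconn (g y)).isPreconnected.subset_connectedComponent hy hx
  · intro t
    obtain ⟨x, hx⟩ := (hconn t).nonempty
    refine ⟨(x : _root_.ConnectedComponents W), ?_⟩
    rw [Continuous.connectedComponentsLift_apply_coe]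
    exact hx

/-- the fibres of `W ⟶ Spec Γ(W, ⊤)` are connected when `W` is qcqs and `Γ(W, ⊤)` is a reduced
Artinian ring. -/
theorem isConnected_fibre_toSpecΓ (W : Scheme.{u}) [CompactSpace W] [QuasiSeparatedSpace W]
    [IsArtinianRing Γ(W, ⊤)] [IsReduced Γ(W, ⊤)] (t : ↥(Spec Γ(W, ⊤))) :
    _root_.IsConnected (W.toSpecΓ ⁻¹' {t}) := by
  haveI : IsSemisimpleRing Γ(W, ⊤) := IsArtinianRing.isSemisimpleRing_of_isReduced _
  obtain ⟨P, hP⟩ : ∃ P : PrimeSpectrum Γ(W, ⊤), P = t := ⟨t, rfl⟩
  obtain ⟨φ, hφ⟩ : ∃ φ : Γ(W, ⊤) →+* P.asIdeal.ResidueField,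
      φ = algebraMap Γ(W, ⊤) P.asIdeal.ResidueField := ⟨_, rfl⟩
  obtain ⟨j, hj⟩ : ∃ j : Spec (CommRingCat.of P.asIdeal.ResidueField) ⟶ Spec Γ(W, ⊤),
      j = Spec.map (CommRingCat.ofHom φ) := ⟨_, rfl⟩
  haveI : Flat j := by
    rw [hj, Flat.SpecMap_iff]
    show φ.Flat
    rw [hφ]
    haveI : Module.Projective Γ(W, ⊤) P.asIdeal.ResidueField :=
      Module.projective_of_isSemisimpleRing _ _
    exact RingHom.flat_algebraMap_iff.mpr inferInstance
  have hrange : Set.range j = {t} := by
    rw [hj, hφ, ← hP]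
    exact PrimeSpectrum.residueField_comap P
  haveI : IsIso W.toSpecΓ.appTop := by
    rw [Scheme.toSpecΓ_appTop]; infer_instance
  haveI := Groth.Agent.Lib.Helper11.AA1.isIso_snd_appTop W.toSpecΓ j
  have hconn : ConnectedSpace ↥(pullback W.toSpecΓ j) := by
    refine Groth.Agent.Lib.Helper11.AA1.connectedSpace_of_bijective (pullback.snd W.toSpecΓ j) ?_
    exact ConcreteCategory.bijective_of_isIso _
  have hr : Set.range (pullback.fst W.toSpecΓ j) = W.toSpecΓ ⁻¹' {t} := by
    rw [Scheme.Pullback.range_fst, hrange]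
  rw [← hr]
  exact isConnected_range (pullback.fst W.toSpecΓ j).continuous

/-- the number of connected components of a qcqs scheme whose ring of functions is reduced
Artinian. -/
theorem enatCard_connectedComponents (W : Scheme.{u}) [CompactSpace W] [QuasiSeparatedSpace W]
    [IsArtinianRing Γ(W, ⊤)] [IsReduced Γ(W, ⊤)] [Fintype (PrimeSpectrum Γ(W, ⊤))] :
    ENat.card (_root_.ConnectedComponents W) = (Fintype.card (PrimeSpectrum Γ(W, ⊤)) : ℕ∞) := by
  haveI : DiscreteTopology ↥(Spec Γ(W, ⊤)) :=
    inferInstanceAs (DiscreteTopology (PrimeSpectrum _))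
  obtain ⟨e⟩ := nonempty_connectedComponents_equiv (fun w => W.toSpecΓ w)
    W.toSpecΓ.continuous (isConnected_fibre_toSpecΓ W)
  have e' : _root_.ConnectedComponents W ≃ PrimeSpectrum Γ(W, ⊤) := e
  rw [ENat.card_congr e']
  exact ENat.card_eq_coe_fintype_card

/-- the dimension of an étale algebra over a separably closed field is the number of its primes. -/
theorem finrank_eq_card (Ω : Type u) [Field Ω] [IsSepClosed Ω] (A : Type u) [CommRing A]
    [Algebra Ω A] [Algebra.Etale Ω A] [Fintype (PrimeSpectrum A)] :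
    Module.finrank Ω A = Fintype.card (PrimeSpectrum A) := by
  have e := Algebra.FormallyEtale.equivPiOfIsSepClosed Ω A
  rw [e.toLinearEquiv.finrank_eq, Module.finrank_fintype_fun_eq_card]

section BaseChange

variable {k K : Type u} [Field k] [Field K] [Algebra k K] {Z Z' : Scheme.{u}}
  (p : Z ⟶ Spec (CommRingCat.of k)) {fst : Z' ⟶ Z} {snd : Z' ⟶ Spec (CommRingCat.of K)}

/-- `h⁰(O)` is invariant under extension of the base field. -/
theorem finrank_gamma_baseChange [IsProper p]
    (H : IsPullback fst snd p (Spec.map (CommRingCat.ofHom (algebraMap k K)))) :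
    letI : Algebra k Γ(Z, ⊤) := (Coh.toGlobal p).toAlgebra
    letI : Algebra K Γ(Z', ⊤) := (Coh.toGlobal snd).toAlgebra
    Module.finrank K Γ(Z', ⊤) = Module.finrank k Γ(Z, ⊤) := by
  letI : Algebra k Γ(Z, ⊤) := (Coh.toGlobal p).toAlgebra
  letI : Algebra K Γ(Z', ⊤) := (Coh.toGlobal snd).toAlgebra
  letI over0 : Z.Over (Spec (CommRingCat.of k)) := ⟨p⟩
  letI over1 : Z'.Over (Spec (CommRingCat.of K)) := ⟨snd⟩
  haveI : IsProper (Z ↘ Spec (CommRingCat.of k)) := ‹IsProper p›
  have hpb : IsPullback fst (Z' ↘ Spec (CommRingCat.of K)) (Z ↘ Spec (CommRingCat.of k))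
      (Spec.map (CommRingCat.ofHom (algebraMap k K))) := H
  have e0 := (Groth.Agent.Lib.Helper23.FBC.HmapEquivK K
    (Groth.Agent.Lib.Helper3.PbBasic.pbUnit fst) 0).finrank_eq
  have f0 := Groth.Agent.Lib.Helper23.FBC.finrank_eq_of_isProper k K hpb 0
    (Coh.structureModule Z)
  have e1 := (Groth.Agent.Lib.Helper23.GeomH0.H0structEquiv K Z').finrank_eq
  have e2 := (Groth.Agent.Lib.Helper23.GeomH0.H0structEquiv k Z).finrank_eq
  exact e1.symm.trans ((e0.symm.trans f0).trans e2)

end BaseChange

/-- for a proper geometrically reduced scheme `W` over a separably closed field `Ω`, the number of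
connected components is `dim_Ω Γ(W, O)`. -/
theorem enatCard_connectedComponents_eq_finrank {Ω : Type u} [Field Ω] [IsSepClosed Ω]
    {W : Scheme.{u}} (q : W ⟶ Spec (CommRingCat.of Ω)) [IsProper q] [GeometricallyReduced q] :
    letI : Algebra Ω Γ(W, ⊤) := (Coh.toGlobal q).toAlgebra
    ENat.card (_root_.ConnectedComponents W) = (Module.finrank Ω Γ(W, ⊤) : ℕ∞) := by
  letI : Algebra Ω Γ(W, ⊤) := (Coh.toGlobal q).toAlgebra
  haveI : IsReduced (pullback q (Spec.map (CommRingCat.ofHom
      (algebraMap Ω (AlgebraicClosure Ω))))) :=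
    GeometricallyReduced.geometrically_isReduced _ _ _ (.of_hasPullback _ _)
  haveI het : Algebra.Etale Ω Γ(W, ⊤) :=
    Groth.Agent.Lib.Helper13.EtGamma.etale_gamma (K := AlgebraicClosure Ω) q
      (IsPullback.of_hasPullback q _)
  haveI : Module.Finite Ω Γ(W, ⊤) := Algebra.FormallyUnramified.finite_of_free Ω _
  haveI : IsArtinianRing Γ(W, ⊤) := IsArtinianRing.of_finite Ω _
  haveI : IsReduced Γ(W, ⊤) := Algebra.FormallyUnramified.isReduced_of_field Ω _
  haveI : CompactSpace W := (quasiCompact_iff_compactSpace q).mp inferInstance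
  haveI : QuasiSeparatedSpace W := (quasiSeparated_iff_quasiSeparatedSpace q).mp inferInstance
  letI : Fintype (PrimeSpectrum Γ(W, ⊤)) := Fintype.ofFinite _
  rw [enatCard_connectedComponents W, finrank_eq_card Ω Γ(W, ⊤)]

/-- **The number of geometric connected components of a fibre of a proper geometrically reduced
morphism is `dim H^0(X_s, O)`.** -/
theorem nGeomConnComp_eq {X S : Scheme.{u}} (f : X ⟶ S) [IsProper f] [GeometricallyReduced f]
    (s : S) :
    MoreMor.nGeomConnComp f s =
      (Module.finrank (S.residueField s) Γ(f.fiber s, ⊤) : ℕ∞) := by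
  obtain ⟨p, hp⟩ : ∃ p : f.fiber s ⟶ Spec (CommRingCat.of ↑(S.residueField s)),
      p = f.fiberToSpecResidueField s := ⟨_, rfl⟩
  haveI : IsProper p := by
    rw [hp]
    exact (inferInstance : IsProper (pullback.snd f (S.fromSpecResidueField s)))
  haveI : GeometricallyReduced p := by rw [hp]; infer_instance
  have H := IsPullback.of_hasPullback p (Spec.map (CommRingCat.ofHom
    (algebraMap ↑(S.residueField s) (SeparableClosure ↑(S.residueField s)))))
  have h1 := enatCard_connectedComponents_eq_finrank
    (pullback.snd p (Spec.map (CommRingCat.ofHom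
      (algebraMap ↑(S.residueField s) (SeparableClosure ↑(S.residueField s))))))
  have h2 := finrank_gamma_baseChange p H
  have h3 : MoreMor.nGeomConnComp f s = ENat.card (_root_.ConnectedComponents ↥(pullback p
      (Spec.map (CommRingCat.ofHom
        (algebraMap ↑(S.residueField s) (SeparableClosure ↑(S.residueField s))))))) := by
    rw [hp]; rfl
  rw [h3, h1, h2, hp]
  rfl

end Groth.Agent.Lib.Helper13.CompCount
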