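import Mathlib
import Groth.Agent.Lib.Helper13.CBCEtStalk
import Groth.Agent.Lib.Helper13.CBCSeesaw
import Groth.Agent.S2407

/-!
# Universal `O_T = (f_T)_* O`: the local statement over `Spec O_{Y,y}`
-/

set_option autoImplicit false
set_option linter.style.haveILetI false
universe u
open CategoryTheory CategoryTheory.Limits AlgebraicGeometry TopologicalSpace Opposite TensorProduct
  MonoidalCategory
open Scheme.Modules

namespace Groth.Agent.Lib.Helper13.CBCUniv

open Groth.Agent.Lib.Helper13.CBCSec Groth.Agent.Lib.Helper13.CBCCech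
  Groth.Agent.Lib.Helper13.CBCUp Groth.Agent.Lib.Helper13.CBCBase
  Groth.Agent.Lib.Helper13.CBCBC Groth.Agent.Lib.Helper13.CBCFib
  Groth.Agent.Lib.Helper13.CBCRank
open Groth.Agent.Lib.Helper7

section Cat

variable {A : Type u} [CommRing A]

/-- a functor isomorphic to `N ⊗ -` with `N ≅ A` is, objectwise, naturally isomorphic to the
identity. -/
lemma exists_natural_iso (T : ModuleCat.{u} A ⥤ ModuleCat.{u} A) (N : ModuleCat.{u} A)
    (τ : T ≅ tensorLeft N) (n : N ≅ 𝟙_ (ModuleCat.{u} A)) (M : ModuleCat.{u} A) :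
    ∃ Φ : T.obj M ≅ M, ∀ h : M ⟶ M, T.map h ≫ Φ.hom = Φ.hom ≫ h := by
  refine ⟨τ.app M ≪≫ whiskerRightIso n M ≪≫ λ_ M, fun h => ?_⟩
  simp only [Iso.trans_hom, Iso.app_hom, whiskerRightIso_hom]
  have h1 : T.map h ≫ τ.hom.app M = τ.hom.app M ≫ N ◁ h := τ.hom.naturality h
  rw [← Category.assoc, h1, Category.assoc, Category.assoc]
  congr 1
  rw [← Category.assoc, whisker_exchange, Category.assoc, leftUnitor_naturality, Category.assoc]

end Cat

section Bridge

variable (A : Type u) [CommRing A] {X : Scheme.{u}} [X.Over (Spec (CommRingCat.of A))]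
  [IsSeparated (sm A X)] [QuasiCompact (sm A X)]
  (B : Type u) [CommRing B] {X' : Scheme.{u}} [X'.Over (Spec (CommRingCat.of B))]
  (g : Spec (CommRingCat.of B) ⟶ Spec (CommRingCat.of A)) (g' : X' ⟶ X)
  (hc : IsPullback g' (sm B X') (sm A X) g) (F : X.Modules) [F.IsQuasicoherent]
  (Q : ChainComplex (ModuleCat.{u} A) ℤ) (p : ℕ) (j : ℤ)
  (ν : CohIII.tensorAFunctor A F ⋙ CohIII.HAb X p ≅
    CohIII.TFun Q j ⋙ forget₂ (ModuleCat.{u} A) AddCommGrpCat.{u})

include hc ν in
/-- `H^p(X', g'^* F) ≃ T_j(B)`, compatibly with the action of `B`. -/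
theorem exists_equiv_T :
    ∃ E : Coh.HH X' (F' g' F) p ≃+ ↑((CohIII.TFun Q j).obj (MA A B g (ModuleCat.of B B))),
      ∀ (b : B) (x : Coh.HH X' (F' g' F) p),
        E (b • x) = ((CohIII.TFun Q j).map (μB A B g b)).hom (E x) := by
  classical
  obtain ⟨ι, hfin, U, hcov, -, hU⟩ := CBCCover.exists_cover A X
  obtain ⟨fb, hfb⟩ := exists_fibre_equiv A B g g' hc F U p hcov hU
  refine ⟨fb.trans (Groth.Agent.Lib.Helper13.CBCUnit.addEquivOfBridge A F Q p j ν
    (MA A B g (ModuleCat.of B B))), ?_⟩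
  intro b x
  have hn := ConcreteCategory.congr_hom (ν.hom.naturality (μB A B g b)) (fb x)
  have h2 : (fb.trans (Groth.Agent.Lib.Helper13.CBCUnit.addEquivOfBridge A F Q p j ν
      (MA A B g (ModuleCat.of B B)))) (b • x) =
      Groth.Agent.Lib.Helper13.CBCUnit.addEquivOfBridge A F Q p j ν
        (MA A B g (ModuleCat.of B B)) (fb (b • x)) := rfl
  rw [h2, hfb b x]
  exact hn

end Bridge

section Local

variable {X Y : Scheme.{u}} (f : X ⟶ Y) [IsProper f] [Flat f] [IsLocallyNoetherian Y] (y : Y)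

/-- **The local statement.**  If `h⁰(X_y, O) = 1` then for every base change `X'` of
`X ×_Y Spec O_{Y,y}` to an affine scheme `Spec B` the map `B → Γ(X', O)` is bijective. -/
theorem bijective_toGlobal_of_stalk
    (h0 : Module.finrank (Y.residueField y) Γ(f.fiber y, ⊤) = 1)
    (B : Type u) [CommRing B] {X' : Scheme.{u}} [X'.Over (Spec (CommRingCat.of B))]
    (h : Spec (CommRingCat.of B) ⟶ Spec (CommRingCat.of (Y.presheaf.stalk y)))
    (g' : X' ⟶ pullback f (Y.fromSpecStalk y))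
    (hc : IsPullback g' (X' ↘ Spec (CommRingCat.of B)) (pullback.snd f (Y.fromSpecStalk y)) h) :
    Function.Bijective (Coh.toGlobal (X' ↘ Spec (CommRingCat.of B))) := by
  classical
  have hy : Function.Bijective (algebraMap (Y.residueField y) Γ(f.fiber y, ⊤)) :=
    Groth.Agent.Lib.Helper13.CBCSeesaw.bijective_algebraMap_of_finrank_eq_one _ _ h0
  have het : Algebra.Etale (Y.residueField y) Γ(f.fiber y, ⊤) :=
    Algebra.Etale.of_equiv (AlgEquiv.ofBijective (Algebra.ofId _ _) hy)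
  have hF : Coh.IsCoh (Coh.structureModule X) :=
    Groth.Agent.Lib.Helper23.T2.isCoh_structureModule X
  haveI : (Coh.structureModule X).IsQuasicoherent := hF.1
  have hfl : FlatMod.IsFlatOver f (Coh.structureModule X) :=
    Groth.Agent.Lib.Helper13.CBCEtStalk.isFlatOver_structureModule f
  letI : (pullback f (Y.fromSpecStalk y)).Over (Spec (CommRingCat.of (Y.presheaf.stalk y))) :=
    ⟨pullback.snd f (Y.fromSpecStalk y)⟩
  have hsq : IsPullback (pullback.fst f (Y.fromSpecStalk y))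
      ((pullback f (Y.fromSpecStalk y)) ↘ Spec (CommRingCat.of (Y.presheaf.stalk y))) f
      (Y.fromSpecStalk y) := IsPullback.of_hasPullback _ _
  haveI : IsProper ((pullback f (Y.fromSpecStalk y)) ↘
      Spec (CommRingCat.of (Y.presheaf.stalk y))) :=
    MorphismProperty.of_isPullback hsq ‹IsProper f›
  haveI : Flat ((pullback f (Y.fromSpecStalk y)) ↘
      Spec (CommRingCat.of (Y.presheaf.stalk y))) :=
    MorphismProperty.of_isPullback hsq ‹Flat f›
  have hcoh : Coh.IsCoh ((Scheme.Modules.pullback (pullback.fst f (Y.fromSpecStalk y))).obj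
      (Coh.structureModule X)) :=
    Groth.Agent.Lib.Helper23.T2.isCoh_pullback _ hF
  haveI : ((Scheme.Modules.pullback (pullback.fst f (Y.fromSpecStalk y))).obj
      (Coh.structureModule X)).IsQuasicoherent := hcoh.1
  have hfl1 : FlatMod.IsFlatOver ((pullback f (Y.fromSpecStalk y)) ↘
      Spec (CommRingCat.of (Y.presheaf.stalk y)))
      ((Scheme.Modules.pullback (pullback.fst f (Y.fromSpecStalk y))).obj
        (Coh.structureModule X)) := fun x' =>
    Groth.Agent.Lib.Helper17.FibreFlat.isFlatOverAt_baseChange hsq (Coh.structureModule X) x'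
      (hfl _)
  obtain ⟨Q, hQ, hb, hpos, hν⟩ := Groth.Agent.Lib.Helper13.CBCMain.bridge (Y.presheaf.stalk y)
    (pullback f (Y.fromSpecStalk y)) _ hcoh hfl1
  obtain ⟨ν0⟩ := hν 0
  have hQ' : ∀ i, Module.Finite (Y.presheaf.stalk y) (Q.X i) ∧
      Module.Flat (Y.presheaf.stalk y) (Q.X i) := fun i =>
    ⟨(hQ i).1, haveI := (hQ i).2; inferInstance⟩
  have hQfl : ∀ i, Module.Flat (Y.presheaf.stalk y) (Q.X i) := fun i => (hQ' i).2
  -- the fibre as a base change of `X₁`
  letI over' : (f.fiber y).Over (Spec (CommRingCat.of ↑(Y.residueField y))) :=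
    ⟨f.fiberToSpecResidueField y⟩
  let gB : Spec (CommRingCat.of ↑(Y.residueField y)) ⟶
      Spec (CommRingCat.of (Y.presheaf.stalk y)) := Spec.map (Y.residue y)
  have hgB : gB ≫ Y.fromSpecStalk y = Y.fromSpecResidueField y := rfl
  have hw : f.fiberι y ≫ f = (f.fiberToSpecResidueField y ≫ gB) ≫ Y.fromSpecStalk y := by
    rw [Category.assoc, hgB]
    exact pullback.condition
  let g₀ : f.fiber y ⟶ pullback f (Y.fromSpecStalk y) :=
    hsq.lift (f.fiberι y) (f.fiberToSpecResidueField y ≫ gB) hw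
  have hg'1 : g₀ ≫ pullback.fst f (Y.fromSpecStalk y) = f.fiberι y := hsq.lift_fst _ _ _
  have hg'2 : g₀ ≫ sm (Y.presheaf.stalk y) (pullback f (Y.fromSpecStalk y)) =
      f.fiberToSpecResidueField y ≫ gB := hsq.lift_snd _ _ _
  have hbig : IsPullback (g₀ ≫ pullback.fst f (Y.fromSpecStalk y))
      (f.fiberToSpecResidueField y) f (gB ≫ Y.fromSpecStalk y) := by
    rw [hg'1, hgB]
    exact IsPullback.of_hasPullback f (Y.fromSpecResidueField y)
  have hc₀ : IsPullback g₀ (sm ↑(Y.residueField y) (f.fiber y))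
      (sm (Y.presheaf.stalk y) (pullback f (Y.fromSpecStalk y))) gB :=
    IsPullback.of_right hbig hg'2 hsq
  have hφ : ∀ a, φg (Y.presheaf.stalk y) ↑(Y.residueField y) gB a =
      IsLocalRing.residue (Y.presheaf.stalk y) a := fun a =>
    φg_specMap (Y.presheaf.stalk y) ↑(Y.residueField y) (Y.residue y) a
  have hsurjφ : Function.Surjective (φg (Y.presheaf.stalk y) ↑(Y.residueField y) gB) := by
    intro b
    obtain ⟨a, ha⟩ := IsLocalRing.residue_surjective (show IsLocalRing.ResidueField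
      (Y.presheaf.stalk y) from b)
    exact ⟨a, (hφ a).trans ha⟩
  have hker : RingHom.ker (φg (Y.presheaf.stalk y) ↑(Y.residueField y) gB) =
      IsLocalRing.maximalIdeal (Y.presheaf.stalk y) := by
    ext a
    rw [RingHom.mem_ker, hφ]
    exact IsLocalRing.residue_eq_zero_iff a
  have halg : algebraMap ↑(Y.residueField y) Γ(f.fiber y, ⊤) =
      Groth.Agent.Lib.Helper13.CBCSec.φ ↑(Y.residueField y) (⊤ : (f.fiber y).Opens) := by
    have h7 : (sm ↑(Y.residueField y) (f.fiber y)).appLE ⊤ ⊤ le_top =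
        (sm ↑(Y.residueField y) (f.fiber y)).appTop := by
      rw [Scheme.Hom.appTop, Scheme.Hom.app_eq_appLE]
      rfl
    unfold Groth.Agent.Lib.Helper13.CBCSec.φ
    rw [h7]
    rfl
  have hsep : ∀ α : Γ(f.fiber y, ⊤), ∃ P : Polynomial (Y.presheaf.stalk y),
      P.eval₂ ((Groth.Agent.Lib.Helper13.CBCSec.φ ↑(Y.residueField y)
        (⊤ : (f.fiber y).Opens)).comp (φg (Y.presheaf.stalk y) ↑(Y.residueField y) gB)) α = 0 ∧
      IsUnit ((Polynomial.derivative P).eval₂
        ((Groth.Agent.Lib.Helper13.CBCSec.φ ↑(Y.residueField y)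
          (⊤ : (f.fiber y).Opens)).comp
          (φg (Y.presheaf.stalk y) ↑(Y.residueField y) gB)) α) := by
    intro α
    have := het
    obtain ⟨p, hp0, hpu⟩ := Groth.Agent.Lib.Helper13.EtHensel.exists_sep_poly
      ↑(Y.residueField y) Γ(f.fiber y, ⊤) α
    obtain ⟨P, hP⟩ := Polynomial.map_surjective _ hsurjφ p
    refine ⟨P, ?_, ?_⟩
    · rw [← Polynomial.eval₂_map, hP, ← halg]
      exact hp0
    · rw [← Polynomial.eval₂_map, ← Polynomial.derivative_map, hP, ← halg]
      exact hpu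
  have hex := Groth.Agent.Lib.Helper13.CBCEtExact.preserves_of_sep (Y.presheaf.stalk y)
    (pullback f (Y.fromSpecStalk y)) ↑(Y.residueField y) gB g₀
    (Groth.Agent.Lib.Helper23.T2.isCoh_structureModule _)
    (Groth.Agent.Lib.Helper13.CBCEtStalk.isFlatOver_structureModule _) hc₀ hsurjφ hker hsep
  -- transport to `g₁^* O_X` and to `T_0`
  have hm0 : (CohIII.TFun Q (-((0 : ℕ) : ℤ))).PreservesMonomorphisms :=
    (Groth.Agent.Lib.Helper13.CBCTransfer.preservesMono_iff ν0).1
      ((Functor.PreservesMonomorphisms.iso_iff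
        (Groth.Agent.Lib.Helper13.CBCCongr.HAbCongr (Y.presheaf.stalk y)
          (Groth.Agent.Lib.Helper3.PbBasic.pbUnit (pullback.fst f (Y.fromSpecStalk y))) 0)).2
        hex.1)
  have he0 : (CohIII.TFun Q (-((0 : ℕ) : ℤ))).PreservesEpimorphisms :=
    (Groth.Agent.Lib.Helper13.CBCTransfer.preservesEpi_iff ν0).1
      ((Functor.PreservesEpimorphisms.iso_iff
        (Groth.Agent.Lib.Helper13.CBCCongr.HAbCongr (Y.presheaf.stalk y)
          (Groth.Agent.Lib.Helper3.PbBasic.pbUnit (pullback.fst f (Y.fromSpecStalk y))) 0)).2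
        hex.2)
  obtain ⟨he, hfree⟩ := (Groth.Agent.S2410.result Q hQ' (-((0 : ℕ) : ℤ))).1 ⟨hm0, he0⟩
  haveI := he
  have hrank := Groth.Agent.Lib.Helper13.CBCStalk2.dRank_closedPoint_eq_finrank Q
    (-((0 : ℕ) : ℤ)) hQfl hfree
  have hrk := Groth.Agent.Lib.Helper13.CBCStalk.fiberRank_eq_dRank_of_stalk f y _ hsq
    (Coh.structureModule X) 0 Q ν0 (IsLocalRing.closedPoint (Y.presheaf.stalk y))
  rw [Scheme.fromSpecStalk_closedPoint] at hrk
  have hfib := Groth.Agent.Lib.Helper13.CBCEtStalk.fiberRank_eq_one f y hy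
  have hfr1 : Module.finrank (Y.presheaf.stalk y)
      ↑((CohIII.TFun Q (-((0 : ℕ) : ℤ))).obj
        (ModuleCat.of (Y.presheaf.stalk y) (Y.presheaf.stalk y))) = 1 :=
    hrank.symm.trans (hrk.symm.trans hfib)
  -- `T_0 ≅ N ⊗ -` with `N ≅ A`
  obtain ⟨N, ⟨τ⟩⟩ := (Groth.Agent.S2407.result Q hQfl (-((0 : ℕ) : ℤ))).1 he0
  haveI := hfree
  haveI : Module.Finite (Y.presheaf.stalk y)
      ↑((CohIII.TFun Q (-((0 : ℕ) : ℤ))).obj
        (ModuleCat.of (Y.presheaf.stalk y) (Y.presheaf.stalk y))) :=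
    Module.finite_of_finrank_pos (by rw [hfr1]; exact one_pos)
  let l1 : ↑((CohIII.TFun Q (-((0 : ℕ) : ℤ))).obj
        (ModuleCat.of (Y.presheaf.stalk y) (Y.presheaf.stalk y))) ≃ₗ[Y.presheaf.stalk y]
      (Y.presheaf.stalk y) :=
    (Module.finBasisOfFinrankEq (Y.presheaf.stalk y) _ hfr1).equivFun.trans
      (LinearEquiv.funUnique (Fin 1) (Y.presheaf.stalk y) (Y.presheaf.stalk y))
  let n : N ≅ 𝟙_ (ModuleCat.{u} (Y.presheaf.stalk y)) :=
    (ρ_ N).symm ≪≫ (τ.app (𝟙_ (ModuleCat.{u} (Y.presheaf.stalk y)))).symm ≪≫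
      (show (CohIII.TFun Q (-((0 : ℕ) : ℤ))).obj (𝟙_ (ModuleCat.{u} (Y.presheaf.stalk y))) ≅
        𝟙_ (ModuleCat.{u} (Y.presheaf.stalk y)) from l1.toModuleIso)
  obtain ⟨Φ, hΦ⟩ := exists_natural_iso (CohIII.TFun Q (-((0 : ℕ) : ℤ))) N τ n
    (MA (Y.presheaf.stalk y) B h (ModuleCat.of B B))
  -- the comparison with the base change
  obtain ⟨E, hE⟩ := exists_equiv_T (Y.presheaf.stalk y) B h g' hc
    ((Scheme.Modules.pullback (pullback.fst f (Y.fromSpecStalk y))).obj (Coh.structureModule X))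
    Q 0 (-((0 : ℕ) : ℤ)) ν0
  letI : Algebra B Γ(X', ⊤) := (Coh.toGlobal (X' ↘ Spec (CommRingCat.of B))).toAlgebra
  let ε : F' g' ((Scheme.Modules.pullback (pullback.fst f (Y.fromSpecStalk y))).obj
      (Coh.structureModule X)) ≅ Coh.structureModule X' :=
    (Scheme.Modules.pullback g').mapIso
      (Groth.Agent.Lib.Helper3.PbBasic.pbUnit (pullback.fst f (Y.fromSpecStalk y))) ≪≫
      Groth.Agent.Lib.Helper3.PbBasic.pbUnit g'
  let c1 := Groth.Agent.Lib.Helper13.CBCStalk.HHcongr B ε 0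
  let c2 := Groth.Agent.Lib.Helper23.GeomH0.H0structEquiv B X'
  let c := (c1.trans c2).symm
  -- the composite
  let tg : B →+* Γ(X', ⊤) := Coh.toGlobal (X' ↘ Spec (CommRingCat.of B))
  let toB : ↑(MA (Y.presheaf.stalk y) B h (ModuleCat.of B B)) → B := fun z => z
  let G : Γ(X', ⊤) → B := fun s => toB (Φ.hom.hom (E (c s)))
  have hGsmul : ∀ (b : B) (s : Γ(X', ⊤)), G (tg b * s) = b * G s := fun b s => by
    have h4 : tg b * s = b • s := rfl
    show toB (Φ.hom.hom (E (c (tg b * s)))) = b * toB (Φ.hom.hom (E (c s)))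
    rw [h4, c.map_smul, hE]
    have h3 := ConcreteCategory.congr_hom (hΦ (μB (Y.presheaf.stalk y) B h b)) (E (c s))
    exact congrArg toB h3
  have hGbij : Function.Bijective G := by
    have h1 : Function.Bijective (fun z : ↑((CohIII.TFun Q (-((0 : ℕ) : ℤ))).obj
        (MA (Y.presheaf.stalk y) B h (ModuleCat.of B B))) => toB (Φ.hom.hom z)) :=
      (ConcreteCategory.bijective_of_isIso Φ.hom)
    exact h1.comp (E.bijective.comp c.bijective)
  obtain ⟨s₀, hs₀⟩ := hGbij.2 1
  have hmul : Function.Bijective (fun b : B => tg b * s₀) := by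
    have h1 : ∀ b : B, G (tg b * s₀) = b := fun b => by
      have h2 := hGsmul b s₀
      rw [hs₀, mul_one] at h2
      exact h2
    constructor
    · intro b b' hbb
      have := congrArg G hbb
      rwa [h1, h1] at this
    · intro s
      refine ⟨G s, hGbij.1 ?_⟩
      exact h1 (G s)
  exact Groth.Agent.Lib.Helper13.CBCEtStalk.bijective_of_mul_bijective tg s₀ hmul

end Local

end Groth.Agent.Lib.Helper13.CBCUniv
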