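import Mathlib
import Groth.Agent.Lib.Helper13.CBCUniv
import Groth.Agent.Lib.Helper16.PicFF.FlatDesc
import Groth.Agent.Lib.Helper3.Reduced

/-!
# Universal `O_T = (f_T)_* O` for proper flat morphisms with `h⁰(X_y, O) = 1`
-/

set_option autoImplicit false
set_option linter.style.haveILetI false
universe u
open CategoryTheory CategoryTheory.Limits AlgebraicGeometry TopologicalSpace Opposite TensorProduct

namespace Groth.Agent.Lib.Helper13.CBCUniv2

section Alg

/-- data at one maximal ideal: injectivity part -/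
lemma aux_inj {R S R' S' : CommRingCat.{u}} {φ : R ⟶ S} {ψ : R ⟶ R'} {ψ' : S ⟶ S'}
    {φ' : R' ⟶ S'} (hpo : IsPushout φ ψ ψ' φ') (P : Ideal R) [P.IsPrime]
    (hloc : letI : Algebra R R' := ψ.hom.toAlgebra; IsLocalization.AtPrime R' P)
    (hbij : Function.Bijective φ'.hom) (r : R) (hr : φ.hom r = 0) :
    ∃ u : R, u ∉ P ∧ u * r = 0 := by
  letI : Algebra R R' := ψ.hom.toAlgebra
  haveI : IsLocalization P.primeCompl R' := hloc
  have h1 : φ'.hom (ψ.hom r) = 0 := by
    have := congr($(hpo.w).hom r)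
    simp only [CommRingCat.hom_comp, RingHom.comp_apply] at this
    rw [← this, hr, map_zero]
  have h2 : ψ.hom r = 0 := hbij.1 (h1.trans (map_zero _).symm)
  obtain ⟨m, hm⟩ := (IsLocalization.map_eq_zero_iff P.primeCompl R' r).1 h2
  exact ⟨m.1, m.2, hm⟩

/-- data at one maximal ideal: surjectivity part -/
lemma aux_surj {R S R' S' : CommRingCat.{u}} {φ : R ⟶ S} {ψ : R ⟶ R'} {ψ' : S ⟶ S'}
    {φ' : R' ⟶ S'} (hpo : IsPushout φ ψ ψ' φ') (P : Ideal R) [P.IsPrime]
    (hloc : letI : Algebra R R' := ψ.hom.toAlgebra; IsLocalization.AtPrime R' P)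
    (hbij : Function.Bijective φ'.hom) (s : S) :
    ∃ u : R, u ∉ P ∧ ∃ a : R, φ.hom u * s = φ.hom a := by
  letI aRS : Algebra R S := φ.hom.toAlgebra
  letI aRR' : Algebra R R' := ψ.hom.toAlgebra
  letI aSS' : Algebra S S' := ψ'.hom.toAlgebra
  letI aR'S' : Algebra R' S' := φ'.hom.toAlgebra
  letI aRS' : Algebra R S' := ((algebraMap S S').comp (algebraMap R S)).toAlgebra
  haveI t1 : IsScalarTower R S S' := IsScalarTower.of_algebraMap_eq fun _ => rfl
  haveI t2 : IsScalarTower R R' S' :=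
    IsScalarTower.of_algebraMap_eq fun r => congr($(hpo.w).hom r)
  haveI po : Algebra.IsPushout R S R' S' := CommRingCat.isPushout_iff_isPushout.mp hpo
  have po' : Algebra.IsPushout R R' S S' := po.symm
  haveI : IsLocalization P.primeCompl R' := hloc
  haveI hlm : IsLocalizedModule P.primeCompl (IsScalarTower.toAlgHom R S S').toLinearMap :=
    (isLocalizedModule_iff_isBaseChange P.primeCompl R' _).mpr po'.out
  obtain ⟨x, hx⟩ := hbij.2 (ψ'.hom s)
  obtain ⟨⟨a, u⟩, hau⟩ := IsLocalization.surj P.primeCompl x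
  have hau' : x * ψ.hom u.1 = ψ.hom a := hau
  have h3 : ψ'.hom (φ.hom u.1 * s - φ.hom a) = 0 := by
    have e1 : ψ'.hom (φ.hom u.1) = φ'.hom (ψ.hom u.1) := congr($(hpo.w).hom u.1)
    have e2 : ψ'.hom (φ.hom a) = φ'.hom (ψ.hom a) := congr($(hpo.w).hom a)
    rw [map_sub, map_mul, e1, e2, ← hx, ← map_mul, ← hau', mul_comm, sub_self]
  have h4 : (IsScalarTower.toAlgHom R S S').toLinearMap (φ.hom u.1 * s - φ.hom a) = 0 := h3
  obtain ⟨v, hv⟩ := (IsLocalizedModule.eq_zero_iff P.primeCompl _).1 h4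
  have hv' : φ.hom v.1 * (φ.hom u.1 * s - φ.hom a) = 0 := hv
  refine ⟨v.1 * u.1, fun hmem => ?_, v.1 * a, ?_⟩
  · rcases Ideal.IsPrime.mem_or_mem inferInstance hmem with h | h
    · exact v.2 h
    · exact u.2 h
  · rw [map_mul, map_mul, mul_assoc]
    rw [mul_sub, sub_eq_zero] at hv'
    exact hv'

/-- bijectivity can be checked after localizing the base at all maximal ideals. -/
theorem bijective_of_forall_maximal_isPushout {R S : CommRingCat.{u}} (φ : R ⟶ S)
    (H : ∀ (P : Ideal R) [P.IsMaximal], ∃ (R' S' : CommRingCat.{u}) (ψ : R ⟶ R') (ψ' : S ⟶ S')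
      (φ' : R' ⟶ S'), IsPushout φ ψ ψ' φ' ∧
        (letI : Algebra R R' := ψ.hom.toAlgebra; IsLocalization.AtPrime R' P) ∧
          Function.Bijective φ'.hom) :
    Function.Bijective φ.hom := by
  constructor
  · refine (injective_iff_map_eq_zero φ.hom).2 fun r hr => ?_
    let I : Ideal R :=
      { carrier := {u | u * r = 0}
        add_mem' := fun {a b} ha hb => by
          show (a + b) * r = 0
          rw [add_mul, ha, hb, add_zero]
        zero_mem' := zero_mul r
        smul_mem' := fun c a ha => by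
          show (c * a) * r = 0
          rw [mul_assoc, ha, mul_zero] }
    by_contra hne
    have hI : I ≠ ⊤ := fun h => by
      have h1 : (1 : R) ∈ I := h ▸ Submodule.mem_top
      have h2 : (1 : R) * r = 0 := h1
      rw [one_mul] at h2
      exact hne h2
    obtain ⟨P, hP, hIP⟩ := Ideal.exists_le_maximal I hI
    obtain ⟨R', S', ψ, ψ', φ', hpo, hloc, hbij⟩ := H P
    obtain ⟨u, huP, hu⟩ := aux_inj hpo P hloc hbij r hr
    exact huP (hIP hu)
  · intro s
    let I : Ideal R :=
      { carrier := {u | ∃ a : R, φ.hom u * s = φ.hom a}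
        add_mem' := fun {a b} ha hb => by
          obtain ⟨a', ha'⟩ := ha
          obtain ⟨b', hb'⟩ := hb
          exact ⟨a' + b', by rw [map_add, add_mul, ha', hb', map_add]⟩
        zero_mem' := ⟨0, by rw [map_zero, zero_mul]⟩
        smul_mem' := fun c a ha => by
          obtain ⟨a', ha'⟩ := ha
          refine ⟨c * a', ?_⟩
          show φ.hom (c * a) * s = φ.hom (c * a')
          rw [map_mul, mul_assoc, ha', map_mul] }
    by_contra hne
    have hI : I ≠ ⊤ := fun h => by
      have h1 : (1 : R) ∈ I := h ▸ Submodule.mem_top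
      obtain ⟨a, ha⟩ := h1
      rw [map_one, one_mul] at ha
      exact hne ⟨a, ha.symm⟩
    obtain ⟨P, hP, hIP⟩ := Ideal.exists_le_maximal I hI
    obtain ⟨R', S', ψ, ψ', φ', hpo, hloc, hbij⟩ := H P
    obtain ⟨u, huP, a, hu⟩ := aux_surj hpo P hloc hbij s
    exact huP (hIP ⟨a, hu⟩)

end Alg

section Geom

variable {X Y : Scheme.{u}} (f : X ⟶ Y) [IsProper f] [Flat f] [IsLocallyNoetherian Y]

/-- the base change of `f_T` to `Spec O_{T,t}` has `O_{T,t}` as ring of global functions. -/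
theorem bijective_appTop_stalk
    (h0 : ∀ y : Y, Module.finrank (Y.residueField y) Γ(f.fiber y, ⊤) = 1)
    {T : Scheme.{u}} (g : T ⟶ Y) (t : T) :
    Function.Bijective (pullback.snd (pullback.snd f g) (T.fromSpecStalk t)).appTop.hom := by
  letI : (pullback (pullback.snd f g) (T.fromSpecStalk t)).Over
      (Spec (CommRingCat.of (T.presheaf.stalk t))) := ⟨pullback.snd _ _⟩
  let h : Spec (CommRingCat.of (T.presheaf.stalk t)) ⟶
      Spec (CommRingCat.of (Y.presheaf.stalk (g t))) := Spec.map (g.stalkMap t)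
  have hh : h ≫ Y.fromSpecStalk (g t) = T.fromSpecStalk t ≫ g :=
    Scheme.SpecMap_stalkMap_fromSpecStalk g
  have hw : (pullback.fst (pullback.snd f g) (T.fromSpecStalk t) ≫ pullback.fst f g) ≫ f =
      (pullback.snd (pullback.snd f g) (T.fromSpecStalk t) ≫ h) ≫ Y.fromSpecStalk (g t) := by
    rw [Category.assoc, Category.assoc, hh, pullback.condition, ← Category.assoc,
      pullback.condition, Category.assoc]
  let g' : pullback (pullback.snd f g) (T.fromSpecStalk t) ⟶
      pullback f (Y.fromSpecStalk (g t)) := pullback.lift _ _ hw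
  have hg'1 : g' ≫ pullback.fst f (Y.fromSpecStalk (g t)) =
      pullback.fst (pullback.snd f g) (T.fromSpecStalk t) ≫ pullback.fst f g :=
    pullback.lift_fst _ _ _
  have hg'2 : g' ≫ pullback.snd f (Y.fromSpecStalk (g t)) =
      pullback.snd (pullback.snd f g) (T.fromSpecStalk t) ≫ h := pullback.lift_snd _ _ _
  have hbig : IsPullback (g' ≫ pullback.fst f (Y.fromSpecStalk (g t)))
      (pullback.snd (pullback.snd f g) (T.fromSpecStalk t)) f (h ≫ Y.fromSpecStalk (g t)) := by
    rw [hg'1, hh]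
    exact (IsPullback.of_hasPullback (pullback.snd f g) (T.fromSpecStalk t)).paste_horiz
      (IsPullback.of_hasPullback f g)
  have hc : IsPullback g' (pullback.snd (pullback.snd f g) (T.fromSpecStalk t))
      (pullback.snd f (Y.fromSpecStalk (g t))) h :=
    IsPullback.of_right hbig hg'2 (IsPullback.of_hasPullback f (Y.fromSpecStalk (g t)))
  have key := Groth.Agent.Lib.Helper13.CBCUniv.bijective_toGlobal_of_stalk f (g t) (h0 (g t))
    (T.presheaf.stalk t) h g' hc
  have h5 : (Coh.toGlobal ((pullback (pullback.snd f g) (T.fromSpecStalk t)) ↘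
      Spec (CommRingCat.of (T.presheaf.stalk t))) : _ → _) =
      (pullback.snd (pullback.snd f g) (T.fromSpecStalk t)).appTop.hom ∘
        (Scheme.ΓSpecIso (CommRingCat.of (T.presheaf.stalk t))).inv.hom := rfl
  rw [h5] at key
  exact (Function.Bijective.of_comp_iff _
    (ConcreteCategory.bijective_of_isIso
      (Scheme.ΓSpecIso (CommRingCat.of (T.presheaf.stalk t))).inv)).1 key

/-- on affine opens of `T`. -/
theorem bijective_app_affine
    (h0 : ∀ y : Y, Module.finrank (Y.residueField y) Γ(f.fiber y, ⊤) = 1)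
    {T : Scheme.{u}} (g : T ⟶ Y) (W : T.Opens) (hW : IsAffineOpen W) :
    Function.Bijective ((pullback.snd f g).app W).hom := by
  apply bijective_of_forall_maximal_isPushout
  intro P hP
  let y₀ : ↥(Spec Γ(T, W)) := ⟨P, inferInstance⟩
  have ht : hW.fromSpec y₀ ∈ W := by
    have h1 : hW.fromSpec y₀ ∈ hW.fromSpec.opensRange := ⟨y₀, rfl⟩
    rwa [hW.opensRange_fromSpec] at h1
  have hloc := hW.isLocalization_stalk' y₀ ht
  haveI : Flat (T.fromSpecStalk (hW.fromSpec y₀)) :=
    Groth.Agent.Lib.Helper3.flat_fromSpecStalk T _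
  have H := IsPullback.of_hasPullback (pullback.snd f g) (T.fromSpecStalk (hW.fromSpec y₀))
  have hUST : (⊤ : (Spec (T.presheaf.stalk (hW.fromSpec y₀))).Opens) ≤
      (T.fromSpecStalk (hW.fromSpec y₀)) ⁻¹ᵁ W := by
    intro z _
    have h1 : (T.fromSpecStalk (hW.fromSpec y₀)) z ∈
        Set.range (T.fromSpecStalk (hW.fromSpec y₀)) := ⟨z, rfl⟩
    rw [Scheme.range_fromSpecStalk] at h1
    exact h1.mem_open W.2 ht
  have hUSX : (pullback.snd f g) ⁻¹ᵁ W ≤ (pullback.snd f g) ⁻¹ᵁ W := le_rfl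
  have hcpt : IsCompact (((pullback.snd f g) ⁻¹ᵁ W : (pullback f g).Opens) : Set ↥(pullback f g)) :=
    (pullback.snd f g).isCompact_preimage hW.isCompact
  have hqs : IsQuasiSeparated
      (((pullback.snd f g) ⁻¹ᵁ W : (pullback f g).Opens) : Set ↥(pullback f g)) :=
    (pullback.snd f g).isQuasiSeparated_preimage hW.isQuasiSeparated
  have hpo := (isIso_pushoutSection_iff H hUST hUSX rfl).mp
    (isIso_pushoutSection_of_isQuasiSeparated_of_flat_right H hUST hUSX rfl hW
      (isAffineOpen_top _) hcpt hqs)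
  -- the open upstairs is everything
  have hUY : (pullback.fst (pullback.snd f g) (T.fromSpecStalk (hW.fromSpec y₀))) ⁻¹ᵁ
      ((pullback.snd f g) ⁻¹ᵁ W) ⊓
      (pullback.snd (pullback.snd f g) (T.fromSpecStalk (hW.fromSpec y₀))) ⁻¹ᵁ ⊤ = ⊤ := by
    rw [← Scheme.Hom.comp_preimage, H.w, Scheme.Hom.comp_preimage]
    apply top_le_iff.1
    intro z _
    exact ⟨hUST (Set.mem_univ _), trivial⟩
  have key : ∀ (UY : (pullback (pullback.snd f g) (T.fromSpecStalk (hW.fromSpec y₀))).Opens)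
      (_ : UY = ⊤) (e : UY ≤ (pullback.snd (pullback.snd f g)
        (T.fromSpecStalk (hW.fromSpec y₀))) ⁻¹ᵁ ⊤),
      Function.Bijective ((pullback.snd (pullback.snd f g)
        (T.fromSpecStalk (hW.fromSpec y₀))).appLE ⊤ UY e).hom := by
    intro UY hUY' e
    subst hUY'
    have h2 : (pullback.snd (pullback.snd f g)
        (T.fromSpecStalk (hW.fromSpec y₀))).appLE ⊤ ⊤ e =
        (pullback.snd (pullback.snd f g) (T.fromSpecStalk (hW.fromSpec y₀))).appTop := by
      rw [Scheme.Hom.appTop, Scheme.Hom.app_eq_appLE]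
      rfl
    rw [h2]
    exact bijective_appTop_stalk f h0 g (hW.fromSpec y₀)
  -- replace `Γ(Spec O_t, ⊤)` by `O_t`
  have hgerm : (T.fromSpecStalk (hW.fromSpec y₀)).appLE W ⊤ hUST ≫
      (Scheme.ΓSpecIso (T.presheaf.stalk (hW.fromSpec y₀))).hom =
      T.presheaf.germ W (hW.fromSpec y₀) ht := by
    have hmm : ∀ {V : (Spec (T.presheaf.stalk (hW.fromSpec y₀))).Opens}
        (a : op (⊤ : (Spec (T.presheaf.stalk (hW.fromSpec y₀))).Opens) ⟶ op V)
        (b : op V ⟶ op (⊤ : (Spec (T.presheaf.stalk (hW.fromSpec y₀))).Opens)),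
        (Spec (T.presheaf.stalk (hW.fromSpec y₀))).presheaf.map a ≫
          (Spec (T.presheaf.stalk (hW.fromSpec y₀))).presheaf.map b = 𝟙 _ := fun a b => by
      rw [← CategoryTheory.Functor.map_comp, Subsingleton.elim (a ≫ b) (𝟙 _),
        CategoryTheory.Functor.map_id]
    rw [Scheme.Hom.appLE, Scheme.fromSpecStalk_app ht]
    simp only [Category.assoc]
    rw [reassoc_of% hmm, Iso.inv_hom_id, Category.comp_id]
  refine ⟨T.presheaf.stalk (hW.fromSpec y₀),
    Γ(pullback (pullback.snd f g) (T.fromSpecStalk (hW.fromSpec y₀)), ((pullback.fst (pullback.snd f g) (T.fromSpecStalk (hW.fromSpec y₀))) ⁻¹ᵁ ((pullback.snd f g) ⁻¹ᵁ W) ⊓ (pullback.snd (pullback.snd f g) (T.fromSpecStalk (hW.fromSpec y₀))) ⁻¹ᵁ ⊤)),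
    T.presheaf.germ W (hW.fromSpec y₀) ht,
    (pullback.fst (pullback.snd f g) (T.fromSpecStalk (hW.fromSpec y₀))).appLE ((pullback.snd f g) ⁻¹ᵁ W) ((pullback.fst (pullback.snd f g) (T.fromSpecStalk (hW.fromSpec y₀))) ⁻¹ᵁ ((pullback.snd f g) ⁻¹ᵁ W) ⊓ (pullback.snd (pullback.snd f g) (T.fromSpecStalk (hW.fromSpec y₀))) ⁻¹ᵁ ⊤) inf_le_left,
    (Scheme.ΓSpecIso (T.presheaf.stalk (hW.fromSpec y₀))).inv ≫
      (pullback.snd (pullback.snd f g) (T.fromSpecStalk (hW.fromSpec y₀))).appLE ⊤ ((pullback.fst (pullback.snd f g) (T.fromSpecStalk (hW.fromSpec y₀))) ⁻¹ᵁ ((pullback.snd f g) ⁻¹ᵁ W) ⊓ (pullback.snd (pullback.snd f g) (T.fromSpecStalk (hW.fromSpec y₀))) ⁻¹ᵁ ⊤) inf_le_right,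
    ?_, hloc, ?_⟩
  · refine hpo.of_iso (Iso.refl _) (Iso.refl _)
      (Scheme.ΓSpecIso (T.presheaf.stalk (hW.fromSpec y₀))) (Iso.refl _) ?_ ?_ ?_ ?_
    · simp only [Iso.refl_hom, Category.comp_id, Category.id_comp]
      rw [Scheme.Hom.app_eq_appLE]
    · simp only [Iso.refl_hom, Category.id_comp]
      exact hgerm
    · simp only [Iso.refl_hom, Category.comp_id, Category.id_comp]
    · simp only [Iso.refl_hom, Category.comp_id, Iso.hom_inv_id_assoc]
  · rw [CommRingCat.hom_comp, RingHom.coe_comp]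
    exact (key _ hUY inf_le_right).comp
      (ConcreteCategory.bijective_of_isIso
        (Scheme.ΓSpecIso (T.presheaf.stalk (hW.fromSpec y₀))).inv)

end Geom

end Groth.Agent.Lib.Helper13.CBCUniv2
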