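import Mathlib
import Groth.Agent.Lib.Helper13.CBCUniv2

/-!
# Pointwise versions of the universal `O_T = (f_T)_* O` statements: `h⁰ = 1` is only needed at the
points in the image of the base change map
-/

set_option autoImplicit false
set_option linter.style.haveILetI false
universe u
open CategoryTheory CategoryTheory.Limits AlgebraicGeometry TopologicalSpace Opposite TensorProduct

namespace Groth.Agent.Lib.Helper13.CBCUniv2

section Geom

variable {X Y : Scheme.{u}} (f : X ⟶ Y) [IsProper f] [Flat f] [IsLocallyNoetherian Y]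

/-- the base change of `f_T` to `Spec O_{T,t}` has `O_{T,t}` as ring of global functions. -/
theorem bijective_appTop_stalk'
    {T : Scheme.{u}} (g : T ⟶ Y) (t : T)
    (h0 : Module.finrank (Y.residueField (g t)) Γ(f.fiber (g t), ⊤) = 1) :
    Function.Bijective (pullback.snd (pullback.snd f g) (T.fromSpecStalk t)).appTop.hom := by
  letI : (pullback (pullback.snd f g) (T.fromSpecStalk t)).Over
      (Spec (CommRingCat.of (T.presheaf.stalk t))) := ⟨pullback.snd _ _⟩
  let h : Spec (CommRingCat.of (T.presheaf.stalk t)) ⟶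
      Spec (CommRingCat.of (Y.presheaf.stalk (g t))) := Spec.map (g.stalkMap t)
  have hh : h ≫ Y.fromSpecStalk (g t) = T.fromSpecStalk t ≫ g :=
    Scheme.SpecMap_stalkMap_fromSpecStalk g
  have hw : (pullback.fst (pullback.snd f g) (T.fromSpecStalk t) ≫ pullback.fst f g) ≫ f =
      (pullback.snd (pullback.snd f g) (T.fromSpecStalk t) ≫ h) ≫ Y.fromSpecStalk (g t) := by
    rw [Category.assoc, Category.assoc, hh, pullback.condition, ← Category.assoc,
      pullback.condition, Category.assoc]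
  let g' : pullback (pullback.snd f g) (T.fromSpecStalk t) ⟶
      pullback f (Y.fromSpecStalk (g t)) := pullback.lift _ _ hw
  have hg'1 : g' ≫ pullback.fst f (Y.fromSpecStalk (g t)) =
      pullback.fst (pullback.snd f g) (T.fromSpecStalk t) ≫ pullback.fst f g :=
    pullback.lift_fst _ _ _
  have hg'2 : g' ≫ pullback.snd f (Y.fromSpecStalk (g t)) =
      pullback.snd (pullback.snd f g) (T.fromSpecStalk t) ≫ h := pullback.lift_snd _ _ _
  have hbig : IsPullback (g' ≫ pullback.fst f (Y.fromSpecStalk (g t)))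
      (pullback.snd (pullback.snd f g) (T.fromSpecStalk t)) f (h ≫ Y.fromSpecStalk (g t)) := by
    rw [hg'1, hh]
    exact (IsPullback.of_hasPullback (pullback.snd f g) (T.fromSpecStalk t)).paste_horiz
      (IsPullback.of_hasPullback f g)
  have hc : IsPullback g' (pullback.snd (pullback.snd f g) (T.fromSpecStalk t))
      (pullback.snd f (Y.fromSpecStalk (g t))) h :=
    IsPullback.of_right hbig hg'2 (IsPullback.of_hasPullback f (Y.fromSpecStalk (g t)))
  have key := Groth.Agent.Lib.Helper13.CBCUniv.bijective_toGlobal_of_stalk f (g t) h0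
    (T.presheaf.stalk t) h g' hc
  have h5 : (Coh.toGlobal ((pullback (pullback.snd f g) (T.fromSpecStalk t)) ↘
      Spec (CommRingCat.of (T.presheaf.stalk t))) : _ → _) =
      (pullback.snd (pullback.snd f g) (T.fromSpecStalk t)).appTop.hom ∘
        (Scheme.ΓSpecIso (CommRingCat.of (T.presheaf.stalk t))).inv.hom := rfl
  rw [h5] at key
  exact (Function.Bijective.of_comp_iff _
    (ConcreteCategory.bijective_of_isIso
      (Scheme.ΓSpecIso (CommRingCat.of (T.presheaf.stalk t))).inv)).1 key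

/-- on affine opens of `T`. -/
theorem bijective_app_affine'
    {T : Scheme.{u}} (g : T ⟶ Y) (W : T.Opens) (hW : IsAffineOpen W)
    (h0 : ∀ t ∈ W, Module.finrank (Y.residueField (g t)) Γ(f.fiber (g t), ⊤) = 1) :
    Function.Bijective ((pullback.snd f g).app W).hom := by
  apply bijective_of_forall_maximal_isPushout
  intro P hP
  let y₀ : ↥(Spec Γ(T, W)) := ⟨P, inferInstance⟩
  have ht : hW.fromSpec y₀ ∈ W := by
    have h1 : hW.fromSpec y₀ ∈ hW.fromSpec.opensRange := ⟨y₀, rfl⟩
    rwa [hW.opensRange_fromSpec] at h1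
  have hloc := hW.isLocalization_stalk' y₀ ht
  haveI : Flat (T.fromSpecStalk (hW.fromSpec y₀)) :=
    Groth.Agent.Lib.Helper3.flat_fromSpecStalk T _
  have H := IsPullback.of_hasPullback (pullback.snd f g) (T.fromSpecStalk (hW.fromSpec y₀))
  have hUST : (⊤ : (Spec (T.presheaf.stalk (hW.fromSpec y₀))).Opens) ≤
      (T.fromSpecStalk (hW.fromSpec y₀)) ⁻¹ᵁ W := by
    intro z _
    have h1 : (T.fromSpecStalk (hW.fromSpec y₀)) z ∈
        Set.range (T.fromSpecStalk (hW.fromSpec y₀)) := ⟨z, rfl⟩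
    rw [Scheme.range_fromSpecStalk] at h1
    exact h1.mem_open W.2 ht
  have hUSX : (pullback.snd f g) ⁻¹ᵁ W ≤ (pullback.snd f g) ⁻¹ᵁ W := le_rfl
  have hcpt : IsCompact (((pullback.snd f g) ⁻¹ᵁ W : (pullback f g).Opens) : Set ↥(pullback f g)) :=
    (pullback.snd f g).isCompact_preimage hW.isCompact
  have hqs : IsQuasiSeparated
      (((pullback.snd f g) ⁻¹ᵁ W : (pullback f g).Opens) : Set ↥(pullback f g)) :=
    (pullback.snd f g).isQuasiSeparated_preimage hW.isQuasiSeparated
  have hpo := (isIso_pushoutSection_iff H hUST hUSX rfl).mp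
    (isIso_pushoutSection_of_isQuasiSeparated_of_flat_right H hUST hUSX rfl hW
      (isAffineOpen_top _) hcpt hqs)
  -- the open upstairs is everything
  have hUY : (pullback.fst (pullback.snd f g) (T.fromSpecStalk (hW.fromSpec y₀))) ⁻¹ᵁ
      ((pullback.snd f g) ⁻¹ᵁ W) ⊓
      (pullback.snd (pullback.snd f g) (T.fromSpecStalk (hW.fromSpec y₀))) ⁻¹ᵁ ⊤ = ⊤ := by
    rw [← Scheme.Hom.comp_preimage, H.w, Scheme.Hom.comp_preimage]
    apply top_le_iff.1
    intro z _
    exact ⟨hUST (Set.mem_univ _), trivial⟩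
  have key : ∀ (UY : (pullback (pullback.snd f g) (T.fromSpecStalk (hW.fromSpec y₀))).Opens)
      (_ : UY = ⊤) (e : UY ≤ (pullback.snd (pullback.snd f g)
        (T.fromSpecStalk (hW.fromSpec y₀))) ⁻¹ᵁ ⊤),
      Function.Bijective ((pullback.snd (pullback.snd f g)
        (T.fromSpecStalk (hW.fromSpec y₀))).appLE ⊤ UY e).hom := by
    intro UY hUY' e
    subst hUY'
    have h2 : (pullback.snd (pullback.snd f g)
        (T.fromSpecStalk (hW.fromSpec y₀))).appLE ⊤ ⊤ e =
        (pullback.snd (pullback.snd f g) (T.fromSpecStalk (hW.fromSpec y₀))).appTop := by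
      rw [Scheme.Hom.appTop, Scheme.Hom.app_eq_appLE]
      rfl
    rw [h2]
    exact bijective_appTop_stalk' f g (hW.fromSpec y₀) (h0 _ ht)
  -- replace `Γ(Spec O_t, ⊤)` by `O_t`
  have hgerm : (T.fromSpecStalk (hW.fromSpec y₀)).appLE W ⊤ hUST ≫
      (Scheme.ΓSpecIso (T.presheaf.stalk (hW.fromSpec y₀))).hom =
      T.presheaf.germ W (hW.fromSpec y₀) ht := by
    have hmm : ∀ {V : (Spec (T.presheaf.stalk (hW.fromSpec y₀))).Opens}
        (a : op (⊤ : (Spec (T.presheaf.stalk (hW.fromSpec y₀))).Opens) ⟶ op V)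
        (b : op V ⟶ op (⊤ : (Spec (T.presheaf.stalk (hW.fromSpec y₀))).Opens)),
        (Spec (T.presheaf.stalk (hW.fromSpec y₀))).presheaf.map a ≫
          (Spec (T.presheaf.stalk (hW.fromSpec y₀))).presheaf.map b = 𝟙 _ := fun a b => by
      rw [← CategoryTheory.Functor.map_comp, Subsingleton.elim (a ≫ b) (𝟙 _),
        CategoryTheory.Functor.map_id]
    rw [Scheme.Hom.appLE, Scheme.fromSpecStalk_app ht]
    simp only [Category.assoc]
    rw [reassoc_of% hmm, Iso.inv_hom_id, Category.comp_id]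
  refine ⟨T.presheaf.stalk (hW.fromSpec y₀),
    Γ(pullback (pullback.snd f g) (T.fromSpecStalk (hW.fromSpec y₀)), ((pullback.fst (pullback.snd f g) (T.fromSpecStalk (hW.fromSpec y₀))) ⁻¹ᵁ ((pullback.snd f g) ⁻¹ᵁ W) ⊓ (pullback.snd (pullback.snd f g) (T.fromSpecStalk (hW.fromSpec y₀))) ⁻¹ᵁ ⊤)),
    T.presheaf.germ W (hW.fromSpec y₀) ht,
    (pullback.fst (pullback.snd f g) (T.fromSpecStalk (hW.fromSpec y₀))).appLE ((pullback.snd f g) ⁻¹ᵁ W) ((pullback.fst (pullback.snd f g) (T.fromSpecStalk (hW.fromSpec y₀))) ⁻¹ᵁ ((pullback.snd f g) ⁻¹ᵁ W) ⊓ (pullback.snd (pullback.snd f g) (T.fromSpecStalk (hW.fromSpec y₀))) ⁻¹ᵁ ⊤) inf_le_left,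
    (Scheme.ΓSpecIso (T.presheaf.stalk (hW.fromSpec y₀))).inv ≫
      (pullback.snd (pullback.snd f g) (T.fromSpecStalk (hW.fromSpec y₀))).appLE ⊤ ((pullback.fst (pullback.snd f g) (T.fromSpecStalk (hW.fromSpec y₀))) ⁻¹ᵁ ((pullback.snd f g) ⁻¹ᵁ W) ⊓ (pullback.snd (pullback.snd f g) (T.fromSpecStalk (hW.fromSpec y₀))) ⁻¹ᵁ ⊤) inf_le_right,
    ?_, hloc, ?_⟩
  · refine hpo.of_iso (Iso.refl _) (Iso.refl _)
      (Scheme.ΓSpecIso (T.presheaf.stalk (hW.fromSpec y₀))) (Iso.refl _) ?_ ?_ ?_ ?_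
    · simp only [Iso.refl_hom, Category.comp_id, Category.id_comp]
      rw [Scheme.Hom.app_eq_appLE]
    · simp only [Iso.refl_hom, Category.id_comp]
      exact hgerm
    · simp only [Iso.refl_hom, Category.comp_id, Category.id_comp]
    · simp only [Iso.refl_hom, Category.comp_id, Iso.hom_inv_id_assoc]
  · rw [CommRingCat.hom_comp, RingHom.coe_comp]
    exact (key _ hUY inf_le_right).comp
      (ConcreteCategory.bijective_of_isIso
        (Scheme.ΓSpecIso (T.presheaf.stalk (hW.fromSpec y₀))).inv)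

end Geom

end Groth.Agent.Lib.Helper13.CBCUniv2
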