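import Mathlib
import Groth.Agent.Lib.Helper13.Rigid

/-!
# Rigidity for morphisms into group schemes
-/

set_option autoImplicit false
set_option linter.style.haveILetI false
universe u
open CategoryTheory CategoryTheory.Limits AlgebraicGeometry TopologicalSpace
open MonoidalCategory CartesianMonoidalCategory MonObj GrpObj

namespace Groth.Agent.Lib.Helper13.Rigid

variable {X S Y : Scheme.{u}}

lemma finrank_eq_one_of_bijective_appTop (p : X ⟶ S) (s : S)
    (h : Function.Bijective (pullback.snd p (S.fromSpecResidueField s)).appTop.hom) :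
    Module.finrank (S.residueField s) Γ(p.fiber s, ⊤) = 1 := by
  have hb : Function.Bijective (algebraMap (S.residueField s) Γ(p.fiber s, ⊤)) := by
    show Function.Bijective ((p.fiberToSpecResidueField s).appTop.hom.comp
      (Scheme.ΓSpecIso (S.residueField s)).inv.hom)
    rw [RingHom.coe_comp]
    exact Function.Bijective.comp h
      (ConcreteCategory.bijective_of_isIso (Scheme.ΓSpecIso (S.residueField s)).inv)
  rw [← (LinearEquiv.ofBijective (Algebra.linearMap (S.residueField s) Γ(p.fiber s, ⊤))
    hb).finrank_eq]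
  exact Module.finrank_self _

/-- `h⁰ = 1` on fibres is stable under base change. -/
theorem h0_baseChange (p : X ⟶ S) [IsProper p] [Flat p] [IsLocallyNoetherian S]
    (h0 : ∀ s : S, Module.finrank (S.residueField s) Γ(p.fiber s, ⊤) = 1)
    {T : Scheme.{u}} (g : T ⟶ S) (t : T) :
    Module.finrank (T.residueField t) Γ((pullback.snd p g).fiber t, ⊤) = 1 := by
  apply finrank_eq_one_of_bijective_appTop
  have hb := Groth.Agent.Lib.Helper13.CBCUniv2.bijective_app_affine p h0
    (T.fromSpecResidueField t ≫ g) ⊤ (isAffineOpen_top _)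
  have h1 : pullback.snd (pullback.snd p g) (T.fromSpecResidueField t) =
      (pullbackLeftPullbackSndIso p g (T.fromSpecResidueField t)).hom ≫
        pullback.snd p (T.fromSpecResidueField t ≫ g) :=
    (pullbackLeftPullbackSndIso_hom_snd p g (T.fromSpecResidueField t)).symm
  rw [h1, Scheme.Hom.comp_appTop, CommRingCat.hom_comp, RingHom.coe_comp]
  haveI : IsIso (pullbackLeftPullbackSndIso p g (T.fromSpecResidueField t)).hom.appTop :=
    inferInstanceAs (IsIso ((pullbackLeftPullbackSndIso p g
      (T.fromSpecResidueField t)).hom.app ⊤))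
  exact Function.Bijective.comp (ConcreteCategory.bijective_of_isIso
    (pullbackLeftPullbackSndIso p g (T.fromSpecResidueField t)).hom.appTop) hb

/-- rigidity for a morphism to a group scheme which is trivial on one fibre. -/
theorem exists_unit_factor {S : Scheme.{u}} [IsLocallyNoetherian S] [ConnectedSpace S]
    (X G : Over S) [GrpObj G] [IsSeparated G.hom] [IsProper X.hom] [Flat X.hom]
    (h0 : ∀ s : S, Module.finrank (S.residueField s) Γ(X.hom.fiber s, ⊤) = 1)
    (ψ : X ⟶ G) (s : S)
    (hs : X.hom.fiberι s ≫ ψ.left = X.hom.fiberι s ≫ X.hom ≫ η[G].left) :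
    ∃ t : 𝟙_ (Over S) ⟶ G, ψ = toUnit X ≫ t := by
  have hcol : s ∈ collapsed X.hom ψ.left := by
    refine ⟨η[G].left.base s, fun x hx => ?_⟩
    have hx' : x ∈ Set.range (X.hom.fiberι s).base := by
      rw [X.hom.range_fiberι s]
      exact hx
    obtain ⟨z, rfl⟩ := hx'
    have h1 := congrArg (fun φ => φ.base z) hs
    simp only [Scheme.Hom.comp_base, TopCat.hom_comp, ContinuousMap.comp_apply] at h1
    rw [h1, hx]
  obtain ⟨σ, hσ1, hσ2⟩ := exists_section_factor X.hom h0 G.hom ψ.left (Over.w ψ) s hcol
  refine ⟨Over.homMk σ hσ1, ?_⟩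
  apply Over.OverMorphism.ext
  rw [Over.comp_left, hσ2]
  rfl

/-- two morphisms to a group scheme which agree on one fibre differ by a section. -/
theorem exists_section_mul {S : Scheme.{u}} [IsLocallyNoetherian S] [ConnectedSpace S]
    (X G : Over S) [GrpObj G] [IsSeparated G.hom] [IsProper X.hom] [Flat X.hom]
    (h0 : ∀ s : S, Module.finrank (S.residueField s) Γ(X.hom.fiber s, ⊤) = 1)
    (f g : X ⟶ G) (s : S)
    (hs : X.hom.fiberι s ≫ f.left = X.hom.fiberι s ≫ g.left) :
    ∃ t : 𝟙_ (Over S) ⟶ G, f = (toUnit X ≫ t) * g := by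
  obtain ⟨t, ht⟩ := exists_unit_factor X G h0 (f * g⁻¹) s (by
    let Xs : Over S := Over.mk (X.hom.fiberι s ≫ X.hom)
    let i : Xs ⟶ X := Over.homMk (X.hom.fiberι s) rfl
    have hfg : i ≫ f = i ≫ g := by
      apply Over.OverMorphism.ext
      exact hs
    have h1 : i ≫ (f * g⁻¹) = 1 := by
      rw [MonObj.comp_mul, GrpObj.comp_inv, hfg, mul_inv_cancel]
    have h2 := congrArg CommaMorphism.left h1
    rw [Hom.one_def] at h2
    exact h2)
  exact ⟨t, eq_mul_of_mul_inv_eq ht⟩

end Groth.Agent.Lib.Helper13.Rigid
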