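import Mathlib
import Groth.Agent.Lib.Helper13.Rigid2

/-!
# Rigidity: morphisms from a product to a group scheme
-/

set_option autoImplicit false
set_option linter.style.haveILetI false
universe u
open CategoryTheory CategoryTheory.Limits AlgebraicGeometry TopologicalSpace
open MonoidalCategory CartesianMonoidalCategory MonObj GrpObj

namespace Groth.Agent.Lib.Helper13.Rigid

/-- A morphism `ψ : X ⊗ Y ⟶ G` which is trivial on `X × e(S)` factors through the projection to
`Y` (`X ⟶ S` proper flat with `h⁰ = 1`, `Y` connected locally Noetherian). -/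
theorem exists_factor_snd {S : Scheme.{u}} [IsLocallyNoetherian S]
    (X Y G : Over S) [GrpObj G] [IsSeparated G.hom] [IsProper X.hom] [Flat X.hom]
    (h0 : ∀ s : S, Module.finrank (S.residueField s) Γ(X.hom.fiber s, ⊤) = 1)
    [IsLocallyNoetherian Y.left] [ConnectedSpace Y.left] (e : 𝟙_ (Over S) ⟶ Y)
    (ψ : X ⊗ Y ⟶ G) (hψ : lift (𝟙 X) (toUnit X ≫ e) ≫ ψ = 1) :
    ∃ h : Y ⟶ G, ψ = snd X Y ≫ h := by
  have hw : ψ.left ≫ G.hom = pullback.snd X.hom Y.hom ≫ Y.hom := by
    rw [Over.w ψ, ← pullback.condition]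
    rfl
  let ψ' : pullback X.hom Y.hom ⟶ pullback G.hom Y.hom :=
    pullback.lift ψ.left (pullback.snd X.hom Y.hom) hw
  have hψ'1 : ψ' ≫ pullback.fst G.hom Y.hom = ψ.left := pullback.lift_fst _ _ _
  have hψ'2 : ψ' ≫ pullback.snd G.hom Y.hom = pullback.snd X.hom Y.hom := pullback.lift_snd _ _ _
  have hη : η[G].left ≫ G.hom = e.left ≫ Y.hom := by
    rw [Over.w η[G], Over.w e]
  let c : S ⟶ pullback G.hom Y.hom := pullback.lift η[G].left e.left hη
  let j : X ⟶ X ⊗ Y := lift (𝟙 X) (toUnit X ≫ e)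
  have hj1 : j.left ≫ pullback.fst X.hom Y.hom = 𝟙 _ := by
    have h1 : j ≫ fst X Y = 𝟙 X := lift_fst _ _
    exact congrArg CommaMorphism.left h1
  have hj2 : j.left ≫ pullback.snd X.hom Y.hom = X.hom ≫ e.left := by
    have h1 : j ≫ snd X Y = toUnit X ≫ e := lift_snd _ _
    exact congrArg CommaMorphism.left h1
  have he : e.left ≫ Y.hom = 𝟙 S := Over.w e
  have hpb : IsPullback j.left X.hom (pullback.snd X.hom Y.hom) e.left := by
    refine IsPullback.of_right ?_ hj2 (IsPullback.of_hasPullback X.hom Y.hom)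
    rw [hj1, he]
    exact IsPullback.id_horiz X.hom
  have hjψ : j.left ≫ ψ' = X.hom ≫ c := by
    apply pullback.hom_ext
    · rw [Category.assoc, hψ'1, Category.assoc, pullback.lift_fst]
      have h1 := congrArg CommaMorphism.left hψ
      rw [Hom.one_def] at h1
      exact h1
    · rw [Category.assoc, hψ'2, Category.assoc, pullback.lift_snd, hj2]
  obtain ⟨y₁⟩ : Nonempty Y.left := inferInstance
  have hcol : e.left.base (Y.hom.base y₁) ∈
      collapsed (pullback.snd X.hom Y.hom) ψ' := by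
    refine ⟨c.base (Y.hom.base y₁), fun w hw' => ?_⟩
    obtain ⟨z, hz1, hz2⟩ := Scheme.Pullback.exists_preimage_pullback
      (f := pullback.snd X.hom Y.hom) (g := e.left) w (Y.hom.base y₁) hw'
    have h1 : j.left.base (hpb.isoPullback.inv.base z) = w := by
      rw [← hz1, ← Scheme.Hom.comp_apply, hpb.isoPullback_inv_fst]
    have h2 : X.hom.base (hpb.isoPullback.inv.base z) = Y.hom.base y₁ := by
      rw [← hz2, ← Scheme.Hom.comp_apply, hpb.isoPullback_inv_snd]
    have h3 := congrArg (fun φ => φ.base (hpb.isoPullback.inv.base z)) hjψ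
    simp only [Scheme.Hom.comp_base, TopCat.hom_comp, ContinuousMap.comp_apply] at h3
    rw [← h1, h3, h2]
  obtain ⟨σ, hσ1, hσ2⟩ := exists_section_factor (pullback.snd X.hom Y.hom)
    (h0_baseChange X.hom h0 Y.hom) (pullback.snd G.hom Y.hom) ψ' hψ'2 _ hcol
  refine ⟨Over.homMk (σ ≫ pullback.fst G.hom Y.hom) (by
    rw [Category.assoc, pullback.condition, ← Category.assoc, hσ1, Category.id_comp]), ?_⟩
  apply Over.OverMorphism.ext
  rw [Over.comp_left]
  show ψ.left = pullback.snd X.hom Y.hom ≫ σ ≫ pullback.fst G.hom Y.hom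
  rw [← Category.assoc, ← hσ2, hψ'1]

/-- every morphism `X ⊗ Y ⟶ G` is a product of morphisms from the factors. -/
theorem exists_mul_factor {S : Scheme.{u}} [IsLocallyNoetherian S]
    (X Y G : Over S) [GrpObj G] [IsSeparated G.hom] [IsProper X.hom] [Flat X.hom]
    (h0 : ∀ s : S, Module.finrank (S.residueField s) Γ(X.hom.fiber s, ⊤) = 1)
    [IsLocallyNoetherian Y.left] [ConnectedSpace Y.left] (e : 𝟙_ (Over S) ⟶ Y)
    (f : X ⊗ Y ⟶ G) :
    ∃ (g : X ⟶ G) (h : Y ⟶ G), f = (fst X Y ≫ g) * (snd X Y ≫ h) := by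
  let j : X ⟶ X ⊗ Y := lift (𝟙 X) (toUnit X ≫ e)
  obtain ⟨h, hh⟩ := exists_factor_snd X Y G h0 e ((fst X Y ≫ j ≫ f)⁻¹ * f) (by
    rw [MonObj.comp_mul, GrpObj.comp_inv]
    have h1 : j ≫ fst X Y ≫ j ≫ f = j ≫ f := by
      rw [← Category.assoc, show j ≫ fst X Y = 𝟙 X from lift_fst _ _, Category.id_comp]
    rw [h1, inv_mul_cancel])
  exact ⟨j ≫ f, h, eq_mul_of_inv_mul_eq hh⟩

end Groth.Agent.Lib.Helper13.Rigid
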