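import Mathlib
import Groth.Prelude
import Groth.Agent.Lib.Helper13.Rigid3
import Groth.Agent.Lib.Helper23.GeomH0
import Groth.Agent.Lib.Helper22.SmoothRed

/-!
# Rigidity: morphisms of abelian schemes preserving the unit are homomorphisms
-/

set_option autoImplicit false
set_option linter.style.haveILetI false
universe u
open CategoryTheory CategoryTheory.Limits AlgebraicGeometry TopologicalSpace
open MonoidalCategory CartesianMonoidalCategory MonObj GrpObj

namespace Groth.Agent.Lib.Helper13.Rigid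

variable {X S Y : Scheme.{u}}

/-- factorisation through the base when all fibres are collapsed. -/
theorem exists_section_factor_of_forall (p : X ⟶ S) [IsProper p] [Flat p] [IsLocallyNoetherian S]
    (h0 : ∀ s : S, Module.finrank (S.residueField s) Γ(p.fiber s, ⊤) = 1)
    (q : Y ⟶ S) (f : X ⟶ Y) (hf : f ≫ q = p)
    (hall : collapsed p f = Set.univ) : ∃ σ : S ⟶ Y, σ ≫ q = 𝟙 S ∧ f = p ≫ σ := by
  haveI : Surjective p := surjective_of_h0 p h0
  have key : ∀ {Z : Scheme.{u}} (g₁ g₂ : Z ⟶ X), g₁ ≫ p = g₂ ≫ p → g₁ ≫ f = g₂ ≫ f := by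
    intro Z g₁ g₂ h
    choose W hW using fun s : S =>
      exists_nhd_agree p h0 f s (hall ▸ Set.mem_univ s)
    have hcov : IsOpenCover (fun s : S => (g₁ ≫ p) ⁻¹ᵁ W s) := by
      apply IsOpenCover.mk
      rw [eq_top_iff]
      intro z _
      rw [Opens.mem_iSup]
      exact ⟨(g₁ ≫ p).base z, (hW _).1⟩
    refine (Z.openCoverOfIsOpenCover _ hcov).hom_ext _ _ ?_
    intro (s : S)
    show ((g₁ ≫ p) ⁻¹ᵁ W s).ι ≫ g₁ ≫ f = ((g₁ ≫ p) ⁻¹ᵁ W s).ι ≫ g₂ ≫ f
    rw [← Category.assoc, ← Category.assoc]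
    refine (hW s).2 _ _ ?_ ?_
    · rw [Category.assoc, Category.assoc]
      exact congrArg (_ ≫ ·) h
    · rintro _ ⟨z, rfl⟩
      exact z.2
  haveI : EffectiveEpi p := inferInstance
  refine ⟨EffectiveEpi.desc p f key, ?_, (EffectiveEpi.fac p f key).symm⟩
  haveI : Epi p := inferInstance
  rw [← cancel_epi p, ← Category.assoc, EffectiveEpi.fac, hf, Category.comp_id]

/-- variant of `exists_factor_snd` where connectedness of `Y` is replaced by: every clopen subset
containing the image of the section is everything. -/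
theorem exists_factor_snd_of_clopen {S : Scheme.{u}} [IsLocallyNoetherian S]
    (X Y G : Over S) [GrpObj G] [IsSeparated G.hom] [IsProper X.hom] [Flat X.hom]
    (h0 : ∀ s : S, Module.finrank (S.residueField s) Γ(X.hom.fiber s, ⊤) = 1)
    [IsLocallyNoetherian Y.left] (e : 𝟙_ (Over S) ⟶ Y)
    (hY : ∀ U : Set Y.left, IsClopen U → Set.range e.left.base ⊆ U → U = Set.univ)
    (ψ : X ⊗ Y ⟶ G) (hψ : lift (𝟙 X) (toUnit X ≫ e) ≫ ψ = 1) :
    ∃ h : Y ⟶ G, ψ = snd X Y ≫ h := by
  have hw : ψ.left ≫ G.hom = pullback.snd X.hom Y.hom ≫ Y.hom := by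
    rw [Over.w ψ, ← pullback.condition]
    rfl
  let ψ' : pullback X.hom Y.hom ⟶ pullback G.hom Y.hom :=
    pullback.lift ψ.left (pullback.snd X.hom Y.hom) hw
  have hψ'1 : ψ' ≫ pullback.fst G.hom Y.hom = ψ.left := pullback.lift_fst _ _ _
  have hψ'2 : ψ' ≫ pullback.snd G.hom Y.hom = pullback.snd X.hom Y.hom := pullback.lift_snd _ _ _
  have hη : η[G].left ≫ G.hom = e.left ≫ Y.hom := by
    rw [Over.w η[G], Over.w e]
  let c : S ⟶ pullback G.hom Y.hom := pullback.lift η[G].left e.left hη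
  let j : X ⟶ X ⊗ Y := lift (𝟙 X) (toUnit X ≫ e)
  have hj1 : j.left ≫ pullback.fst X.hom Y.hom = 𝟙 _ := by
    have h1 : j ≫ fst X Y = 𝟙 X := lift_fst _ _
    exact congrArg CommaMorphism.left h1
  have hj2 : j.left ≫ pullback.snd X.hom Y.hom = X.hom ≫ e.left := by
    have h1 : j ≫ snd X Y = toUnit X ≫ e := lift_snd _ _
    exact congrArg CommaMorphism.left h1
  have he : e.left ≫ Y.hom = 𝟙 S := Over.w e
  have hpb : IsPullback j.left X.hom (pullback.snd X.hom Y.hom) e.left := by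
    refine IsPullback.of_right ?_ hj2 (IsPullback.of_hasPullback X.hom Y.hom)
    rw [hj1, he]
    exact IsPullback.id_horiz X.hom
  have hjψ : j.left ≫ ψ' = X.hom ≫ c := by
    apply pullback.hom_ext
    · rw [Category.assoc, hψ'1, Category.assoc, pullback.lift_fst]
      have h1 := congrArg CommaMorphism.left hψ
      rw [Hom.one_def] at h1
      exact h1
    · rw [Category.assoc, hψ'2, Category.assoc, pullback.lift_snd, hj2]
  have hcol : Set.range e.left.base ⊆ collapsed (pullback.snd X.hom Y.hom) ψ' := by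
    rintro _ ⟨s₀, rfl⟩
    refine ⟨c.base s₀, fun w hw' => ?_⟩
    obtain ⟨z, hz1, hz2⟩ := Scheme.Pullback.exists_preimage_pullback
      (f := pullback.snd X.hom Y.hom) (g := e.left) w s₀ hw'
    have h1 : j.left.base (hpb.isoPullback.inv.base z) = w := by
      rw [← hz1, ← Scheme.Hom.comp_apply, hpb.isoPullback_inv_fst]
    have h2 : X.hom.base (hpb.isoPullback.inv.base z) = s₀ := by
      rw [← hz2, ← Scheme.Hom.comp_apply, hpb.isoPullback_inv_snd]
    have h3 := congrArg (fun φ => φ.base (hpb.isoPullback.inv.base z)) hjψ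
    simp only [Scheme.Hom.comp_base, TopCat.hom_comp, ContinuousMap.comp_apply] at h3
    rw [← h1, h3, h2]
  have hall : collapsed (pullback.snd X.hom Y.hom) ψ' = Set.univ :=
    hY _ ⟨isClosed_collapsed (pullback.snd X.hom Y.hom) (h0_baseChange X.hom h0 Y.hom)
      (pullback.snd G.hom Y.hom) ψ' hψ'2,
      isOpen_collapsed (pullback.snd X.hom Y.hom) (h0_baseChange X.hom h0 Y.hom) ψ'⟩ hcol
  obtain ⟨σ, hσ1, hσ2⟩ := exists_section_factor_of_forall (pullback.snd X.hom Y.hom)
    (h0_baseChange X.hom h0 Y.hom) (pullback.snd G.hom Y.hom) ψ' hψ'2 hall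
  refine ⟨Over.homMk (σ ≫ pullback.fst G.hom Y.hom) (by
    rw [Category.assoc, pullback.condition, ← Category.assoc, hσ1, Category.id_comp]), ?_⟩
  apply Over.OverMorphism.ext
  rw [Over.comp_left]
  show ψ.left = pullback.snd X.hom Y.hom ≫ σ ≫ pullback.fst G.hom Y.hom
  rw [← Category.assoc, ← hσ2, hψ'1]

/-- a unit-preserving morphism from an "abelian scheme" to a separated group scheme is a
homomorphism. -/
theorem isMonHom_of_unit {S : Scheme.{u}} [IsLocallyNoetherian S]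
    (X G : Over S) [GrpObj X] [GrpObj G] [IsSeparated G.hom] [IsProper X.hom] [Flat X.hom]
    (h0 : ∀ s : S, Module.finrank (S.residueField s) Γ(X.hom.fiber s, ⊤) = 1)
    (hconn : ∀ s : S, _root_.IsPreconnected (X.hom.base ⁻¹' {s}))
    (f : X ⟶ G) (hf : η[X] ≫ f = η[G]) : IsMonHom f := by
  haveI : IsLocallyNoetherian X.left := LocallyOfFiniteType.isLocallyNoetherian X.hom
  have hY : ∀ U : Set X.left, IsClopen U → Set.range η[X].left.base ⊆ U → U = Set.univ := by
    intro U hU hsub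
    rw [Set.eq_univ_iff_forall]
    intro x
    have hη : X.hom.base (η[X].left.base (X.hom.base x)) = X.hom.base x := by
      have h1 : η[X].left ≫ X.hom = 𝟙 S := Over.w η[X]
      have h2 := congrArg (fun φ => φ.base (X.hom.base x)) h1
      exact h2
    exact (hconn (X.hom.base x)).subset_isClopen hU
      ⟨η[X].left.base (X.hom.base x), hη, hsub ⟨_, rfl⟩⟩ (show x ∈ X.hom.base ⁻¹' {X.hom.base x} from rfl)
  let a : X ⊗ X ⟶ G := fst X X ≫ f
  let b : X ⊗ X ⟶ G := snd X X ≫ f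
  let c : X ⊗ X ⟶ G := μ[X] ≫ f
  let j : X ⟶ X ⊗ X := lift (𝟙 X) (toUnit X ≫ η[X])
  let j' : X ⟶ X ⊗ X := lift (toUnit X ≫ η[X]) (𝟙 X)
  have hja : j ≫ a = f := by
    show j ≫ fst X X ≫ f = f
    rw [← Category.assoc, show j ≫ fst X X = 𝟙 X from lift_fst _ _, Category.id_comp]
  have hjb : j ≫ b = 1 := by
    show j ≫ snd X X ≫ f = 1
    rw [← Category.assoc, show j ≫ snd X X = toUnit X ≫ η[X] from lift_snd _ _, Category.assoc,
      hf, Hom.one_def]
  have hjc : j ≫ c = f := by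
    show j ≫ μ[X] ≫ f = f
    rw [← Category.assoc, show j ≫ μ[X] = 𝟙 X from MonObj.lift_comp_one_right _ _,
      Category.id_comp]
  have hj'a : j' ≫ a = 1 := by
    show j' ≫ fst X X ≫ f = 1
    rw [← Category.assoc, show j' ≫ fst X X = toUnit X ≫ η[X] from lift_fst _ _, Category.assoc,
      hf, Hom.one_def]
  have hj'b : j' ≫ b = f := by
    show j' ≫ snd X X ≫ f = f
    rw [← Category.assoc, show j' ≫ snd X X = 𝟙 X from lift_snd _ _, Category.id_comp]
  have hj'c : j' ≫ c = f := by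
    show j' ≫ μ[X] ≫ f = f
    rw [← Category.assoc, show j' ≫ μ[X] = 𝟙 X from MonObj.lift_comp_one_left _ _,
      Category.id_comp]
  obtain ⟨h, hh⟩ := exists_factor_snd_of_clopen X X G h0 η[X] hY (a⁻¹ * c * b⁻¹) (by
    show j ≫ (a⁻¹ * c * b⁻¹) = 1
    rw [MonObj.comp_mul, MonObj.comp_mul, GrpObj.comp_inv, GrpObj.comp_inv, hja, hjb, hjc]
    simp)
  have hh1 : h = 1 := by
    have h1 : j' ≫ (a⁻¹ * c * b⁻¹) = 1 := by
      rw [MonObj.comp_mul, MonObj.comp_mul, GrpObj.comp_inv, GrpObj.comp_inv, hj'a, hj'b, hj'c]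
      simp
    rw [hh, ← Category.assoc, show j' ≫ snd X X = 𝟙 X from lift_snd _ _, Category.id_comp] at h1
    exact h1
  have hφ : a⁻¹ * c * b⁻¹ = 1 := by
    rw [hh, hh1, MonObj.comp_one]
  have hc : c = a * b := by
    have h1 : a⁻¹ * c = b := mul_inv_eq_one.1 hφ
    exact inv_mul_eq_iff_eq_mul.1 h1
  refine ⟨hf, ?_⟩
  show c = (f ⊗ₘ f) ≫ μ[G]
  rw [hc, Hom.mul_def]
  show lift (fst X X ≫ f) (snd X X ≫ f) ≫ μ[G] = _
  rw [lift_fst_comp_snd_comp]

end Groth.Agent.Lib.Helper13.Rigid
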