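import Mathlib
import Groth.Prelude
import Groth.Agent.Lib.Helper13.Rigid4

/-!
# `h⁰ = 1` and connectedness of fibres from connectedness of the geometric fibres
-/

set_option autoImplicit false
set_option linter.style.haveILetI false
universe u
open CategoryTheory CategoryTheory.Limits AlgebraicGeometry TopologicalSpace

namespace Groth.Agent.Lib.Helper13.Rigid

theorem range_geomPt {S : Scheme.{u}} (s : S) : Set.range (Red.geomPt s).base = {s} := by
  ext x
  constructor
  · rintro ⟨z, rfl⟩
    show (S.fromSpecResidueField s).base _ = s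
    exact Scheme.fromSpecResidueField_apply _ _
  · rintro rfl
    obtain ⟨z⟩ : Nonempty ↥(Spec (CommRingCat.of (AlgebraicClosure (S.residueField x)))) :=
      inferInstanceAs (Nonempty (PrimeSpectrum (AlgebraicClosure (S.residueField x))))
    refine ⟨z, ?_⟩
    show (S.fromSpecResidueField x).base _ = x
    exact Scheme.fromSpecResidueField_apply _ _

theorem isPreconnected_fibre_of_geomFibre {S : Scheme.{u}} (X : Over S) (s : S)
    (hc : ConnectedSpace (Red.geomFibre s X).left) :
    _root_.IsPreconnected (X.hom.base ⁻¹' {s}) := by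
  haveI : ConnectedSpace ↥(pullback X.hom (Red.geomPt s)) := hc
  have h1 : Set.range (pullback.fst X.hom (Red.geomPt s)).base = X.hom.base ⁻¹' {s} := by
    rw [Scheme.Pullback.range_fst, range_geomPt]
  rw [← h1]
  exact isPreconnected_range (pullback.fst X.hom (Red.geomPt s)).continuous

theorem finrank_eq_one_of_geomFibre {S : Scheme.{u}} (X : Over S) [IsProper X.hom]
    [Smooth X.hom] (s : S) (hc : ConnectedSpace (Red.geomFibre s X).left) :
    Module.finrank (S.residueField s) Γ(X.hom.fiber s, ⊤) = 1 := by
  letI over' : (X.hom.fiber s).Over (Spec (CommRingCat.of ↑(S.residueField s))) :=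
    ⟨X.hom.fiberToSpecResidueField s⟩
  letI overK : (pullback X.hom (Red.geomPt s)).Over
      (Spec (CommRingCat.of (AlgebraicClosure (S.residueField s)))) :=
    ⟨pullback.snd X.hom (Red.geomPt s)⟩
  let π : pullback X.hom (Red.geomPt s) ⟶ X.hom.fiber s :=
    pullback.lift (pullback.fst X.hom (Red.geomPt s))
      (pullback.snd X.hom (Red.geomPt s) ≫ Spec.map (CommRingCat.ofHom
        (algebraMap (S.residueField s) (AlgebraicClosure (S.residueField s)))))
      (by rw [pullback.condition, Category.assoc]; rfl)
  have hpb : IsPullback π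
      ((pullback X.hom (Red.geomPt s)) ↘
        Spec (CommRingCat.of (AlgebraicClosure (S.residueField s))))
      ((X.hom.fiber s) ↘ Spec (CommRingCat.of ↑(S.residueField s)))
      (Spec.map (CommRingCat.ofHom
        (algebraMap (S.residueField s) (AlgebraicClosure (S.residueField s))))) := by
    have hπ1 : π ≫ pullback.fst X.hom (S.fromSpecResidueField s) =
        pullback.fst X.hom (Red.geomPt s) := pullback.lift_fst _ _ _
    have hbig : IsPullback (π ≫ pullback.fst X.hom (S.fromSpecResidueField s))
        (pullback.snd X.hom (Red.geomPt s)) X.hom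
        (Spec.map (CommRingCat.ofHom
          (algebraMap (S.residueField s) (AlgebraicClosure (S.residueField s)))) ≫
          S.fromSpecResidueField s) := by
      rw [hπ1]
      exact IsPullback.of_hasPullback X.hom (Red.geomPt s)
    exact IsPullback.of_right hbig (pullback.lift_snd _ _ _)
      (IsPullback.of_hasPullback X.hom (S.fromSpecResidueField s))
  haveI : IsProper ((pullback X.hom (Red.geomPt s)) ↘
      Spec (CommRingCat.of (AlgebraicClosure (S.residueField s)))) :=
    (inferInstance : IsProper (pullback.snd X.hom (Red.geomPt s)))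
  haveI : Smooth (pullback.snd X.hom (Red.geomPt s)) := inferInstance
  haveI : IsReduced (pullback X.hom (Red.geomPt s)) :=
    Groth.Agent.Lib.Helper22.SmoothRed.isReduced_of_smooth (pullback.snd X.hom (Red.geomPt s))
  haveI : ConnectedSpace ↥(pullback X.hom (Red.geomPt s)) := hc
  haveI : IsProper ((X.hom.fiber s) ↘ Spec (CommRingCat.of ↑(S.residueField s))) :=
    (inferInstance : IsProper (pullback.snd X.hom (S.fromSpecResidueField s)))
  have h1 := Groth.Agent.Lib.Helper23.GeomH0.finrank_H0_eq_one_of_isAlgClosed
    (AlgebraicClosure (S.residueField s)) (pullback X.hom (Red.geomPt s))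
  have e0 := (Groth.Agent.Lib.Helper23.FBC.HmapEquivK (AlgebraicClosure (S.residueField s))
    (Groth.Agent.Lib.Helper3.PbBasic.pbUnit π) 0).finrank_eq
  have f0 := Groth.Agent.Lib.Helper23.FBC.finrank_eq_of_isProper ↑(S.residueField s)
    (AlgebraicClosure (S.residueField s)) hpb 0 (Coh.structureModule (X.hom.fiber s))
  have h2 : Module.finrank ↑(S.residueField s)
      (Coh.HH (X.hom.fiber s) (Coh.structureModule (X.hom.fiber s)) 0) = 1 := by
    rw [← f0, e0, h1]
  have e2 : Coh.HH (X.hom.fiber s) (Coh.structureModule (X.hom.fiber s)) 0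
      ≃ₗ[↑(S.residueField s)] Γ(X.hom.fiber s, ⊤) :=
    Groth.Agent.Lib.Helper23.GeomH0.H0structEquiv ↑(S.residueField s) (X.hom.fiber s)
  exact e2.finrank_eq.symm.trans h2

end Groth.Agent.Lib.Helper13.Rigid
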