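import Mathlib
import Groth.Prelude
import Groth.Agent.Lib.Helper13.CBCUniv3
import Groth.Agent.Lib.Helper13.Rigid5
import Groth.Agent.Lib.Helper12.FlatProperApprox
import Groth.Agent.Lib.Helper17.PushIso

/-!
# Universal `O_T = (f_T)_* O` for proper flat morphisms of finite presentation with
`h⁰(X_s, O) = 1`, over an arbitrary base (by Noetherian approximation)
-/

set_option autoImplicit false
set_option linter.style.haveILetI false
universe u
open CategoryTheory CategoryTheory.Limits AlgebraicGeometry TopologicalSpace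

namespace Groth.Agent.Lib.Helper13.CBCUnivG

/-- `h⁰` of the fibres is invariant under base change. -/
theorem finrank_fiber_eq_of_isPullback {X S X₀ S₀ : Scheme.{u}} {f : X ⟶ S} {f₀ : X₀ ⟶ S₀}
    {G : S ⟶ S₀} {g' : X ⟶ X₀} (hsq : IsPullback g' f f₀ G) [IsProper f₀] (t : S) :
    Module.finrank (S.residueField t) Γ(f.fiber t, ⊤) =
      Module.finrank (S₀.residueField (G t)) Γ(f₀.fiber (G t), ⊤) := by
  letI alg : Algebra ↑(S₀.residueField (G t)) ↑(S.residueField t) :=
    (G.residueFieldMap t).hom.toAlgebra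
  letI over0 : (f₀.fiber (G t)).Over (Spec (CommRingCat.of ↑(S₀.residueField (G t)))) :=
    ⟨f₀.fiberToSpecResidueField (G t)⟩
  letI over1 : (f.fiber t).Over (Spec (CommRingCat.of ↑(S.residueField t))) :=
    ⟨f.fiberToSpecResidueField t⟩
  have hres : Spec.map (G.residueFieldMap t) ≫ S₀.fromSpecResidueField (G t) =
      S.fromSpecResidueField t ≫ G := Scheme.Hom.SpecMap_residueFieldMap_fromSpecResidueField G t
  have h1 : pullback.fst f (S.fromSpecResidueField t) ≫ f =
      pullback.snd f (S.fromSpecResidueField t) ≫ S.fromSpecResidueField t := pullback.condition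
  have hcond : (pullback.fst f (S.fromSpecResidueField t) ≫ g') ≫ f₀ =
      (pullback.snd f (S.fromSpecResidueField t) ≫ Spec.map (G.residueFieldMap t)) ≫
        S₀.fromSpecResidueField (G t) := by
    calc (pullback.fst f (S.fromSpecResidueField t) ≫ g') ≫ f₀
        = pullback.fst f (S.fromSpecResidueField t) ≫ (g' ≫ f₀) := Category.assoc _ _ _
      _ = pullback.fst f (S.fromSpecResidueField t) ≫ (f ≫ G) := by rw [hsq.w]
      _ = (pullback.fst f (S.fromSpecResidueField t) ≫ f) ≫ G := (Category.assoc _ _ _).symm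
      _ = (pullback.snd f (S.fromSpecResidueField t) ≫ S.fromSpecResidueField t) ≫ G := by
          rw [h1]
      _ = pullback.snd f (S.fromSpecResidueField t) ≫ (S.fromSpecResidueField t ≫ G) :=
          Category.assoc _ _ _
      _ = pullback.snd f (S.fromSpecResidueField t) ≫
          (Spec.map (G.residueFieldMap t) ≫ S₀.fromSpecResidueField (G t)) := by rw [hres]
      _ = _ := (Category.assoc _ _ _).symm
  let π : f.fiber t ⟶ f₀.fiber (G t) := pullback.lift _ _ hcond
  have hπ1 : π ≫ pullback.fst f₀ (S₀.fromSpecResidueField (G t)) =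
      pullback.fst f (S.fromSpecResidueField t) ≫ g' := pullback.lift_fst _ _ _
  have hπ2 : π ≫ pullback.snd f₀ (S₀.fromSpecResidueField (G t)) =
      pullback.snd f (S.fromSpecResidueField t) ≫ Spec.map (G.residueFieldMap t) :=
    pullback.lift_snd _ _ _
  have hbig : IsPullback (π ≫ pullback.fst f₀ (S₀.fromSpecResidueField (G t)))
      (pullback.snd f (S.fromSpecResidueField t)) f₀
      (Spec.map (G.residueFieldMap t) ≫ S₀.fromSpecResidueField (G t)) := by
    rw [hπ1, hres]
    exact (IsPullback.of_hasPullback f (S.fromSpecResidueField t)).paste_horiz hsq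
  have hpb0 : IsPullback π (pullback.snd f (S.fromSpecResidueField t))
      (pullback.snd f₀ (S₀.fromSpecResidueField (G t))) (Spec.map (G.residueFieldMap t)) :=
    IsPullback.of_right hbig hπ2 (IsPullback.of_hasPullback f₀ (S₀.fromSpecResidueField (G t)))
  have hpb : IsPullback π ((f.fiber t) ↘ Spec (CommRingCat.of ↑(S.residueField t)))
      ((f₀.fiber (G t)) ↘ Spec (CommRingCat.of ↑(S₀.residueField (G t))))
      (Spec.map (CommRingCat.ofHom
        (algebraMap ↑(S₀.residueField (G t)) ↑(S.residueField t)))) := hpb0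
  haveI : IsProper ((f₀.fiber (G t)) ↘ Spec (CommRingCat.of ↑(S₀.residueField (G t)))) :=
    (inferInstance : IsProper (pullback.snd f₀ (S₀.fromSpecResidueField (G t))))
  have e0 := (Groth.Agent.Lib.Helper23.FBC.HmapEquivK ↑(S.residueField t)
    (Groth.Agent.Lib.Helper3.PbBasic.pbUnit π) 0).finrank_eq
  have f0 := Groth.Agent.Lib.Helper23.FBC.finrank_eq_of_isProper ↑(S₀.residueField (G t))
    ↑(S.residueField t) hpb 0 (Coh.structureModule (f₀.fiber (G t)))
  have e1 := (Groth.Agent.Lib.Helper23.GeomH0.H0structEquiv ↑(S.residueField t)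
    (f.fiber t)).finrank_eq
  have e2 := (Groth.Agent.Lib.Helper23.GeomH0.H0structEquiv ↑(S₀.residueField (G t))
    (f₀.fiber (G t))).finrank_eq
  exact e1.symm.trans ((e0.symm.trans f0).trans e2)

section Main

variable {X S : Scheme.{u}} (f : X ⟶ S) [IsProper f] [Flat f] [LocallyOfFinitePresentation f]

/-- **Universal `O = f_* O`** over an arbitrary base, on affine opens of any base change. -/
theorem bijective_app_of_isPullback
    (h0 : ∀ s : S, Module.finrank (S.residueField s) Γ(f.fiber s, ⊤) = 1)
    {X' T : Scheme.{u}} {f' : X' ⟶ T} {g : T ⟶ S} {g' : X' ⟶ X} (hsq₀ : IsPullback g' f' f g)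
    (W : T.Opens) (hW : IsAffineOpen W) : Function.Bijective (f'.app W).hom := by
  haveI : IsProper f' := MorphismProperty.of_isPullback (P := @IsProper) hsq₀ inferInstance
  haveI : Flat f' := MorphismProperty.of_isPullback (P := @Flat) hsq₀ inferInstance
  haveI : LocallyOfFinitePresentation f' :=
    MorphismProperty.of_isPullback (P := @LocallyOfFinitePresentation) hsq₀ inferInstance
  haveI : IsAffine W.toScheme := hW
  obtain ⟨S₀, X₀, f₀, γ, γ', hS₀a, hS₀n, hsq, hfl, hpr, hfp⟩ :=
    Groth.Agent.Lib.Helper12.FlatProperApprox.exists_model W hW (f' ∣_ W)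
  haveI := hfl
  haveI := hpr
  haveI := hS₀n
  haveI : IsLocallyNoetherian S₀ := inferInstance
  have hsq2 : IsPullback ((f' ⁻¹ᵁ W).ι ≫ g') (f' ∣_ W) f (W.ι ≫ g) :=
    (isPullback_morphismRestrict f' W).flip.paste_horiz hsq₀
  have h0' : ∀ w : W.toScheme,
      Module.finrank (S₀.residueField (γ w)) Γ(f₀.fiber (γ w), ⊤) = 1 := by
    intro w
    rw [← finrank_fiber_eq_of_isPullback hsq w, finrank_fiber_eq_of_isPullback hsq2 w]
    exact h0 _
  have key := Groth.Agent.Lib.Helper13.CBCUniv2.bijective_app_affine' f₀ γ ⊤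
    (isAffineOpen_top _) (fun w _ => h0' w)
  have hh : f' ∣_ W = hsq.isoPullback.hom ≫ pullback.snd f₀ γ := hsq.isoPullback_hom_snd.symm
  haveI hkey : IsIso (pullback.snd f₀ γ).appTop := by
    haveI : IsIso ((forget CommRingCat).map (pullback.snd f₀ γ).appTop) :=
      (isIso_iff_bijective _).2 key
    exact isIso_of_reflects_iso _ (forget CommRingCat)
  haveI : IsIso hsq.isoPullback.hom.appTop := by
    show IsIso (Scheme.Γ.map hsq.isoPullback.hom.op)
    infer_instance
  have hIso : IsIso (f' ∣_ W).appTop := by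
    rw [hh, Scheme.Hom.comp_appTop]
    infer_instance
  have h6 := (congrArg (fun φ => IsIso φ) (morphismRestrict_appTop f' W)).mp hIso
  haveI : IsIso (f'.app (W.ι ''ᵁ ⊤) ≫
      X'.presheaf.map (eqToHom (image_morphismRestrict_preimage f' W ⊤)).op) := h6
  have h7 : IsIso (f'.app (W.ι ''ᵁ ⊤)) := IsIso.of_isIso_comp_right _
    (X'.presheaf.map (eqToHom (image_morphismRestrict_preimage f' W ⊤)).op)
  have gen : ∀ W' : T.Opens, W' = W → IsIso (f'.app W') → IsIso (f'.app W) := by
    rintro W' rfl hb
    exact hb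
  haveI := gen _ (Scheme.Opens.ι_image_top W) h7
  exact ConcreteCategory.bijective_of_isIso (f'.app W)

/-- **Universal `O = f_* O`** over an arbitrary base, on all opens of any base change. -/
theorem isIso_app_of_isPullback
    (h0 : ∀ s : S, Module.finrank (S.residueField s) Γ(f.fiber s, ⊤) = 1)
    {X' T : Scheme.{u}} {f' : X' ⟶ T} {g : T ⟶ S} {g' : X' ⟶ X} (hsq₀ : IsPullback g' f' f g)
    (V : T.Opens) : IsIso (f'.app V) := by
  haveI : IsProper f' := MorphismProperty.of_isPullback (P := @IsProper) hsq₀ inferInstance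
  refine Groth.Agent.Lib.Helper17.PushIso.isIso_app_of_cover f' {W | IsAffineOpen W}
    (fun W hW => hW) (fun y => ?_) (fun W hW => ?_) V
  · obtain ⟨W, hW, hyW, -⟩ := exists_isAffineOpen_mem_and_subset (x := y) (U := ⊤) trivial
    exact ⟨W, hW, hyW⟩
  · have hb := bijective_app_of_isPullback f h0 hsq₀ W hW
    haveI : IsIso ((forget CommRingCat).map (f'.app W)) := (isIso_iff_bijective _).2 hb
    exact isIso_of_reflects_iso _ (forget CommRingCat)

/-- on affine opens of the canonical base change. -/
theorem bijective_app_affine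
    (h0 : ∀ s : S, Module.finrank (S.residueField s) Γ(f.fiber s, ⊤) = 1)
    {T : Scheme.{u}} (g : T ⟶ S) (W : T.Opens) (hW : IsAffineOpen W) :
    Function.Bijective ((pullback.snd f g).app W).hom :=
  bijective_app_of_isPullback f h0 (IsPullback.of_hasPullback f g) W hW

theorem isIso_app
    (h0 : ∀ s : S, Module.finrank (S.residueField s) Γ(f.fiber s, ⊤) = 1) (V : S.Opens) :
    IsIso (f.app V) :=
  isIso_app_of_isPullback f h0 (IsPullback.id_horiz f) V

end Main

end Groth.Agent.Lib.Helper13.CBCUnivG
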