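import Mathlib
import Groth.Prelude
import Groth.Agent.Lib.Helper13.EtGamma
import Groth.Agent.Lib.Helper13.CBCEtConst
import Groth.Agent.Lib.Helper13.CBCUsc
import Groth.Agent.Lib.Helper13.CBCUniv4
import Groth.Agent.Lib.Helper12.FlatProperApprox

/-!
# Local constancy of `h^0(X_s, O)` for flat proper geometrically reduced families
-/

set_option autoImplicit false
set_option linter.style.haveILetI false
universe u
open CategoryTheory CategoryTheory.Limits AlgebraicGeometry TopologicalSpace Opposite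

namespace Groth.Agent.Lib.Helper13.H0LocConst

/-- on a locally Noetherian scheme every point has an open neighbourhood all of whose points have
a common generization with it. -/
theorem exists_open_common_generization {Z : Scheme.{u}} [IsLocallyNoetherian Z] (z₀ : Z) :
    ∃ N : Set Z, IsOpen N ∧ z₀ ∈ N ∧ ∀ x ∈ N, ∃ η : Z, η ⤳ x ∧ η ⤳ z₀ := by
  obtain ⟨V, hV, hzV⟩ : ∃ V : Z.Opens, IsAffineOpen V ∧ z₀ ∈ V := by
    obtain ⟨V, hV, hz, -⟩ := exists_isAffineOpen_mem_and_subset (x := z₀) (U := ⊤) trivial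
    exact ⟨V, hV, hz⟩
  haveI : IsNoetherianRing Γ(Z, V) := IsLocallyNoetherian.component_noetherian ⟨V, hV⟩
  have hr : z₀ ∈ Set.range hV.fromSpec := by
    rw [hV.range_fromSpec]
    exact hzV
  obtain ⟨x₀, hx₀⟩ := hr
  let S : Set (Ideal Γ(Z, V)) := {𝔭 | 𝔭 ∈ minimalPrimes Γ(Z, V) ∧ ¬ 𝔭 ≤ x₀.asIdeal}
  have hSfin : S.Finite :=
    (minimalPrimes.finite_of_isNoetherianRing Γ(Z, V)).subset (fun 𝔭 h𝔭 => h𝔭.1)
  let C : Set ↥(Spec Γ(Z, V)) := ⋃ 𝔭 ∈ S, PrimeSpectrum.zeroLocus (𝔭 : Set Γ(Z, V))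
  have hC : IsClosed C :=
    hSfin.isClosed_biUnion (fun 𝔭 _ => PrimeSpectrum.isClosed_zeroLocus _)
  have hopen : IsOpen (hV.fromSpec '' Cᶜ) :=
    hV.fromSpec.isOpenEmbedding.isOpenMap _ hC.isOpen_compl
  refine ⟨hV.fromSpec '' Cᶜ, hopen, ⟨x₀, ?_, hx₀⟩, ?_⟩
  · intro hx
    simp only [C, Set.mem_iUnion, exists_prop] at hx
    obtain ⟨𝔭, h𝔭, hx⟩ := hx
    exact h𝔭.2 ((PrimeSpectrum.mem_zeroLocus _ _).1 hx)
  · rintro _ ⟨x, hx, rfl⟩
    obtain ⟨𝔭, h𝔭min, h𝔭x⟩ := Ideal.exists_minimalPrimes_le (I := ⊥) (J := x.asIdeal) bot_le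
    have h𝔭x₀ : 𝔭 ≤ x₀.asIdeal := by
      by_contra hcon
      apply hx
      simp only [C, Set.mem_iUnion, exists_prop]
      exact ⟨𝔭, ⟨h𝔭min, hcon⟩, (PrimeSpectrum.mem_zeroLocus _ _).2 h𝔭x⟩
    haveI : 𝔭.IsPrime := h𝔭min.1.1
    let η : ↥(Spec Γ(Z, V)) := (⟨𝔭, inferInstance⟩ : PrimeSpectrum Γ(Z, V))
    have h1 : η ⤳ x := (PrimeSpectrum.le_iff_specializes η x).1 h𝔭x
    have h2 : η ⤳ x₀ := (PrimeSpectrum.le_iff_specializes η x₀).1 h𝔭x₀
    have h3 : hV.fromSpec η ⤳ hV.fromSpec x := h1.map hV.fromSpec.continuous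
    have h4 : hV.fromSpec η ⤳ hV.fromSpec x₀ := h2.map hV.fromSpec.continuous
    rw [← hx₀]
    exact ⟨_, h3, h4⟩

/-- `h^0(X_y, O)` as the dimension of the ring of global functions of the fibre. -/
theorem fiberRank_eq_finrank {X Y : Scheme.{u}} (f : X ⟶ Y) (y : Y) :
    CohIII.fiberRank f (Coh.structureModule X) 0 y =
      Module.finrank (Y.residueField y) Γ(f.fiber y, ⊤) := by
  letI over' : (f.fiber y).Over (Spec (CommRingCat.of ↑(Y.residueField y))) :=
    ⟨f.fiberToSpecResidueField y⟩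
  have e1 : Coh.HH (f.fiber y) (CohIII.fiberMod f (Coh.structureModule X) y) 0
      ≃ₗ[↑(Y.residueField y)] Coh.HH (f.fiber y) (Coh.structureModule (f.fiber y)) 0 :=
    Groth.Agent.Lib.Helper13.CBCStalk.HHcongr ↑(Y.residueField y)
      (Groth.Agent.Lib.Helper3.PbBasic.pbUnit (f.fiberι y)) 0
  have e2 : Coh.HH (f.fiber y) (Coh.structureModule (f.fiber y)) 0
      ≃ₗ[↑(Y.residueField y)] Γ(f.fiber y, ⊤) :=
    Groth.Agent.Lib.Helper23.GeomH0.H0structEquiv ↑(Y.residueField y) (f.fiber y)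
  have h1 : Module.finrank ↑(Y.residueField y)
      (Coh.HH (f.fiber y) (CohIII.fiberMod f (Coh.structureModule X) y) 0) =
      Module.finrank (Y.residueField y) Γ(f.fiber y, ⊤) :=
    e1.finrank_eq.trans e2.finrank_eq
  exact h1

/-- Noetherian case: `h^0` of the fibres is constant near a point whose fibre has an étale ring
of functions. -/
theorem exists_open_const_noeth {X Y : Scheme.{u}} (f : X ⟶ Y) [IsProper f] [Flat f]
    [IsLocallyNoetherian Y] (y : Y)
    (het : Algebra.Etale (Y.residueField y) Γ(f.fiber y, ⊤)) :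
    ∃ U : Set Y, IsOpen U ∧ y ∈ U ∧ ∀ t ∈ U,
      CohIII.fiberRank f (Coh.structureModule X) 0 t =
        CohIII.fiberRank f (Coh.structureModule X) 0 y := by
  have hF : Coh.IsCoh (Coh.structureModule X) :=
    Groth.Agent.Lib.Helper23.T2.isCoh_structureModule X
  have hfl : FlatMod.IsFlatOver f (Coh.structureModule X) :=
    Groth.Agent.Lib.Helper13.CBCEtStalk.isFlatOver_structureModule f
  have hcl : ∀ m : ℕ, IsClosed {t : Y | m ≤ CohIII.fiberRank f (Coh.structureModule X) 0 t} :=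
    fun m => Groth.Agent.Lib.Helper13.CBCUsc.isClosed_setOf_le_fiberRank f _ hF hfl 0 m
  obtain ⟨N, hNo, hyN, hN⟩ := exists_open_common_generization y
  refine ⟨N ∩ {t : Y | CohIII.fiberRank f (Coh.structureModule X) 0 y + 1 ≤
      CohIII.fiberRank f (Coh.structureModule X) 0 t}ᶜ, hNo.inter (hcl _).isOpen_compl,
    ⟨hyN, ?_⟩, ?_⟩
  · intro hcon
    have : CohIII.fiberRank f (Coh.structureModule X) 0 y + 1 ≤
        CohIII.fiberRank f (Coh.structureModule X) 0 y := hcon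
    omega
  · rintro t ⟨htN, htU⟩
    obtain ⟨η, hηt, hηy⟩ := hN t htN
    have hηr : η ∈ Set.range (Y.fromSpecStalk y) := by
      rw [Scheme.range_fromSpecStalk]
      exact hηy
    obtain ⟨q, hq⟩ := hηr
    have h1 : CohIII.fiberRank f (Coh.structureModule X) 0 η =
        CohIII.fiberRank f (Coh.structureModule X) 0 y := by
      rw [← hq]
      exact Groth.Agent.Lib.Helper13.CBCEtConst.fiberRank_const_of_etale f y het q
    have h2 : CohIII.fiberRank f (Coh.structureModule X) 0 y ≤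
        CohIII.fiberRank f (Coh.structureModule X) 0 t := by
      have hmem : η ∈ {t : Y | CohIII.fiberRank f (Coh.structureModule X) 0 y ≤
          CohIII.fiberRank f (Coh.structureModule X) 0 t} := le_of_eq h1.symm
      exact hηt.mem_closed (hcl _) hmem
    have h3 : ¬ (CohIII.fiberRank f (Coh.structureModule X) 0 y + 1 ≤
        CohIII.fiberRank f (Coh.structureModule X) 0 t) := htU
    omega

section Model

variable {X₁ S₁ X₀ S₀ : Scheme.{u}} {f₁ : X₁ ⟶ S₁} {f₀ : X₀ ⟶ S₀} {γ : S₁ ⟶ S₀} {γ' : X₁ ⟶ X₀}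

/-- étaleness of the ring of functions of a fibre of a model of a geometrically reduced family. -/
theorem etale_fiber_of_isPullback (hsq : IsPullback γ' f₁ f₀ γ) [IsProper f₀]
    [GeometricallyReduced f₁] (w : S₁) :
    Algebra.Etale (S₀.residueField (γ w)) Γ(f₀.fiber (γ w), ⊤) := by
  letI alg0 : Algebra ↑(S₀.residueField (γ w)) ↑(S₁.residueField w) :=
    (γ.residueFieldMap w).hom.toAlgebra
  letI algK : Algebra ↑(S₀.residueField (γ w)) (AlgebraicClosure ↑(S₁.residueField w)) :=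
    ((algebraMap ↑(S₁.residueField w) (AlgebraicClosure ↑(S₁.residueField w))).comp
      (γ.residueFieldMap w).hom).toAlgebra
  obtain ⟨p₀, hp₀⟩ : ∃ p₀ : f₀.fiber (γ w) ⟶ Spec (CommRingCat.of ↑(S₀.residueField (γ w))),
      p₀ = pullback.snd f₀ (S₀.fromSpecResidueField (γ w)) := ⟨_, rfl⟩
  haveI : IsProper p₀ := by
    rw [hp₀]
    exact (inferInstance : IsProper (pullback.snd f₀ (S₀.fromSpecResidueField (γ w))))
  obtain ⟨q, hq⟩ : ∃ q : Spec (CommRingCat.of (AlgebraicClosure ↑(S₁.residueField w))) ⟶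
      Spec (CommRingCat.of ↑(S₀.residueField (γ w))),
      q = Spec.map (CommRingCat.ofHom (algebraMap ↑(S₀.residueField (γ w))
        (AlgebraicClosure ↑(S₁.residueField w)))) := ⟨_, rfl⟩
  obtain ⟨ιK, hιK⟩ : ∃ ιK : Spec (CommRingCat.of (AlgebraicClosure ↑(S₁.residueField w))) ⟶
      Spec (S₁.residueField w),
      ιK = Spec.map (CommRingCat.ofHom (algebraMap ↑(S₁.residueField w)
        (AlgebraicClosure ↑(S₁.residueField w)))) := ⟨_, rfl⟩
  have hqι : q = ιK ≫ Spec.map (γ.residueFieldMap w) := by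
    rw [hq, hιK, ← Spec.map_comp]
    rfl
  have hres : Spec.map (γ.residueFieldMap w) ≫ S₀.fromSpecResidueField (γ w) =
      S₁.fromSpecResidueField w ≫ γ := Scheme.Hom.SpecMap_residueFieldMap_fromSpecResidueField γ w
  have hqr : q ≫ S₀.fromSpecResidueField (γ w) = (ιK ≫ S₁.fromSpecResidueField w) ≫ γ := by
    rw [hqι, Category.assoc, hres, Category.assoc]
  have big : IsPullback (pullback.fst p₀ q ≫ pullback.fst f₀ (S₀.fromSpecResidueField (γ w)))
      (pullback.snd p₀ q) f₀ (q ≫ S₀.fromSpecResidueField (γ w)) := by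
    have hA : IsPullback (pullback.fst p₀ q) (pullback.snd p₀ q) p₀ q :=
      IsPullback.of_hasPullback p₀ q
    have hB : IsPullback (pullback.fst f₀ (S₀.fromSpecResidueField (γ w))) p₀ f₀
        (S₀.fromSpecResidueField (γ w)) := by
      rw [hp₀]; exact IsPullback.of_hasPullback _ _
    exact hA.paste_horiz hB
  have hcond : (pullback.fst p₀ q ≫ pullback.fst f₀ (S₀.fromSpecResidueField (γ w))) ≫ f₀ =
      (pullback.snd p₀ q ≫ (ιK ≫ S₁.fromSpecResidueField w)) ≫ γ := by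
    rw [big.w, Category.assoc, Category.assoc, hqr]
    simp only [Category.assoc]
  obtain ⟨l, hl⟩ : ∃ l : pullback p₀ q ⟶ X₁, l = hsq.lift _ _ hcond := ⟨_, rfl⟩
  have hl1 : l ≫ γ' = pullback.fst p₀ q ≫ pullback.fst f₀ (S₀.fromSpecResidueField (γ w)) := by
    rw [hl]; exact hsq.lift_fst _ _ _
  have hl2 : l ≫ f₁ = pullback.snd p₀ q ≫ (ιK ≫ S₁.fromSpecResidueField w) := by
    rw [hl]; exact hsq.lift_snd _ _ _
  have big' : IsPullback (l ≫ γ') (pullback.snd p₀ q) f₀
      ((ιK ≫ S₁.fromSpecResidueField w) ≫ γ) := by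
    rw [hl1, ← hqr]; exact big
  have hleft : IsPullback l (pullback.snd p₀ q) f₁ (ιK ≫ S₁.fromSpecResidueField w) :=
    IsPullback.of_right big' hl2 hsq
  haveI : IsReduced (pullback p₀ q) :=
    GeometricallyReduced.geometrically_isReduced (f := f₁) _ _ _ hleft
  have H : IsPullback (pullback.fst p₀ q) (pullback.snd p₀ q) p₀
      (Spec.map (CommRingCat.ofHom (algebraMap ↑(S₀.residueField (γ w))
        (AlgebraicClosure ↑(S₁.residueField w))))) := by
    rw [← hq]; exact IsPullback.of_hasPullback p₀ q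
  have key := Groth.Agent.Lib.Helper13.EtGamma.etale_gamma p₀ H
  rw [hp₀] at key
  exact key

end Model

/-- **`h^0(X_s, O)` is locally constant for flat proper geometrically reduced families of finite
presentation.** -/
theorem isLocallyConstant_finrank {X S : Scheme.{u}} (f : X ⟶ S) [IsProper f] [Flat f]
    [LocallyOfFinitePresentation f] [GeometricallyReduced f] :
    IsLocallyConstant (fun s : S => Module.finrank (S.residueField s) Γ(f.fiber s, ⊤)) := by
  rw [IsLocallyConstant.iff_exists_open]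
  intro s
  obtain ⟨W, hW, hsW, -⟩ := exists_isAffineOpen_mem_and_subset (x := s) (U := ⊤) trivial
  haveI : IsAffine W.toScheme := hW
  obtain ⟨S₀, X₀, f₀, γ, γ', hS₀a, hS₀n, hsq, hfl, hpr, hfp⟩ :=
    Groth.Agent.Lib.Helper12.FlatProperApprox.exists_model W hW (f ∣_ W)
  haveI := hfl
  haveI := hpr
  haveI := hS₀n
  haveI : IsLocallyNoetherian S₀ := inferInstance
  have hsq2 : IsPullback (f ⁻¹ᵁ W).ι (f ∣_ W) f W.ι := (isPullback_morphismRestrict f W).flip
  have hcmp : ∀ w : W.toScheme,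
      Module.finrank (S.residueField (W.ι w)) Γ(f.fiber (W.ι w), ⊤) =
        CohIII.fiberRank f₀ (Coh.structureModule X₀) 0 (γ w) := by
    intro w
    rw [fiberRank_eq_finrank,
      ← Groth.Agent.Lib.Helper13.CBCUnivG.finrank_fiber_eq_of_isPullback hsq w,
      Groth.Agent.Lib.Helper13.CBCUnivG.finrank_fiber_eq_of_isPullback hsq2 w]
  obtain ⟨s', hs'⟩ : ∃ s' : W.toScheme, W.ι s' = s := ⟨⟨s, hsW⟩, rfl⟩
  have het := etale_fiber_of_isPullback hsq s'
  obtain ⟨U₀, hU₀o, hsU₀, hU₀⟩ := exists_open_const_noeth f₀ (γ s') het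
  refine ⟨W.ι '' (γ ⁻¹' U₀), W.ι.isOpenEmbedding.isOpenMap _ (hU₀o.preimage γ.continuous),
    ⟨s', hsU₀, hs'⟩, ?_⟩
  rintro _ ⟨w, hw, rfl⟩
  rw [← hs', hcmp w, hcmp s']
  exact hU₀ _ hw

end Groth.Agent.Lib.Helper13.H0LocConst
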