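import Groth.Agent.Lib.Helper13.SpSeqBasic

set_option autoImplicit false
universe v u
open CategoryTheory CategoryTheory.Limits

noncomputable section
namespace Groth.Agent.Lib.Helper13

section Fil
variable {C : Type u} [Category.{v} C] [Abelian C] {X : C}

/-- a zero graded piece means the two consecutive steps agree -/
theorem fil_succ_eq_of_isZero_grPiece (F : ℤ → Subobject X) (hF : Antitone F) (p : ℤ)
    (h : IsZero (SpSeq.grPiece F hF p)) : F (p + 1) = F p := by
  have hle : F (p + 1) ≤ F p := hF (Int.le_add_one le_rfl)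
  have hepi : Epi ((F (p + 1)).ofLE (F p) hle) := Preadditive.epi_of_isZero_cokernel _ h
  have hiso : IsIso ((F (p + 1)).ofLE (F p) hle) := isIso_of_mono_of_epi _
  refine le_antisymm hle ?_
  refine Subobject.le_of_comm (inv ((F (p + 1)).ofLE (F p) hle)) ?_
  rw [IsIso.inv_comp_eq, Subobject.ofLE_arrow]

/-- conversely, equal consecutive steps have a zero graded piece -/
theorem isZero_grPiece_of_fil_succ_eq (F : ℤ → Subobject X) (hF : Antitone F) (p : ℤ)
    (h : F (p + 1) = F p) : IsZero (SpSeq.grPiece F hF p) := by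
  have hle : F (p + 1) ≤ F p := hF (Int.le_add_one le_rfl)
  have hiso : IsIso ((F (p + 1)).ofLE (F p) hle) := by
    refine ⟨(F p).ofLE (F (p + 1)) h.ge, ?_, ?_⟩ <;>
    · rw [← cancel_mono (Subobject.arrow _)]
      simp
  exact isZero_cokernel_of_epi _

/-- the filtration is constant above `p₀` if the graded pieces vanish there -/
theorem fil_eq_of_le_of_forall_succ_eq (F : ℤ → Subobject X) (p₁ : ℤ)
    (h : ∀ p, p₁ ≤ p → F (p + 1) = F p) (k : ℤ) (hk : p₁ ≤ k) : F k = F p₁ := by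
  induction k, hk using Int.leInduction with
  | base => rfl
  | succ k hk ih => rw [h k hk, ih]

/-- the filtration is constant below `p₀` if the graded pieces vanish there -/
theorem fil_eq_of_ge_of_forall_succ_eq (F : ℤ → Subobject X) (p₀ : ℤ)
    (h : ∀ p, p < p₀ → F (p + 1) = F p) (k : ℤ) (hk : k ≤ p₀) : F k = F p₀ := by
  induction k, hk using Int.leInductionDown with
  | base => rfl
  | pred k hk ih =>
    have := h (k - 1) (by lia)
    rw [sub_add_cancel] at this
    rw [← this, ih]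

/-- discrete filtration with vanishing graded pieces above `p₀`: the step `p₀ + 1` is zero -/
theorem fil_succ_eq_bot (F : ℤ → Subobject X) (hF : Antitone F) (p₀ : ℤ)
    (hdisc : ∃ b, F b = ⊥) (h : ∀ p, p₀ < p → F (p + 1) = F p) : F (p₀ + 1) = ⊥ := by
  obtain ⟨b, hb⟩ := hdisc
  rcases le_total b (p₀ + 1) with hle | hle
  · exact le_bot_iff.mp (hb ▸ hF hle)
  · rw [← fil_eq_of_le_of_forall_succ_eq F (p₀ + 1) (fun p hp => h p (by lia)) b hle, hb]

/-- exhaustive filtration with vanishing graded pieces below `p₀`: the step `p₀` is everything -/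
theorem fil_eq_top (F : ℤ → Subobject X) (hF : Antitone F) (p₀ : ℤ)
    (hexh : IsLUB (Set.range F) ⊤) (h : ∀ p, p < p₀ → F (p + 1) = F p) : F p₀ = ⊤ := by
  refine top_le_iff.mp (hexh.2 ?_)
  rintro _ ⟨p, rfl⟩
  rcases le_total p p₀ with hle | hle
  · exact (fil_eq_of_ge_of_forall_succ_eq F p₀ h p hle).le
  · exact hF hle

/-- if `F (p₀+1) = ⊥` and `F p₀ = ⊤` then the object is its `p₀`-th graded piece -/
def isoGrPieceOfBotTop (F : ℤ → Subobject X) (hF : Antitone F) (p₀ : ℤ)
    (hbot : F (p₀ + 1) = ⊥) (htop : F p₀ = ⊤) : X ≅ SpSeq.grPiece F hF p₀ := by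
  have hle : F (p₀ + 1) ≤ F p₀ := hF (Int.le_add_one le_rfl)
  have hz : IsZero ((F (p₀ + 1) : Subobject X) : C) := by
    rw [hbot]
    exact IsZero.of_iso (isZero_zero C) Subobject.botCoeIsoZero
  have h0 : (F (p₀ + 1)).ofLE (F p₀) hle = 0 := hz.eq_of_src _ _
  have hiso : IsIso (F p₀).arrow := (Subobject.isIso_arrow_iff_eq_top _).mpr htop
  exact (asIso (F p₀).arrow).symm ≪≫ cokernelZeroIsoTarget.symm ≪≫ (cokernelIsoOfEq h0).symm

end Fil

section Abut
variable {C : Type u} [Category.{v} C] [Abelian C] {r₀ : ℤ} {E : CohomologicalSpectralSequence C r₀}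
  {H : ℤ → C}

/-- the limit term: the abutment's page at `pq` is isomorphic to any page from which `pq` is stationary -/
theorem nonempty_abut_page_iso (a : SpSeq.Abutment E H) (pq : ℤ × ℤ) (r : ℤ)
    (hst : SpSeq.StationaryAt E pq r) :
    Nonempty ((E.page r hst.1).X pq ≅ (E.page (a.rk pq) (a.stat pq).1).X pq) := by
  obtain ⟨e₁⟩ := nonempty_pageIso_of_stationary E pq r hst (max r (a.rk pq)) (le_max_left _ _)
  obtain ⟨e₂⟩ := nonempty_pageIso_of_stationary E pq (a.rk pq) (a.stat pq) (max r (a.rk pq))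
    (le_max_right _ _)
  exact ⟨e₁ ≪≫ e₂.symm⟩

/-- the graded piece of the abutment at a stationary position -/
theorem nonempty_page_iso_grPiece (a : SpSeq.Abutment E H) (pq : ℤ × ℤ) (r : ℤ)
    (hst : SpSeq.StationaryAt E pq r) :
    Nonempty ((E.page r hst.1).X pq ≅
      SpSeq.grPiece (a.fil (pq.1 + pq.2)) (a.anti (pq.1 + pq.2)) pq.1) := by
  obtain ⟨e⟩ := nonempty_abut_page_iso a pq r hst
  exact ⟨e ≪≫ a.β pq⟩

/-- a zero term on some page gives a zero graded piece in the abutment -/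
theorem isZero_grPiece_of_isZero_page (a : SpSeq.Abutment E H) (pq : ℤ × ℤ) (r : ℤ) (hr : r₀ ≤ r)
    (h : IsZero ((E.page r hr).X pq)) :
    IsZero (SpSeq.grPiece (a.fil (pq.1 + pq.2)) (a.anti (pq.1 + pq.2)) pq.1) := by
  refine IsZero.of_iso ?_ (a.β pq).symm
  obtain ⟨e⟩ := nonempty_pageIso_of_stationary E pq (a.rk pq) (a.stat pq)
    (max r (a.rk pq)) (le_max_right _ _)
  exact IsZero.of_iso (isZero_page_of_le E pq r hr h _ (le_max_left _ _)) e

/-- a zero term `E_r^{p, n-p}` gives `F^{p+1} H^n = F^p H^n` -/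
theorem abut_fil_succ_eq (a : SpSeq.Abutment E H) (n p : ℤ) (r : ℤ) (hr : r₀ ≤ r)
    (h : IsZero ((E.page r hr).X (p, n - p))) : a.fil n (p + 1) = a.fil n p := by
  have h1 := isZero_grPiece_of_isZero_page a (p, n - p) r hr h
  have h2 := fil_succ_eq_of_isZero_grPiece _ _ _ h1
  have key : ∀ m, m = n → a.fil m (p + 1) = a.fil m p → a.fil n (p + 1) = a.fil n p := by
    rintro m rfl h
    exact h
  exact key _ (by simp) h2

/-- One surviving term in total degree `n`, at position `pq`. -/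
theorem nonempty_iso_page_of_single (a : SpSeq.Abutment E H) (n : ℤ) (pq : ℤ × ℤ)
    (hn : pq.1 + pq.2 = n) (r : ℤ) (hr : r₀ ≤ r)
    (hzero : ∀ p : ℤ, p ≠ pq.1 → IsZero ((E.page r hr).X (p, n - p)))
    (hdisc : ∃ b, a.fil n b = ⊥) (hexh : IsLUB (Set.range (a.fil n)) ⊤)
    (hst : SpSeq.StationaryAt E pq r) :
    Nonempty (H n ≅ (E.page r hr).X pq) := by
  subst hn
  have hsucc : ∀ p : ℤ, p ≠ pq.1 → a.fil (pq.1 + pq.2) (p + 1) = a.fil (pq.1 + pq.2) p :=
    fun p hp => abut_fil_succ_eq a _ p r hr (hzero p hp)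
  have hbot := fil_succ_eq_bot (a.fil (pq.1 + pq.2)) (a.anti _) pq.1 hdisc
    (fun p hp => hsucc p (ne_of_gt hp))
  have htop := fil_eq_top (a.fil (pq.1 + pq.2)) (a.anti _) pq.1 hexh
    (fun p hp => hsucc p (ne_of_lt hp))
  obtain ⟨e⟩ := nonempty_page_iso_grPiece a pq r hst
  exact ⟨isoGrPieceOfBotTop _ (a.anti _) pq.1 hbot htop ≪≫ e.symm⟩

end Abut

end Groth.Agent.Lib.Helper13
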