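import Groth.Prelude.Def_SpSeq

set_option autoImplicit false
universe v u
open CategoryTheory CategoryTheory.Limits

noncomputable section
namespace Groth.Agent.Lib.Helper13

variable {C : Type u} [Category.{v} C] [Abelian C] {r₀ : ℤ} (E : CohomologicalSpectralSequence C r₀)

theorem isZero_page_succ (pq : ℤ × ℤ) (k : ℤ) (hk : r₀ ≤ k)
    (h : IsZero ((E.page k hk).X pq)) : IsZero ((E.page (k + 1) (by lia)).X pq) := by
  have h1 : IsZero ((E.page k hk).homology pq) :=
    ShortComplex.isZero_homology_of_isZero_X₂ _ h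
  exact IsZero.of_iso h1 (E.iso k (k + 1) pq rfl hk).symm

theorem isZero_page_of_le (pq : ℤ × ℤ) (r : ℤ) (hr : r₀ ≤ r) (h : IsZero ((E.page r hr).X pq))
    (k : ℤ) (hk : r ≤ k) : IsZero ((E.page k (hr.trans hk)).X pq) := by
  induction k, hk using Int.leInduction with
  | base => exact h
  | succ k hk ih => exact isZero_page_succ E pq k (hr.trans hk) ih

/-- the identification of consecutive pages at a position where both differentials vanish -/
def pageIsoSucc (pq : ℤ × ℤ) (k : ℤ) (hk : r₀ ≤ k)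
    (h_in : (E.page k hk).d (pq - (k, 1 - k)) pq = 0) (h_out : (E.page k hk).d pq (pq + (k, 1 - k)) = 0) :
    (E.page k hk).X pq ≅ (E.page (k + 1) (by lia)).X pq :=
  ((E.page k hk).iCyclesIso pq (pq + (k, 1 - k))
      ((ComplexShape.up' ((k, 1 - k) : ℤ × ℤ)).next_eq' rfl) h_out).symm ≪≫
    (E.page k hk).isoHomologyπ (pq - (k, 1 - k)) pq
      ((ComplexShape.up' ((k, 1 - k) : ℤ × ℤ)).prev_eq' (sub_add_cancel _ _)) h_in ≪≫
    E.iso k (k + 1) pq rfl hk

/-- pages at a stationary position are all isomorphic -/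
theorem nonempty_pageIso_of_stationary (pq : ℤ × ℤ) (s : ℤ) (hs : SpSeq.StationaryAt E pq s)
    (k : ℤ) (hk : s ≤ k) :
    Nonempty ((E.page s hs.1).X pq ≅ (E.page k (hs.1.trans hk)).X pq) := by
  induction k, hk using Int.leInduction with
  | base => exact ⟨Iso.refl _⟩
  | succ k hk ih =>
    obtain ⟨e⟩ := ih
    have := hs.2 k (hs.1.trans hk) hk
    exact ⟨e ≪≫ pageIsoSucc E pq k (hs.1.trans hk) this.1 this.2⟩

end Groth.Agent.Lib.Helper13
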