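import Groth.Agent.Lib.Helper2.GSS.LeraySite
import Groth.Agent.Lib.Helper13.AbutBasic
import Groth.Agent.Lib.Helper13.SpSeqBasic
import Groth.Agent.Lib.Helper13.QCohRpush
import Groth.Agent.Lib.Helper13.PushAcyclic
import Groth.Agent.Lib.Helper13.ProfiniteAcyclic
import Groth.Agent.Lib.Helper13.AffineHomCrit

/-!
# Collapse of the Leray spectral sequence for quasi-coherent modules (helper13)

* `collapse`: an `E₂` spectral sequence with finite abutment filtrations whose `E₂`-terms vanish off the column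
  `p = 0` gives `H n ≅ E₂^{0,n}`.
* `nonempty_HH_equiv_sections`: `H^q(X, M) ≃ Γ(S, R^q f_* M)` for `f : X ⟶ S` qcqs, `S` affine, `M` quasi-coherent.
* `nonempty_Rpush_comp_affine_iso`: `R^p (f ≫ g)_* M ≅ g_* R^p f_* M` for `f` qcqs, `g` affine.
-/

set_option autoImplicit false
universe v u

namespace Groth.Agent.Lib.Helper13.LerayCollapse

open CategoryTheory CategoryTheory.Limits AlgebraicGeometry Opposite TopologicalSpace
open Groth.Agent.Lib.Helper13 Groth.Agent.Lib.Helper2

section Abstract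

variable {C : Type u} [Category.{v} C] [Abelian C] (E : E₂CohomologicalSpectralSequence C)
  {H : ℤ → C} (a : SpSeq.Abutment E H)

theorem collapse (hfin : ∀ n, a.IsFinite n)
    (hzero : ∀ p q : ℤ, p ≠ 0 → IsZero ((E.page 2 le_rfl).X (p, q))) (n : ℤ) :
    Nonempty (H n ≅ (E.page 2 le_rfl).X (0, n)) := by
  have hzero' : ∀ pq : ℤ × ℤ, pq.1 ≠ 0 → IsZero ((E.page 2 le_rfl).X pq) := by
    rintro ⟨p, q⟩ h
    exact hzero p q h
  refine nonempty_iso_page_of_single a n (0, n) (by simp) 2 le_rfl (fun p hp => hzero p _ hp)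
    (hfin n).2 ?_ ?_
  · obtain ⟨a₀, ha₀⟩ := (hfin n).1
    exact ⟨fun x _ => le_top, fun b hb => hb ⟨a₀, ha₀⟩⟩
  · refine ⟨le_rfl, fun r' h₀ hr' => ⟨?_, ?_⟩⟩
    · apply IsZero.eq_of_src
      refine isZero_page_of_le E _ 2 le_rfl (hzero' _ ?_) r' hr'
      simp only [Prod.fst_sub]
      omega
    · apply IsZero.eq_of_tgt
      refine isZero_page_of_le E _ 2 le_rfl (hzero' _ ?_) r' hr'
      simp only [Prod.fst_add]
      omega

end Abstract

section Sch

variable {X S : Scheme.{u}} (f : X ⟶ S)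

lemma hacyc (I : CohTop.Ab X) (hI : Injective I) (V : S.Opens) (q : ℕ) :
    Subsingleton (CohSite.HU ((CohSite.push (Opens.grothendieckTopology X)
      (Opens.grothendieckTopology S) (Opens.map f.base)).obj I) (q + 1) V) := by
  haveI := hI
  haveI : Injective ((CohTop.push f.base).obj I) := PushAcyclic.push_injective f.base I
  haveI := Groth.Agent.Lib.Helper1.FlasqueAcyclic.isFlasque_of_injective ((CohTop.push f.base).obj I)
  exact Groth.Agent.Lib.Helper1.FlasqueAcyclic.flasque_HU_subsingleton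
    ((CohTop.push f.base).obj I) V q

/-- `H^q(X, M) ≃ Γ(S, R^q f_* M)` for `S` affine. -/
theorem nonempty_HH_equiv_sections [QuasiCompact f] [QuasiSeparated f] [IsAffine S]
    (M : X.Modules) [M.IsQuasicoherent] (q : ℕ) :
    Nonempty (Coh.HH X M q ≃+ ↑(((Coh.RpushAb f q).obj (Coh.toAb M)).obj.obj (op ⊤))) := by
  haveI : EnoughInjectives X.Modules := ModGrothendieck.enoughInjectives X.ringCatSheaf
  obtain ⟨E, a, hfin, -, hE2⟩ := GSS.leray_sections (Opens.grothendieckTopology X)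
    (Opens.grothendieckTopology S) (Opens.map f.base) (fun I hI V n => hacyc f I hI V n)
    (Coh.toAb M) (⊤ : S.Opens)
  have hvan : ∀ (n p' : ℕ), Subsingleton (CohSite.HU ((CohSite.Rpush (Opens.grothendieckTopology X)
      (Opens.grothendieckTopology S) (Opens.map f.base) n).obj (Coh.toAb M)) (p' + 1)
      (⊤ : S.Opens)) := by
    intro n p'
    obtain ⟨e⟩ := RpushCompare.nonempty_toAb_Rpush_iso f M n
    haveI : ((Coh.Rpush f n).obj M).IsQuasicoherent := QCohRpush.isQuasicoherent_Rpush f M n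
    exact AffineHomCrit.subsingleton_ext_of_iso e (p' + 1)
      (AffineVanish.subsingleton_HU_of_isAffineOpen ((Coh.Rpush f n).obj M) (isAffineOpen_top S) p')
  have hzero : ∀ p n : ℤ, p ≠ 0 → IsZero ((E.page 2 le_rfl).X (p, n)) := by
    intro p n hp
    obtain ⟨e⟩ := hE2 p n
    refine IsZero.of_iso ?_ e
    by_cases h : 0 ≤ p ∧ 0 ≤ n
    · rw [if_pos h]
      obtain ⟨p', rfl⟩ : ∃ p' : ℕ, p = (p' : ℤ) + 1 := ⟨(p - 1).toNat, by omega⟩
      have hp' : ((p' : ℤ) + 1).toNat = p' + 1 := by omega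
      rw [hp']
      haveI := hvan n.toNat p'
      exact AddCommGrpCat.isZero_of_subsingleton _
    · rw [if_neg h]
      exact AddCommGrpCat.isZero_of_subsingleton _
  obtain ⟨e⟩ := collapse E a hfin hzero (q : ℤ)
  obtain ⟨e2⟩ := hE2 0 q
  have h0 : (0 : ℤ) ≤ (q : ℤ) := Int.natCast_nonneg q
  have e' : AddCommGrpCat.of (CohSite.HU (Coh.toAb M) q ((Opens.map f.base).obj ⊤)) ≅
      (E.page 2 le_rfl).X (0, (q : ℤ)) := by
    refine ?_ ≪≫ e
    simp only [h0, if_true, Int.toNat_natCast]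
    exact Iso.refl _
  have e2' : (E.page 2 le_rfl).X (0, (q : ℤ)) ≅
      AddCommGrpCat.of (CohSite.HU ((CohSite.Rpush (Opens.grothendieckTopology X)
        (Opens.grothendieckTopology S) (Opens.map f.base) q).obj (Coh.toAb M)) 0 (⊤ : S.Opens)) := by
    refine e2 ≪≫ ?_
    simp only [le_refl, h0, and_self, if_true, Int.toNat_natCast, Int.toNat_zero]
    exact Iso.refl _
  have ι := (e' ≪≫ e2').addCommGroupIsoToAddEquiv
  have l : Coh.HH X M q ≃+ CohSite.HU (Coh.toAb M) q ((Opens.map f.base).obj ⊤) :=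
    ProfiniteAcyclic.HEquivHU (Opens.grothendieckTopology X) isTerminalTop (Coh.toAb M) q
  have r : CohSite.HU ((CohSite.Rpush (Opens.grothendieckTopology X)
        (Opens.grothendieckTopology S) (Opens.map f.base) q).obj (Coh.toAb M)) 0 (⊤ : S.Opens) ≃+
      ↑(((Coh.RpushAb f q).obj (Coh.toAb M)).obj.obj (op ⊤)) :=
    (ProfiniteAcyclic.HEquivHU (Opens.grothendieckTopology S) isTerminalTop
      ((Coh.RpushAb f q).obj (Coh.toAb M)) 0).symm.trans
      (Sheaf.H.equiv₀ ((Coh.RpushAb f q).obj (Coh.toAb M)) isTerminalTop)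
  exact ⟨l.trans (ι.trans r)⟩

end Sch

section Comp

variable {X Y Z : Scheme.{u}} (f : X ⟶ Y) (g : Y ⟶ Z)

/-- `R^p (f ≫ g)_* M ≅ g_* R^p f_* M` for `g` affine. -/
theorem nonempty_Rpush_comp_affine_iso [QuasiCompact f] [QuasiSeparated f] [IsAffineHom g]
    (F : X.Modules) [F.IsQuasicoherent] (p : ℕ) :
    Nonempty ((Coh.RpushAb (f ≫ g) p).obj (Coh.toAb F) ≅
      (Coh.pushAb g).obj ((Coh.RpushAb f p).obj (Coh.toAb F))) := by
  haveI : EnoughInjectives X.Modules := ModGrothendieck.enoughInjectives X.ringCatSheaf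
  haveI : (Opens.map g.base ⋙ Opens.map f.base).IsContinuous (Opens.grothendieckTopology Z)
      (Opens.grothendieckTopology X) :=
    Functor.isContinuous_comp _ _ _ (Opens.grothendieckTopology Y) _
  obtain ⟨E, a, hfin, -, hE2⟩ := GSS.relative_leray (Opens.grothendieckTopology X)
    (Opens.grothendieckTopology Y) (Opens.grothendieckTopology Z) (Opens.map f.base)
    (Opens.map g.base) (fun I hI V n => hacyc f I hI V n) (Coh.toAb F)
  have hvan : ∀ (n p' : ℕ), IsZero ((CohSite.Rpush (Opens.grothendieckTopology Y)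
      (Opens.grothendieckTopology Z) (Opens.map g.base) (p' + 1)).obj
      ((CohSite.Rpush (Opens.grothendieckTopology X) (Opens.grothendieckTopology Y)
        (Opens.map f.base) n).obj (Coh.toAb F))) := by
    intro n p'
    obtain ⟨e⟩ := RpushCompare.nonempty_toAb_Rpush_iso f F n
    haveI : ((Coh.Rpush f n).obj F).IsQuasicoherent := QCohRpush.isQuasicoherent_Rpush f F n
    have hz : IsZero ((CohTop.Rpush g.base (p' + 1)).obj (Coh.toAb ((Coh.Rpush f n).obj F))) :=
      LocallyZero.isZero_Rpush_of_basis g.base (Coh.toAb ((Coh.Rpush f n).obj F)) (p' + 1)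
        Z.affineOpens Z.isBasis_affineOpens
        (fun V hV => AffineVanish.subsingleton_HU_of_isAffineOpen ((Coh.Rpush f n).obj F)
          (IsAffineOpen.preimage hV g) p')
    exact IsZero.of_iso hz ((CohTop.Rpush g.base (p' + 1)).mapIso e.symm)
  have hzero : ∀ p n : ℤ, p ≠ 0 → IsZero ((E.page 2 le_rfl).X (p, n)) := by
    intro p n hp
    obtain ⟨e⟩ := hE2 p n
    refine IsZero.of_iso ?_ e
    by_cases h : 0 ≤ p ∧ 0 ≤ n
    · rw [if_pos h]
      obtain ⟨p', rfl⟩ : ∃ p' : ℕ, p = (p' : ℤ) + 1 := ⟨(p - 1).toNat, by omega⟩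
      have hp' : ((p' : ℤ) + 1).toNat = p' + 1 := by omega
      rw [hp']
      exact hvan n.toNat p'
    · rw [if_neg h]
      exact isZero_zero _
  obtain ⟨e⟩ := collapse E a hfin hzero (p : ℤ)
  obtain ⟨e2⟩ := hE2 0 p
  have h0 : (0 : ℤ) ≤ (p : ℤ) := Int.natCast_nonneg p
  have e' : (CohSite.Rpush (Opens.grothendieckTopology X) (Opens.grothendieckTopology Z)
      (Opens.map g.base ⋙ Opens.map f.base) p).obj (Coh.toAb F) ≅
      (E.page 2 le_rfl).X (0, (p : ℤ)) := by
    refine ?_ ≪≫ e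
    simp only [h0, if_true, Int.toNat_natCast]
    exact Iso.refl _
  have e2' : (E.page 2 le_rfl).X (0, (p : ℤ)) ≅
      (CohSite.Rpush (Opens.grothendieckTopology Y) (Opens.grothendieckTopology Z)
        (Opens.map g.base) 0).obj ((CohSite.Rpush (Opens.grothendieckTopology X)
          (Opens.grothendieckTopology Y) (Opens.map f.base) p).obj (Coh.toAb F)) := by
    refine e2 ≪≫ ?_
    simp only [le_refl, h0, and_self, if_true, Int.toNat_natCast, Int.toNat_zero]
    exact Iso.refl _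
  let c : Coh.pushAb (f ≫ g) ≅ CohSite.push (Opens.grothendieckTopology X)
      (Opens.grothendieckTopology Z) (Opens.map g.base ⋙ Opens.map f.base) :=
    NatIso.ofComponents (fun _ => Iso.refl _)
  have e0 := DerivedCommute.rightDerivedObjIsoOfNatIso c p (Coh.toAb F)
  haveI : PreservesFiniteLimits (Coh.pushAb g) := RelMV.push_pfl g.base
  have e3 := (Coh.pushAb g).rightDerivedZeroIsoSelf.app ((Coh.RpushAb f p).obj (Coh.toAb F))
  exact ⟨e0 ≪≫ e' ≪≫ e2' ≪≫ e3⟩

end Comp

end Groth.Agent.Lib.Helper13.LerayCollapse
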