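import Mathlib

/-!
# An étaleness criterion by counting geometric points (helper13)

A finite free algebra `B` over a Noetherian ring `R` is étale as soon as, over every maximal ideal
`P` of `R`, there is a field `Ω` over `R ⧸ P` such that `Ω ⊗[R] B` has exactly `rank B` prime ideals.
-/

set_option autoImplicit false
set_option linter.style.haveILetI false
universe u
open TensorProduct

namespace Groth.Agent.Lib.Helper13.EtAlgCount

section Field

variable (k : Type u) [Field k] (C : Type u) [CommRing C] [Algebra k C]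

/-- the product of the quotient maps to the residue fields. -/
noncomputable def Φ : C →ₐ[k] (∀ m : MaximalSpectrum C, C ⧸ m.asIdeal) :=
  Pi.algHom k _ (fun m => Ideal.Quotient.mkₐ k m.asIdeal)

lemma Φ_apply (c : C) (m : MaximalSpectrum C) : Φ k C c m = Ideal.Quotient.mk m.asIdeal c := rfl

variable [Module.Finite k C]

lemma Φ_surjective : Function.Surjective (Φ k C) := by
  haveI : IsArtinianRing C := IsArtinianRing.of_finite k C
  haveI : Finite (MaximalSpectrum C) := inferInstance
  intro x
  have hcop : Pairwise (Function.onFun IsCoprime (fun m : MaximalSpectrum C => m.asIdeal)) := by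
    intro m m' hmm'
    exact Ideal.isCoprime_iff_sup_eq.mpr
      (m.isMaximal.coprime_of_ne m'.isMaximal (fun h => hmm' (MaximalSpectrum.ext h)))
  obtain ⟨y, hy⟩ := Ideal.quotientInfToPiQuotient_surj hcop x
  obtain ⟨c, rfl⟩ := Ideal.Quotient.mk_surjective y
  refine ⟨c, ?_⟩
  rw [← hy]
  funext m
  rw [Ideal.quotientInfToPiQuotient_mk']
  rfl

/-- a finite-dimensional algebra over a field with as many prime ideals as its dimension is
unramified. -/
theorem formallyUnramified_of_card (h : Nat.card (PrimeSpectrum C) = Module.finrank k C) :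
    Algebra.FormallyUnramified k C := by
  classical
  haveI : IsArtinianRing C := IsArtinianRing.of_finite k C
  haveI : Finite (MaximalSpectrum C) := inferInstance
  letI : Fintype (MaximalSpectrum C) := Fintype.ofFinite _
  have hcard : Fintype.card (MaximalSpectrum C) = Module.finrank k C := by
    rw [← h, ← Nat.card_eq_fintype_card]
    exact (Nat.card_congr IsArtinianRing.primeSpectrumEquivMaximalSpectrum).symm
  have hfin : ∀ m : MaximalSpectrum C, Module.Finite k (C ⧸ m.asIdeal) := fun m =>
    Module.Finite.of_surjective (Ideal.Quotient.mkₐ k m.asIdeal).toLinearMap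
      (Ideal.Quotient.mkₐ_surjective k m.asIdeal)
  have hnt : ∀ m : MaximalSpectrum C, Nontrivial (C ⧸ m.asIdeal) := fun m =>
    Ideal.Quotient.nontrivial_iff.mpr m.isMaximal.ne_top
  have hpos : ∀ m : MaximalSpectrum C, 1 ≤ Module.finrank k (C ⧸ m.asIdeal) := by
    intro m
    haveI := hfin m
    haveI := hnt m
    exact Module.finrank_pos
  have hsum : Module.finrank k (∀ m : MaximalSpectrum C, C ⧸ m.asIdeal) =
      ∑ m : MaximalSpectrum C, Module.finrank k (C ⧸ m.asIdeal) :=
    Module.finrank_pi_fintype k (M := fun m : MaximalSpectrum C => C ⧸ m.asIdeal)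
  have hle : Module.finrank k (∀ m : MaximalSpectrum C, C ⧸ m.asIdeal) ≤ Module.finrank k C :=
    LinearMap.finrank_le_finrank_of_surjective (f := (Φ k C).toLinearMap) (Φ_surjective k C)
  have hge : Fintype.card (MaximalSpectrum C) ≤ ∑ m : MaximalSpectrum C,
      Module.finrank k (C ⧸ m.asIdeal) := by
    calc Fintype.card (MaximalSpectrum C) = ∑ _m : MaximalSpectrum C, 1 := by simp
      _ ≤ _ := Finset.sum_le_sum (fun m _ => hpos m)
  have heq : Module.finrank k (∀ m : MaximalSpectrum C, C ⧸ m.asIdeal) = Module.finrank k C := by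
    omega
  have hone : ∀ m : MaximalSpectrum C, Module.finrank k (C ⧸ m.asIdeal) = 1 := by
    by_contra hcon
    push_neg at hcon
    obtain ⟨m₀, hm₀⟩ := hcon
    have hlt : ∑ _m : MaximalSpectrum C, 1 < ∑ m : MaximalSpectrum C,
        Module.finrank k (C ⧸ m.asIdeal) :=
      Finset.sum_lt_sum (fun m _ => hpos m) ⟨m₀, Finset.mem_univ _,
        lt_of_le_of_ne (hpos m₀) (Ne.symm hm₀)⟩
    simp at hlt
    omega
  have hinj : Function.Injective (Φ k C) :=
    (LinearMap.injective_iff_surjective_of_finrank_eq_finrank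
      (f := (Φ k C).toLinearMap) heq.symm).mpr (Φ_surjective k C)
  have hunr : ∀ m : MaximalSpectrum C, Algebra.FormallyUnramified k (C ⧸ m.asIdeal) := by
    intro m
    haveI := hfin m
    haveI := hnt m
    refine Algebra.FormallyUnramified.of_surjective (Algebra.ofId k (C ⧸ m.asIdeal)) ?_
    intro w
    obtain ⟨c, hc⟩ := (finrank_eq_one_iff_of_nonzero' (1 : C ⧸ m.asIdeal) one_ne_zero).mp
      (hone m) w
    refine ⟨c, ?_⟩
    rw [← hc, Algebra.smul_def, mul_one]
    rfl
  haveI : Algebra.FormallyUnramified k (∀ m : MaximalSpectrum C, C ⧸ m.asIdeal) :=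
    (Algebra.FormallyUnramified.pi_iff _).mpr hunr
  exact Algebra.FormallyUnramified.of_equiv
    (AlgEquiv.ofBijective (Φ k C) ⟨hinj, Φ_surjective k C⟩).symm

end Field

section Main

variable {R B : Type u} [CommRing R] [CommRing B] [Algebra R B]

/-- a finitely generated module which is trivial modulo every maximal ideal is trivial. -/
lemma subsingleton_of_forall_maximal (M : Type u) [AddCommGroup M] [Module R M] [Module.Finite R M]
    (h : ∀ P : Ideal R, P.IsMaximal → (P • (⊤ : Submodule R M)) = ⊤) : Subsingleton M := by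
  by_contra hns
  rw [not_subsingleton_iff_nontrivial] at hns
  obtain ⟨p, hp⟩ := Module.nonempty_support_of_nontrivial (R := R) (M := M)
  rw [Module.mem_support_iff_of_finite] at hp
  obtain ⟨P, hPmax, hpP⟩ := Ideal.exists_le_maximal p.asIdeal p.2.ne_top
  have hfg : (⊤ : Submodule R M).FG := Module.Finite.fg_top
  obtain ⟨r, hr1, hr2⟩ := Submodule.exists_sub_one_mem_and_smul_eq_zero_of_fg_of_le_smul P
    (⊤ : Submodule R M) hfg (le_of_eq (h P hPmax).symm)
  have hrann : r ∈ Module.annihilator R M := by
    rw [Module.mem_annihilator]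
    intro m
    exact hr2 m trivial
  have hrP : r ∈ P := hpP (hp hrann)
  have h1 : (1 : R) ∈ P := by
    have := P.sub_mem hrP hr1
    simpa using this
  exact hPmax.ne_top ((Ideal.eq_top_iff_one P).mpr h1)

/-- if `Ω ⊗[R] M` vanishes for a field `Ω` with `ker (R → Ω) = P` maximal then `M = P M`. -/
lemma smul_top_eq_top_of_subsingleton_tensor (M : Type u) [AddCommGroup M] [Module R M]
    (P : Ideal R) [hP : P.IsMaximal] (Ω : Type u) [Field Ω] (ψ : R →+* Ω)
    (hker : RingHom.ker ψ = P)
    (hsub : letI := ψ.toAlgebra; Subsingleton (Ω ⊗[R] M)) :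
    (P • (⊤ : Submodule R M)) = ⊤ := by
  letI algΩ : Algebra R Ω := ψ.toAlgebra
  letI : Field (R ⧸ P) := Ideal.Quotient.field P
  letI algk : Algebra (R ⧸ P) Ω :=
    (Ideal.Quotient.lift P ψ (fun a ha => by rw [← RingHom.mem_ker, hker]; exact ha)).toAlgebra
  haveI : IsScalarTower R (R ⧸ P) Ω := IsScalarTower.of_algebraMap_eq (fun x => rfl)
  have e1 : Ω ⊗[R ⧸ P] ((R ⧸ P) ⊗[R] M) ≃ₗ[Ω] Ω ⊗[R] M :=
    TensorProduct.AlgebraTensorModule.cancelBaseChange R (R ⧸ P) Ω Ω M
  haveI : Subsingleton (Ω ⊗[R] M) := hsub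
  haveI : Subsingleton (Ω ⊗[R ⧸ P] ((R ⧸ P) ⊗[R] M)) := e1.toEquiv.subsingleton
  haveI : Module.FaithfullyFlat (R ⧸ P) Ω := inferInstance
  haveI : Subsingleton ((R ⧸ P) ⊗[R] M) :=
    Module.FaithfullyFlat.lTensor_reflects_triviality (R ⧸ P) Ω _
  have e2 := TensorProduct.quotTensorEquivQuotSMul M P
  haveI : Subsingleton (M ⧸ (P • (⊤ : Submodule R M))) := e2.symm.toEquiv.subsingleton
  exact Submodule.Quotient.subsingleton_iff.mp inferInstance

variable [IsNoetherianRing R] [Module.Free R B] [Module.Finite R B]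

attribute [local instance] Algebra.TensorProduct.rightAlgebra

/-- **Étaleness by counting points.** -/
theorem etale_of_card
    (h : ∀ P : Ideal R, P.IsMaximal → ∃ (Ω : Type u) (_ : Field Ω) (ψ : R →+* Ω),
      RingHom.ker ψ = P ∧ letI := ψ.toAlgebra
      Nat.card (PrimeSpectrum (Ω ⊗[R] B)) = Module.finrank R B) :
    Algebra.Etale R B := by
  haveI : Algebra.FiniteType R B := inferInstance
  haveI : Algebra.FinitePresentation R B := Algebra.FinitePresentation.of_finiteType.mp inferInstance
  haveI : Module.Flat R B := inferInstance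
  haveI : Algebra.FormallyUnramified R B := by
    rw [Algebra.formallyUnramified_iff]
    haveI : Module.Finite B Ω[B⁄R] := inferInstance
    haveI : Module.Finite R Ω[B⁄R] := Module.Finite.trans B _
    apply subsingleton_of_forall_maximal (R := R)
    intro P hPmax
    obtain ⟨Ω, _, ψ, hker, hcard⟩ := h P hPmax
    haveI := hPmax
    refine smul_top_eq_top_of_subsingleton_tensor _ P Ω ψ hker ?_
    letI algΩ : Algebra R Ω := ψ.toAlgebra
    haveI : Nontrivial R := ψ.domain_nontrivial
    haveI : Module.Finite Ω (Ω ⊗[R] B) := inferInstance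
    have hrk : Module.finrank Ω (Ω ⊗[R] B) = Module.finrank R B := Module.finrank_baseChange
    haveI : Algebra.FormallyUnramified Ω (Ω ⊗[R] B) :=
      formallyUnramified_of_card Ω (Ω ⊗[R] B) (hcard.trans hrk.symm)
    haveI : Subsingleton Ω[(Ω ⊗[R] B)⁄Ω] := (Algebra.formallyUnramified_iff _ _).mp inferInstance
    exact (KaehlerDifferential.tensorKaehlerEquivBase R Ω B (Ω ⊗[R] B)).toEquiv.subsingleton
  exact Algebra.Etale.of_formallyUnramified_of_flat

end Main

end Groth.Agent.Lib.Helper13.EtAlgCount
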