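import Mathlib
import Groth.Agent.Lib.Helper13.ZariskiConn
import Groth.Agent.Lib.Helper23.T2L
import Groth.Agent.Lib.Helper24.HensCouple

/-!
# Schemes proper over a Noetherian henselian pair are henselian couples

If `(A, I)` is a henselian pair with `A` Noetherian and `p : Y ⟶ Spec A` is proper, then open-closed
subsets of `Y₀ = p⁻¹ V(I)` lift uniquely to open-closed subsets of `Y`.  The proof goes through the
Stein-type factorization `Y ⟶ Spec Γ(Y, ⊤) ⟶ Spec A`: the first map is proper with connected fibres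
(Zariski's connectedness theorem) and the second is finite.
-/

set_option autoImplicit false
set_option maxHeartbeats 400000
set_option linter.style.haveILetI false
universe u

namespace Groth.Agent.Lib.Helper13.HensProper

open CategoryTheory Limits AlgebraicGeometry

section Top

variable {P Q P₀ Q₀ : Type*} [TopologicalSpace P] [TopologicalSpace Q] [TopologicalSpace P₀]
  [TopologicalSpace Q₀]

/-- Clopen subsets are saturated for maps with connected fibres. -/
theorem mem_of_map_eq (h : P → Q) (hconn : ∀ q, IsPreconnected (h ⁻¹' {q}))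
    {U : Set P} (hU : IsClopen U) {p p' : P} (hpp : h p = h p') (hp' : p' ∈ U) : p ∈ U := by
  have hsub : h ⁻¹' {h p'} ⊆ U :=
    (hconn (h p')).subset_isClopen hU ⟨p', rfl, hp'⟩
  exact hsub hpp

theorem preimage_image_eq_of_isClopen (h : P → Q) (hconn : ∀ q, IsPreconnected (h ⁻¹' {q}))
    {U : Set P} (hU : IsClopen U) : h ⁻¹' (h '' U) = U := by
  apply Set.Subset.antisymm
  · rintro p ⟨p', hp', hpp⟩
    exact mem_of_map_eq h hconn hU hpp.symm hp'
  · exact Set.subset_preimage_image h U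

theorem isClopen_image (h : P → Q) (hcl : IsClosedMap h) (hsurj : Function.Surjective h)
    (hconn : ∀ q, IsPreconnected (h ⁻¹' {q}))
    {U : Set P} (hU : IsClopen U) : IsClopen (h '' U) := by
  refine ⟨hcl _ hU.isClosed, ?_⟩
  have hcompl : (h '' U)ᶜ = h '' Uᶜ := by
    ext q
    constructor
    · intro hq
      obtain ⟨p, rfl⟩ := hsurj q
      exact ⟨p, fun hp => hq ⟨p, hp, rfl⟩, rfl⟩
    · rintro ⟨p, hp, rfl⟩ ⟨p', hp', hpp⟩
      exact hp (mem_of_map_eq h hconn hU hpp.symm hp')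
  rw [← isClosed_compl_iff, hcompl]
  exact hcl _ hU.compl.isClosed

/-- Saturation on the closed subspace `P₀ = h⁻¹(Q₀)`. -/
theorem mem_of_map_eq₀ (h : P → Q) (hconn : ∀ q, IsPreconnected (h ⁻¹' {q}))
    (a : P₀ → P) (ha : Topology.IsInducing a) (b : Q₀ → Q)
    (hr : Set.range a = h ⁻¹' Set.range b)
    {V : Set P₀} (hV : IsClopen V) {p p' : P₀} (hpp : h (a p) = h (a p')) (hp' : p' ∈ V) :
    p ∈ V := by
  have hF : h ⁻¹' {h (a p')} ⊆ Set.range a := by
    intro x hx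
    rw [hr]
    have : a p' ∈ h ⁻¹' Set.range b := by rw [← hr]; exact ⟨p', rfl⟩
    obtain ⟨q₀, hq₀⟩ := this
    exact ⟨q₀, hq₀.trans hx.symm⟩
  have hpre : IsPreconnected (a ⁻¹' (h ⁻¹' {h (a p')})) := by
    rw [← ha.isPreconnected_image, Set.image_preimage_eq_of_subset hF]
    exact hconn _
  have hsub : a ⁻¹' (h ⁻¹' {h (a p')}) ⊆ V :=
    hpre.subset_isClopen hV ⟨p', rfl, hp'⟩
  exact hsub hpp

/-- **Topological lemma.** Unique lifting of clopens descends along a closed surjection with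
connected fibres. -/
theorem existsUnique_clopen_lift (h : P → Q) (hc : Continuous h) (hcl : IsClosedMap h)
    (hconn : ∀ q, IsConnected (h ⁻¹' {q}))
    (a : P₀ → P) (ha : Topology.IsClosedEmbedding a) (b : Q₀ → Q) (hb : Continuous b)
    (hr : Set.range a = h ⁻¹' Set.range b)
    (hlift : ∀ V' : Set Q₀, IsClopen V' → ∃! U' : Set Q, IsClopen U' ∧ b ⁻¹' U' = V')
    (V : Set P₀) (hV : IsClopen V) : ∃! U : Set P, IsClopen U ∧ a ⁻¹' U = V := by
  have hpc : ∀ q, IsPreconnected (h ⁻¹' {q}) := fun q => (hconn q).isPreconnected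
  have hsurj : Function.Surjective h := fun q => by
    obtain ⟨p, hp⟩ := (hconn q).nonempty
    exact ⟨p, hp⟩
  have hlifta : ∀ q₀ : Q₀, ∃ p₀ : P₀, h (a p₀) = b q₀ := by
    intro q₀
    obtain ⟨p, hp⟩ := hsurj (b q₀)
    have : p ∈ Set.range a := by rw [hr]; exact ⟨q₀, hp.symm⟩
    obtain ⟨p₀, rfl⟩ := this
    exact ⟨p₀, hp⟩
  have hliftb : ∀ p₀ : P₀, ∃ q₀ : Q₀, b q₀ = h (a p₀) := by
    intro p₀
    have : a p₀ ∈ h ⁻¹' Set.range b := by rw [← hr]; exact ⟨p₀, rfl⟩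
    exact this
  -- existence
  have hV'closed : ∀ W : Set P₀, IsClosed W → IsClosed (b ⁻¹' (h '' (a '' W))) := fun W hW =>
    (hcl _ (ha.isClosedMap _ hW)).preimage hb
  have hcompl : (b ⁻¹' (h '' (a '' V)))ᶜ = b ⁻¹' (h '' (a '' Vᶜ)) := by
    ext q₀
    constructor
    · intro hq
      obtain ⟨p₀, hp₀⟩ := hlifta q₀
      refine ⟨a p₀, ⟨p₀, fun hp => hq ⟨a p₀, ⟨p₀, hp, rfl⟩, hp₀⟩, rfl⟩, hp₀⟩
    · rintro ⟨_, ⟨p₂, hp₂, rfl⟩, h2⟩ ⟨_, ⟨p₁, hp₁, rfl⟩, h1⟩
      exact hp₂ (mem_of_map_eq₀ h hpc a ha.isInducing b hr hV (h2.trans h1.symm) hp₁)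
  have hV' : IsClopen (b ⁻¹' (h '' (a '' V))) := by
    refine ⟨hV'closed V hV.isClosed, ?_⟩
    rw [← isClosed_compl_iff, hcompl]
    exact hV'closed _ hV.compl.isClosed
  obtain ⟨U', ⟨hU'clopen, hU'⟩, -⟩ := hlift _ hV'
  refine ⟨h ⁻¹' U', ⟨hU'clopen.preimage hc, ?_⟩, ?_⟩
  · ext p₀
    obtain ⟨q₀, hq₀⟩ := hliftb p₀
    have h1 : p₀ ∈ a ⁻¹' (h ⁻¹' U') ↔ q₀ ∈ b ⁻¹' U' := by
      simp only [Set.mem_preimage, hq₀]
    rw [h1, hU']
    constructor
    · rintro ⟨_, ⟨p₁, hp₁, rfl⟩, h2⟩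
      exact mem_of_map_eq₀ h hpc a ha.isInducing b hr hV (hq₀.symm.trans h2.symm) hp₁
    · intro hp
      exact ⟨a p₀, ⟨p₀, hp, rfl⟩, hq₀.symm⟩
  · -- uniqueness
    rintro U₂ ⟨hU₂, hU₂V⟩
    have hU₁ : IsClopen (h ⁻¹' U') := hU'clopen.preimage hc
    have hU₁V : a ⁻¹' (h ⁻¹' U') = V := by
      ext p₀
      obtain ⟨q₀, hq₀⟩ := hliftb p₀
      have h1 : p₀ ∈ a ⁻¹' (h ⁻¹' U') ↔ q₀ ∈ b ⁻¹' U' := by
        simp only [Set.mem_preimage, hq₀]
      rw [h1, hU']
      constructor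
      · rintro ⟨_, ⟨p₁, hp₁, rfl⟩, h2⟩
        exact mem_of_map_eq₀ h hpc a ha.isInducing b hr hV (hq₀.symm.trans h2.symm) hp₁
      · intro hp
        exact ⟨a p₀, ⟨p₀, hp, rfl⟩, hq₀.symm⟩
    have key : ∀ U₁ U₂ : Set P, IsClopen U₁ → IsClopen U₂ → a ⁻¹' U₁ = V → a ⁻¹' U₂ = V →
        b ⁻¹' (h '' U₁) ⊆ b ⁻¹' (h '' U₂) := by
      rintro U₁ U₂ _ _ e₁ e₂ q₀ ⟨p, hp, hpq⟩
      have : p ∈ Set.range a := by rw [hr]; exact ⟨q₀, hpq.symm⟩
      obtain ⟨p₀, rfl⟩ := this
      have : p₀ ∈ a ⁻¹' U₂ := by rw [e₂, ← e₁]; exact hp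
      exact ⟨a p₀, this, hpq⟩
    have heq : b ⁻¹' (h '' U₂) = b ⁻¹' (h '' (h ⁻¹' U')) :=
      Set.Subset.antisymm (key _ _ hU₂ hU₁ hU₂V hU₁V) (key _ _ hU₁ hU₂ hU₁V hU₂V)
    have hc1 : IsClopen (h '' U₂) := isClopen_image h hcl hsurj hpc hU₂
    have hc2 : IsClopen (h '' (h ⁻¹' U')) := isClopen_image h hcl hsurj hpc hU₁
    have huniq := (hlift (b ⁻¹' (h '' U₂)) (hc1.preimage hb)).unique ⟨hc1, rfl⟩ ⟨hc2, heq.symm⟩
    rw [← preimage_image_eq_of_isClopen h hpc hU₂, huniq,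
      preimage_image_eq_of_isClopen h hpc hU₁]

end Top

section Scheme

open Groth.Agent.Lib.Helper24.HensCouple

/-- The structure morphism `Y ⟶ Spec Γ(Y, ⊤)` of a scheme proper over a Noetherian ring is a closed
surjection with connected fibres, and `Γ(Y, ⊤)` is finite over the base ring. -/
theorem toSpecΓ_props (A : Type u) [CommRing A] [IsNoetherianRing A] {Y : Scheme.{u}}
    (p : Y ⟶ Spec (CommRingCat.of A)) [IsProper p] :
    ((Scheme.ΓSpecIso (CommRingCat.of A)).inv ≫ p.appTop).hom.Finite ∧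
    Y.toSpecΓ ≫ Spec.map ((Scheme.ΓSpecIso (CommRingCat.of A)).inv ≫ p.appTop) = p ∧
    IsProper Y.toSpecΓ ∧ IsNoetherianRing Γ(Y, ⊤) ∧
    (∀ q : Spec Γ(Y, ⊤), _root_.IsConnected (Y.toSpecΓ ⁻¹' {q})) := by
  have hfin : ((Scheme.ΓSpecIso (CommRingCat.of A)).inv ≫ p.appTop).hom.Finite := by
    rw [CommRingCat.hom_comp]
    refine RingHom.Finite.comp ?_ (RingHom.Finite.of_surjective _
      (ConcreteCategory.bijective_of_isIso (Scheme.ΓSpecIso (CommRingCat.of A)).inv).2)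
    have := Groth.Agent.Lib.Helper23.T2.finite_app_of_isProper p ⊤ (isAffineOpen_top _)
    exact this
  have hcomp : Y.toSpecΓ ≫ Spec.map ((Scheme.ΓSpecIso (CommRingCat.of A)).inv ≫ p.appTop) = p := by
    rw [Spec.map_comp, ← Scheme.toSpecΓ_naturality_assoc, toSpecΓ_SpecMap_ΓSpecIso_inv,
      Category.comp_id]
  have hprop : IsProper Y.toSpecΓ := by
    haveI : IsProper (Y.toSpecΓ ≫
        Spec.map ((Scheme.ΓSpecIso (CommRingCat.of A)).inv ≫ p.appTop)) := by
      rw [hcomp]; infer_instance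
    exact IsProper.of_comp _ (Spec.map ((Scheme.ΓSpecIso (CommRingCat.of A)).inv ≫ p.appTop))
  have hnoeth : IsNoetherianRing Γ(Y, ⊤) := by
    letI : Algebra A Γ(Y, ⊤) :=
      ((Scheme.ΓSpecIso (CommRingCat.of A)).inv ≫ p.appTop).hom.toAlgebra
    haveI : Module.Finite A Γ(Y, ⊤) := hfin
    haveI : IsNoetherian A Γ(Y, ⊤) := isNoetherian_of_isNoetherianRing_of_finite A _
    exact isNoetherian_of_tower A inferInstance
  refine ⟨hfin, hcomp, hprop, hnoeth, ?_⟩
  intro q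
  haveI := hprop
  haveI := hnoeth
  haveI : IsIso (Y.toSpecΓ.app ⊤) := by
    have : Y.toSpecΓ.app ⊤ = (Scheme.ΓSpecIso Γ(Y, ⊤)).hom := Scheme.toSpecΓ_appTop Y
    rw [this]; infer_instance
  exact Groth.Agent.Lib.Helper13.ZariskiConn.isConnected_preimage_singleton Y.toSpecΓ q
    (isAffineOpen_top _) trivial inferInstance

/-- **Core statement**: a scheme proper over a Noetherian henselian pair `(A, I)` forms a henselian
couple with the preimage of `V(I)`. -/
theorem existsUnique_clopen_of_proper (A : Type u) [CommRing A] [IsNoetherianRing A] (I : Ideal A)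
    [HenselianRing A I] {Y Y₀ : Scheme.{u}} (p : Y ⟶ Spec (CommRingCat.of A)) [IsProper p]
    (a : Y₀ ⟶ Y) [IsClosedImmersion a]
    (hr : Set.range a = p ⁻¹' Set.range (Spec.map (CommRingCat.ofHom (Ideal.Quotient.mk I))))
    (V : Set Y₀) (hV : IsClopen V) : ∃! U : Set Y, IsClopen U ∧ a ⁻¹' U = V := by
  obtain ⟨hfin, hcomp, hprop, hnoeth, hconn⟩ := toSpecΓ_props A p
  obtain ⟨φ, hφ⟩ : ∃ φ : CommRingCat.of A ⟶ Γ(Y, ⊤),
    φ = (Scheme.ΓSpecIso (CommRingCat.of A)).inv ≫ p.appTop := ⟨_, rfl⟩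
  rw [← hφ] at hfin hcomp
  haveI := hprop
  have hfin' : IsFinite (Spec.map φ) := (IsFinite.SpecMap_iff φ).mpr hfin
  have hlift := clopen_lift_of_henselian A I _ (Spec.map φ) hfin'
  refine existsUnique_clopen_lift Y.toSpecΓ Y.toSpecΓ.continuous Y.toSpecΓ.isClosedMap hconn
    a a.isClosedEmbedding
    (pullback.fst (Spec.map φ) (Spec.map (CommRingCat.ofHom (Ideal.Quotient.mk I))))
    (Scheme.Hom.continuous _) ?_ hlift V hV
  rw [hr, Scheme.Pullback.range_fst, ← hcomp]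
  rfl

/-- S17961. -/
theorem main17961 (A : Type u) [CommRing A] [IsNoetherianRing A] (I : Ideal A) [HenselianRing A I]
    {X : Scheme.{u}} (f : X ⟶ Spec (CommRingCat.of A)) [IsProper f] :
    ∀ (Y : Scheme.{u}) (g : Y ⟶ X), IsFinite g →
      ∀ V : Set ↥(pullback g (pullback.fst f
        (Spec.map (CommRingCat.ofHom (Ideal.Quotient.mk I))))), IsClopen V →
        ∃! U : Set ↥Y, IsClopen U ∧ (pullback.fst g (pullback.fst f
          (Spec.map (CommRingCat.ofHom (Ideal.Quotient.mk I))))).base ⁻¹' U = V := by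
  intro Y g hg V hV
  haveI := hg
  haveI : IsClosedImmersion (Spec.map (CommRingCat.ofHom (Ideal.Quotient.mk I))) :=
    IsClosedImmersion.spec_of_surjective _ Ideal.Quotient.mk_surjective
  refine existsUnique_clopen_of_proper A I (g ≫ f)
    (pullback.fst g (pullback.fst f (Spec.map (CommRingCat.ofHom (Ideal.Quotient.mk I))))) ?_ V hV
  rw [Scheme.Pullback.range_fst, Scheme.Pullback.range_fst]
  rfl

lemma mem_range_SpecMap_mk {R : Type u} [CommRing R] (I : Ideal R)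
    (x : Spec (CommRingCat.of R)) :
    x ∈ Set.range (Spec.map (CommRingCat.ofHom (Ideal.Quotient.mk I))) ↔ I ≤ x.asIdeal := by
  change x ∈ Set.range (PrimeSpectrum.comap (Ideal.Quotient.mk I)) ↔ _
  rw [_root_.range_comap_of_surjective _ _ Ideal.Quotient.mk_surjective, Ideal.mk_ker]
  exact (PrimeSpectrum.mem_zeroLocus (x : PrimeSpectrum R) (I : Set R)).trans SetLike.coe_subset_coe

/-- The closed subset `f⁻¹ V(I)` of `X` equals the preimage of `V(J)` under `X ⟶ Spec Γ(X, ⊤)`, where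
`J` is the kernel of `Γ(X, ⊤) ⟶ Γ(X₀, ⊤)`. -/
theorem range_fst_eq_preimage_ker (A : Type u) [CommRing A] (I : Ideal A) {X : Scheme.{u}}
    (f : X ⟶ Spec (CommRingCat.of A)) :
    Set.range (pullback.fst f (Spec.map (CommRingCat.ofHom (Ideal.Quotient.mk I)))) =
      X.toSpecΓ ⁻¹' Set.range (Spec.map (CommRingCat.ofHom (Ideal.Quotient.mk
        (RingHom.ker (pullback.fst f
          (Spec.map (CommRingCat.ofHom (Ideal.Quotient.mk I)))).appTop.hom)))) := by
  obtain ⟨i, hi⟩ : ∃ i, i = pullback.fst f (Spec.map (CommRingCat.ofHom (Ideal.Quotient.mk I))) :=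
    ⟨_, rfl⟩
  rw [← hi]
  ext x
  rw [Set.mem_preimage]
  erw [mem_range_SpecMap_mk (R := Γ(X, ⊤)) (RingHom.ker i.appTop.hom) (X.toSpecΓ x)]
  constructor
  · rintro ⟨x₀, rfl⟩ s hs
    by_contra hns
    have h1 : X.toSpecΓ (i x₀) ∈ PrimeSpectrum.basicOpen s := hns
    have h2 : i x₀ ∈ X.toSpecΓ ⁻¹ᵁ PrimeSpectrum.basicOpen s := h1
    rw [Scheme.toSpecΓ_preimage_basicOpen] at h2
    have h3 : x₀ ∈ i ⁻¹ᵁ X.basicOpen s := h2
    rw [Scheme.preimage_basicOpen_top] at h3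
    have h4 : i.appTop.hom s = 0 := hs
    erw [h4] at h3
    rw [Scheme.basicOpen_zero] at h3
    exact h3
  · intro hx
    rw [hi, Scheme.Pullback.range_fst, Set.mem_preimage, mem_range_SpecMap_mk]
    intro a ha
    have hcomp : X.toSpecΓ ≫ Spec.map ((Scheme.ΓSpecIso (CommRingCat.of A)).inv ≫ f.appTop) = f := by
      rw [Spec.map_comp, ← Scheme.toSpecΓ_naturality_assoc, toSpecΓ_SpecMap_ΓSpecIso_inv,
        Category.comp_id]
    have hmem : ((Scheme.ΓSpecIso (CommRingCat.of A)).inv ≫ f.appTop).hom a ∈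
        RingHom.ker i.appTop.hom := by
      rw [RingHom.mem_ker]
      have e1 : ((Scheme.ΓSpecIso (CommRingCat.of A)).inv ≫ f.appTop) ≫ i.appTop =
          (Scheme.ΓSpecIso (CommRingCat.of A)).inv ≫
            (Spec.map (CommRingCat.ofHom (Ideal.Quotient.mk I))).appTop ≫
            (pullback.snd f (Spec.map (CommRingCat.ofHom (Ideal.Quotient.mk I)))).appTop := by
        rw [Category.assoc, ← Scheme.Hom.comp_appTop, ← Scheme.Hom.comp_appTop, hi,
          pullback.condition]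
      have e2 : (Scheme.ΓSpecIso (CommRingCat.of A)).inv ≫
            (Spec.map (CommRingCat.ofHom (Ideal.Quotient.mk I))).appTop =
          CommRingCat.ofHom (Ideal.Quotient.mk I) ≫ (Scheme.ΓSpecIso _).inv :=
        (Scheme.ΓSpecIso_inv_naturality _).symm
      rw [← Category.assoc, e2] at e1
      have e3 := congrArg (fun ψ => ψ.hom a) e1
      simp only [CommRingCat.hom_comp, RingHom.comp_apply] at e3 ⊢
      rw [e3]
      have : (CommRingCat.ofHom (Ideal.Quotient.mk I)).hom a = 0 :=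
        Ideal.Quotient.eq_zero_iff_mem.mpr ha
      rw [this, map_zero, map_zero]
    have h5 := hx hmem
    have h6 : f x = (Spec.map ((Scheme.ΓSpecIso (CommRingCat.of A)).inv ≫ f.appTop))
        (X.toSpecΓ x) := by
      conv_lhs => rw [← hcomp]
      rfl
    rw [h6]
    exact h5

/-- S17960. -/
theorem main17960 (A : Type u) [CommRing A] [IsNoetherianRing A] (I : Ideal A) {X : Scheme.{u}}
    (f : X ⟶ Spec (CommRingCat.of A)) [IsProper f]
    (h : HenselianRing (Γ(X, ⊤) : Type u)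
      (RingHom.ker (pullback.fst f
        (Spec.map (CommRingCat.ofHom (Ideal.Quotient.mk I)))).appTop.hom)) :
    ∀ (Y : Scheme.{u}) (g : Y ⟶ X), IsFinite g →
      ∀ V : Set ↥(pullback g (pullback.fst f
        (Spec.map (CommRingCat.ofHom (Ideal.Quotient.mk I))))), IsClopen V →
        ∃! U : Set ↥Y, IsClopen U ∧ (pullback.fst g (pullback.fst f
          (Spec.map (CommRingCat.ofHom (Ideal.Quotient.mk I))))).base ⁻¹' U = V := by
  intro Y g hg V hV
  haveI := hg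
  haveI := h
  haveI : IsClosedImmersion (Spec.map (CommRingCat.ofHom (Ideal.Quotient.mk I))) :=
    IsClosedImmersion.spec_of_surjective _ Ideal.Quotient.mk_surjective
  obtain ⟨-, -, hprop, hnoeth, -⟩ := toSpecΓ_props A f
  haveI := hprop
  haveI := hnoeth
  refine existsUnique_clopen_of_proper (Γ(X, ⊤) : Type u)
    (RingHom.ker (pullback.fst f
        (Spec.map (CommRingCat.ofHom (Ideal.Quotient.mk I)))).appTop.hom) (g ≫ X.toSpecΓ)
    (pullback.fst g (pullback.fst f (Spec.map (CommRingCat.ofHom (Ideal.Quotient.mk I))))) ?_ V hV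
  rw [Scheme.Pullback.range_fst, range_fst_eq_preimage_ker]
  rfl

end Scheme

end Groth.Agent.Lib.Helper13.HensProper
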