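import Mathlib
import Groth.Prelude
import Groth.Agent.Lib.Helper13.EtAlgCount
import Groth.Agent.Lib.Helper13.CompCount
import Groth.Agent.Lib.Helper13.H0LocConst
import Groth.Agent.Lib.Helper13.ZariskiConn
import Groth.Agent.Lib.Helper13.HensProper
import Groth.Agent.Lib.Helper17.PushIso

/-!
# The Stein factor of a proper flat geometrically reduced family is finite étale: Noetherian affine
base with free global sections (helper13)
-/

set_option autoImplicit false
set_option linter.style.haveILetI false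
universe u
open CategoryTheory CategoryTheory.Limits AlgebraicGeometry TopologicalSpace Opposite TensorProduct

namespace Groth.Agent.Lib.Helper13.SteinEt

/-- sections of étale morphisms are open immersions. -/
theorem isOpenImmersion_of_section {P W : Scheme.{u}} (p : P ⟶ W) (σ : W ⟶ P) (h : σ ≫ p = 𝟙 W)
    [Etale p] : IsOpenImmersion σ := by
  have h1 : Etale (σ ≫ p) := by rw [h]; infer_instance
  have h2 : Etale σ :=
    MorphismProperty.of_postcomp (W := @Etale) (W' := @Etale) σ p inferInstance h1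
  have h3 : Mono σ := mono_of_mono_fac h
  exact IsOpenImmersion.of_flat_of_mono σ

section Conn

variable (R : Type u) [CommRing R] [IsNoetherianRing R] {X : Scheme.{u}}
  (f : X ⟶ Spec (CommRingCat.of R)) [IsProper f]

include f in
theorem isIso_toSpecΓ_app (U : (Spec Γ(X, ⊤)).Opens) : IsIso (X.toSpecΓ.app U) := by
  obtain ⟨-, -, hprop, -, -⟩ := Groth.Agent.Lib.Helper13.HensProper.toSpecΓ_props R f
  haveI := hprop
  refine Groth.Agent.Lib.Helper17.PushIso.isIso_app_of_cover X.toSpecΓ {⊤} (fun V hV => ?_)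
    (fun y => ⟨⊤, Set.mem_singleton _, trivial⟩) (fun V hV => ?_) U
  · rw [Set.mem_singleton_iff.mp hV]; exact isAffineOpen_top _
  · rw [Set.mem_singleton_iff.mp hV]
    have : X.toSpecΓ.app ⊤ = (Scheme.ΓSpecIso Γ(X, ⊤)).hom := Scheme.toSpecΓ_appTop X
    rw [this]; infer_instance

include f in
theorem geometricallyConnected_toSpecΓ : GeometricallyConnected X.toSpecΓ := by
  obtain ⟨-, -, hprop, hnoeth, -⟩ := Groth.Agent.Lib.Helper13.HensProper.toSpecΓ_props R f
  haveI := hprop
  haveI := hnoeth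
  haveI : IsLocallyNoetherian (Spec Γ(X, ⊤)) := inferInstance
  exact (Groth.Agent.Lib.Helper13.ZariskiConn.main2431 X.toSpecΓ (isIso_toSpecΓ_app R f)).2

end Conn

/-- the kernel of a ring map `R → Ω` to a field inducing a point over `y`. -/
lemma ker_eq_of_SpecMap_eq {R : Type u} [CommRing R] (y : Spec (CommRingCat.of R))
    {Ω : Type u} [Field Ω]
    (a : Spec (CommRingCat.of Ω) ⟶ Spec ((Spec (CommRingCat.of R)).residueField y))
    (ψ : R →+* Ω)
    (hψ : Spec.map (CommRingCat.ofHom ψ) = a ≫ (Spec (CommRingCat.of R)).fromSpecResidueField y) :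
    RingHom.ker ψ = PrimeSpectrum.asIdeal (R := R) y := by
  obtain ⟨pt, hpt⟩ : ∃ pt : Spec (CommRingCat.of Ω), pt = ⟨⊥, Ideal.bot_prime⟩ := ⟨_, rfl⟩
  have h1 : (a ≫ (Spec (CommRingCat.of R)).fromSpecResidueField y) pt = y := by
    rw [Scheme.Hom.comp_apply]
    exact Scheme.fromSpecResidueField_apply _ _
  have h2 : (Spec.map (CommRingCat.ofHom ψ)) pt = y := by rw [hψ]; exact h1
  rw [Spec.map_apply] at h2
  rw [← h2, hpt]
  rfl

section Count

variable {R : Type u} [CommRing R] [IsNoetherianRing R] {X : Scheme.{u}}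
  (f : X ⟶ Spec (CommRingCat.of R)) [IsProper f]

/-- the structure map `Spec Γ(X) ⟶ Spec R`. -/
noncomputable def πB : Spec Γ(X, ⊤) ⟶ Spec (CommRingCat.of R) :=
  Spec.map ((Scheme.ΓSpecIso (CommRingCat.of R)).inv ≫ f.appTop)

lemma toSpecΓ_πB : X.toSpecΓ ≫ πB f = f :=
  (Groth.Agent.Lib.Helper13.HensProper.toSpecΓ_props R f).2.1

lemma πB_eq : letI : Algebra R Γ(X, ⊤) := (Coh.toGlobal f).toAlgebra
    πB f = Spec.map (CommRingCat.ofHom (algebraMap R Γ(X, ⊤))) := rfl

lemma finite_gamma : letI : Algebra R Γ(X, ⊤) := (Coh.toGlobal f).toAlgebra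
    Module.Finite R Γ(X, ⊤) :=
  (Groth.Agent.Lib.Helper13.HensProper.toSpecΓ_props R f).1

set_option maxHeartbeats 1000000 in
/-- counting the points of the geometric fibres of `Spec Γ(X) ⟶ Spec R`. -/
theorem card_primeSpectrum_tensor (y : Spec (CommRingCat.of R)) :
    ∃ (Ω : Type u) (_ : Field Ω) (ψ : R →+* Ω),
      RingHom.ker ψ = PrimeSpectrum.asIdeal (R := R) y ∧
      letI : Algebra R Ω := ψ.toAlgebra
      letI : Algebra R Γ(X, ⊤) := (Coh.toGlobal f).toAlgebra
      ENat.card (PrimeSpectrum (Ω ⊗[R] Γ(X, ⊤))) = MoreMor.nGeomConnComp f y := by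
  classical
  letI algB : Algebra R Γ(X, ⊤) := (Coh.toGlobal f).toAlgebra
  haveI : Module.Finite R Γ(X, ⊤) := finite_gamma f
  obtain ⟨Ω, hΩ⟩ : ∃ Ω : Type u, Ω = SeparableClosure
      ↑((Spec (CommRingCat.of R)).residueField y) := ⟨_, rfl⟩
  subst hΩ
  obtain ⟨a, ha⟩ : ∃ a : Spec (CommRingCat.of (SeparableClosure
      ↑((Spec (CommRingCat.of R)).residueField y))) ⟶
      Spec ((Spec (CommRingCat.of R)).residueField y),
      a = Spec.map (CommRingCat.ofHom (algebraMap ↑((Spec (CommRingCat.of R)).residueField y)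
        (SeparableClosure ↑((Spec (CommRingCat.of R)).residueField y)))) := ⟨_, rfl⟩
  obtain ⟨p, hp⟩ : ∃ p : f.fiber y ⟶ Spec ((Spec (CommRingCat.of R)).residueField y),
      p = f.fiberToSpecResidueField y := ⟨_, rfl⟩
  obtain ⟨ybar, hybar⟩ : ∃ ybar : Spec (CommRingCat.of (SeparableClosure
      ↑((Spec (CommRingCat.of R)).residueField y))) ⟶ Spec (CommRingCat.of R),
      ybar = a ≫ (Spec (CommRingCat.of R)).fromSpecResidueField y := ⟨_, rfl⟩
  obtain ⟨ψ, hψ⟩ : ∃ ψ : R →+* SeparableClosure ↑((Spec (CommRingCat.of R)).residueField y),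
      Spec.map (CommRingCat.ofHom ψ) = ybar :=
    ⟨(Spec.preimage ybar).hom, Spec.map_preimage ybar⟩
  refine ⟨_, inferInstance, ψ, ?_, ?_⟩
  · exact ker_eq_of_SpecMap_eq y a ψ (hψ.trans hybar)
  · letI algΩ : Algebra R (SeparableClosure ↑((Spec (CommRingCat.of R)).residueField y)) :=
      ψ.toAlgebra
    have sqG : IsPullback (pullback.fst p a ≫ f.fiberι y) (pullback.snd p a) f ybar := by
      have hA : IsPullback (pullback.fst p a) (pullback.snd p a) p a :=
        IsPullback.of_hasPullback p a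
      have hB : IsPullback (f.fiberι y) p f
          ((Spec (CommRingCat.of R)).fromSpecResidueField y) := by
        rw [hp]; exact IsPullback.of_hasPullback _ _
      rw [hybar]
      exact hA.paste_horiz hB
    obtain ⟨yΩ, hyΩ⟩ : ∃ yΩ : Spec (CommRingCat.of (SeparableClosure
        ↑((Spec (CommRingCat.of R)).residueField y))) ⟶ Spec (CommRingCat.of R),
        yΩ = Spec.map (CommRingCat.ofHom (algebraMap R (SeparableClosure
          ↑((Spec (CommRingCat.of R)).residueField y)))) := ⟨_, rfl⟩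
    have hyy : yΩ = ybar := by rw [hyΩ]; exact hψ
    obtain ⟨πb, hπb⟩ : ∃ πb : Spec (CommRingCat.of ↑Γ(X, ⊤)) ⟶ Spec (CommRingCat.of R),
        πb = Spec.map (CommRingCat.ofHom (algebraMap R Γ(X, ⊤))) := ⟨_, rfl⟩
    obtain ⟨q, hq⟩ : ∃ q : X ⟶ Spec (CommRingCat.of ↑Γ(X, ⊤)), q = X.toSpecΓ := ⟨_, rfl⟩
    have hqπ : q ≫ πb = f := by rw [hπb, hq]; exact toSpecΓ_πB f
    have hcomm : pullback.snd p a ≫ yΩ = ((pullback.fst p a ≫ f.fiberι y) ≫ q) ≫ πb := by
      rw [Category.assoc, hqπ, hyy]; exact sqG.w.symm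
    obtain ⟨qG, hqG⟩ : ∃ qG : pullback p a ⟶ pullback yΩ πb,
        qG = pullback.lift (pullback.snd p a) ((pullback.fst p a ≫ f.fiberι y) ≫ q) hcomm :=
      ⟨_, rfl⟩
    have hqG1 : qG ≫ pullback.fst yΩ πb = pullback.snd p a := by
      rw [hqG]; exact pullback.lift_fst _ _ _
    have hqG2 : qG ≫ pullback.snd yΩ πb = (pullback.fst p a ≫ f.fiberι y) ≫ q := by
      rw [hqG]; exact pullback.lift_snd _ _ _
    have sqL : IsPullback qG (pullback.fst p a ≫ f.fiberι y) (pullback.snd yΩ πb) q := by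
      have big : IsPullback (qG ≫ pullback.fst yΩ πb) (pullback.fst p a ≫ f.fiberι y) yΩ
          (q ≫ πb) := by
        rw [hqG1, hqπ, hyy]; exact sqG.flip
      exact IsPullback.of_right big hqG2 (IsPullback.of_hasPullback yΩ πb)
    haveI : GeometricallyConnected q := by
      rw [hq]; exact geometricallyConnected_toSpecΓ R f
    haveI : GeometricallyConnected qG :=
      MorphismProperty.of_isPullback (P := @GeometricallyConnected) sqL.flip inferInstance
    obtain ⟨eN⟩ : Nonempty (pullback yΩ πb ≅ Spec (CommRingCat.of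
        ((SeparableClosure ↑((Spec (CommRingCat.of R)).residueField y)) ⊗[R] Γ(X, ⊤)))) := by
      rw [hyΩ, hπb]
      exact ⟨pullbackSpecIso R _ _⟩
    haveI : Module.Finite (SeparableClosure ↑((Spec (CommRingCat.of R)).residueField y))
        ((SeparableClosure ↑((Spec (CommRingCat.of R)).residueField y)) ⊗[R] Γ(X, ⊤)) :=
      inferInstance
    haveI : IsArtinianRing
        ((SeparableClosure ↑((Spec (CommRingCat.of R)).residueField y)) ⊗[R] Γ(X, ⊤)) :=
      IsArtinianRing.of_finite (SeparableClosure ↑((Spec (CommRingCat.of R)).residueField y)) _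
    haveI : DiscreteTopology (PrimeSpectrum
        ((SeparableClosure ↑((Spec (CommRingCat.of R)).residueField y)) ⊗[R] Γ(X, ⊤))) :=
      inferInstance
    obtain ⟨e, he⟩ : ∃ e : ↥(pullback yΩ πb) ≃ₜ PrimeSpectrum
        ((SeparableClosure ↑((Spec (CommRingCat.of R)).residueField y)) ⊗[R] Γ(X, ⊤)),
        e = Scheme.homeoOfIso eN := ⟨_, rfl⟩
    have hg : Continuous (fun z : ↥(pullback p a) => e (qG z)) :=
      e.continuous.comp qG.continuous
    have hconn : ∀ t, _root_.IsConnected ((fun z : ↥(pullback p a) => e (qG z)) ⁻¹' {t}) := by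
      intro t
      have hset : (fun z : ↥(pullback p a) => e (qG z)) ⁻¹' {t} = qG ⁻¹' {e.symm t} := by
        ext z
        simp only [Set.mem_preimage, Set.mem_singleton_iff]
        exact e.eq_symm_apply.symm
      rw [hset]
      exact qG.isConnected_preimage_singleton _
    obtain ⟨E⟩ := Groth.Agent.Lib.Helper13.CompCount.nonempty_connectedComponents_equiv
      (fun z : ↥(pullback p a) => e (qG z)) hg hconn
    rw [← ENat.card_congr E]
    subst ha hp
    rfl

end Count

section Etale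

variable {R : Type u} [CommRing R] [IsNoetherianRing R] {X : Scheme.{u}}
  (f : X ⟶ Spec (CommRingCat.of R)) [IsProper f] [GeometricallyReduced f]

/-- `Γ(X, O)` is étale over `R` when it is free of rank `h⁰` of all the fibres. -/
theorem etale_gamma_of_free
    (hfree : letI : Algebra R Γ(X, ⊤) := (Coh.toGlobal f).toAlgebra; Module.Free R Γ(X, ⊤))
    (hrank : ∀ y : Spec (CommRingCat.of R),
      Module.finrank ((Spec (CommRingCat.of R)).residueField y) Γ(f.fiber y, ⊤) =
        letI : Algebra R Γ(X, ⊤) := (Coh.toGlobal f).toAlgebra; Module.finrank R Γ(X, ⊤)) :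
    letI : Algebra R Γ(X, ⊤) := (Coh.toGlobal f).toAlgebra
    Algebra.Etale R Γ(X, ⊤) := by
  classical
  letI algB : Algebra R Γ(X, ⊤) := (Coh.toGlobal f).toAlgebra
  haveI : Module.Finite R Γ(X, ⊤) := finite_gamma f
  haveI : Module.Free R Γ(X, ⊤) := hfree
  refine Groth.Agent.Lib.Helper13.EtAlgCount.etale_of_card ?_
  intro P hP
  obtain ⟨Ω, hΩ, ψ, hker, hcard⟩ :=
    card_primeSpectrum_tensor f (⟨P, hP.isPrime⟩ : PrimeSpectrum R)
  refine ⟨Ω, hΩ, ψ, hker, ?_⟩
  letI : Algebra R Ω := ψ.toAlgebra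
  rw [Groth.Agent.Lib.Helper13.CompCount.nGeomConnComp_eq f, hrank] at hcard
  haveI : Module.Finite Ω (Ω ⊗[R] Γ(X, ⊤)) := inferInstance
  haveI : IsArtinianRing (Ω ⊗[R] Γ(X, ⊤)) := IsArtinianRing.of_finite Ω _
  haveI : Finite (PrimeSpectrum (Ω ⊗[R] Γ(X, ⊤))) := inferInstance
  letI : Fintype (PrimeSpectrum (Ω ⊗[R] Γ(X, ⊤))) := Fintype.ofFinite _
  rw [ENat.card_eq_coe_fintype_card] at hcard
  rw [Nat.card_eq_fintype_card]
  exact_mod_cast hcard

end Etale

section QProps

variable {R : Type u} [CommRing R] [IsNoetherianRing R] {X : Scheme.{u}}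
  (f : X ⟶ Spec (CommRingCat.of R)) [IsProper f]
  (het : letI : Algebra R Γ(X, ⊤) := (Coh.toGlobal f).toAlgebra; Algebra.Etale R Γ(X, ⊤))

include het in
lemma etale_πB : Etale (πB f) := by
  letI algB : Algebra R Γ(X, ⊤) := (Coh.toGlobal f).toAlgebra
  have h1 : (algebraMap R Γ(X, ⊤)).Etale := RingHom.etale_algebraMap.mpr het
  exact (HasRingHomProperty.Spec_iff (P := @Etale)).mpr h1

/-- the graph of `X ⟶ Spec Γ(X)`. -/
noncomputable def graph : X ⟶ pullback f (πB f) :=
  pullback.lift (𝟙 X) X.toSpecΓ (by rw [Category.id_comp, toSpecΓ_πB])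

lemma graph_fst : graph f ≫ pullback.fst f (πB f) = 𝟙 X := pullback.lift_fst _ _ _

lemma graph_snd : graph f ≫ pullback.snd f (πB f) = X.toSpecΓ := pullback.lift_snd _ _ _

include het in
lemma isOpenImmersion_graph : IsOpenImmersion (graph f) := by
  haveI : Etale (πB f) := etale_πB f het
  haveI : Etale (pullback.fst f (πB f)) := inferInstance
  exact isOpenImmersion_of_section (pullback.fst f (πB f)) (graph f) (graph_fst f)

include het in
lemma flat_toSpecΓ [Flat f] : Flat X.toSpecΓ := by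
  haveI := isOpenImmersion_graph f het
  rw [← graph_snd f]
  infer_instance

include het in
lemma lfp_toSpecΓ [LocallyOfFinitePresentation f] : LocallyOfFinitePresentation X.toSpecΓ := by
  haveI := isOpenImmersion_graph f het
  rw [← graph_snd f]
  infer_instance

include het in
lemma geometricallyReduced_toSpecΓ [GeometricallyReduced f] :
    GeometricallyReduced X.toSpecΓ := by
  haveI := isOpenImmersion_graph f het
  refine ⟨fun K _ z Z fst snd h => ?_⟩
  haveI : IsReduced (pullback (pullback.snd f (πB f)) z) :=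
    GeometricallyReduced.geometrically_isReduced (f := pullback.snd f (πB f)) _ _ _
      (IsPullback.of_hasPullback _ _)
  have hcomm : (fst ≫ graph f) ≫ pullback.snd f (πB f) = snd ≫ z := by
    rw [Category.assoc, graph_snd]; exact h.w
  obtain ⟨l, hl⟩ : ∃ l : Z ⟶ pullback (pullback.snd f (πB f)) z,
      l = pullback.lift (fst ≫ graph f) snd hcomm := ⟨_, rfl⟩
  have hl1 : l ≫ pullback.fst (pullback.snd f (πB f)) z = fst ≫ graph f := by
    rw [hl]; exact pullback.lift_fst _ _ _
  have hl2 : l ≫ pullback.snd (pullback.snd f (πB f)) z = snd := by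
    rw [hl]; exact pullback.lift_snd _ _ _
  have sq : IsPullback l fst (pullback.fst (pullback.snd f (πB f)) z) (graph f) := by
    have big : IsPullback (l ≫ pullback.snd (pullback.snd f (πB f)) z) fst z
        (graph f ≫ pullback.snd f (πB f)) := by
      rw [hl2, graph_snd]; exact h.flip
    exact IsPullback.of_right big hl1 (IsPullback.of_hasPullback (pullback.snd f (πB f)) z).flip
  haveI : IsOpenImmersion l :=
    MorphismProperty.of_isPullback (P := @IsOpenImmersion) sq.flip inferInstance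
  exact isReduced_of_isOpenImmersion l

include het in
lemma finrank_fiber_toSpecΓ [GeometricallyReduced f] (t : Spec Γ(X, ⊤)) :
    Module.finrank ((Spec Γ(X, ⊤)).residueField t) Γ(X.toSpecΓ.fiber t, ⊤) = 1 := by
  obtain ⟨-, -, hprop, -, -⟩ := Groth.Agent.Lib.Helper13.HensProper.toSpecΓ_props R f
  haveI := hprop
  haveI := geometricallyReduced_toSpecΓ f het
  haveI := geometricallyConnected_toSpecΓ R f
  have h1 := Groth.Agent.Lib.Helper13.CompCount.nGeomConnComp_eq X.toSpecΓ t
  have h2 : MoreMor.nGeomConnComp X.toSpecΓ t = 1 := by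
    haveI : ConnectedSpace ↥(MoreMor.geomFiber X.toSpecΓ t) := by
      obtain ⟨a, ha⟩ : ∃ a : Spec (CommRingCat.of (SeparableClosure
          ↑((Spec Γ(X, ⊤)).residueField t))) ⟶ Spec ((Spec Γ(X, ⊤)).residueField t),
          a = Spec.map (CommRingCat.ofHom (algebraMap ↑((Spec Γ(X, ⊤)).residueField t)
            (SeparableClosure ↑((Spec Γ(X, ⊤)).residueField t)))) := ⟨_, rfl⟩
      have hc : ConnectedSpace ↥(pullback (X.toSpecΓ.fiberToSpecResidueField t) a) := by
        refine GeometricallyConnected.geometrically_connectedSpace (f := X.toSpecΓ)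
          (a ≫ (Spec Γ(X, ⊤)).fromSpecResidueField t)
          (pullback.fst (X.toSpecΓ.fiberToSpecResidueField t) a ≫ X.toSpecΓ.fiberι t)
          (pullback.snd (X.toSpecΓ.fiberToSpecResidueField t) a) ?_
        exact (IsPullback.of_hasPullback (X.toSpecΓ.fiberToSpecResidueField t) a).paste_horiz
          (IsPullback.of_hasPullback X.toSpecΓ ((Spec Γ(X, ⊤)).fromSpecResidueField t))
      rw [ha] at hc
      exact hc
    unfold MoreMor.nGeomConnComp
    rw [ENat.card_eq_one_iff_unique]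
    exact ⟨⟨⟨ConnectedComponents.mk (Nonempty.some inferInstance)⟩,
      fun _ => Subsingleton.elim _ _⟩⟩
  rw [h2] at h1
  exact_mod_cast h1.symm

include het in
/-- **Universal base change for global sections.** -/
theorem isPushout_appTop [Flat f] [LocallyOfFinitePresentation f] [GeometricallyReduced f]
    {T X' : Scheme.{u}} [IsAffine T] (g : T ⟶ Spec (CommRingCat.of R)) (f' : X' ⟶ T)
    (g' : X' ⟶ X) (hsq : IsPullback g' f' f g) :
    IsPushout f.appTop g.appTop g'.appTop f'.appTop := by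
  obtain ⟨-, -, hprop, -, -⟩ := Groth.Agent.Lib.Helper13.HensProper.toSpecΓ_props R f
  haveI := hprop
  haveI := flat_toSpecΓ f het
  haveI := lfp_toSpecΓ f het
  have h0 := finrank_fiber_toSpecΓ f het
  obtain ⟨π, hπ⟩ : ∃ π : Spec Γ(X, ⊤) ⟶ Spec (CommRingCat.of R), π = πB f := ⟨_, rfl⟩
  have hqπ : X.toSpecΓ ≫ π = f := by rw [hπ]; exact toSpecΓ_πB f
  have hcomm : (g' ≫ X.toSpecΓ) ≫ π = f' ≫ g := by rw [Category.assoc, hqπ]; exact hsq.w
  obtain ⟨qT, hqT⟩ : ∃ qT : X' ⟶ pullback π g, qT = pullback.lift (g' ≫ X.toSpecΓ) f' hcomm :=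
    ⟨_, rfl⟩
  have hqT1 : qT ≫ pullback.fst π g = g' ≫ X.toSpecΓ := by
    rw [hqT]; exact pullback.lift_fst _ _ _
  have hqT2 : qT ≫ pullback.snd π g = f' := by rw [hqT]; exact pullback.lift_snd _ _ _
  have sq : IsPullback qT g' (pullback.fst π g) X.toSpecΓ := by
    have big : IsPullback (qT ≫ pullback.snd π g) g' g (X.toSpecΓ ≫ π) := by
      rw [hqT2, hqπ]; exact hsq.flip
    exact IsPullback.of_right big hqT1 (IsPullback.of_hasPullback π g).flip
  haveI : IsIso qT.appTop :=
    Groth.Agent.Lib.Helper13.CBCUnivG.isIso_app_of_isPullback X.toSpecΓ h0 sq.flip ⊤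
  have hpo : IsPushout π.appTop g.appTop (pullback.fst π g).appTop (pullback.snd π g).appTop :=
    isPushout_appTop_of_isPullback (IsPullback.of_hasPullback π g)
  haveI : IsIso X.toSpecΓ.appTop := by
    have : X.toSpecΓ.appTop = (Scheme.ΓSpecIso Γ(X, ⊤)).hom := Scheme.toSpecΓ_appTop X
    rw [this]; infer_instance
  refine hpo.of_iso (Iso.refl _) (asIso X.toSpecΓ.appTop) (Iso.refl _) (asIso qT.appTop)
    ?_ ?_ ?_ ?_
  · simp only [asIso_hom, Iso.refl_hom, Category.id_comp]
    rw [← Scheme.Hom.comp_appTop, hqπ]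
  · simp only [Iso.refl_hom, Category.id_comp, Category.comp_id]
  · simp only [asIso_hom]
    rw [← Scheme.Hom.comp_appTop, ← Scheme.Hom.comp_appTop, hqT1]
  · simp only [asIso_hom, Iso.refl_hom, Category.id_comp]
    rw [← Scheme.Hom.comp_appTop, hqT2]

end QProps

/-- **Main theorem, Noetherian affine base with free global sections.** -/
theorem main {R : Type u} [CommRing R] [IsNoetherianRing R] {X : Scheme.{u}}
    (f : X ⟶ Spec (CommRingCat.of R)) [IsProper f] [Flat f] [LocallyOfFinitePresentation f]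
    [GeometricallyReduced f]
    (hfree : letI : Algebra R Γ(X, ⊤) := (Coh.toGlobal f).toAlgebra; Module.Free R Γ(X, ⊤))
    (hrank : ∀ y : Spec (CommRingCat.of R),
      Module.finrank ((Spec (CommRingCat.of R)).residueField y) Γ(f.fiber y, ⊤) =
        letI : Algebra R Γ(X, ⊤) := (Coh.toGlobal f).toAlgebra; Module.finrank R Γ(X, ⊤)) :
    (letI : Algebra R Γ(X, ⊤) := (Coh.toGlobal f).toAlgebra; Algebra.Etale R Γ(X, ⊤)) ∧
    ∀ {T X' : Scheme.{u}} [IsAffine T] (g : T ⟶ Spec (CommRingCat.of R)) (f' : X' ⟶ T)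
      (g' : X' ⟶ X), IsPullback g' f' f g → IsPushout f.appTop g.appTop g'.appTop f'.appTop :=
  ⟨etale_gamma_of_free f hfree hrank, fun g f' g' hsq =>
    isPushout_appTop f (etale_gamma_of_free f hfree hrank) g f' g' hsq⟩

end Groth.Agent.Lib.Helper13.SteinEt
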