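import Mathlib
import Groth.Prelude
import Groth.Agent.Lib.Helper13.SteinEt
import Groth.Agent.Lib.Helper12.GeomRedOpen

/-!
# The direct image of the structure sheaf of a proper flat geometrically reduced family of finite
presentation is finite étale, locally free of rank `h⁰` of the fibres (helper13)
-/

set_option autoImplicit false
set_option linter.style.haveILetI false
universe u
open CategoryTheory CategoryTheory.Limits AlgebraicGeometry TopologicalSpace Opposite TensorProduct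

namespace Groth.Agent.Lib.Helper13.SteinEtMain

open Groth.Agent.Lib.Helper12.GeomRedGen

/-- `B` is free of rank `n` over `A` along `φ`. -/
def FreeRank (n : ℕ) {A B : CommRingCat.{u}} (φ : A ⟶ B) : Prop :=
  letI : Algebra A B := φ.hom.toAlgebra
  Nonempty (Module.Basis (Fin n) A B)

section Alg

variable {n : ℕ}

lemma freeRank_comp_isIso {A B B' : CommRingCat.{u}} (φ : A ⟶ B) (ε : B ⟶ B') [IsIso ε] :
    FreeRank n (φ ≫ ε) ↔ FreeRank n φ := by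
  letI a1 : Algebra A B := φ.hom.toAlgebra
  letI a2 : Algebra A B' := (φ ≫ ε).hom.toAlgebra
  let l : B ≃ₗ[A] B' :=
    { (asIso ε).commRingCatIsoToRingEquiv.toAddEquiv with
      map_smul' := fun a b => by
        show ε.hom (φ.hom a * b) = ε.hom (φ.hom a) * ε.hom b
        exact map_mul _ _ _ }
  constructor
  · rintro ⟨b⟩
    exact ⟨b.map l.symm⟩
  · rintro ⟨b⟩
    exact ⟨b.map l⟩

lemma FreeRank.of_isPushout {R A B P : CommRingCat.{u}} {φ : R ⟶ B} {ψ : R ⟶ A} {φ' : B ⟶ P}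
    {ψ' : A ⟶ P} (h : IsPushout φ ψ φ' ψ') (hφ : FreeRank n φ) : FreeRank n ψ' := by
  letI a1 : Algebra R B := φ.hom.toAlgebra
  letI a2 : Algebra R A := ψ.hom.toAlgebra
  letI a3 : Algebra A P := ψ'.hom.toAlgebra
  letI a4 : Algebra B P := φ'.hom.toAlgebra
  letI a5 : Algebra R P := (ψ'.hom.comp ψ.hom).toAlgebra
  haveI : IsScalarTower R A P := IsScalarTower.of_algebraMap_eq (fun x => rfl)
  haveI : IsScalarTower R B P := IsScalarTower.of_algebraMap_eq (fun x => by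
    show (ψ'.hom.comp ψ.hom) x = φ'.hom (φ.hom x)
    have := congrArg (fun m : R ⟶ P => m.hom x) h.w
    exact this.symm)
  have hP : Algebra.IsPushout R A B P :=
    (CommRingCat.isPushout_iff_isPushout (R := R) (R' := A) (S := B) (S' := P)).mp h.flip
  obtain ⟨b⟩ := hφ
  exact ⟨(Algebra.TensorProduct.basis A b).map (Algebra.IsPushout.equiv R A B P).toLinearEquiv⟩

lemma etale_of_isPushout {R A B P : CommRingCat.{u}} {φ : R ⟶ B} {ψ : R ⟶ A} {φ' : B ⟶ P}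
    {ψ' : A ⟶ P} (h : IsPushout φ ψ φ' ψ') (hφ : φ.hom.Etale) : ψ'.hom.Etale := by
  have hst := RingHom.isStableUnderCobaseChange_toMorphismProperty_iff.mpr
    RingHom.Etale.isStableUnderBaseChange
  exact hst.of_isPushout h.flip hφ

end Alg

section Basis

/-- a basis of the direct image of the structure sheaf gives a basis of the ring of functions. -/
lemma freeRank_of_isBasisAt {X Y : Scheme.{u}} (f : X ⟶ Y) (V : Y.Opens) {n : ℕ}
    (e : Fin n → Γ((Coh.push f).obj (Coh.structureModule X), V))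
    (hb : Groth.Agent.Lib.Helper3.FreeBasis.IsBasisAt
      ((Coh.push f).obj (Coh.structureModule X)) V e) :
    FreeRank n (f.app V) := by
  letI alg : Algebra Γ(Y, V) Γ(X, f ⁻¹ᵁ V) := (f.app V).hom.toAlgebra
  obtain ⟨b, hbdef⟩ : ∃ b : Fin n → Γ(X, f ⁻¹ᵁ V), b = fun i =>
      Groth.Agent.Lib.Helper3.InvGen.toFun (f ⁻¹ᵁ V)
        (show Γ(Coh.structureModule X, f ⁻¹ᵁ V) from e i) := ⟨_, rfl⟩
  have hbij : Function.Bijective (Fintype.linearCombination Γ(Y, V) b) := by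
    have heq : (fun a : Fin n → Γ(Y, V) => Fintype.linearCombination Γ(Y, V) b a) =
        (fun a : Fin n → Γ(Y, V) => ∑ i, a i • e i) := by
      funext a
      rw [Fintype.linearCombination_apply, hbdef]
      rfl
    unfold Groth.Agent.Lib.Helper3.FreeBasis.IsBasisAt at hb
    have h2 : Function.Bijective
        (fun a : Fin n → Γ(Y, V) => Fintype.linearCombination Γ(Y, V) b a) := heq ▸ hb
    exact h2
  exact ⟨Module.Basis.ofEquivFun (LinearEquiv.ofBijective _ hbij).symm⟩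

end Basis

section MainAffine

/-- the main theorem over an affine Noetherian base, in terms of global sections. -/
theorem main' {X S : Scheme.{u}} [IsAffine S] (f : X ⟶ S) [IsNoetherianRing Γ(S, ⊤)]
    [IsProper f] [Flat f] [LocallyOfFinitePresentation f] [GeometricallyReduced f]
    (hfree : letI : Algebra Γ(S, ⊤) Γ(X, ⊤) := f.appTop.hom.toAlgebra
      Module.Free Γ(S, ⊤) Γ(X, ⊤))
    (hrank : ∀ y : S, Module.finrank (S.residueField y) Γ(f.fiber y, ⊤) =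
      letI : Algebra Γ(S, ⊤) Γ(X, ⊤) := f.appTop.hom.toAlgebra
      Module.finrank Γ(S, ⊤) Γ(X, ⊤)) :
    f.appTop.hom.Etale ∧
    ∀ {T X' : Scheme.{u}} [IsAffine T] (g : T ⟶ S) (f' : X' ⟶ T) (g' : X' ⟶ X),
      IsPullback g' f' f g → IsPushout f.appTop g.appTop g'.appTop f'.appTop := by
  obtain ⟨F, hF⟩ : ∃ F : X ⟶ Spec (CommRingCat.of ↑Γ(S, ⊤)), F = f ≫ S.isoSpec.hom := ⟨_, rfl⟩
  haveI : IsProper F := by rw [hF]; infer_instance
  haveI : Flat F := by rw [hF]; infer_instance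
  haveI : LocallyOfFinitePresentation F := by rw [hF]; infer_instance
  haveI : GeometricallyReduced F := by
    rw [hF]
    exact (MorphismProperty.cancel_right_of_respectsIso @GeometricallyReduced f
      S.isoSpec.hom).mpr inferInstance
  have happ : F.appTop = S.isoSpec.hom.appTop ≫ f.appTop := by
    rw [hF, Scheme.Hom.comp_appTop]
  have hiso : S.isoSpec.hom.appTop = (Scheme.ΓSpecIso Γ(S, ⊤)).hom := by
    rw [Scheme.isoSpec_hom]; exact Scheme.toSpecΓ_appTop S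
  have hφ : Coh.toGlobal F = f.appTop.hom := by
    ext x
    show F.appTop.hom ((Scheme.ΓSpecIso (CommRingCat.of ↑Γ(S, ⊤))).inv.hom x) = f.appTop.hom x
    rw [happ, hiso]
    show f.appTop.hom ((Scheme.ΓSpecIso Γ(S, ⊤)).hom.hom
      ((Scheme.ΓSpecIso Γ(S, ⊤)).inv.hom x)) = _
    congr 1
    exact congrArg (fun m : Γ(S, ⊤) ⟶ Γ(S, ⊤) => m.hom x) (Scheme.ΓSpecIso Γ(S, ⊤)).inv_hom_id
  have hsqF : IsPullback (𝟙 X) f F S.isoSpec.hom :=
    IsPullback.of_horiz_isIso ⟨by rw [hF, Category.id_comp]⟩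
  have hfree' : letI : Algebra ↑Γ(S, ⊤) Γ(X, ⊤) := (Coh.toGlobal F).toAlgebra
      Module.Free ↑Γ(S, ⊤) Γ(X, ⊤) := by
    rw [hφ]; exact hfree
  have hrank' : ∀ y : Spec (CommRingCat.of ↑Γ(S, ⊤)),
      Module.finrank ((Spec (CommRingCat.of ↑Γ(S, ⊤))).residueField y) Γ(F.fiber y, ⊤) =
      letI : Algebra ↑Γ(S, ⊤) Γ(X, ⊤) := (Coh.toGlobal F).toAlgebra
      Module.finrank ↑Γ(S, ⊤) Γ(X, ⊤) := by
    intro y
    obtain ⟨t, rfl⟩ : ∃ t : S, S.isoSpec.hom t = y :=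
      ⟨S.isoSpec.inv y, by rw [← Scheme.Hom.comp_apply, Iso.inv_hom_id]; rfl⟩
    rw [← Groth.Agent.Lib.Helper13.CBCUnivG.finrank_fiber_eq_of_isPullback hsqF t, hrank t, hφ]
  obtain ⟨het, hpo⟩ := Groth.Agent.Lib.Helper13.SteinEt.main F hfree' hrank'
  refine ⟨?_, ?_⟩
  · letI : Algebra ↑Γ(S, ⊤) ↑Γ(X, ⊤) := (Coh.toGlobal F).toAlgebra
    have h1 : (algebraMap ↑Γ(S, ⊤) ↑Γ(X, ⊤)).Etale := RingHom.etale_algebraMap.mpr het
    have h2 : algebraMap ↑Γ(S, ⊤) ↑Γ(X, ⊤) = f.appTop.hom := hφ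
    rw [h2] at h1
    exact h1
  · intro T X' _ g f' g' hsq
    have hsq' : IsPullback g' f' F (g ≫ S.isoSpec.hom) := by
      refine hsq.of_iso (Iso.refl _) (Iso.refl _) (Iso.refl _) S.isoSpec ?_ ?_ ?_ ?_
      · simp
      · simp
      · rw [hF]; simp
      · simp
    have h2 := hpo (g ≫ S.isoSpec.hom) f' g' hsq'
    haveI : IsIso S.isoSpec.hom.appTop := by rw [hiso]; infer_instance
    refine h2.of_iso (asIso S.isoSpec.hom.appTop) (Iso.refl _) (Iso.refl _) (Iso.refl _)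
      ?_ ?_ ?_ ?_
    · simp only [asIso_hom, Iso.refl_hom, Category.comp_id]; exact happ
    · simp only [asIso_hom, Iso.refl_hom, Category.comp_id]
      exact Scheme.Hom.comp_appTop _ _
    · simp
    · simp

end MainAffine

section Local

/-- étaleness of the ring of functions of a geometrically reduced fibre. -/
theorem etale_fiber_of_mem_E {X Y : Scheme.{u}} (f : X ⟶ Y) [IsProper f] (y : Y)
    (hy : y ∈ E f) : Algebra.Etale (Y.residueField y) Γ(f.fiber y, ⊤) := by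
  obtain ⟨p, hp⟩ : ∃ p : f.fiber y ⟶ Spec (CommRingCat.of ↑(Y.residueField y)),
      p = pullback.snd f (Y.fromSpecResidueField y) := ⟨_, rfl⟩
  haveI : IsProper p := by
    rw [hp]
    exact (inferInstance : IsProper (pullback.snd f (Y.fromSpecResidueField y)))
  haveI : GeometricallyReduced p := by rw [hp]; exact hy
  haveI : IsReduced (pullback p (Spec.map (CommRingCat.ofHom
      (algebraMap ↑(Y.residueField y) (AlgebraicClosure ↑(Y.residueField y)))))) :=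
    GeometricallyReduced.geometrically_isReduced _ _ _ (.of_hasPullback _ _)
  have key := Groth.Agent.Lib.Helper13.EtGamma.etale_gamma
    (K := AlgebraicClosure ↑(Y.residueField y)) p (IsPullback.of_hasPullback p _)
  rw [hp] at key
  exact key

/-- **Noetherian local statement.** -/
theorem noeth_local {X₀ S₀ : Scheme.{u}} (f₀ : X₀ ⟶ S₀) [IsLocallyNoetherian S₀] [IsProper f₀]
    [Flat f₀] [LocallyOfFinitePresentation f₀] (y₀ : S₀) (hy₀ : y₀ ∈ E f₀) :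
    ∃ V₀ : S₀.Opens, y₀ ∈ V₀ ∧
      ∀ {T X' : Scheme.{u}} [IsAffine T] (g : T ⟶ S₀) (f' : X' ⟶ T) (g' : X' ⟶ X₀),
        IsPullback g' f' f₀ g → Set.range g ⊆ (V₀ : Set S₀) →
          f'.appTop.hom.Etale ∧
          FreeRank (Module.finrank (S₀.residueField y₀) Γ(f₀.fiber y₀, ⊤)) f'.appTop := by
  classical
  have het := etale_fiber_of_mem_E f₀ y₀ hy₀
  have hEo : IsOpen (E f₀) := Groth.Agent.Lib.Helper12.GeomRedOpen.isOpen_E f₀
  obtain ⟨n, hn⟩ : ∃ n : ℕ, n = CohIII.fiberRank f₀ (Coh.structureModule X₀) 0 y₀ := ⟨_, rfl⟩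
  obtain ⟨U₁, hU₁o, hyU₁, hU₁⟩ :=
    Groth.Agent.Lib.Helper13.H0LocConst.exists_open_const_noeth f₀ y₀ het
  obtain ⟨U₂, hyU₂, ⟨φ⟩⟩ := Groth.Agent.Lib.Helper13.CBCEtStalk.exists_free_nhd f₀ y₀ het
  rw [← hn] at φ hU₁
  obtain ⟨e, he⟩ := Groth.Agent.Lib.Helper3.FreeBasis.exists_isBasis_of_iso φ
  rw [← Groth.Agent.Lib.Helper13.H0LocConst.fiberRank_eq_finrank, ← hn]
  obtain ⟨_, ⟨V₀', hV₀, rfl⟩, hyV₀, hV₀sub⟩ := S₀.isBasis_affineOpens.exists_subset_of_mem_open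
    (show y₀ ∈ (E f₀ ∩ U₁ ∩ (U₂ : Set S₀)) from ⟨⟨hy₀, hyU₁⟩, hyU₂⟩)
    ((hEo.inter hU₁o).inter U₂.2)
  obtain ⟨V₀, rfl⟩ : ∃ V₀ : S₀.Opens, V₀ = V₀' := ⟨V₀', rfl⟩
  refine ⟨V₀, hyV₀, ?_⟩
  haveI : IsAffine V₀.toScheme := hV₀
  obtain ⟨f₁, hf₁⟩ : ∃ f₁ : (f₀ ⁻¹ᵁ V₀).toScheme ⟶ V₀.toScheme, f₁ = f₀ ∣_ V₀ := ⟨_, rfl⟩
  have sq₁ : IsPullback (f₀ ⁻¹ᵁ V₀).ι f₁ f₀ V₀.ι := by
    rw [hf₁]; exact (isPullback_morphismRestrict f₀ V₀).flip
  haveI : IsProper f₁ := MorphismProperty.of_isPullback (P := @IsProper) sq₁ inferInstance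
  haveI : Flat f₁ := MorphismProperty.of_isPullback (P := @Flat) sq₁ inferInstance
  haveI : LocallyOfFinitePresentation f₁ :=
    MorphismProperty.of_isPullback (P := @LocallyOfFinitePresentation) sq₁ inferInstance
  haveI : GeometricallyReduced f₁ := by
    refine ⟨geometrically_iff_forall_fiberToSpecResidueField.mpr (fun v => ?_)⟩
    have hv : v ∈ E f₁ := (mem_E_pullback sq₁ v).mpr (hV₀sub v.2).1.1
    exact GeometricallyReduced.geometrically_isReduced (self := hv)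
  haveI : IsLocallyNoetherian V₀.toScheme := inferInstance
  haveI : IsNoetherianRing Γ(V₀.toScheme, ⊤) :=
    IsLocallyNoetherian.component_noetherian ⟨⊤, isAffineOpen_top _⟩
  haveI : Nonempty (⊤ : V₀.toScheme.Opens).toScheme := ⟨⟨⟨y₀, hyV₀⟩, trivial⟩⟩
  haveI : Nontrivial Γ(V₀.toScheme, ⊤) := Scheme.component_nontrivial _ ⊤
  -- freeness
  have hle : V₀.ι ''ᵁ ⊤ ≤ U₂ := by
    rw [V₀.ι_image_top]; exact fun x hx => (hV₀sub hx).2
  have hFR0 : FreeRank n (f₀.app (V₀.ι ''ᵁ ⊤)) :=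
    freeRank_of_isBasisAt f₀ (V₀.ι ''ᵁ ⊤) _ (he (V₀.ι ''ᵁ ⊤) hle)
  have hFR1 : FreeRank n f₁.appTop := by
    rw [hf₁, morphismRestrict_appTop]
    haveI : IsIso (X₀.presheaf.map (eqToHom (image_morphismRestrict_preimage f₀ V₀ ⊤)).op) :=
      inferInstance
    exact (freeRank_comp_isIso (f₀.app (V₀.ι ''ᵁ ⊤))
      (X₀.presheaf.map (eqToHom (image_morphismRestrict_preimage f₀ V₀ ⊤)).op)).mpr hFR0
  obtain ⟨b⟩ := hFR1
  letI alg₁ : Algebra Γ(V₀.toScheme, ⊤) Γ((f₀ ⁻¹ᵁ V₀).toScheme, ⊤) := f₁.appTop.hom.toAlgebra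
  have hfree₁ : Module.Free Γ(V₀.toScheme, ⊤) Γ((f₀ ⁻¹ᵁ V₀).toScheme, ⊤) :=
    Module.Free.of_basis b
  have hrk : Module.finrank Γ(V₀.toScheme, ⊤) Γ((f₀ ⁻¹ᵁ V₀).toScheme, ⊤) = n :=
    (Module.finrank_eq_card_basis b).trans (Fintype.card_fin n)
  have hrank₁ : ∀ v : V₀.toScheme,
      Module.finrank (V₀.toScheme.residueField v) Γ(f₁.fiber v, ⊤) =
        Module.finrank Γ(V₀.toScheme, ⊤) Γ((f₀ ⁻¹ᵁ V₀).toScheme, ⊤) := by
    intro v
    rw [Groth.Agent.Lib.Helper13.CBCUnivG.finrank_fiber_eq_of_isPullback sq₁ v,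
      ← Groth.Agent.Lib.Helper13.H0LocConst.fiberRank_eq_finrank,
      hU₁ (V₀.ι v) (hV₀sub v.2).1.2, hrk]
  obtain ⟨het₁, hpo₁⟩ := main' f₁ hfree₁ hrank₁
  intro T X' _ g f' g' hsq hrange
  have hr1 : Set.range g ⊆ Set.range V₀.ι := by rw [Scheme.Opens.range_ι]; exact hrange
  obtain ⟨g₁, hg₁⟩ : ∃ g₁ : T ⟶ V₀.toScheme, g₁ ≫ V₀.ι = g :=
    ⟨IsOpenImmersion.lift V₀.ι g hr1, IsOpenImmersion.lift_fac _ _ _⟩
  have hr2 : Set.range g' ⊆ Set.range (f₀ ⁻¹ᵁ V₀).ι := by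
    rw [Scheme.Opens.range_ι]
    rintro _ ⟨x, rfl⟩
    show f₀ (g' x) ∈ V₀
    have hx : f₀ (g' x) = g (f' x) := by
      rw [← Scheme.Hom.comp_apply, hsq.w, Scheme.Hom.comp_apply]
    rw [hx]; exact hrange ⟨_, rfl⟩
  obtain ⟨g'₁, hg'₁⟩ : ∃ g'₁ : X' ⟶ (f₀ ⁻¹ᵁ V₀).toScheme, g'₁ ≫ (f₀ ⁻¹ᵁ V₀).ι = g' :=
    ⟨IsOpenImmersion.lift _ g' hr2, IsOpenImmersion.lift_fac _ _ _⟩
  have hw : g'₁ ≫ f₁ = f' ≫ g₁ := by
    rw [← cancel_mono V₀.ι, Category.assoc, Category.assoc, hg₁, ← sq₁.w, ← Category.assoc,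
      hg'₁]
    exact hsq.w
  have sqT : IsPullback g'₁ f' f₁ g₁ := by
    have big : IsPullback (g'₁ ≫ (f₀ ⁻¹ᵁ V₀).ι) f' f₀ (g₁ ≫ V₀.ι) := by
      rw [hg'₁, hg₁]; exact hsq
    exact IsPullback.of_right big hw sq₁
  have hpo := hpo₁ g₁ f' g'₁ sqT
  exact ⟨etale_of_isPushout hpo het₁, FreeRank.of_isPushout hpo ⟨b⟩⟩

end Local

section Final

/-- **The direct image of the structure sheaf is finite étale, free of rank `h⁰(X_s, O)` near
`s`.** -/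
theorem exists_affine_nhd {X S : Scheme.{u}} (f : X ⟶ S) [IsProper f] [Flat f]
    [LocallyOfFinitePresentation f] [GeometricallyReduced f] (s : S) :
    ∃ U : S.Opens, IsAffineOpen U ∧ s ∈ U ∧ (f.app U).hom.Etale ∧
      FreeRank (Module.finrank (S.residueField s) Γ(f.fiber s, ⊤)) (f.app U) := by
  obtain ⟨W, hW, hsW, -⟩ := exists_isAffineOpen_mem_and_subset (x := s) (U := ⊤) trivial
  haveI : IsAffine W.toScheme := hW
  obtain ⟨S₀, X₀, f₀, γ, γ', hS₀a, hS₀n, hsq, hfl, hpr, hfp⟩ :=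
    Groth.Agent.Lib.Helper12.FlatProperApprox.exists_model W hW (f ∣_ W)
  haveI := hfl
  haveI := hpr
  haveI := hS₀n
  haveI := hfp
  haveI : IsLocallyNoetherian S₀ := inferInstance
  have hsq2 : IsPullback (f ⁻¹ᵁ W).ι (f ∣_ W) f W.ι := (isPullback_morphismRestrict f W).flip
  obtain ⟨s', hs'⟩ : ∃ s' : W.toScheme, W.ι s' = s := ⟨⟨s, hsW⟩, rfl⟩
  subst hs'
  have hy₀ : γ s' ∈ E f₀ := by
    rw [← mem_E_pullback hsq s']
    show GeometricallyReduced ((f ∣_ W).fiberToSpecResidueField s')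
    infer_instance
  obtain ⟨V₀, hyV₀, hV₀⟩ := noeth_local f₀ (γ s') hy₀
  obtain ⟨_, ⟨W₂', hW₂, rfl⟩, hsW₂, hW₂sub⟩ :=
    W.toScheme.isBasis_affineOpens.exists_subset_of_mem_open
      (show s' ∈ ((γ ⁻¹ᵁ V₀ : W.toScheme.Opens) : Set W.toScheme) from hyV₀) (γ ⁻¹ᵁ V₀).2
  obtain ⟨W₂, rfl⟩ : ∃ W₂ : W.toScheme.Opens, W₂ = W₂' := ⟨W₂', rfl⟩
  haveI : IsAffine W₂.toScheme := hW₂
  have hsq3 : IsPullback (((f ∣_ W) ⁻¹ᵁ W₂).ι ≫ γ') ((f ∣_ W) ∣_ W₂) f₀ (W₂.ι ≫ γ) :=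
    (isPullback_morphismRestrict (f ∣_ W) W₂).flip.paste_horiz hsq
  have hrange : Set.range (W₂.ι ≫ γ) ⊆ (V₀ : Set S₀) := by
    rintro _ ⟨w, rfl⟩
    rw [Scheme.Hom.comp_apply]
    exact hW₂sub w.2
  obtain ⟨hE, hF⟩ := hV₀ (W₂.ι ≫ γ) ((f ∣_ W) ∣_ W₂) _ hsq3 hrange
  rw [morphismRestrict_appTop] at hE hF
  haveI i1 : IsIso ((f ⁻¹ᵁ W).toScheme.presheaf.map
      (eqToHom (image_morphismRestrict_preimage (f ∣_ W) W₂ ⊤)).op) := inferInstance
  have hE2 : ((f ∣_ W).app (W₂.ι ''ᵁ ⊤)).hom.Etale :=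
    (RingHom.Etale.respectsIso.cancel_right_isIso ((f ∣_ W).app (W₂.ι ''ᵁ ⊤))
      ((f ⁻¹ᵁ W).toScheme.presheaf.map
        (eqToHom (image_morphismRestrict_preimage (f ∣_ W) W₂ ⊤)).op)).mp hE
  have hF2 := (freeRank_comp_isIso ((f ∣_ W).app (W₂.ι ''ᵁ ⊤))
      ((f ⁻¹ᵁ W).toScheme.presheaf.map
        (eqToHom (image_morphismRestrict_preimage (f ∣_ W) W₂ ⊤)).op)).mp hF
  rw [morphismRestrict_app] at hE2 hF2
  haveI i2 : IsIso (X.presheaf.map
      (eqToHom (image_morphismRestrict_preimage f W (W₂.ι ''ᵁ ⊤))).op) := inferInstance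
  have hE3 : (f.app (W.ι ''ᵁ (W₂.ι ''ᵁ ⊤))).hom.Etale :=
    (RingHom.Etale.respectsIso.cancel_right_isIso (f.app (W.ι ''ᵁ (W₂.ι ''ᵁ ⊤)))
      (X.presheaf.map (eqToHom (image_morphismRestrict_preimage f W (W₂.ι ''ᵁ ⊤))).op)).mp hE2
  have hF3 := (freeRank_comp_isIso (f.app (W.ι ''ᵁ (W₂.ι ''ᵁ ⊤)))
      (X.presheaf.map (eqToHom (image_morphismRestrict_preimage f W (W₂.ι ''ᵁ ⊤))).op)).mp hF2
  refine ⟨W.ι ''ᵁ (W₂.ι ''ᵁ ⊤), ?_, ?_, ?_, ?_⟩
  · exact ((isAffineOpen_top W₂.toScheme).image_of_isOpenImmersion W₂.ι).image_of_isOpenImmersion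
      W.ι
  · exact ⟨s', ⟨⟨s', hsW₂⟩, trivial, rfl⟩, rfl⟩
  · exact hE3
  · rw [← Groth.Agent.Lib.Helper13.CBCUnivG.finrank_fiber_eq_of_isPullback hsq2 s',
      Groth.Agent.Lib.Helper13.CBCUnivG.finrank_fiber_eq_of_isPullback hsq s']
    exact hF3

end Final

end Groth.Agent.Lib.Helper13.SteinEtMain
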