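import Groth.Agent.Lib.Helper13.AbVarIsog
import Groth.Agent.Lib.Helper29.IsogFib3
import Groth.Agent.Lib.Helper29.FibHomQF

/-!
# Helper library (helper13): homomorphisms of abelian schemes with equidimensional fibres:
locally quasi-finite iff surjective (fibrewise reduction to `AbVarIsog`).
-/

set_option autoImplicit false
set_option maxHeartbeats 1600000
universe u
open CategoryTheory CategoryTheory.Limits MonoidalCategory CartesianMonoidalCategory MonObj GrpObj
  AlgebraicGeometry

namespace Groth.Agent.Lib.Helper13.AbSchIsog

open Groth.Agent.Lib.Helper29 Groth.Agent.Lib.Helper29.IsogFib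
  Groth.Agent.Lib.Helper29.FibHomSmooth

variable {S : Scheme.{u}} (A B : Over S)
  [GrpObj A] [Smooth A.hom] [IsProper A.hom] [GeometricallyConnected A.hom]
  [GrpObj B] [Smooth B.hom] [IsProper B.hom] [GeometricallyConnected B.hom]
  (f : A ⟶ B) [IsMonHom f]

theorem main18385
    (hdim : ∀ s : S, topologicalKrullDim ↥(A.hom.fiber s) = topologicalKrullDim ↥(B.hom.fiber s)) :
    LocallyQuasiFinite f.left ↔ Surjective f.left := by
  have iA1 : ∀ s : S, Smooth ((Over.pullback (S.fromSpecResidueField s)).obj A).hom := fun s => by
    show Smooth (pullback.snd A.hom (S.fromSpecResidueField s)); infer_instance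
  have iA2 : ∀ s : S, IsProper ((Over.pullback (S.fromSpecResidueField s)).obj A).hom := fun s => by
    show IsProper (pullback.snd A.hom (S.fromSpecResidueField s)); infer_instance
  have iA3 : ∀ s : S, GeometricallyConnected
      ((Over.pullback (S.fromSpecResidueField s)).obj A).hom := fun s => by
    show GeometricallyConnected (pullback.snd A.hom (S.fromSpecResidueField s)); infer_instance
  have iB1 : ∀ s : S, Smooth ((Over.pullback (S.fromSpecResidueField s)).obj B).hom := fun s => by
    show Smooth (pullback.snd B.hom (S.fromSpecResidueField s)); infer_instance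
  have iB2 : ∀ s : S, IsProper ((Over.pullback (S.fromSpecResidueField s)).obj B).hom := fun s => by
    show IsProper (pullback.snd B.hom (S.fromSpecResidueField s)); infer_instance
  have iB3 : ∀ s : S, GeometricallyConnected
      ((Over.pullback (S.fromSpecResidueField s)).obj B).hom := fun s => by
    show GeometricallyConnected (pullback.snd B.hom (S.fromSpecResidueField s)); infer_instance
  have hdim' : ∀ s : S,
      topologicalKrullDim ((Over.pullback (S.fromSpecResidueField s)).obj A).left =
        topologicalKrullDim ((Over.pullback (S.fromSpecResidueField s)).obj B).left :=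
    fun s => hdim s
  constructor
  · intro hf
    refine surjective_of_fibrewise f (fun s => ?_)
    haveI := iA1 s; haveI := iA2 s; haveI := iA3 s
    haveI := iB1 s; haveI := iB2 s; haveI := iB3 s
    haveI : LocallyQuasiFinite ((Over.pullback (S.fromSpecResidueField s)).map f).left :=
      MorphismProperty.of_isPullback (P := @LocallyQuasiFinite)
        (fibre_sq (S.fromSpecResidueField s) f) hf
    exact AbVarIsog.surjective_of_lqf (k := S.residueField s) _ _
      ((Over.pullback (S.fromSpecResidueField s)).map f) (hdim' s)
  · intro hf
    have hw : f.left ≫ B.hom = A.hom := Over.w f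
    haveI : LocallyOfFiniteType (f.left ≫ B.hom) := by rw [hw]; infer_instance
    haveI : LocallyOfFiniteType f.left := locallyOfFiniteType_of_comp f.left B.hom
    have hall : ∀ x : A.left, x ∈ Loc @LocallyQuasiFinite f.left := fun x => by
      apply lqf_mem_Loc_of_fibre
      haveI := iA1 (A.hom x); haveI := iA2 (A.hom x); haveI := iA3 (A.hom x)
      haveI := iB1 (A.hom x); haveI := iB2 (A.hom x); haveI := iB3 (A.hom x)
      haveI : Surjective ((Over.pullback (S.fromSpecResidueField (A.hom x))).map f).left :=
        MorphismProperty.of_isPullback (P := @Surjective)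
          (fibre_sq (S.fromSpecResidueField (A.hom x)) f) hf
      haveI := AbVarIsog.flat_of_surjective (k := S.residueField (A.hom x)) _ _
        ((Over.pullback (S.fromSpecResidueField (A.hom x))).map f)
      exact AbVarIsog.lqf_of_flat (k := S.residueField (A.hom x)) _ _
        ((Over.pullback (S.fromSpecResidueField (A.hom x))).map f) (hdim' (A.hom x))
    choose W hyW hW using hall
    refine IsZariskiLocalAtSource.of_iSup_eq_top (P := @LocallyQuasiFinite) W ?_ hW
    rw [eq_top_iff]
    intro y _
    exact TopologicalSpace.Opens.mem_iSup.mpr ⟨y, hyW y⟩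

end Groth.Agent.Lib.Helper13.AbSchIsog
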