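import Mathlib
import Groth.Agent.Lib.Helper13.AbVarDim
import Groth.Agent.Lib.Helper29.IsogFib
import Groth.Agent.Lib.Helper29.FibHomQF
import Groth.Agent.Lib.Helper6.GrpHomFlat

/-!
# Helper13: homomorphisms of abelian varieties of the same dimension

Over a field, for a homomorphism `f : A ⟶ B` of abelian varieties of the same dimension:
flat ↔ finite ↔ surjective ↔ locally quasi-finite.
-/

set_option autoImplicit false
universe u
open CategoryTheory CategoryTheory.Limits MonoidalCategory CartesianMonoidalCategory MonObj GrpObj
  AlgebraicGeometry

namespace Groth.Agent.Lib.Helper13.AbVarIsog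

open Groth.Agent.Lib.Helper13.AbVarDim Groth.Agent.Lib.Helper29 Groth.Agent.Lib.Helper29.IsogFib
  Groth.Agent.Lib.Helper29.FibHomSmooth

variable {k : Type u} [Field k] (A B : Over (Spec (CommRingCat.of k)))
  [GrpObj A] [Smooth A.hom] [IsProper A.hom] [GeometricallyConnected A.hom]
  [GrpObj B] [Smooth B.hom] [IsProper B.hom] [GeometricallyConnected B.hom]
  (f : A ⟶ B) [IsMonHom f]

include k in
omit [GrpObj A] [IsProper A.hom] in
lemma isIntegral_left : IsIntegral A.left := by
  haveI : ConnectedSpace A.left := GeometricallyConnected.connectedSpace_of_subsingleton A.hom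
  exact isIntegral_of_smooth_connected k A.hom

omit [GrpObj A] [IsProper A.hom] in
lemma dim_left_lt_top : topologicalKrullDim A.left < ⊤ := by
  haveI := isIntegral_left A
  letI : A.left.Over (Spec (CommRingCat.of k)) := ⟨A.hom⟩
  haveI : LocallyOfFiniteType (A.left ↘ Spec (CommRingCat.of k)) :=
    inferInstanceAs (LocallyOfFiniteType A.hom)
  exact dim_lt_top k A.left

omit [IsMonHom f] [GrpObj A] [GrpObj B] [GeometricallyConnected A.hom] [Smooth B.hom]
  [GeometricallyConnected B.hom] in
lemma isProper_left : IsProper f.left := by
  have hw : f.left ≫ B.hom = A.hom := Over.w f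
  haveI : IsProper (f.left ≫ B.hom) := by rw [hw]; infer_instance
  exact IsProper.of_comp f.left B.hom

omit [IsMonHom f] [GrpObj A] [GrpObj B] [GeometricallyConnected A.hom]
  [GeometricallyConnected B.hom] [IsProper A.hom] [IsProper B.hom] in
lemma lft_left : LocallyOfFiniteType f.left := by
  have hw : f.left ≫ B.hom = A.hom := Over.w f
  haveI : LocallyOfFiniteType (f.left ≫ B.hom) := by rw [hw]; infer_instance
  exact locallyOfFiniteType_of_comp f.left B.hom

/-- a locally quasi-finite homomorphism of abelian varieties of the same dimension is
surjective. -/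
theorem surjective_of_lqf (hdim : topologicalKrullDim A.left = topologicalKrullDim B.left)
    [LocallyQuasiFinite f.left] : Surjective f.left := by
  haveI := isIntegral_left A
  haveI := isIntegral_left B
  haveI := isProper_left A B f
  exact ⟨AbVarDim.surjective_of_lqf f.left f.left.isClosedMap hdim (dim_left_lt_top B)⟩

/-- a surjective homomorphism of abelian varieties is flat. -/
theorem flat_of_surjective [Surjective f.left] : Flat f.left := by
  haveI : GeometricallyReduced B.hom := geomRed_of_smooth B.hom
  exact (Groth.Agent.Lib.Helper6.GrpHomFlat.main7800 A B f).1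

/-- a flat homomorphism of abelian varieties is surjective. -/
theorem surjective_of_flat [Flat f.left] : Surjective f.left := by
  haveI := isIntegral_left A
  haveI := isIntegral_left B
  haveI := isProper_left A B f
  haveI := lft_left A B f
  haveI hBn : IsLocallyNoetherian B.left := LocallyOfFiniteType.isLocallyNoetherian B.hom
  haveI hlfp : LocallyOfFinitePresentation f.left := inferInstance
  haveI : UniversallyOpen f.left := inferInstance
  have hopen : IsOpen (Set.range f.left) := f.left.isOpenMap.isOpen_range
  have hclosed : IsClosed (Set.range f.left) := f.left.isClosedMap.isClosed_range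
  have hne : (Set.range f.left).Nonempty :=
    ⟨_, ⟨(Nonempty.some inferInstance : A.left), rfl⟩⟩
  have huniv : Set.range f.left = Set.univ := IsClopen.eq_univ ⟨hclosed, hopen⟩ hne
  exact ⟨Set.range_eq_univ.mp huniv⟩

/-- a flat homomorphism of abelian varieties of the same dimension is locally quasi-finite. -/
theorem lqf_of_flat (hdim : topologicalKrullDim A.left = topologicalKrullDim B.left)
    [Flat f.left] : LocallyQuasiFinite f.left := by
  haveI := isIntegral_left A
  haveI := isIntegral_left B
  haveI := lft_left A B f
  haveI := surjective_of_flat A B f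
  obtain ⟨x, hx⟩ := exists_quasiFiniteAt f.left f.left.surjective hdim (dim_left_lt_top B)
  have hxL : x ∈ Loc @LocallyQuasiFinite f.left := (mem_Loc_lqf_iff f.left x).mpr hx
  have hall : ∀ y : A.left, y ∈ Loc @LocallyQuasiFinite f.left := fun y =>
    Loc_lqf_homog f x y (Subsingleton.elim _ _) hxL
  choose W hyW hW using hall
  refine IsZariskiLocalAtSource.of_iSup_eq_top (P := @LocallyQuasiFinite) W ?_ hW
  rw [eq_top_iff]
  intro y _
  exact TopologicalSpace.Opens.mem_iSup.mpr ⟨y, hyW y⟩

/-- a flat homomorphism of abelian varieties of the same dimension is finite. -/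
theorem finite_of_flat (hdim : topologicalKrullDim A.left = topologicalKrullDim B.left)
    [Flat f.left] : IsFinite f.left := by
  haveI := isIntegral_left A
  haveI := isIntegral_left B
  haveI := lqf_of_flat A B f hdim
  exact (core A B f).1

theorem main17255 (hdim : topologicalKrullDim A.left = topologicalKrullDim B.left) :
    Flat f.left ↔ IsFinite f.left := by
  constructor
  · intro h
    exact finite_of_flat A B f hdim
  · intro h
    haveI := surjective_of_lqf A B f hdim
    exact flat_of_surjective A B f

end Groth.Agent.Lib.Helper13.AbVarIsog
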