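import Mathlib

/-!
# Adjunctions on complexes and on derived categories

An adjunction `L ⊣ G` between additive functors of abelian categories induces an adjunction between
the induced functors on homological complexes; when both functors are exact, it descends to an
adjunction between the induced functors on the derived categories.
-/

set_option autoImplicit false

namespace Groth.Agent.Lib.Helper13.AdjHC

open CategoryTheory CategoryTheory.Limits

universe w w' v v' u u'

variable {A : Type u} [Category.{v} A] [Abelian A] {B : Type u'} [Category.{v'} B] [Abelian B]
  {L : B ⥤ A} {G : A ⥤ B} (adj : L ⊣ G) [L.Additive] [G.Additive]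

/-- The adjunction induced on homological complexes. -/
noncomputable def adjHC {ι : Type*} (c : ComplexShape ι) :
    L.mapHomologicalComplex c ⊣ G.mapHomologicalComplex c :=
  Adjunction.mkOfUnitCounit
    { unit :=
        { app := fun K =>
            { f := fun n => adj.unit.app (K.X n)
              comm' := fun i j _ => (adj.unit.naturality (K.d i j)).symm }
          naturality := fun K K' f => by
            ext n
            exact adj.unit.naturality (f.f n) }
      counit :=
        { app := fun I =>
            { f := fun n => adj.counit.app (I.X n)
              comm' := fun i j _ => (adj.counit.naturality (I.d i j)).symm }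
          naturality := fun I I' f => by
            ext n
            exact adj.counit.naturality (f.f n) }
      left_triangle := by
        ext K n
        simp only [Functor.comp_obj, Functor.id_obj, NatTrans.comp_app, Functor.whiskerRight_app,
          Functor.associator_hom_app, Functor.whiskerLeft_app, Category.id_comp,
          HomologicalComplex.comp_f, Functor.mapHomologicalComplex_map_f, NatTrans.id_app',
          HomologicalComplex.id_f]
        exact adj.left_triangle_components (K.X n)
      right_triangle := by
        ext I n
        simp only [Functor.comp_obj, Functor.id_obj, NatTrans.comp_app, Functor.whiskerRight_app,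
          Functor.associator_inv_app, Functor.whiskerLeft_app, Category.id_comp,
          HomologicalComplex.comp_f, Functor.mapHomologicalComplex_map_f, NatTrans.id_app',
          HomologicalComplex.id_f]
        exact adj.right_triangle_components (I.X n) }

variable [HasDerivedCategory.{w} A] [HasDerivedCategory.{w'} B]
  [PreservesFiniteLimits L] [PreservesFiniteColimits L]
  [PreservesFiniteLimits G] [PreservesFiniteColimits G]

/-- The adjunction induced on derived categories by an adjunction between exact functors. -/
noncomputable def adjD : L.mapDerivedCategory ⊣ G.mapDerivedCategory :=
  letI : CatCommSq (L.mapHomologicalComplex (ComplexShape.up ℤ)) DerivedCategory.Q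
      DerivedCategory.Q L.mapDerivedCategory := ⟨(L.mapDerivedCategoryFactors).symm⟩
  letI : CatCommSq (G.mapHomologicalComplex (ComplexShape.up ℤ)) DerivedCategory.Q
      DerivedCategory.Q G.mapDerivedCategory := ⟨(G.mapDerivedCategoryFactors).symm⟩
  (adjHC adj (ComplexShape.up ℤ)).localization DerivedCategory.Q
    (HomologicalComplex.quasiIso B (ComplexShape.up ℤ)) DerivedCategory.Q
    (HomologicalComplex.quasiIso A (ComplexShape.up ℤ)) L.mapDerivedCategory G.mapDerivedCategory

end Groth.Agent.Lib.Helper13.AdjHC
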