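import Groth.Prelude.Def_SGA4b
import Mathlib.CategoryTheory.Functor.Flat
import Mathlib.CategoryTheory.Sites.Pullback
import Mathlib.CategoryTheory.Limits.FilteredColimitCommutesFiniteLimit
import Mathlib.Algebra.Category.Grp.FilteredColimits

/-!
# Helper13: inverse image of etale sheaves is left exact

Mathlib proves that the left Kan extension along a representably flat functor preserves finite
limits only for small categories in one universe.  The small etale site `X.Etale` has objects in
`Type (u+1)` and morphisms in `Type u`, and sheaves are valued in `Type (u+1)`; we redo the argument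
in general universes and deduce `PreservesFiniteLimits (EtDesc.pullSh f)`.
-/

universe v₁ v₂ v₃ u₁ u₂ u₃ u
open CategoryTheory CategoryTheory.Limits Opposite AlgebraicGeometry

namespace Groth.Agent.Lib.Helper13
namespace FlatPullback

section General

variable {C : Type u₁} [Category.{v₁} C] {D : Type u₂} [Category.{v₂} D] (E : Type u₃) [Category.{v₃} E]

set_option backward.defeqAttrib.useBackward true in
set_option backward.isDefEq.respectTransparency false in
/-- General-universe version of Mathlib's `lanEvaluationIsoColim`. -/
noncomputable def lanEvaluationIsoColim' (F : C ⥤ D) (X : D)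
    [∀ X : D, HasColimitsOfShape (CostructuredArrow F X) E] :
    F.lan ⋙ (evaluation D E).obj X ≅
      (Functor.whiskeringLeft _ _ E).obj (CostructuredArrow.proj F X) ⋙ colim :=
  NatIso.ofComponents (fun G =>
    IsColimit.coconePointUniqueUpToIso
    (Functor.isPointwiseLeftKanExtensionLeftKanExtensionUnit F G X)
    (colimit.isColimit _)) (fun {G₁ G₂} φ => by
      apply (Functor.isPointwiseLeftKanExtensionLeftKanExtensionUnit F G₁ X).hom_ext
      intro T
      have h₁ := fun (G : C ⥤ E) => IsColimit.comp_coconePointUniqueUpToIso_hom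
        (Functor.isPointwiseLeftKanExtensionLeftKanExtensionUnit F G X) (colimit.isColimit _) T
      have h₂ := congr_app (F.lanUnit.naturality φ) T.left
      dsimp at h₁ h₂ ⊢
      simp only [Category.assoc] at h₁ ⊢
      simp only [Functor.lan, Functor.lanUnit] at h₂ ⊢
      rw [reassoc_of% h₁, NatTrans.naturality_assoc, ← reassoc_of% h₂, h₁,
        ι_colimMap, Functor.whiskerLeft_app]
      rfl)

/-- Left Kan extension of presheaves along a representably flat functor is left exact, provided
filtered colimits of the relevant shapes are exact in the target category. -/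
theorem lan_preservesFiniteLimits_of_flat' (F : C ⥤ D) [RepresentablyFlat F] [HasFiniteLimits E]
    [∀ X : Dᵒᵖ, HasColimitsOfShape (CostructuredArrow F.op X) E]
    (hE : ∀ X : Dᵒᵖ, IsFiltered (CostructuredArrow F.op X) →
      PreservesFiniteLimits (colim : (CostructuredArrow F.op X ⥤ E) ⥤ E)) :
    PreservesFiniteLimits (F.op.lan : (Cᵒᵖ ⥤ E) ⥤ Dᵒᵖ ⥤ E) := by
  apply preservesFiniteLimits_of_preservesFiniteLimitsOfSize.{0}
  intro J _ _
  apply preservesLimitsOfShape_of_evaluation (F.op.lan : (Cᵒᵖ ⥤ E) ⥤ Dᵒᵖ ⥤ E) J
  intro K
  have hfil : IsFiltered (CostructuredArrow F.op K) :=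
    IsFiltered.of_equivalence (structuredArrowOpEquivalence F (unop K))
  have := hE K hfil
  exact preservesLimitsOfShape_of_natIso (lanEvaluationIsoColim' E F.op K).symm

end General

section Etale

variable {X Y : Scheme.{u}} (f : X ⟶ Y)

instance lan_bc_preservesFiniteLimits_type :
    PreservesFiniteLimits ((EtCoh.bc f).op.lan : (Y.Etaleᵒᵖ ⥤ Type (u + 1)) ⥤ X.Etaleᵒᵖ ⥤ Type (u + 1)) :=
  lan_preservesFiniteLimits_of_flat' (Type (u + 1)) (EtCoh.bc f) (fun _ _ => inferInstance)

/-- Inverse image of etale sheaves of sets is left exact. -/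
instance pullSh_preservesFiniteLimits : PreservesFiniteLimits (EtDesc.pullSh f) :=
  Functor.sheafPullbackConstruction.preservesFiniteLimits (EtCoh.bc f) (Type (u + 1))
    Y.smallEtaleTopology X.smallEtaleTopology

instance lan_bc_preservesFiniteLimits_ab :
    PreservesFiniteLimits ((EtCoh.bc f).op.lan :
      (Y.Etaleᵒᵖ ⥤ AddCommGrpCat.{u + 1}) ⥤ X.Etaleᵒᵖ ⥤ AddCommGrpCat.{u + 1}) :=
  lan_preservesFiniteLimits_of_flat' AddCommGrpCat.{u + 1} (EtCoh.bc f) (fun _ _ => by
    have : PreservesFilteredColimitsOfSize.{u, u + 1} (forget AddCommGrpCat.{u + 1}) :=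
      preservesFilteredColimitsOfSize_of_univLE.{u + 1, u + 1, u, u + 1} _
    infer_instance)

/-- Inverse image of abelian etale sheaves is left exact (hence exact). -/
instance pull_preservesFiniteLimits : PreservesFiniteLimits (EtCoh.pull f) :=
  Functor.sheafPullbackConstruction.preservesFiniteLimits (EtCoh.bc f) AddCommGrpCat.{u + 1}
    Y.smallEtaleTopology X.smallEtaleTopology

end Etale

end FlatPullback
end Groth.Agent.Lib.Helper13
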