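import Mathlib
import Groth.Prelude.Def_BigSite
import Groth.Prelude.Def_EtBase
import Groth.Agent.Lib.Helper13.FlatPullback
import Groth.Agent.Lib.Helper13.DiscFibLan
import Groth.Agent.Lib.Helper13.DerivedCommute

/-!
# Helper13: the big etale site: exactness, injectives, base change of direct images
-/

set_option autoImplicit false
open CategoryTheory CategoryTheory.Limits AlgebraicGeometry Opposite

namespace Groth.Agent.Lib.Helper13.BigEtale

universe v u

section General

variable {C : Type u} [Category.{v} C] [HasPullbacks C]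
  {T S T' S' : C} {f : T ⟶ S} {g : S' ⟶ S} {g' : T' ⟶ T} {f' : T' ⟶ S'}

theorem isPullback_paste (c : IsPullback g' f' f g) (V : Over S') :
    IsPullback (pullback.fst V.hom f') (pullback.snd V.hom f' ≫ g') (V.hom ≫ g) f :=
  (IsPullback.of_hasPullback V.hom f').paste_vert c.flip

/-- The comparison of the two fibre products. -/
noncomputable def compIso (c : IsPullback g' f' f g) (V : Over S') :
    pullback (V.hom ≫ g) f ≅ pullback V.hom f' :=
  (isPullback_paste c V).isoPullback.symm

@[reassoc]
lemma compIso_hom_fst (c : IsPullback g' f' f g) (V : Over S') :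
    (compIso c V).hom ≫ pullback.fst V.hom f' = pullback.fst (V.hom ≫ g) f :=
  (isPullback_paste c V).isoPullback_inv_fst

@[reassoc]
lemma compIso_hom_snd (c : IsPullback g' f' f g) (V : Over S') :
    (compIso c V).hom ≫ pullback.snd V.hom f' ≫ g' = pullback.snd (V.hom ≫ g) f :=
  (isPullback_paste c V).isoPullback_inv_snd

lemma compIso_natural (c : IsPullback g' f' f g) {V V' : Over S'} (φ : V ⟶ V')
    (w1 : (pullback.fst (V.hom ≫ g) f ≫ φ.left) ≫ (V'.hom ≫ g) = pullback.snd (V.hom ≫ g) f ≫ f)
    (w2 : (pullback.fst V.hom f' ≫ φ.left) ≫ V'.hom = pullback.snd V.hom f' ≫ f') :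
    pullback.lift (pullback.fst (V.hom ≫ g) f ≫ φ.left) (pullback.snd (V.hom ≫ g) f) w1 ≫
        (compIso c V').hom =
      (compIso c V).hom ≫ pullback.lift (pullback.fst V.hom f' ≫ φ.left) (pullback.snd V.hom f') w2 := by
  apply (isPullback_paste c V').hom_ext
  · rw [Category.assoc, compIso_hom_fst, pullback.lift_fst, Category.assoc, pullback.lift_fst,
      compIso_hom_fst_assoc]
  · rw [Category.assoc, compIso_hom_snd, pullback.lift_snd, Category.assoc,
      pullback.lift_snd_assoc, compIso_hom_snd]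

/-- Base change in slices: for a cartesian square, `V ↦ V ×_S T` is `V ↦ V ×_{S'} T'`. -/
noncomputable def overMapPullbackIso (c : IsPullback g' f' f g) :
    Over.map g ⋙ Over.pullback f ≅ Over.pullback f' ⋙ Over.map g' :=
  NatIso.ofComponents
    (fun V => Over.isoMk (compIso c V) (compIso_hom_snd c V))
    (by
      intro V V' φ
      ext
      exact compIso_natural c φ _ _)

end General

section Big

variable (K : Precoverage Scheme.{u}) {T S T' S' : Scheme.{u}} {f : T ⟶ S} {g : S' ⟶ S}
  {g' : T' ⟶ T} {f' : T' ⟶ S'}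

/-- Underived base change for the big sites: `g_big⁻¹ f_big,* ≅ f'_big,* g'_big⁻¹`. -/
noncomputable def pushBigPullBigIso (c : IsPullback g' f' f g)
    (A : Type*) [Category A] :
    BigSite.pushBig K f A ⋙ BigSite.pullBig K g A ≅
      BigSite.pullBig K g' A ⋙ BigSite.pushBig K f' A := by
  haveI : (Over.map g ⋙ Over.pullback f).IsContinuous (QuotSh.J K S') (QuotSh.J K T) :=
    Functor.isContinuous_comp _ _ _ (QuotSh.J K S) _
  haveI : (Over.pullback f' ⋙ Over.map g').IsContinuous (QuotSh.J K S') (QuotSh.J K T) :=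
    Functor.isContinuous_comp _ _ _ (QuotSh.J K T') _
  exact Functor.sheafPushforwardContinuousComp' (overMapPullbackIso c) A
    (QuotSh.J K S') (QuotSh.J K S) (QuotSh.J K T) ≪≫
    (Functor.sheafPushforwardContinuousComp (Over.pullback f') (Over.map g') A
      (QuotSh.J K S') (QuotSh.J K T') (QuotSh.J K T)).symm

instance pullBig_preservesLimits {T S : Scheme.{u}} (f : T ⟶ S) :
    PreservesLimits (BigSite.pullBig K f AddCommGrpCat.{u + 1}) :=
  (BigSite.shriekAbAdj K f).rightAdjoint_preservesLimits

instance pullBig_preservesColimits {T S : Scheme.{u}} (f : T ⟶ S) :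
    PreservesColimits (BigSite.pullBig K f AddCommGrpCat.{u + 1}) :=
  (BigSite.bigAdj K f AddCommGrpCat.{u + 1}).leftAdjoint_preservesColimits

open Groth.Agent.Lib.Helper13.DiscFibLan in
/-- `f_big!` on abelian sheaves is left exact (for every precoverage). -/
instance shriekAb_preservesFiniteLimits {X Y : Scheme.{u}} (f : X ⟶ Y) :
    PreservesFiniteLimits (BigSite.shriekAb K f) := by
  have ab4 : AB4OfSize.{u} AddCommGrpCat.{u + 1} := AB4OfSize_shrink.{u, u + 1} AddCommGrpCat.{u + 1}
  have : ∀ W : Over Y,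
      HasExactColimitsOfShape (Discrete (localDataOverMap f W).α) AddCommGrpCat.{u + 1} :=
    fun W => inferInstance
  have h1 : PreservesFiniteLimits ((Over.map f).op.lan :
      ((Over X)ᵒᵖ ⥤ AddCommGrpCat.{u + 1}) ⥤ (Over Y)ᵒᵖ ⥤ AddCommGrpCat.{u + 1}) :=
    lan_preservesFiniteLimits AddCommGrpCat.{u + 1} (Over.map f) (localDataOverMap f)
  exact sheafPullback_preservesFiniteLimits AddCommGrpCat.{u + 1} (Over.map f)
    (QuotSh.J K X) (QuotSh.J K Y)

/-- `f_big⁻¹` preserves injective abelian sheaves. -/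
theorem injective_pullBig {T S : Scheme.{u}} (f : T ⟶ S) (I : BigSite.Ab K S) (hI : Injective I) :
    Injective ((BigSite.pullBig K f AddCommGrpCat.{u + 1}).obj I) :=
  Injective.injective_of_adjoint (BigSite.shriekAbAdj K f) I

end Big

section Etale

open Groth.Agent.Lib.Helper13.FlatPullback in
/-- `π_T⁻¹` (pullback from the small etale site to the big etale site) is left exact. -/
instance piEtPull_preservesFiniteLimits (T : Scheme.{u}) :
    PreservesFiniteLimits (BigSite.piEtPull Scheme.etalePrecoverage T) := by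
  have h0 : PreservesFiniteLimits (EtFppf.a T) :=
    inferInstanceAs (PreservesFiniteLimits (Scheme.Etale.forget T))
  have h1 : RepresentablyFlat (EtFppf.a T) := flat_of_preservesFiniteLimits _
  have h2 : PreservesFiniteLimits ((EtFppf.a T).op.lan :
      (T.Etaleᵒᵖ ⥤ AddCommGrpCat.{u + 1}) ⥤ (Over T)ᵒᵖ ⥤ AddCommGrpCat.{u + 1}) :=
    lan_preservesFiniteLimits_of_flat' AddCommGrpCat.{u + 1} (EtFppf.a T) (fun _ _ => by
      have : PreservesFilteredColimitsOfSize.{u, u + 1} (forget AddCommGrpCat.{u + 1}) :=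
        preservesFilteredColimitsOfSize_of_univLE.{u + 1, u + 1, u, u + 1} _
      infer_instance)
  exact Functor.sheafPullbackConstruction.preservesFiniteLimits (EtFppf.a T) AddCommGrpCat.{u + 1}
    T.smallEtaleTopology (QuotSh.J Scheme.etalePrecoverage T)

theorem injective_resEt (T : Scheme.{u}) (I : BigSite.Ab Scheme.etalePrecoverage T)
    (hI : Injective I) :
    Injective ((BigSite.resEt Scheme.etalePrecoverage T).obj I) :=
  Injective.injective_of_adjoint (BigSite.piEtAdj Scheme.etalePrecoverage T) I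

instance resEt_preservesLimits (T : Scheme.{u}) :
    PreservesLimits (BigSite.resEt Scheme.etalePrecoverage T) :=
  (BigSite.piEtAdj Scheme.etalePrecoverage T).rightAdjoint_preservesLimits

instance resEt_preservesColimits (T : Scheme.{u}) :
    PreservesColimits (BigSite.resEt Scheme.etalePrecoverage T) :=
  (BigSite.iEtAdj Scheme.etalePrecoverage T).leftAdjoint_preservesColimits

theorem injective_resEtAlong {T S : Scheme.{u}} (f : T ⟶ S)
    (I : BigSite.Ab Scheme.etalePrecoverage S) (hI : Injective I) :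
    Injective ((BigSite.resEtAlong Scheme.etalePrecoverage f).obj I) :=
  injective_resEt T _ (injective_pullBig _ f I hI)

variable {T S T' S' : Scheme.{u}} {f : T ⟶ S} {g : S' ⟶ S} {g' : T' ⟶ T} {f' : T' ⟶ S'}

set_option backward.isDefEq.respectTransparency.types false in
/-- The functor-level comparison behind `i_g⁻¹ f_big,* ≅ f'_small,* i_{g'}⁻¹`. -/
noncomputable def etaleBaseChangeFunctorIso (c : IsPullback g' f' f g) :
    (EtFppf.a S' ⋙ Over.map g) ⋙ Over.pullback f ≅ (EtCoh.bc f' ⋙ EtFppf.a T') ⋙ Over.map g' :=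
  Functor.associator _ _ _ ≪≫ Functor.isoWhiskerLeft (EtFppf.a S') (overMapPullbackIso c) ≪≫
    (Functor.associator _ _ _).symm ≪≫
    Functor.isoWhiskerRight
      ((MorphismProperty.Over.pullbackCompForgetIso (P := EtCoh.etaleMP) (Q := ⊤) f').symm :
        EtFppf.a S' ⋙ Over.pullback f' ≅ EtCoh.bc f' ⋙ EtFppf.a T') (Over.map g')

/-- Underived base change: `i_g⁻¹ f_big,* ≅ f'_small,* i_{g'}⁻¹` on the big etale site. -/
noncomputable def pushBigResEtAlongIso (c : IsPullback g' f' f g) :
    BigSite.pushBig Scheme.etalePrecoverage f AddCommGrpCat.{u + 1} ⋙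
        BigSite.resEtAlong Scheme.etalePrecoverage g ≅
      BigSite.resEtAlong Scheme.etalePrecoverage g' ⋙ EtCoh.push f' := by
  haveI h1 : (EtFppf.a S' ⋙ Over.map g).IsContinuous S'.smallEtaleTopology
      (QuotSh.J Scheme.etalePrecoverage S) :=
    Functor.isContinuous_comp _ _ _ (QuotSh.J Scheme.etalePrecoverage S') _
  haveI h2 : ((EtFppf.a S' ⋙ Over.map g) ⋙ Over.pullback f).IsContinuous S'.smallEtaleTopology
      (QuotSh.J Scheme.etalePrecoverage T) :=
    Functor.isContinuous_comp _ _ _ (QuotSh.J Scheme.etalePrecoverage S) _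
  haveI h3 : (EtCoh.bc f' ⋙ EtFppf.a T').IsContinuous S'.smallEtaleTopology
      (QuotSh.J Scheme.etalePrecoverage T') :=
    Functor.isContinuous_comp _ _ _ T'.smallEtaleTopology _
  haveI h4 : ((EtCoh.bc f' ⋙ EtFppf.a T') ⋙ Over.map g').IsContinuous S'.smallEtaleTopology
      (QuotSh.J Scheme.etalePrecoverage T) :=
    Functor.isContinuous_comp _ _ _ (QuotSh.J Scheme.etalePrecoverage T') _
  exact (Iso.refl _ : _ ≅ ((EtFppf.a S' ⋙ Over.map g) ⋙ Over.pullback f).sheafPushforwardContinuous
      AddCommGrpCat.{u + 1} S'.smallEtaleTopology (QuotSh.J Scheme.etalePrecoverage T)) ≪≫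
    Functor.sheafPushforwardContinuousIso (etaleBaseChangeFunctorIso c) AddCommGrpCat.{u + 1}
      S'.smallEtaleTopology (QuotSh.J Scheme.etalePrecoverage T) ≪≫
    (Iso.refl _ : ((EtCoh.bc f' ⋙ EtFppf.a T') ⋙ Over.map g').sheafPushforwardContinuous
      AddCommGrpCat.{u + 1} S'.smallEtaleTopology (QuotSh.J Scheme.etalePrecoverage T) ≅ _)

end Etale

end Groth.Agent.Lib.Helper13.BigEtale
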