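import Mathlib
import Groth.Prelude.Def_BigSite
import Groth.Prelude.Def_EtBase
import Groth.Prelude.Def_EtCore
import Groth.Agent.Lib.Helper13.BigEtale
import Groth.Agent.Lib.Helper13.ExtAdj

/-!
# Helper13: cohomology of the big etale site vs the small etale site

* `constIso T`: `π_T⁻¹` of a constant sheaf is the constant sheaf.
* `HBigEquiv T G n : H^n(T_big, G) ≃+ H^n(T_et, G|_{T_et})`.
* `pushBigResEtIso f : f_big,* ⋙ res_S ≅ res_T ⋙ f_small,*`.
* `resPullPiIso f : (π_S⁻¹ F)|_{T_et} ≅ f_small⁻¹ F` (natural in `F`).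
-/

set_option autoImplicit false
open CategoryTheory CategoryTheory.Limits AlgebraicGeometry Opposite CategoryTheory.Abelian

namespace Groth.Agent.Lib.Helper13.BigSmallCoh

open Groth.Agent.Lib.Helper13.BigEtale Groth.Agent.Lib.Helper13.ExtAdj

universe u

section Const

variable (T : Scheme.{u})

/-- Sections over the terminal object: big site vs small site. -/
noncomputable def sectionsIso :
    (sheafSections (QuotSh.J Scheme.etalePrecoverage T) AddCommGrpCat.{u + 1}).obj
        (op (Over.mk (𝟙 T))) ≅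
      BigSite.resEt Scheme.etalePrecoverage T ⋙
        (sheafSections T.smallEtaleTopology AddCommGrpCat.{u + 1}).obj (op (EtCoh.top T)) :=
  NatIso.ofComponents (fun _ => Iso.refl _) (by
    intro F G φ
    rfl)

/-- `π_T⁻¹` of a constant sheaf is the constant sheaf. -/
noncomputable def constIso :
    constantSheaf T.smallEtaleTopology AddCommGrpCat.{u + 1} ⋙
        BigSite.piEtPull Scheme.etalePrecoverage T ≅
      constantSheaf (QuotSh.J Scheme.etalePrecoverage T) AddCommGrpCat.{u + 1} :=
  ((constantSheafAdj T.smallEtaleTopology AddCommGrpCat.{u + 1} (EtCore.topIsTerminal T)).comp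
      (BigSite.piEtAdj Scheme.etalePrecoverage T)).leftAdjointUniq
    ((constantSheafAdj (QuotSh.J Scheme.etalePrecoverage T) AddCommGrpCat.{u + 1}
      Over.mkIdTerminal).ofNatIsoRight (sectionsIso T))

/-- `H^n(T_big, G) ≃+ H^n(T_et, G|_{T_et})`. -/
noncomputable def HBigEquiv (G : BigSite.Ab Scheme.etalePrecoverage T) (n : ℕ) :
    BigSite.H Scheme.etalePrecoverage T G n ≃+
      EtCoh.H T ((BigSite.resEt Scheme.etalePrecoverage T).obj G) n :=
  (extIsoLeft ((constIso T).app (AddCommGrpCat.of (ULift ℤ))) G n).trans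
    (extAdjEquiv (BigSite.piEtAdj Scheme.etalePrecoverage T)
      (fun I hI => injective_resEt T I hI) _ G n)

end Const

section Pull

variable {T S : Scheme.{u}} (f : T ⟶ S)

set_option backward.isDefEq.respectTransparency.types false in
/-- Base change of etale schemes, viewed in the big site. -/
noncomputable def aPullbackIso : EtFppf.a S ⋙ Over.pullback f ≅ EtCoh.bc f ⋙ EtFppf.a T :=
  (MorphismProperty.Over.pullbackCompForgetIso (P := EtCoh.etaleMP) (Q := ⊤) f).symm

/-- `f_big,* ⋙ res_S ≅ res_T ⋙ f_small,*`. -/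
noncomputable def pushBigResEtIso :
    BigSite.pushBig Scheme.etalePrecoverage f AddCommGrpCat.{u + 1} ⋙
        BigSite.resEt Scheme.etalePrecoverage S ≅
      BigSite.resEt Scheme.etalePrecoverage T ⋙ EtCoh.push f := by
  haveI h1 : (EtFppf.a S ⋙ Over.pullback f).IsContinuous S.smallEtaleTopology
      (QuotSh.J Scheme.etalePrecoverage T) :=
    Functor.isContinuous_comp _ _ _ (QuotSh.J Scheme.etalePrecoverage S) _
  haveI h2 : (EtCoh.bc f ⋙ EtFppf.a T).IsContinuous S.smallEtaleTopology
      (QuotSh.J Scheme.etalePrecoverage T) :=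
    Functor.isContinuous_comp _ _ _ T.smallEtaleTopology _
  exact (Iso.refl _ : _ ≅ (EtFppf.a S ⋙ Over.pullback f).sheafPushforwardContinuous
      AddCommGrpCat.{u + 1} S.smallEtaleTopology (QuotSh.J Scheme.etalePrecoverage T)) ≪≫
    Functor.sheafPushforwardContinuousIso (aPullbackIso f) AddCommGrpCat.{u + 1}
      S.smallEtaleTopology (QuotSh.J Scheme.etalePrecoverage T) ≪≫
    (Iso.refl _ : (EtCoh.bc f ⋙ EtFppf.a T).sheafPushforwardContinuous
      AddCommGrpCat.{u + 1} S.smallEtaleTopology (QuotSh.J Scheme.etalePrecoverage T) ≅ _)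

/-- The counit `(i_{T,*} G)|_{T_et} ⟶ G` is an isomorphism. -/
instance isIso_iEtAdj_counit_app (G : EtCoh.Ab T) :
    IsIso ((BigSite.iEtAdj Scheme.etalePrecoverage T).counit.app G) := by
  have : (EtFppf.a T).Full := inferInstanceAs (Scheme.Etale.forget T).Full
  have : (EtFppf.a T).Faithful := inferInstanceAs (Scheme.Etale.forget T).Faithful
  have h4 : IsIso (((EtFppf.a T).op.ranAdjunction AddCommGrpCat.{u + 1}).counit.app G.obj) :=
    inferInstance
  have h : IsIso ((sheafToPresheaf _ _).map
      ((BigSite.iEtAdj Scheme.etalePrecoverage T).counit.app G)) := by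
    change IsIso ((BigSite.iEtAdj Scheme.etalePrecoverage T).counit.app G).hom
    rw [Functor.sheafAdjunctionCocontinuous_counit_app_hom]
    exact h4
  exact isIso_of_reflects_iso _ (sheafToPresheaf _ _)

instance isIso_iEtAdj_counit : IsIso (BigSite.iEtAdj Scheme.etalePrecoverage T).counit :=
  NatIso.isIso_of_isIso_app _

/-- `(π_S⁻¹ F)|_{T_et} ≅ f_small⁻¹ F`, naturally in `F`. -/
noncomputable def resPullPiIso :
    (BigSite.piEtPull Scheme.etalePrecoverage S ⋙
        BigSite.pullBig Scheme.etalePrecoverage f AddCommGrpCat.{u + 1}) ⋙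
      BigSite.resEt Scheme.etalePrecoverage T ≅ EtCoh.pull f :=
  ((((BigSite.piEtAdj Scheme.etalePrecoverage S).comp
      (BigSite.bigAdj Scheme.etalePrecoverage f AddCommGrpCat.{u + 1})).comp
      (BigSite.iEtAdj Scheme.etalePrecoverage T)).ofNatIsoRight
    (Functor.isoWhiskerLeft _ (pushBigResEtIso f) ≪≫ (Functor.associator _ _ _).symm ≪≫
      Functor.isoWhiskerRight (asIso (BigSite.iEtAdj Scheme.etalePrecoverage T).counit)
        (EtCoh.push f) ≪≫ Functor.leftUnitor _)).leftAdjointUniq (EtCoh.pullPushAdj f)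

end Pull

end Groth.Agent.Lib.Helper13.BigSmallCoh
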