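import Mathlib
import Groth.Prelude
import Groth.Agent.Lib.Helper13.Rigid
import Groth.Agent.Lib.Helper13.ZariskiConn
import Groth.Agent.Lib.Helper17.PushIso

/-!
# Factoring through a closed surjection `π` with `π_* O = O`

* `hom_ext_of_surjective_of_injective`: a surjective morphism with injective comorphisms is an
  epimorphism of schemes.
* `exists_factor`: if `π : P ⟶ Q` is a closed surjection with `O_Q(V) ≅ O_P(π⁻¹V)` for all opens and
  `φ : P ⟶ Y` is constant on the fibres of `π`, then `φ` factors through `π` (EGA II 8.11.1).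
* `isIso_app_of_flat_isPullback`: the condition `O_Y(V) ≅ O_X(f⁻¹V)` for all `V` is stable under flat
  base change (for `f` quasi-compact quasi-separated).
-/

set_option autoImplicit false
set_option linter.style.haveILetI false
universe u
open CategoryTheory CategoryTheory.Limits AlgebraicGeometry TopologicalSpace

namespace Groth.Agent.Lib.Helper13.SteinFac

variable {P Q Y : Scheme.{u}}

lemma injective_of_eq_comp {A B C : CommRingCat.{u}} {f : A ⟶ C} {g : A ⟶ B} {e : B ⟶ C}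
    (he : IsIso e) (h : f = g ≫ e) (hg : Function.Injective g.hom) :
    Function.Injective f.hom := by
  subst h
  rw [CommRingCat.hom_comp, RingHom.coe_comp]
  exact (ConcreteCategory.bijective_of_isIso e).1.comp hg

lemma isIso_of_eq_comp {A B C : CommRingCat.{u}} {f : A ⟶ C} {g : A ⟶ B} {e : B ⟶ C}
    (he : IsIso e) (hg : IsIso g) (h : f = g ≫ e) : IsIso f := by
  subst h
  infer_instance

lemma injective_app_morphismRestrict (ρ : P ⟶ Q)
    (hinj : ∀ V : Q.Opens, Function.Injective (ρ.app V).hom) (V : Q.Opens)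
    (V' : (V : Scheme.{u}).Opens) :
    Function.Injective ((ρ ∣_ V).app V').hom := by
  have he : IsIso (P.presheaf.map (eqToHom (image_morphismRestrict_preimage ρ V V')).op) :=
    inferInstance
  exact injective_of_eq_comp (A := Γ(Q, V.ι ''ᵁ V'))
    (e := P.presheaf.map (eqToHom (image_morphismRestrict_preimage ρ V V')).op) he
    (morphismRestrict_app ρ V V') (hinj _)

lemma injective_appTop_morphismRestrict (ρ : P ⟶ Q)
    (hinj : ∀ V : Q.Opens, Function.Injective (ρ.app V).hom) (V : Q.Opens) :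
    Function.Injective (ρ ∣_ V).appTop.hom :=
  injective_app_morphismRestrict ρ hinj V ⊤

lemma bijective_appTop_morphismRestrict (ρ : P ⟶ Q)
    (hiso : ∀ V : Q.Opens, IsIso (ρ.app V)) (V : Q.Opens) :
    Function.Bijective (ρ ∣_ V).appTop.hom := by
  haveI := hiso (V.ι ''ᵁ ⊤)
  have he : IsIso (P.presheaf.map (eqToHom (image_morphismRestrict_preimage ρ V ⊤)).op) :=
    inferInstance
  have h : IsIso (ρ ∣_ V).appTop :=
    isIso_of_eq_comp (A := Γ(Q, V.ι ''ᵁ ⊤))
      (e := P.presheaf.map (eqToHom (image_morphismRestrict_preimage ρ V ⊤)).op) he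
      (hiso (V.ι ''ᵁ ⊤)) (morphismRestrict_appTop ρ V)
  exact ConcreteCategory.bijective_of_isIso (ρ ∣_ V).appTop

lemma surjective_morphismRestrict (ρ : P ⟶ Q) [Surjective ρ] (V : Q.Opens) :
    Surjective (ρ ∣_ V) :=
  MorphismProperty.of_isPullback (P := @Surjective) (isPullback_morphismRestrict ρ V).flip
    inferInstance

/-- a surjective morphism with injective comorphisms is an epimorphism. -/
theorem hom_ext_of_surjective_of_injective (ρ : P ⟶ Q) [Surjective ρ]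
    (hinj : ∀ V : Q.Opens, Function.Injective (ρ.app V).hom) (r₁ r₂ : Q ⟶ Y)
    (h : ρ ≫ r₁ = ρ ≫ r₂) : r₁ = r₂ := by
  have hbase : ∀ x : Q, r₁.base x = r₂.base x := by
    intro x
    obtain ⟨p, rfl⟩ := ρ.surjective x
    have h1 := congrArg (fun φ : P ⟶ Y => φ.base p) h
    simpa only [Scheme.Hom.comp_base, TopCat.hom_comp, ContinuousMap.comp_apply] using h1
  apply Scheme.hom_ext_of_forall
  intro x
  obtain ⟨U, hU, hxU, -⟩ := exists_isAffineOpen_mem_and_subset (x := r₁.base x) (U := ⊤) trivial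
  refine ⟨r₁ ⁻¹ᵁ U, hxU, ?_⟩
  haveI : IsAffine (U : Scheme.{u}) := hU
  have hr1 : Set.range ((r₁ ⁻¹ᵁ U).ι ≫ r₁).base ⊆ Set.range U.ι.base := by
    rintro _ ⟨z, rfl⟩
    rw [Scheme.Opens.range_ι]
    exact z.2
  have hr2 : Set.range ((r₁ ⁻¹ᵁ U).ι ≫ r₂).base ⊆ Set.range U.ι.base := by
    rintro _ ⟨z, rfl⟩
    rw [Scheme.Opens.range_ι]
    show r₂.base z.1 ∈ U
    rw [← hbase]
    exact z.2
  have hl₁ : IsOpenImmersion.lift U.ι _ hr1 ≫ U.ι = (r₁ ⁻¹ᵁ U).ι ≫ r₁ :=
    IsOpenImmersion.lift_fac _ _ _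
  have hl₂ : IsOpenImmersion.lift U.ι _ hr2 ≫ U.ι = (r₁ ⁻¹ᵁ U).ι ≫ r₂ :=
    IsOpenImmersion.lift_fac _ _ _
  suffices hs : IsOpenImmersion.lift U.ι _ hr1 = IsOpenImmersion.lift U.ι _ hr2 by
    rw [← hl₁, ← hl₂, hs]
  apply ext_of_isAffine
  have h3 : (ρ ∣_ (r₁ ⁻¹ᵁ U)) ≫ IsOpenImmersion.lift U.ι _ hr1 =
      (ρ ∣_ (r₁ ⁻¹ᵁ U)) ≫ IsOpenImmersion.lift U.ι _ hr2 := by
    rw [← cancel_mono U.ι, Category.assoc, Category.assoc, hl₁, hl₂, ← Category.assoc,
      ← Category.assoc, morphismRestrict_ι, Category.assoc, Category.assoc, h]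
  have h4 : (IsOpenImmersion.lift U.ι _ hr1).appTop ≫ (ρ ∣_ (r₁ ⁻¹ᵁ U)).appTop =
      (IsOpenImmersion.lift U.ι _ hr2).appTop ≫ (ρ ∣_ (r₁ ⁻¹ᵁ U)).appTop := by
    rw [← Scheme.Hom.comp_appTop, ← Scheme.Hom.comp_appTop, h3]
  have hinj' := injective_appTop_morphismRestrict ρ hinj (r₁ ⁻¹ᵁ U)
  ext s
  apply hinj'
  exact congrArg (fun φ => φ.hom s) h4

/-- `O_Q(V) → O_P(π⁻¹V)` injective and `π` closed imply `π` surjective. -/
theorem surjective_of_injective_app (π : P ⟶ Q) (hcl : IsClosedMap π.base)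
    (hinj : ∀ V : Q.Opens, Function.Injective (π.app V).hom) : Surjective π := by
  refine ⟨fun x => ?_⟩
  by_contra hx
  have hC : IsClosed (Set.range π.base) := by
    rw [← Set.image_univ]
    exact hcl _ isClosed_univ
  let V : Q.Opens := ⟨(Set.range π.base)ᶜ, hC.isOpen_compl⟩
  have hxV : x ∈ V := hx
  have hpre : π ⁻¹ᵁ V = ⊥ := by
    ext p
    simp only [Opens.coe_bot, Set.mem_empty_iff_false, iff_false]
    intro hp
    exact hp ⟨p, rfl⟩
  have hsub : Subsingleton Γ(P, π ⁻¹ᵁ V) := by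
    rw [hpre]
    infer_instance
  have hsubV : Subsingleton Γ(Q, V) := (hinj V).subsingleton
  have h10 : (1 : Γ(Q, V)) = 0 := Subsingleton.elim _ _
  have h2 := congrArg (fun s => (Q.presheaf.germ V x hxV).hom s) h10
  simp only [map_one, map_zero] at h2
  exact one_ne_zero h2

theorem exists_local_factor (π : P ⟶ Q) (hcl : IsClosedMap π.base)
    (hπ : ∀ V : Q.Opens, IsIso (π.app V)) (φ : P ⟶ Y)
    (hφ : ∀ p q : P, π.base p = π.base q → φ.base p = φ.base q) (p₀ : P) :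
    ∃ (W : Q.Opens) (_ : π.base p₀ ∈ W) (t : (W : Scheme.{u}) ⟶ Y),
      ∀ {Z : Scheme.{u}} (a : Z ⟶ P) (b : Z ⟶ (W : Scheme.{u})),
        a ≫ π = b ≫ W.ι → a ≫ φ = b ≫ t := by
  obtain ⟨U, hU, hyU, -⟩ := exists_isAffineOpen_mem_and_subset (x := φ.base p₀) (U := ⊤) trivial
  have hcl' : IsClosed (π.base '' ((φ ⁻¹ᵁ U : Set P)ᶜ)) :=
    hcl _ (φ ⁻¹ᵁ U).isOpen.isClosed_compl
  let W : Q.Opens := ⟨(π.base '' ((φ ⁻¹ᵁ U : Set P)ᶜ))ᶜ, hcl'.isOpen_compl⟩
  have hW0 : π.base p₀ ∈ W := by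
    rintro ⟨x, hx, hxe⟩
    apply hx
    show φ.base x ∈ U
    rw [hφ x p₀ hxe]
    exact hyU
  have hsub : ∀ x : P, π.base x ∈ W → φ.base x ∈ U := by
    intro x hx
    by_contra hxU
    exact hx ⟨x, hxU, rfl⟩
  haveI : IsAffine (U : Scheme.{u}) := hU
  have hrange : Set.range ((π ⁻¹ᵁ W).ι ≫ φ).base ⊆ Set.range U.ι.base := by
    rintro _ ⟨z, rfl⟩
    rw [Scheme.Opens.range_ι]
    exact hsub z.1 z.2
  have hbij := bijective_appTop_morphismRestrict π hπ W
  obtain ⟨t', ht'⟩ := Rigid.exists_factor_of_bijective_appTop (π ∣_ W) hbij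
    (IsOpenImmersion.lift U.ι ((π ⁻¹ᵁ W).ι ≫ φ) hrange)
  refine ⟨W, hW0, t' ≫ U.ι, fun {Z} a b hab => ?_⟩
  have h1 : (π ∣_ W) ≫ t' ≫ U.ι = (π ⁻¹ᵁ W).ι ≫ φ := by
    rw [← Category.assoc, ht', IsOpenImmersion.lift_fac]
  have hra : Set.range a.base ⊆ Set.range (π ⁻¹ᵁ W).ι.base := by
    rintro _ ⟨z, rfl⟩
    rw [Scheme.Opens.range_ι]
    show π.base (a.base z) ∈ W
    have h2 : π.base (a.base z) = W.ι.base (b.base z) := by
      have h3 := congrArg (fun ψ : Z ⟶ Q => ψ.base z) hab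
      simpa only [Scheme.Hom.comp_base, TopCat.hom_comp, ContinuousMap.comp_apply] using h3
    rw [h2]
    exact (b.base z).2
  have ha' : IsOpenImmersion.lift (π ⁻¹ᵁ W).ι a hra ≫ (π ⁻¹ᵁ W).ι = a :=
    IsOpenImmersion.lift_fac _ _ _
  have hb : IsOpenImmersion.lift (π ⁻¹ᵁ W).ι a hra ≫ (π ∣_ W) = b := by
    rw [← cancel_mono W.ι, Category.assoc, morphismRestrict_ι, ← Category.assoc, ha', hab]
  calc a ≫ φ = IsOpenImmersion.lift (π ⁻¹ᵁ W).ι a hra ≫ (π ⁻¹ᵁ W).ι ≫ φ := by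
        rw [← Category.assoc, ha']
    _ = IsOpenImmersion.lift (π ⁻¹ᵁ W).ι a hra ≫ (π ∣_ W) ≫ t' ≫ U.ι := by rw [h1]
    _ = b ≫ t' ≫ U.ι := by rw [← Category.assoc, hb]

/-- **EGA II 8.11.1**: a morphism constant on the fibres of a closed surjection `π` with
`π_* O_P = O_Q` factors through `π`. -/
theorem exists_factor (π : P ⟶ Q) [Surjective π] (hcl : IsClosedMap π.base)
    (hπ : ∀ V : Q.Opens, IsIso (π.app V)) (φ : P ⟶ Y)
    (hφ : ∀ p q : P, π.base p = π.base q → φ.base p = φ.base q) :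
    ∃ b : Q ⟶ Y, π ≫ b = φ := by
  have hsurj := π.surjective
  choose p₀ hp₀ using hsurj
  choose W hW t ht using fun z : Q => exists_local_factor π hcl hπ φ hφ (p₀ z)
  have hW' : ∀ z : Q, z ∈ W z := by
    intro z
    have h1 := hW z
    rwa [hp₀] at h1
  have hcov : IsOpenCover W := by
    apply IsOpenCover.mk
    rw [eq_top_iff]
    intro z _
    rw [Opens.mem_iSup]
    exact ⟨z, hW' z⟩
  have hinj : ∀ V : Q.Opens, Function.Injective (π.app V).hom := fun V => by
    haveI := hπ V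
    exact (ConcreteCategory.bijective_of_isIso (π.app V)).1
  have hcompat : ∀ z z' : Q,
      pullback.fst (W z).ι (W z').ι ≫ t z = pullback.snd (W z).ι (W z').ι ≫ t z' := by
    intro z z'
    have hO : Q.homOfLE (inf_le_left : W z ⊓ W z' ≤ W z) ≫ t z =
        Q.homOfLE (inf_le_right : W z ⊓ W z' ≤ W z') ≫ t z' := by
      haveI : Surjective (π ∣_ (W z ⊓ W z')) := surjective_morphismRestrict π _
      apply hom_ext_of_surjective_of_injective (π ∣_ (W z ⊓ W z'))
      · intro V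
        exact injective_app_morphismRestrict π hinj _ V
      · have e1 : (π ∣_ (W z ⊓ W z')) ≫ Q.homOfLE inf_le_left ≫ t z =
            (π ⁻¹ᵁ (W z ⊓ W z')).ι ≫ φ := by
          rw [← Category.assoc]
          refine (ht z (π ⁻¹ᵁ (W z ⊓ W z')).ι ((π ∣_ (W z ⊓ W z')) ≫ Q.homOfLE inf_le_left) ?_).symm
          rw [Category.assoc, Scheme.homOfLE_ι, morphismRestrict_ι]
        have e2 : (π ∣_ (W z ⊓ W z')) ≫ Q.homOfLE inf_le_right ≫ t z' =
            (π ⁻¹ᵁ (W z ⊓ W z')).ι ≫ φ := by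
          rw [← Category.assoc]
          refine (ht z' (π ⁻¹ᵁ (W z ⊓ W z')).ι
            ((π ∣_ (W z ⊓ W z')) ≫ Q.homOfLE inf_le_right) ?_).symm
          rw [Category.assoc, Scheme.homOfLE_ι, morphismRestrict_ι]
        rw [e1, e2]
    have hr : Set.range (pullback.fst (W z).ι (W z').ι ≫ (W z).ι).base ⊆
        Set.range (W z ⊓ W z').ι.base := by
      rintro _ ⟨x, rfl⟩
      rw [Scheme.Opens.range_ι]
      constructor
      · exact ((pullback.fst (W z).ι (W z').ι).base x).2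
      · have h1 : (pullback.fst (W z).ι (W z').ι ≫ (W z).ι).base x =
            (pullback.snd (W z).ι (W z').ι ≫ (W z').ι).base x := by
          rw [pullback.condition]
        rw [h1]
        exact ((pullback.snd (W z).ι (W z').ι).base x).2
    have hc : IsOpenImmersion.lift (W z ⊓ W z').ι _ hr ≫ (W z ⊓ W z').ι =
        pullback.fst (W z).ι (W z').ι ≫ (W z).ι := IsOpenImmersion.lift_fac _ _ _
    have hc1 : IsOpenImmersion.lift (W z ⊓ W z').ι _ hr ≫ Q.homOfLE inf_le_left =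
        pullback.fst (W z).ι (W z').ι := by
      rw [← cancel_mono (W z).ι, Category.assoc, Scheme.homOfLE_ι, hc]
    have hc2 : IsOpenImmersion.lift (W z ⊓ W z').ι _ hr ≫ Q.homOfLE inf_le_right =
        pullback.snd (W z).ι (W z').ι := by
      rw [← cancel_mono (W z').ι, Category.assoc, Scheme.homOfLE_ι, hc, pullback.condition]
    rw [← hc1, ← hc2, Category.assoc, Category.assoc, hO]
  refine ⟨(Q.openCoverOfIsOpenCover W hcov).glueMorphisms t hcompat, ?_⟩
  apply Scheme.hom_ext_of_forall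
  intro p
  refine ⟨π ⁻¹ᵁ W (π.base p), hW' (π.base p), ?_⟩
  have h1 : (W (π.base p)).ι ≫ (Q.openCoverOfIsOpenCover W hcov).glueMorphisms t hcompat =
      t (π.base p) :=
    (Q.openCoverOfIsOpenCover W hcov).ι_glueMorphisms t hcompat (π.base p)
  rw [← Category.assoc, ← morphismRestrict_ι, Category.assoc, h1]
  exact (ht _ _ _ (morphismRestrict_ι _ _).symm).symm

/-- the condition `O_Y(V) ≅ O_X(f⁻¹V)` for all opens `V` is stable under flat base change. -/
theorem isIso_app_of_flat_isPullback {X Y X' Y' : Scheme.{u}} {f : X ⟶ Y} {g : Y' ⟶ Y}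
    {g' : X' ⟶ X} {f' : X' ⟶ Y'} (H : IsPullback g' f' f g) [Flat g] [QuasiCompact f]
    [QuasiSeparated f] (hf : ∀ U : Y.Opens, IsIso (f.app U)) (V : Y'.Opens) :
    IsIso (f'.app V) := by
  haveI : QuasiCompact f' := MorphismProperty.of_isPullback (P := @QuasiCompact) H inferInstance
  haveI : QuasiSeparated f' :=
    MorphismProperty.of_isPullback (P := @QuasiSeparated) H inferInstance
  refine Groth.Agent.Lib.Helper17.PushIso.isIso_app_of_cover f'
    {V' | IsAffineOpen V' ∧ ∃ U : Y.Opens, IsAffineOpen U ∧ V' ≤ g ⁻¹ᵁ U}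
    (fun V' h => h.1) (fun y => ?_) (fun V' h => ?_) V
  · obtain ⟨U, hU, hyU, -⟩ := exists_isAffineOpen_mem_and_subset (x := g.base y) (U := ⊤) trivial
    obtain ⟨V', hV', hyV', hsub⟩ :=
      exists_isAffineOpen_mem_and_subset (x := y) (U := g ⁻¹ᵁ U) hyU
    exact ⟨V', ⟨hV', U, hU, hsub⟩, hyV'⟩
  · obtain ⟨hV', U, hU, hsub⟩ := h
    exact Groth.Agent.Lib.Helper13.ZariskiConn.isIso_app_of_flat_baseChange H hU hV' hsub (hf U)

end Groth.Agent.Lib.Helper13.SteinFac
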