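import Mathlib
import Groth.Prelude
import Groth.Agent.Lib.Helper13.SteinFac

/-!
# Blanchard's lemma: descending a group action along a proper `f` with `f_* O_X = O_Y`

Over a field `k`: `f : X ⟶ Y` proper with `O_Y(U) ≅ O_X(f⁻¹U)` for all `U`.
* `epi_whiskerLeft`: `W ◁ f` is an epimorphism for every `W`;
* `exists_action`: if `G × X → X → Y` is constant on the fibres of `G × X → G × Y` then the action
  descends to `Y`;
* `tfae`: the three equivalent conditions.
-/

set_option autoImplicit false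
set_option linter.style.haveILetI false
universe u
open CategoryTheory CategoryTheory.Limits AlgebraicGeometry MonoidalCategory
  CartesianMonoidalCategory MonObj GrpObj

namespace Groth.Agent.Lib.Helper13.Blanchard

variable {k : Type u} [Field k] {X Y : Over (Spec (CommRingCat.of k))}

/-- the cartesian square of `W ◁ f` over `f`. -/
lemma isPullback_whiskerLeft (W : Over (Spec (CommRingCat.of k))) (f : X ⟶ Y) :
    IsPullback (snd W X).left (W ◁ f).left f.left (snd W Y).left := by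
  have hbig : IsPullback ((W ◁ f).left ≫ (fst W Y).left) (snd W X).left W.hom
      (f.left ≫ Y.hom) := by
    have h1 : (W ◁ f).left ≫ (fst W Y).left = (fst W X).left :=
      congrArg CommaMorphism.left (whiskerLeft_fst W f)
    rw [h1, Over.w f]
    exact IsPullback.of_hasPullback W.hom X.hom
  have hright : IsPullback (fst W Y).left (snd W Y).left W.hom Y.hom :=
    IsPullback.of_hasPullback W.hom Y.hom
  exact (IsPullback.of_right hbig (congrArg CommaMorphism.left (whiskerLeft_snd W f)) hright).flip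

lemma flat_snd_left (W Z : Over (Spec (CommRingCat.of k))) : Flat (snd W Z).left := by
  show Flat (pullback.snd W.hom Z.hom)
  infer_instance

section

variable (f : X ⟶ Y) [IsProper f.left] (hf : ∀ U : Y.left.Opens, IsIso (f.left.app U))

include hf

lemma isIso_app_whiskerLeft (W : Over (Spec (CommRingCat.of k))) (V : (W ⊗ Y).left.Opens) :
    IsIso ((W ◁ f).left.app V) := by
  haveI : Flat (snd W Y).left := flat_snd_left W Y
  exact SteinFac.isIso_app_of_flat_isPullback (isPullback_whiskerLeft W f) hf V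

lemma injective_app_whiskerLeft (W : Over (Spec (CommRingCat.of k))) (V : (W ⊗ Y).left.Opens) :
    Function.Injective ((W ◁ f).left.app V).hom := by
  haveI := isIso_app_whiskerLeft f hf W V
  exact (ConcreteCategory.bijective_of_isIso ((W ◁ f).left.app V)).1

lemma surjective_left : Surjective f.left :=
  SteinFac.surjective_of_injective_app f.left f.left.isClosedMap (fun V => by
    haveI := hf V
    exact (ConcreteCategory.bijective_of_isIso (f.left.app V)).1)

lemma surjective_whiskerLeft (W : Over (Spec (CommRingCat.of k))) : Surjective (W ◁ f).left := by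
  haveI := surjective_left f hf
  exact MorphismProperty.of_isPullback (P := @Surjective) (isPullback_whiskerLeft W f)
    inferInstance

omit hf in
lemma isProper_whiskerLeft (W : Over (Spec (CommRingCat.of k))) : IsProper (W ◁ f).left :=
  MorphismProperty.of_isPullback (P := @IsProper) (isPullback_whiskerLeft W f) inferInstance

lemma epi_whiskerLeft (W : Over (Spec (CommRingCat.of k))) : Epi (W ◁ f) := by
  haveI := surjective_whiskerLeft f hf W
  refine ⟨fun {Z} r₁ r₂ h => ?_⟩
  apply Over.OverMorphism.ext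
  apply SteinFac.hom_ext_of_surjective_of_injective (W ◁ f).left
    (injective_app_whiskerLeft f hf W)
  exact congrArg CommaMorphism.left h

/-- **Blanchard's lemma, (iii) ⇒ (i)**. -/
theorem exists_action (G : Over (Spec (CommRingCat.of k))) [GrpObj G] (a : AlgGrp.Action G X)
    (hc : ∀ p q : ↥(G ⊗ X).left, (G ◁ f).left.base p = (G ◁ f).left.base q →
        (a.act ≫ f).left.base p = (a.act ≫ f).left.base q) :
    ∃ b : AlgGrp.Action G Y, (G ◁ f) ≫ b.act = a.act ≫ f := by
  haveI := surjective_whiskerLeft f hf G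
  haveI := isProper_whiskerLeft f G
  obtain ⟨bl, hbl⟩ := SteinFac.exists_factor (G ◁ f).left (G ◁ f).left.isClosedMap
    (isIso_app_whiskerLeft f hf G) (a.act ≫ f).left hc
  have hw : bl ≫ Y.hom = (G ⊗ Y).hom := by
    apply SteinFac.hom_ext_of_surjective_of_injective (G ◁ f).left
      (injective_app_whiskerLeft f hf G)
    rw [← Category.assoc, hbl, Over.w, Over.w]
  have hb : (G ◁ f) ≫ (Over.homMk bl hw : G ⊗ Y ⟶ Y) = a.act ≫ f := by
    apply Over.OverMorphism.ext
    exact hbl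
  haveI e1 := epi_whiskerLeft f hf (𝟙_ (Over (Spec (CommRingCat.of k))))
  haveI e2 := epi_whiskerLeft f hf (G ⊗ G)
  refine ⟨⟨Over.homMk bl hw, ?_, ?_⟩, hb⟩
  · rw [← cancel_epi ((𝟙_ (Over (Spec (CommRingCat.of k)))) ◁ f)]
    have s1 : ((𝟙_ (Over (Spec (CommRingCat.of k)))) ◁ f) ≫ (η[G] ▷ Y) =
        (η[G] ▷ X) ≫ (G ◁ f) := whisker_exchange η[G] f
    have s2 : ((𝟙_ (Over (Spec (CommRingCat.of k)))) ◁ f) ≫ (λ_ Y).hom = (λ_ X).hom ≫ f :=
      leftUnitor_naturality f
    rw [← Category.assoc, s1, Category.assoc, hb, ← Category.assoc, a.one_act, s2]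
  · rw [← cancel_epi ((G ⊗ G) ◁ f)]
    have s1 : ((G ⊗ G) ◁ f) ≫ (μ[G] ▷ Y) = (μ[G] ▷ X) ≫ (G ◁ f) := whisker_exchange μ[G] f
    have s2 : ((G ⊗ G) ◁ f) ≫ (α_ G G Y).hom = (α_ G G X).hom ≫ (G ◁ (G ◁ f)) :=
      associator_naturality_right G G f
    have s3 : (G ◁ (G ◁ f)) ≫ (G ◁ (Over.homMk bl hw : G ⊗ Y ⟶ Y)) =
        (G ◁ a.act) ≫ (G ◁ f) := by
      rw [← MonoidalCategory.whiskerLeft_comp, hb, MonoidalCategory.whiskerLeft_comp]
    calc ((G ⊗ G) ◁ f) ≫ (μ[G] ▷ Y) ≫ (Over.homMk bl hw : G ⊗ Y ⟶ Y)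
        = (μ[G] ▷ X) ≫ (G ◁ f) ≫ (Over.homMk bl hw : G ⊗ Y ⟶ Y) := by
          rw [← Category.assoc, s1, Category.assoc]
      _ = ((μ[G] ▷ X) ≫ a.act) ≫ f := by rw [hb, Category.assoc]
      _ = (α_ G G X).hom ≫ (G ◁ a.act) ≫ a.act ≫ f := by
          rw [a.mul_act]
          simp only [Category.assoc]
      _ = (α_ G G X).hom ≫ (G ◁ a.act) ≫ (G ◁ f) ≫ (Over.homMk bl hw : G ⊗ Y ⟶ Y) := by
          rw [hb]
      _ = (α_ G G X).hom ≫ ((G ◁ (G ◁ f)) ≫ (G ◁ (Over.homMk bl hw : G ⊗ Y ⟶ Y))) ≫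
            (Over.homMk bl hw : G ⊗ Y ⟶ Y) := by
          rw [s3, Category.assoc]
      _ = ((G ⊗ G) ◁ f) ≫ (α_ G G Y).hom ≫ (G ◁ (Over.homMk bl hw : G ⊗ Y ⟶ Y)) ≫
            (Over.homMk bl hw : G ⊗ Y ⟶ Y) := by
          rw [← Category.assoc ((G ⊗ G) ◁ f), s2]
          simp only [Category.assoc]

/-- **Blanchard's lemma**: the three equivalent conditions. -/
theorem tfae (G : Over (Spec (CommRingCat.of k))) [GrpObj G] (a : AlgGrp.Action G X) :
    [∃ b : AlgGrp.Action G Y, (G ◁ f) ≫ b.act = a.act ≫ f,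
      ∀ (T : Over (Spec (CommRingCat.of k))) (g : T ⟶ G) (x₁ x₂ : T ⟶ X),
        x₁ ≫ f = x₂ ≫ f → lift g x₁ ≫ a.act ≫ f = lift g x₂ ≫ a.act ≫ f,
      ∀ p q : ↥(G ⊗ X).left, (G ◁ f).left.base p = (G ◁ f).left.base q →
        (a.act ≫ f).left.base p = (a.act ≫ f).left.base q].TFAE := by
  tfae_have 1 → 2 := by
    rintro ⟨b, hb⟩ T g x₁ x₂ h
    rw [← hb, ← Category.assoc, ← Category.assoc, lift_whiskerLeft, lift_whiskerLeft, h]
  tfae_have 2 → 3 := by
    intro h2 p q hpq
    obtain ⟨z, hz1, hz2⟩ := Scheme.Pullback.exists_preimage_pullback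
      (f := (G ◁ f).left) (g := (G ◁ f).left) p q hpq
    let T : Over (Spec (CommRingCat.of k)) :=
      Over.mk (pullback.fst (G ◁ f).left (G ◁ f).left ≫ (G ⊗ X).hom)
    let π₁ : T ⟶ G ⊗ X := Over.homMk (pullback.fst (G ◁ f).left (G ◁ f).left) rfl
    let π₂ : T ⟶ G ⊗ X := Over.homMk (pullback.snd (G ◁ f).left (G ◁ f).left) (by
      show pullback.snd (G ◁ f).left (G ◁ f).left ≫ (G ⊗ X).hom =
        pullback.fst (G ◁ f).left (G ◁ f).left ≫ (G ⊗ X).hom
      rw [← Over.w (G ◁ f), ← Category.assoc, ← Category.assoc, pullback.condition])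
    have hπ : π₁ ≫ (G ◁ f) = π₂ ≫ (G ◁ f) := by
      apply Over.OverMorphism.ext
      exact pullback.condition
    have h1 : π₁ ≫ fst G X = π₂ ≫ fst G X := by
      have e1 : π₁ ≫ (G ◁ f) ≫ fst G Y = π₂ ≫ (G ◁ f) ≫ fst G Y := by
        rw [← Category.assoc, hπ, Category.assoc]
      rwa [whiskerLeft_fst] at e1
    have h2' : (π₁ ≫ snd G X) ≫ f = (π₂ ≫ snd G X) ≫ f := by
      have e1 : π₁ ≫ (G ◁ f) ≫ snd G Y = π₂ ≫ (G ◁ f) ≫ snd G Y := by
        rw [← Category.assoc, hπ, Category.assoc]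
      rw [whiskerLeft_snd] at e1
      simpa only [Category.assoc] using e1
    have key := h2 T (π₁ ≫ fst G X) (π₁ ≫ snd G X) (π₂ ≫ snd G X) h2'
    have l1 : lift (π₁ ≫ fst G X) (π₁ ≫ snd G X) = π₁ := by
      apply CartesianMonoidalCategory.hom_ext
      · rw [lift_fst]
      · rw [lift_snd]
    have l2 : lift (π₁ ≫ fst G X) (π₂ ≫ snd G X) = π₂ := by
      apply CartesianMonoidalCategory.hom_ext
      · rw [lift_fst, h1]
      · rw [lift_snd]
    rw [l1, l2] at key
    have key' : pullback.fst (G ◁ f).left (G ◁ f).left ≫ (a.act ≫ f).left =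
        pullback.snd (G ◁ f).left (G ◁ f).left ≫ (a.act ≫ f).left :=
      congrArg CommaMorphism.left key
    have key'' := congrArg (fun φ => φ.base z) key'
    simp only [Scheme.Hom.comp_base, TopCat.hom_comp, ContinuousMap.comp_apply] at key''
    rw [hz1, hz2] at key''
    exact key''
  tfae_have 3 → 1 := exists_action f hf G a
  tfae_finish

end

end Groth.Agent.Lib.Helper13.Blanchard
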