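import Mathlib
import Groth.Prelude
import Groth.Agent.Lib.Helper13.Rigid

/-!
# Rigidity for proper universally open families with geometrically connected fibres

`p : X ⟶ S` proper, universally open, geometrically connected, `S` connected, `f : X ⟶ Y` with `Y`
separated over a base.  If `f` collapses one fibre of `p` to a point (set-theoretically) then it
collapses every fibre.  (No condition `h⁰(X_s, O) = 1`, and only the topological conclusion.)
-/

set_option autoImplicit false
set_option linter.style.haveILetI false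
universe u
open CategoryTheory CategoryTheory.Limits AlgebraicGeometry TopologicalSpace

namespace Groth.Agent.Lib.Helper13.RigidGC

/-- a global function on a connected universally closed scheme over a field which vanishes at a point
is nilpotent. -/
theorem isNilpotent_of_not_mem_basicOpen {Z : Scheme.{u}} {K : Type u} [Field K]
    (q : Z ⟶ Spec (CommRingCat.of K)) [UniversallyClosed q] [ConnectedSpace Z] (c : Γ(Z, ⊤))
    (z₀ : Z) (hz : z₀ ∉ Z.basicOpen c) : IsNilpotent c := by
  haveI : CompactSpace Z := QuasiCompact.compactSpace_of_compactSpace q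
  let F : CommRingCat.of K ⟶ Γ(Z, ⊤) := (Scheme.ΓSpecIso (CommRingCat.of K)).inv ≫ q.appTop
  have hFint : F.hom.IsIntegral := by
    apply RingHom.isIntegral_respectsIso.2
      (e := (Scheme.ΓSpecIso _).symm.commRingCatIsoToRingEquiv)
    exact isIntegral_appTop_of_universallyClosed q
  algebraize [F.hom]
  obtain ⟨P, hPm, hP0⟩ := (Algebra.IsIntegral.isIntegral (R := K) c)
  obtain ⟨m, Q, hPQ, hQ⟩ : ∃ (m : ℕ) (Q : Polynomial K),
      P = (Polynomial.X - Polynomial.C 0) ^ m * Q ∧ ¬ (Polynomial.X - Polynomial.C 0) ∣ Q := by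
    obtain ⟨Q, h1, h2⟩ := Polynomial.exists_eq_pow_rootMultiplicity_mul_and_not_dvd P hPm.ne_zero 0
    exact ⟨_, Q, h1, h2⟩
  have hQ0 : Q.coeff 0 ≠ 0 := by
    intro h0
    apply hQ
    rw [Polynomial.C_0, sub_zero]
    exact Polynomial.X_dvd_iff.2 h0
  have hcd : c ^ m * Polynomial.aeval c Q = 0 := by
    have h1 : Polynomial.aeval c P = 0 := by
      rw [Polynomial.aeval_def]
      exact hP0
    rw [hPQ, map_mul, map_pow, map_sub, Polynomial.aeval_X, Polynomial.aeval_C, map_zero,
      sub_zero] at h1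
    exact h1
  have hd : Polynomial.aeval c Q =
      algebraMap K Γ(Z, ⊤) (Q.coeff 0) + c * Polynomial.aeval c Q.divX := by
    conv_lhs => rw [← Polynomial.divX_mul_X_add Q]
    rw [map_add, map_mul, Polynomial.aeval_X, Polynomial.aeval_C]
    ring
  have hu : IsUnit (algebraMap K Γ(Z, ⊤) (Q.coeff 0)) := (IsUnit.mk0 _ hQ0).map _
  have hdisj : Z.basicOpen c ⊓ Z.basicOpen (Polynomial.aeval c Q) = ⊥ := by
    have h1 : Z.basicOpen (c ^ m * Polynomial.aeval c Q) = ⊥ := by
      rw [hcd, Scheme.basicOpen_zero]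
    rw [Scheme.basicOpen_mul] at h1
    have h2 : Z.basicOpen c ≤ Z.basicOpen (c ^ m) := by
      rcases Nat.eq_zero_or_pos m with hm | hm
      · rw [hm, pow_zero, Scheme.basicOpen_of_isUnit _ isUnit_one]
        exact le_top
      · rw [Z.basicOpen_pow c hm]
    exact le_bot_iff.1 (h1 ▸ inf_le_inf_right _ h2)
  have hcov : ∀ z : Z, z ∈ Z.basicOpen c ∨ z ∈ Z.basicOpen (Polynomial.aeval c Q) := by
    intro z
    by_contra hcon
    obtain ⟨h1, h2⟩ := not_or.mp hcon
    rw [Scheme.mem_basicOpen_top] at h1 h2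
    have h3 : (Z.presheaf.germ ⊤ z trivial).hom (algebraMap K Γ(Z, ⊤) (Q.coeff 0)) =
        (Z.presheaf.germ ⊤ z trivial).hom (Polynomial.aeval c Q) -
          (Z.presheaf.germ ⊤ z trivial).hom c *
            (Z.presheaf.germ ⊤ z trivial).hom (Polynomial.aeval c Q.divX) := by
      rw [hd, map_add, map_mul]
      ring
    have h4 : IsUnit ((Z.presheaf.germ ⊤ z trivial).hom (algebraMap K Γ(Z, ⊤) (Q.coeff 0))) :=
      hu.map _
    have h5 : (Z.presheaf.germ ⊤ z trivial).hom (Polynomial.aeval c Q) -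
          (Z.presheaf.germ ⊤ z trivial).hom c *
            (Z.presheaf.germ ⊤ z trivial).hom (Polynomial.aeval c Q.divX) ∈
        IsLocalRing.maximalIdeal (Z.presheaf.stalk z) :=
      Ideal.sub_mem _ ((IsLocalRing.mem_maximalIdeal _).2 (mem_nonunits_iff.2 h2))
        (Ideal.mul_mem_right _ _ ((IsLocalRing.mem_maximalIdeal _).2 (mem_nonunits_iff.2 h1)))
    rw [← h3] at h5
    exact mem_nonunits_iff.1 ((IsLocalRing.mem_maximalIdeal _).1 h5) h4
  have hcompl : ((Z.basicOpen (Polynomial.aeval c Q) : Set Z))ᶜ = (Z.basicOpen c : Set Z) := by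
    ext z
    constructor
    · intro hz'
      rcases hcov z with h | h
      · exact h
      · exact absurd h hz'
    · intro hz' hz''
      have h1 : z ∈ Z.basicOpen c ⊓ Z.basicOpen (Polynomial.aeval c Q) := ⟨hz', hz''⟩
      rw [hdisj] at h1
      exact h1
  have hclopen : IsClopen ((Z.basicOpen (Polynomial.aeval c Q) : Set Z)) := by
    refine ⟨?_, (Z.basicOpen _).isOpen⟩
    rw [← isOpen_compl_iff, hcompl]
    exact (Z.basicOpen c).isOpen
  have hne : ((Z.basicOpen (Polynomial.aeval c Q) : Set Z)).Nonempty := by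
    refine ⟨z₀, ?_⟩
    rcases hcov z₀ with h | h
    · exact absurd h hz
    · exact h
  have huniv := hclopen.eq_univ hne
  rw [Scheme.isNilpotent_iff_basicOpen_eq_bot]
  ext z
  simp only [Opens.coe_bot, Set.mem_empty_iff_false, iff_false]
  intro hz'
  have h1 : z ∈ ((Z.basicOpen (Polynomial.aeval c Q) : Set Z))ᶜ := by
    rw [hcompl]
    exact hz'
  rw [huniv] at h1
  exact h1 (Set.mem_univ z)

/-- two sections of a connected universally closed scheme over a field induce the same map on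
global functions. -/
theorem appTop_eq_of_sections {Z : Scheme.{u}} {K : Type u} [Field K]
    (q : Z ⟶ Spec (CommRingCat.of K)) [UniversallyClosed q] [ConnectedSpace Z]
    (x₁ x₂ : Spec (CommRingCat.of K) ⟶ Z) (h₁ : x₁ ≫ q = 𝟙 _) (h₂ : x₂ ≫ q = 𝟙 _)
    (c : Γ(Z, ⊤)) : x₁.appTop.hom c = x₂.appTop.hom c := by
  have hsec : ∀ (x : Spec (CommRingCat.of K) ⟶ Z), x ≫ q = 𝟙 _ →
      ∀ κ, x.appTop.hom (q.appTop.hom κ) = κ := by
    intro x hx κ
    have h : (x ≫ q).appTop.hom κ = κ := by
      rw [hx]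
      simp
    rw [Scheme.Hom.comp_appTop] at h
    exact h
  have e1 : x₁.appTop.hom (c - q.appTop.hom (x₁.appTop.hom c)) = 0 := by
    rw [map_sub, hsec x₁ h₁, sub_self]
  obtain ⟨pt⟩ : Nonempty (Spec (CommRingCat.of K)) := inferInstance
  have hz : x₁.base pt ∉ Z.basicOpen (c - q.appTop.hom (x₁.appTop.hom c)) := by
    intro hmem
    have h3 : pt ∈ x₁ ⁻¹ᵁ Z.basicOpen (c - q.appTop.hom (x₁.appTop.hom c)) := hmem
    rw [Scheme.preimage_basicOpen] at h3
    have h4 : x₁.app ⊤ (c - q.appTop.hom (x₁.appTop.hom c)) = 0 := e1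
    rw [h4, Scheme.basicOpen_zero] at h3
    exact h3
  have hnil := isNilpotent_of_not_mem_basicOpen q _ _ hz
  have h5 : x₂.appTop.hom (c - q.appTop.hom (x₁.appTop.hom c)) = 0 :=
    (hnil.map x₂.appTop.hom).eq_zero
  rw [map_sub, hsec x₂ h₂, sub_eq_zero] at h5
  exact h5.symm

variable {X S Y : Scheme.{u}}

/-- near a (set-theoretically) collapsed point, any two field-valued points of `X` over the same
point of `S` have the same composite with `f`. -/
theorem exists_nhd_agree (p : X ⟶ S) [IsProper p] [GeometricallyConnected p] (f : X ⟶ Y) (s₀ : S)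
    (hs : s₀ ∈ Rigid.collapsed p f) :
    ∃ V : S.Opens, s₀ ∈ V ∧ ∀ (K : Type u) [Field K] (x₁ x₂ : Spec (CommRingCat.of K) ⟶ X),
      x₁ ≫ p = x₂ ≫ p → Set.range (x₁ ≫ p).base ⊆ (V : Set S) → x₁ ≫ f = x₂ ≫ f := by
  obtain ⟨y, hy⟩ := hs
  obtain ⟨U, hU, hyU, -⟩ := exists_isAffineOpen_mem_and_subset (x := y) (U := ⊤) trivial
  have hcl : IsClosed (p.base '' ((f ⁻¹ᵁ U : Set X)ᶜ)) :=
    p.isClosedMap _ (f ⁻¹ᵁ U).isOpen.isClosed_compl
  let V : S.Opens := ⟨(p.base '' ((f ⁻¹ᵁ U : Set X)ᶜ))ᶜ, hcl.isOpen_compl⟩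
  have hs₀ : s₀ ∈ V := by
    rintro ⟨x, hx, hxe⟩
    apply hx
    show f.base x ∈ U
    rw [hy x hxe]
    exact hyU
  have hsub : ∀ x : X, p.base x ∈ V → f.base x ∈ U := by
    intro x hx
    by_contra hxU
    exact hx ⟨x, hxU, rfl⟩
  refine ⟨V, hs₀, fun K _ x₁ x₂ h hr => ?_⟩
  haveI : IsAffine (U : Scheme.{u}) := hU
  haveI : ConnectedSpace ↥(pullback p (x₁ ≫ p)) :=
    GeometricallyConnected.geometrically_connectedSpace (f := p) (x₁ ≫ p) _ _
      (IsPullback.of_hasPullback p (x₁ ≫ p))
  have hrange : Set.range (pullback.fst p (x₁ ≫ p) ≫ f).base ⊆ Set.range U.ι.base := by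
    rintro _ ⟨z, rfl⟩
    rw [Scheme.Opens.range_ι]
    apply hsub
    show p.base ((pullback.fst p (x₁ ≫ p)).base z) ∈ V
    have h1 : p.base ((pullback.fst p (x₁ ≫ p)).base z) =
        (x₁ ≫ p).base ((pullback.snd p (x₁ ≫ p)).base z) := by
      rw [← Scheme.Hom.comp_apply, ← Scheme.Hom.comp_apply, pullback.condition]
    rw [h1]
    exact hr ⟨_, rfl⟩
  have hh' : IsOpenImmersion.lift U.ι (pullback.fst p (x₁ ≫ p) ≫ f) hrange ≫ U.ι =
      pullback.fst p (x₁ ≫ p) ≫ f := IsOpenImmersion.lift_fac _ _ _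
  have key : pullback.lift x₁ (𝟙 _) (by rw [Category.id_comp]) ≫
        IsOpenImmersion.lift U.ι (pullback.fst p (x₁ ≫ p) ≫ f) hrange =
      pullback.lift x₂ (𝟙 _) (by rw [Category.id_comp]; exact h.symm) ≫
        IsOpenImmersion.lift U.ι (pullback.fst p (x₁ ≫ p) ≫ f) hrange := by
    apply ext_of_isAffine
    rw [Scheme.Hom.comp_appTop, Scheme.Hom.comp_appTop]
    ext c
    exact appTop_eq_of_sections (pullback.snd p (x₁ ≫ p)) _ _ (pullback.lift_snd _ _ _)
      (pullback.lift_snd _ _ _) _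
  calc x₁ ≫ f = pullback.lift x₁ (𝟙 _) (by rw [Category.id_comp]) ≫
          pullback.fst p (x₁ ≫ p) ≫ f := by rw [← Category.assoc, pullback.lift_fst]
    _ = pullback.lift x₁ (𝟙 _) (by rw [Category.id_comp]) ≫
          IsOpenImmersion.lift U.ι (pullback.fst p (x₁ ≫ p) ≫ f) hrange ≫ U.ι := by rw [hh']
    _ = pullback.lift x₂ (𝟙 _) (by rw [Category.id_comp]; exact h.symm) ≫
          IsOpenImmersion.lift U.ι (pullback.fst p (x₁ ≫ p) ≫ f) hrange ≫ U.ι := by
        rw [← Category.assoc, key, Category.assoc]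
    _ = pullback.lift x₂ (𝟙 _) (by rw [Category.id_comp]; exact h.symm) ≫
          pullback.fst p (x₁ ≫ p) ≫ f := by rw [hh']
    _ = x₂ ≫ f := by rw [← Category.assoc, pullback.lift_fst]

/-- **Rigidity** (set-theoretic form) for proper universally open geometrically connected families
over a connected base. -/
theorem collapsed_eq_univ {B : Scheme.{u}} (p : X ⟶ S) [IsProper p] [UniversallyOpen p]
    [GeometricallyConnected p] [ConnectedSpace S] (r : S ⟶ B) (q : Y ⟶ B) [IsSeparated q]
    (f : X ⟶ Y) (hf : f ≫ q = p ≫ r) (s₀ : S) (hs : s₀ ∈ Rigid.collapsed p f) :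
    Rigid.collapsed p f = Set.univ := by
  haveI hsurj : Surjective p := inferInstance
  let ξ : pullback p p ⟶ S := pullback.fst p p ≫ p
  let XP : Over B := Over.mk (ξ ≫ r)
  let YY : Over B := Over.mk q
  let F₁ : XP ⟶ YY := Over.homMk (pullback.fst p p ≫ f) (by
    show (pullback.fst p p ≫ f) ≫ q = (pullback.fst p p ≫ p) ≫ r
    rw [Category.assoc, hf, ← Category.assoc])
  let F₂ : XP ⟶ YY := Over.homMk (pullback.snd p p ≫ f) (by
    show (pullback.snd p p ≫ f) ≫ q = (pullback.fst p p ≫ p) ≫ r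
    rw [Category.assoc, hf, ← Category.assoc, ← pullback.condition])
  haveI : IsSeparated YY.hom := (inferInstance : IsSeparated q)
  let ι : (equalizer F₁ F₂).left ⟶ pullback p p := (equalizer.ι F₁ F₂).left
  haveI : IsClosedImmersion ι := isClosedImmersion_equalizer_ι_left F₁ F₂
  have hcond : ι ≫ pullback.fst p p ≫ f = ι ≫ pullback.snd p p ≫ f :=
    congrArg CommaMorphism.left (equalizer.condition F₁ F₂)
  have hopen : IsOpenMap ξ.base := ξ.isOpenMap
  have hC'closed : IsClosed (ξ.base '' (Set.range ι.base)ᶜ)ᶜ :=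
    (hopen _ ι.isClosedEmbedding.isClosed_range.isOpen_compl).isClosed_compl
  have hC'sub : (ξ.base '' (Set.range ι.base)ᶜ)ᶜ ⊆ Rigid.collapsed p f := by
    intro s hsC
    obtain ⟨x₀, hx₀⟩ := hsurj.surj s
    refine ⟨f.base x₀, fun x hx => ?_⟩
    obtain ⟨w, hw1, hw2⟩ := Scheme.Pullback.exists_preimage_pullback (f := p) (g := p) x x₀
      (hx.trans hx₀.symm)
    have hw : w ∈ Set.range ι.base := by
      by_contra hcon
      apply hsC
      refine ⟨w, hcon, ?_⟩
      show p.base ((pullback.fst p p).base w) = s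
      rw [show (pullback.fst p p).base w = x from hw1, hx]
    obtain ⟨e, rfl⟩ := hw
    have h2 := congrArg (fun φ => φ.base e) hcond
    simp only [Scheme.Hom.comp_base, TopCat.hom_comp, ContinuousMap.comp_apply] at h2
    rw [← hw1, ← hw2]
    exact h2
  have hnhd : ∀ s ∈ Rigid.collapsed p f, ∃ V : S.Opens, s ∈ V ∧
      (V : Set S) ⊆ (ξ.base '' (Set.range ι.base)ᶜ)ᶜ := by
    intro s hs
    obtain ⟨V, hsV, hV⟩ := exists_nhd_agree p f s hs
    refine ⟨V, hsV, ?_⟩
    rintro s' hs' ⟨w, hw, rfl⟩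
    apply hw
    have h1 : ((pullback p p).fromSpecResidueField w ≫ pullback.fst p p) ≫ f =
        ((pullback p p).fromSpecResidueField w ≫ pullback.snd p p) ≫ f := by
      refine hV ((pullback p p).residueField w) _ _ ?_ ?_
      · rw [Category.assoc, Category.assoc, pullback.condition]
      · rintro _ ⟨z, rfl⟩
        have h2 : (((pullback p p).fromSpecResidueField w ≫ pullback.fst p p) ≫ p).base z =
            ξ.base w := by
          simp only [Scheme.Hom.comp_base, TopCat.hom_comp, ContinuousMap.comp_apply]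
          rw [Scheme.fromSpecResidueField_apply]
          rfl
        rw [h2]
        exact hs'
    let G' : Over.mk ((pullback p p).fromSpecResidueField w ≫ ξ ≫ r) ⟶ XP :=
      Over.homMk ((pullback p p).fromSpecResidueField w) rfl
    have hG : G' ≫ F₁ = G' ≫ F₂ := by
      apply Over.OverMorphism.ext
      show (pullback p p).fromSpecResidueField w ≫ pullback.fst p p ≫ f =
        (pullback p p).fromSpecResidueField w ≫ pullback.snd p p ≫ f
      rw [← Category.assoc, h1, Category.assoc]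
    have h2 : (equalizer.lift G' hG).left ≫ ι = (pullback p p).fromSpecResidueField w :=
      congrArg CommaMorphism.left (equalizer.lift_ι G' hG)
    obtain ⟨pt⟩ : Nonempty (Spec ((pullback p p).residueField w)) := inferInstance
    refine ⟨(equalizer.lift G' hG).left.base pt, ?_⟩
    have h3 := congrArg (fun φ => φ.base pt) h2
    simp only [Scheme.Hom.comp_base, TopCat.hom_comp, ContinuousMap.comp_apply] at h3
    rw [h3]
    exact Scheme.fromSpecResidueField_apply _ _
  have heq : Rigid.collapsed p f = (ξ.base '' (Set.range ι.base)ᶜ)ᶜ := by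
    apply Set.Subset.antisymm
    · intro s hs
      obtain ⟨V, hsV, hV⟩ := hnhd s hs
      exact hV hsV
    · exact hC'sub
  have hopenC : IsOpen (Rigid.collapsed p f) := by
    rw [isOpen_iff_forall_mem_open]
    intro s hs
    obtain ⟨V, hsV, hV⟩ := hnhd s hs
    exact ⟨V, fun s' hs' => hC'sub (hV hs'), V.isOpen, hsV⟩
  have hclosedC : IsClosed (Rigid.collapsed p f) := by
    rw [heq]
    exact hC'closed
  exact IsClopen.eq_univ ⟨hclosedC, hopenC⟩ ⟨s₀, hs⟩

end Groth.Agent.Lib.Helper13.RigidGC
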