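import Mathlib
import Groth.Prelude
import Groth.Agent.Lib.Helper13.BlanchardConn
import Groth.Agent.Lib.Helper13.ZariskiConn
import Groth.Agent.Lib.Helper29.ExtGrp

/-!
# Blanchard's lemma: a connected group acting on `X` acts uniquely on `Y` for `f : X ⟶ Y` proper with
`f_* O_X = O_Y` (over a field, `Y` separated and locally of finite type).
-/

set_option autoImplicit false
set_option linter.style.haveILetI false
universe u
open CategoryTheory CategoryTheory.Limits AlgebraicGeometry MonoidalCategory
  CartesianMonoidalCategory MonObj GrpObj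

namespace Groth.Agent.Lib.Helper13.Blanchard

variable {k : Type u} [Field k] {G X Y : Over (Spec (CommRingCat.of k))} [GrpObj G]

theorem action_ext {b b' : AlgGrp.Action G Y} (h : b.act = b'.act) : b = b' := by
  cases b
  cases b'
  simp only at h
  subst h
  rfl

theorem existsUnique_action [ConnectedSpace ↥G.left] [LocallyOfFiniteType Y.hom]
    [IsSeparated Y.hom] (f : X ⟶ Y) [IsProper f.left]
    (hf : ∀ U : Y.left.Opens, IsIso (f.left.app U)) (a : AlgGrp.Action G X) :
    ∃! b : AlgGrp.Action G Y, (G ◁ f) ≫ b.act = a.act ≫ f := by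
  haveI : IsLocallyNoetherian Y.left := LocallyOfFiniteType.isLocallyNoetherian Y.hom
  haveI : GeometricallyConnected f.left :=
    (Groth.Agent.Lib.Helper13.ZariskiConn.main2431 f.left hf).2
  haveI : GeometricallyConnected G.hom :=
    Groth.Agent.Lib.Helper29.ExtGrp.geomConn_of_section G.hom η[G].left (Over.w η[G])
  obtain ⟨b, hb⟩ := exists_action f hf G a (const_on_fibres f a)
  refine ⟨b, hb, fun b' hb' => ?_⟩
  haveI := epi_whiskerLeft f hf G
  apply action_ext
  rw [← cancel_epi (G ◁ f), hb', hb]

end Groth.Agent.Lib.Helper13.Blanchard
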