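import Mathlib
import Groth.Prelude
import Groth.Agent.Lib.Helper13.RigidGC

/-!
# Rigidity for proper universally open geometrically connected families, arbitrary target

`p : X ⟶ S` proper, universally open, geometrically connected, `S` connected, `f : X ⟶ Y` with `Y`
an arbitrary scheme (no separatedness).  If `f` collapses one fibre of `p` to a point
(set-theoretically) then it collapses every fibre.
-/

set_option autoImplicit false
set_option linter.style.haveILetI false
universe u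
open CategoryTheory CategoryTheory.Limits AlgebraicGeometry TopologicalSpace

namespace Groth.Agent.Lib.Helper13.RigidNS

/-- the set of points through which passes a field-valued point equalizing `F₁` and `F₂`. -/
def eqLocus {Q Y : Scheme.{u}} (F₁ F₂ : Q ⟶ Y) : Set Q :=
  {w | ∃ (K : Type u) (_ : Field K) (t : Spec (CommRingCat.of K) ⟶ Q),
      w ∈ Set.range t.base ∧ t ≫ F₁ = t ≫ F₂}

lemma apply_eq_of_mem_eqLocus {Q Y : Scheme.{u}} (F₁ F₂ : Q ⟶ Y) (w : Q)
    (hw : w ∈ eqLocus F₁ F₂) : F₁.base w = F₂.base w := by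
  obtain ⟨K, _, t, ⟨pt, rfl⟩, ht⟩ := hw
  have h := congrArg (fun φ => φ.base pt) ht
  simpa only [Scheme.Hom.comp_base, TopCat.hom_comp, ContinuousMap.comp_apply] using h

/-- inside the locus where both morphisms land in a fixed affine open, the equalizing locus is
closed. -/
lemma mem_eqLocus_of_mem_closure {Q Y : Scheme.{u}} (F₁ F₂ : Q ⟶ Y) (U : Y.Opens)
    (hU : IsAffineOpen U) (w : Q) (h1 : F₁.base w ∈ U) (h2 : F₂.base w ∈ U)
    (hw : w ∈ closure (eqLocus F₁ F₂)) : w ∈ eqLocus F₁ F₂ := by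
  let QU : Q.Opens := F₁ ⁻¹ᵁ U ⊓ F₂ ⁻¹ᵁ U
  have hwQU : w ∈ QU := ⟨h1, h2⟩
  have hr1 : Set.range (QU.ι ≫ F₁).base ⊆ Set.range U.ι.base := by
    rintro _ ⟨z, rfl⟩
    rw [Scheme.Opens.range_ι]
    exact z.2.1
  have hr2 : Set.range (QU.ι ≫ F₂).base ⊆ Set.range U.ι.base := by
    rintro _ ⟨z, rfl⟩
    rw [Scheme.Opens.range_ι]
    exact z.2.2
  obtain ⟨g₁, hg₁⟩ : ∃ g₁ : (QU : Scheme.{u}) ⟶ (U : Scheme.{u}), g₁ ≫ U.ι = QU.ι ≫ F₁ :=
    ⟨IsOpenImmersion.lift U.ι (QU.ι ≫ F₁) hr1, IsOpenImmersion.lift_fac _ _ _⟩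
  obtain ⟨g₂, hg₂⟩ : ∃ g₂ : (QU : Scheme.{u}) ⟶ (U : Scheme.{u}), g₂ ≫ U.ι = QU.ι ≫ F₂ :=
    ⟨IsOpenImmersion.lift U.ι (QU.ι ≫ F₂) hr2, IsOpenImmersion.lift_fac _ _ _⟩
  haveI : IsAffine (U : Scheme.{u}) := hU
  have hR : IsClosed (Set.range (equalizer.ι g₁ g₂).base) :=
    (equalizer.ι g₁ g₂).isClosedEmbedding.isClosed_range
  have key : ∀ v' : (QU : Scheme.{u}), QU.ι.base v' ∈ eqLocus F₁ F₂ →
      v' ∈ Set.range (equalizer.ι g₁ g₂).base := by
    rintro v' ⟨K, _, t, ⟨pt, hpt⟩, ht⟩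
    have hrt : Set.range t.base ⊆ Set.range QU.ι.base := by
      rintro _ ⟨z, rfl⟩
      have hz : z = pt := Subsingleton.elim _ _
      rw [hz, hpt]
      exact ⟨v', rfl⟩
    obtain ⟨t', ht'⟩ : ∃ t' : Spec (CommRingCat.of K) ⟶ (QU : Scheme.{u}), t' ≫ QU.ι = t :=
      ⟨IsOpenImmersion.lift QU.ι t hrt, IsOpenImmersion.lift_fac _ _ _⟩
    have heq : t' ≫ g₁ = t' ≫ g₂ := by
      rw [← cancel_mono U.ι, Category.assoc, Category.assoc, hg₁, hg₂, ← Category.assoc,
        ← Category.assoc, ht', ht]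
    refine ⟨(equalizer.lift t' heq).base pt, ?_⟩
    have h3 : (equalizer.lift t' heq ≫ equalizer.ι g₁ g₂).base pt = t'.base pt := by
      rw [equalizer.lift_ι]
    have h4 : QU.ι.base (t'.base pt) = QU.ι.base v' := by
      rw [← hpt, ← ht']
      rfl
    have h5 : t'.base pt = v' := QU.ι.isOpenEmbedding.injective h4
    rw [← h5, ← h3]
    rfl
  by_contra hcon
  obtain ⟨w', hw'⟩ : ∃ w' : (QU : Scheme.{u}), QU.ι.base w' = w := ⟨⟨w, hwQU⟩, rfl⟩
  have hw'R : w' ∉ Set.range (equalizer.ι g₁ g₂).base := by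
    rintro ⟨e, he⟩
    apply hcon
    refine ⟨(equalizer g₁ g₂).residueField e, inferInstance,
      (equalizer g₁ g₂).fromSpecResidueField e ≫ equalizer.ι g₁ g₂ ≫ QU.ι, ?_, ?_⟩
    · obtain ⟨pt⟩ : Nonempty (Spec ((equalizer g₁ g₂).residueField e)) := inferInstance
      refine ⟨pt, ?_⟩
      simp only [Scheme.Hom.comp_base, TopCat.hom_comp, ContinuousMap.comp_apply]
      rw [Scheme.fromSpecResidueField_apply, he, hw']
    · simp only [Category.assoc]
      rw [← hg₁, ← hg₂, ← Category.assoc (equalizer.ι g₁ g₂), ← Category.assoc (equalizer.ι g₁ g₂),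
        equalizer.condition]
  have hopen : IsOpen (QU.ι.base '' (Set.range (equalizer.ι g₁ g₂).base)ᶜ) :=
    QU.ι.isOpenEmbedding.isOpenMap _ hR.isOpen_compl
  have hwmem : w ∈ QU.ι.base '' (Set.range (equalizer.ι g₁ g₂).base)ᶜ := ⟨w', hw'R, hw'⟩
  obtain ⟨v, hv1, hv2⟩ := mem_closure_iff.mp hw _ hopen hwmem
  obtain ⟨v', hv'R, rfl⟩ := hv1
  exact hv'R (key v' hv2)

variable {X S Y : Scheme.{u}}

/-- **Rigidity** (set-theoretic form) for proper universally open geometrically connected families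
over a connected base, with arbitrary target. -/
theorem collapsed_eq_univ (p : X ⟶ S) [IsProper p] [UniversallyOpen p]
    [GeometricallyConnected p] [ConnectedSpace S] (f : X ⟶ Y) (s₀ : S)
    (hs : s₀ ∈ Rigid.collapsed p f) : Rigid.collapsed p f = Set.univ := by
  haveI hsurj : Surjective p := inferInstance
  obtain ⟨ξ, hξ⟩ : ∃ ξ : pullback p p ⟶ S, ξ = pullback.fst p p ≫ p := ⟨_, rfl⟩
  obtain ⟨F₁, hF₁⟩ : ∃ F₁ : pullback p p ⟶ Y, F₁ = pullback.fst p p ≫ f := ⟨_, rfl⟩
  obtain ⟨F₂, hF₂⟩ : ∃ F₂ : pullback p p ⟶ Y, F₂ = pullback.snd p p ≫ f := ⟨_, rfl⟩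
  have hopenξ : IsOpenMap ξ.base := by
    rw [hξ]
    exact (pullback.fst p p ≫ p).isOpenMap
  have hξa : ∀ w : ↥(pullback p p), ξ.base w = p.base ((pullback.fst p p).base w) := by
    intro w; rw [hξ]; rfl
  have hξb : ∀ w : ↥(pullback p p), ξ.base w = p.base ((pullback.snd p p).base w) := by
    intro w
    rw [hξ, pullback.condition]; rfl
  have hF₁a : ∀ w : ↥(pullback p p), F₁.base w = f.base ((pullback.fst p p).base w) := by
    intro w; rw [hF₁]; rfl
  have hF₂a : ∀ w : ↥(pullback p p), F₂.base w = f.base ((pullback.snd p p).base w) := by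
    intro w; rw [hF₂]; rfl
  -- near a collapsed point, all pairs are equalized
  have hVE : ∀ s ∈ Rigid.collapsed p f, ∃ V : S.Opens, s ∈ V ∧
      ∀ w : ↥(pullback p p), ξ.base w ∈ V → w ∈ eqLocus F₁ F₂ := by
    intro s hs
    obtain ⟨V, hsV, hV⟩ := RigidGC.exists_nhd_agree p f s hs
    refine ⟨V, hsV, fun w hw => ?_⟩
    refine ⟨(pullback p p).residueField w, inferInstance,
      (pullback p p).fromSpecResidueField w, ?_, ?_⟩
    · obtain ⟨pt⟩ : Nonempty (Spec ((pullback p p).residueField w)) := inferInstance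
      exact ⟨pt, Scheme.fromSpecResidueField_apply _ _⟩
    · have h1 : ((pullback p p).fromSpecResidueField w ≫ pullback.fst p p) ≫ f =
          ((pullback p p).fromSpecResidueField w ≫ pullback.snd p p) ≫ f := by
        refine hV ((pullback p p).residueField w) _ _ ?_ ?_
        · rw [Category.assoc, Category.assoc, pullback.condition]
        · rintro _ ⟨z, rfl⟩
          have h2 : (((pullback p p).fromSpecResidueField w ≫ pullback.fst p p) ≫ p).base z =
              ξ.base w := by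
            simp only [Scheme.Hom.comp_base, TopCat.hom_comp, ContinuousMap.comp_apply]
            rw [Scheme.fromSpecResidueField_apply, hξa]
          rw [h2]
          exact hw
      rw [hF₁, hF₂]
      simpa only [Category.assoc] using h1
  -- a point all of whose pairs are equalized is collapsed
  have hEcol : ∀ s : S, (∀ w : ↥(pullback p p), ξ.base w = s → w ∈ eqLocus F₁ F₂) →
      s ∈ Rigid.collapsed p f := by
    intro s hsE
    obtain ⟨x₀, hx₀⟩ := hsurj.surj s
    refine ⟨f.base x₀, fun x hx => ?_⟩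
    obtain ⟨w, hw1, hw2⟩ := Scheme.Pullback.exists_preimage_pullback (f := p) (g := p) x x₀
      (hx.trans hx₀.symm)
    have hwE := hsE w (by rw [hξa, hw1, hx])
    have h3 := apply_eq_of_mem_eqLocus F₁ F₂ w hwE
    rw [hF₁a, hF₂a, hw1, hw2] at h3
    exact h3
  have hCE : ∀ w : ↥(pullback p p), ξ.base w ∈ Rigid.collapsed p f → w ∈ eqLocus F₁ F₂ := by
    intro w hw
    obtain ⟨V, hsV, hV⟩ := hVE _ hw
    exact hV w hsV
  have hopenC : IsOpen (Rigid.collapsed p f) := by
    rw [isOpen_iff_forall_mem_open]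
    intro s hs
    obtain ⟨V, hsV, hV⟩ := hVE s hs
    exact ⟨V, fun s' hs' => hEcol s' (fun w hw => hV w (by rw [hw]; exact hs')), V.isOpen, hsV⟩
  have hclosure : closure (Rigid.collapsed p f) ⊆ Rigid.collapsed p f := by
    intro s₁ hs₁
    -- pairs over `s₁` landing in a common affine open are equalized
    have hstep1 : ∀ (w : ↥(pullback p p)) (U : Y.Opens), IsAffineOpen U → ξ.base w = s₁ →
        F₁.base w ∈ U → F₂.base w ∈ U → w ∈ eqLocus F₁ F₂ := by
      intro w U hU hw h1 h2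
      apply mem_eqLocus_of_mem_closure F₁ F₂ U hU w h1 h2
      have h3 : w ∈ ξ.base ⁻¹' closure (Rigid.collapsed p f) := by
        show ξ.base w ∈ closure (Rigid.collapsed p f)
        rw [hw]; exact hs₁
      have h4 := hopenξ.preimage_closure_subset_closure_preimage h3
      exact closure_mono (fun v hv => hCE v hv) h4
    -- `f` is locally constant on the fibre
    have hlc : IsLocallyConstant (fun x : ↥(p.base ⁻¹' {s₁}) => f.base x.1) := by
      rw [IsLocallyConstant.iff_exists_open]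
      intro x
      obtain ⟨U, hU, hyU, -⟩ := exists_isAffineOpen_mem_and_subset (x := f.base x.1) (U := ⊤) trivial
      refine ⟨Subtype.val ⁻¹' (f ⁻¹ᵁ U : Set X), (f ⁻¹ᵁ U).isOpen.preimage continuous_subtype_val,
        hyU, fun x' hx' => ?_⟩
      obtain ⟨w, hw1, hw2⟩ := Scheme.Pullback.exists_preimage_pullback (f := p) (g := p) x'.1 x.1
        (x'.2.trans x.2.symm)
      have hwE := hstep1 w U hU (by rw [hξa, hw1]; exact x'.2)
        (by rw [hF₁a, hw1]; exact hx') (by rw [hF₂a, hw2]; exact hyU)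
      have h3 := apply_eq_of_mem_eqLocus F₁ F₂ w hwE
      rw [hF₁a, hF₂a, hw1, hw2] at h3
      exact h3
    haveI : PreconnectedSpace ↥(p.base ⁻¹' {s₁}) :=
      isPreconnected_iff_preconnectedSpace.mp (p.isConnected_preimage_singleton s₁).isPreconnected
    obtain ⟨x₀, hx₀⟩ := hsurj.surj s₁
    refine ⟨f.base x₀, fun x hx => ?_⟩
    exact hlc.apply_eq_of_preconnectedSpace ⟨x, hx⟩ ⟨x₀, hx₀⟩
  have hclosedC : IsClosed (Rigid.collapsed p f) := closure_subset_iff_isClosed.mp hclosure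
  exact IsClopen.eq_univ ⟨hclosedC, hopenC⟩ ⟨s₀, hs⟩

end Groth.Agent.Lib.Helper13.RigidNS
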