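import Mathlib
import Groth.Prelude
import Groth.Agent.Lib.Helper13.BlanchardMain
import Groth.Agent.Lib.Helper13.RigidNS

/-!
# Blanchard's lemma for connected groups, without separatedness of the target

`G` a connected group scheme over a field `k`, `f : X ⟶ Y` proper with `f_* O_X = O_Y`, `Y` locally
of finite type over `k` (not necessarily separated): a `G`-action on `X` descends uniquely to `Y`.
-/

set_option autoImplicit false
set_option linter.style.haveILetI false
set_option maxHeartbeats 1600000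
universe u
open CategoryTheory CategoryTheory.Limits AlgebraicGeometry MonoidalCategory
  CartesianMonoidalCategory MonObj GrpObj

namespace Groth.Agent.Lib.Helper13.Blanchard

variable {k : Type u} [Field k] {G X Y : Over (Spec (CommRingCat.of k))} [GrpObj G]

theorem const_on_fibres' (f : X ⟶ Y) [IsProper f.left] [GeometricallyConnected f.left]
    [GeometricallyConnected G.hom] (a : AlgGrp.Action G X)
    (p₁ p₂ : ↥(G ⊗ X).left) (hp : (G ◁ f).left.base p₁ = (G ◁ f).left.base p₂) :
    (a.act ≫ f).left.base p₁ = (a.act ≫ f).left.base p₂ := by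
  -- the point of `Y` and its residue field
  obtain ⟨y, hy⟩ : ∃ y : Y.left, y = (pullback.snd G.hom Y.hom).base ((G ◁ f).left.base p₁) :=
    ⟨_, rfl⟩
  have hfstG : (fst G X).left = pullback.fst G.hom X.hom := rfl
  have hsndG : (snd G X).left = pullback.snd G.hom X.hom := rfl
  have hfstY : (fst G Y).left = pullback.fst G.hom Y.hom := rfl
  have hsndY : (snd G Y).left = pullback.snd G.hom Y.hom := rfl
  have hπ1 : (G ◁ f).left ≫ pullback.fst G.hom Y.hom = pullback.fst G.hom X.hom :=
    congrArg CommaMorphism.left (whiskerLeft_fst G f)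
  have hπ2 : (G ◁ f).left ≫ pullback.snd G.hom Y.hom = pullback.snd G.hom X.hom ≫ f.left :=
    congrArg CommaMorphism.left (whiskerLeft_snd G f)
  have hGX : (G ⊗ X).hom = pullback.fst G.hom X.hom ≫ G.hom := (Over.w (fst G X)).symm
  have hGY : (G ⊗ Y).hom = pullback.fst G.hom Y.hom ≫ G.hom := (Over.w (fst G Y)).symm
  -- instances
  haveI : UniversallyOpen G.hom := inferInstance
  haveI : GeometricallyConnected (pullback.snd G.hom Y.hom) := inferInstance
  haveI : UniversallyOpen (pullback.snd G.hom Y.hom) := inferInstance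
  haveI : ConnectedSpace ↥(pullback (pullback.snd G.hom Y.hom) (Y.left.fromSpecResidueField y)) :=
    inferInstance
  haveI : IsProper (f.left.fiberToSpecResidueField y) := by
    show IsProper (pullback.snd f.left (Y.left.fromSpecResidueField y))
    infer_instance
  haveI : UniversallyOpen (f.left.fiberToSpecResidueField y) := inferInstance
  haveI : GeometricallyConnected (f.left.fiberToSpecResidueField y) := inferInstance
  have hfib : f.left.fiberι y ≫ f.left =
      f.left.fiberToSpecResidueField y ≫ Y.left.fromSpecResidueField y := pullback.condition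
  have hScond : pullback.fst (pullback.snd G.hom Y.hom) (Y.left.fromSpecResidueField y) ≫
      pullback.snd G.hom Y.hom =
      pullback.snd (pullback.snd G.hom Y.hom) (Y.left.fromSpecResidueField y) ≫
        Y.left.fromSpecResidueField y := pullback.condition
  have hXcond : pullback.fst
        (pullback.snd (pullback.snd G.hom Y.hom) (Y.left.fromSpecResidueField y))
        (f.left.fiberToSpecResidueField y) ≫
      pullback.snd (pullback.snd G.hom Y.hom) (Y.left.fromSpecResidueField y) =
      pullback.snd (pullback.snd (pullback.snd G.hom Y.hom) (Y.left.fromSpecResidueField y))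
        (f.left.fiberToSpecResidueField y) ≫ f.left.fiberToSpecResidueField y :=
    pullback.condition
  -- abbreviations (opaque)
  obtain ⟨ιy, hιy⟩ : ∃ ιy : Spec (Y.left.residueField y) ⟶ Y.left,
      ιy = Y.left.fromSpecResidueField y := ⟨_, rfl⟩
  obtain ⟨qy, hqy⟩ : ∃ qy : f.left.fiber y ⟶ Spec (Y.left.residueField y),
      qy = f.left.fiberToSpecResidueField y := ⟨_, rfl⟩
  obtain ⟨jy, hjy⟩ : ∃ jy : f.left.fiber y ⟶ X.left, jy = f.left.fiberι y := ⟨_, rfl⟩
  rw [← hιy] at hScond hXcond hfib
  rw [← hqy] at hXcond hfib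
  rw [← hjy] at hfib
  have hιypt : ∀ t : Spec (Y.left.residueField y), ιy.base t = y := by
    intro t
    rw [hιy]
    exact Scheme.fromSpecResidueField_apply _ _
  haveI : ConnectedSpace ↥(pullback (pullback.snd G.hom Y.hom) ιy) := by
    rw [hιy]; infer_instance
  haveI : IsProper qy := by rw [hqy]; infer_instance
  haveI : UniversallyOpen qy := by rw [hqy]; infer_instance
  haveI : GeometricallyConnected qy := by rw [hqy]; infer_instance
  have hfibpb : IsPullback jy qy f.left ιy := by
    rw [hjy, hqy, hιy]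
    exact IsPullback.of_hasPullback f.left (Y.left.fromSpecResidueField y)
  -- S, 𝒳
  obtain ⟨ν, hν⟩ : ∃ ν : pullback (pullback.snd G.hom Y.hom) ιy ⟶ pullback G.hom Y.hom,
      ν = pullback.fst (pullback.snd G.hom Y.hom) ιy := ⟨_, rfl⟩
  obtain ⟨σ₂, hσ₂⟩ : ∃ σ₂ : pullback (pullback.snd G.hom Y.hom) ιy ⟶ Spec (Y.left.residueField y),
      σ₂ = pullback.snd (pullback.snd G.hom Y.hom) ιy := ⟨_, rfl⟩
  have hSpb : IsPullback ν σ₂ (pullback.snd G.hom Y.hom) ιy := by
    rw [hν, hσ₂]
    exact IsPullback.of_hasPullback _ _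
  rw [← hν, ← hσ₂] at hScond
  rw [← hσ₂] at hXcond
  haveI : IsProper (pullback.fst σ₂ qy) := inferInstance
  haveI : UniversallyOpen (pullback.fst σ₂ qy) := inferInstance
  haveI : GeometricallyConnected (pullback.fst σ₂ qy) := inferInstance
  obtain ⟨p, hp'⟩ : ∃ p : pullback σ₂ qy ⟶ pullback (pullback.snd G.hom Y.hom) ιy,
      p = pullback.fst σ₂ qy := ⟨_, rfl⟩
  obtain ⟨s', hs'⟩ : ∃ s' : pullback σ₂ qy ⟶ f.left.fiber y, s' = pullback.snd σ₂ qy := ⟨_, rfl⟩
  haveI : IsProper p := by rw [hp']; infer_instance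
  haveI : UniversallyOpen p := by rw [hp']; infer_instance
  haveI : GeometricallyConnected p := by rw [hp']; infer_instance
  have hXpb : IsPullback s' p qy σ₂ := by
    rw [hs', hp']
    exact (IsPullback.of_hasPullback σ₂ qy).flip
  rw [← hp', ← hs'] at hXcond
  -- the map m
  have hmc : (p ≫ ν ≫ pullback.fst G.hom Y.hom) ≫ G.hom = (s' ≫ jy) ≫ X.hom := by
    calc (p ≫ ν ≫ pullback.fst G.hom Y.hom) ≫ G.hom
        = p ≫ ν ≫ pullback.snd G.hom Y.hom ≫ Y.hom := by
          simp only [Category.assoc, pullback.condition]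
      _ = p ≫ (σ₂ ≫ ιy) ≫ Y.hom := by rw [← hScond]; simp only [Category.assoc]
      _ = (s' ≫ qy) ≫ ιy ≫ Y.hom := by rw [← hXcond]; simp only [Category.assoc]
      _ = s' ≫ (jy ≫ f.left) ≫ Y.hom := by rw [hfib]; simp only [Category.assoc]
      _ = (s' ≫ jy) ≫ X.hom := by rw [← Over.w f]; simp only [Category.assoc]
  obtain ⟨m, hm1, hm2⟩ : ∃ m : pullback σ₂ qy ⟶ pullback G.hom X.hom,
      m ≫ pullback.fst G.hom X.hom = p ≫ ν ≫ pullback.fst G.hom Y.hom ∧
      m ≫ pullback.snd G.hom X.hom = s' ≫ jy :=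
    ⟨pullback.lift _ _ hmc, pullback.lift_fst _ _ _, pullback.lift_snd _ _ _⟩
  have hmπ : m ≫ (G ◁ f).left = p ≫ ν := by
    apply pullback.hom_ext
    · rw [Category.assoc, hπ1, hm1, Category.assoc]
    · rw [Category.assoc, hπ2, ← Category.assoc, hm2, Category.assoc, hfib, Category.assoc,
        hScond, ← Category.assoc, ← Category.assoc, hXcond]
  have hbig : IsPullback (m ≫ pullback.snd G.hom X.hom) p f.left
      (ν ≫ pullback.snd G.hom Y.hom) := by
    rw [hm2, hScond]
    exact hXpb.paste_horiz hfibpb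
  have hmpb : IsPullback m p (G ◁ f).left ν :=
    IsPullback.of_right hbig hmπ (isPullback_whiskerLeft G f)
  -- the morphism Φ
  have hΦ : (m ≫ (a.act ≫ f).left) ≫ Y.hom = p ≫ (ν ≫ (G ⊗ Y).hom) := by
    rw [Category.assoc, Over.w (a.act ≫ f), ← Over.w (G ◁ f), ← Category.assoc, hmπ,
      Category.assoc]
  -- the identity point
  have hηw : η[G].left ≫ G.hom = 𝟙 (Spec (CommRingCat.of k)) := Over.w η[G]
  have heYc : ((ιy ≫ Y.hom) ≫ η[G].left) ≫ G.hom = ιy ≫ Y.hom := by
    rw [Category.assoc, hηw, Category.comp_id]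
  obtain ⟨eY, heY1, heY2⟩ : ∃ eY : Spec (Y.left.residueField y) ⟶ pullback G.hom Y.hom,
      eY ≫ pullback.fst G.hom Y.hom = (ιy ≫ Y.hom) ≫ η[G].left ∧
      eY ≫ pullback.snd G.hom Y.hom = ιy :=
    ⟨pullback.lift _ _ heYc, pullback.lift_fst _ _ _, pullback.lift_snd _ _ _⟩
  obtain ⟨eS, heS1, heS2⟩ : ∃ eS : Spec (Y.left.residueField y) ⟶
        pullback (pullback.snd G.hom Y.hom) ιy,
      eS ≫ ν = eY ∧ eS ≫ σ₂ = 𝟙 _ := by
    refine ⟨pullback.lift eY (𝟙 _) (by rw [heY2, Category.id_comp]), ?_, ?_⟩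
    · rw [hν]; exact pullback.lift_fst _ _ _
    · rw [hσ₂]; exact pullback.lift_snd _ _ _
  obtain ⟨pt⟩ : Nonempty (Spec (Y.left.residueField y)) := inferInstance
  have hcol : eS.base pt ∈ Rigid.collapsed p (m ≫ (a.act ≫ f).left) := by
    refine ⟨y, fun x hx => ?_⟩
    obtain ⟨x', hx'1, -⟩ := Scheme.Pullback.exists_preimage_pullback (f := p) (g := eS) x pt hx
    -- morphism-level computation on `pullback p eS`
    have hW : (pullback.fst p eS ≫ m) ≫ pullback.fst G.hom X.hom =
        (pullback.snd p eS ≫ ιy ≫ Y.hom) ≫ η[G].left := by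
      rw [Category.assoc, hm1, ← Category.assoc, pullback.condition, Category.assoc,
        ← Category.assoc eS, heS1, heY1]
      simp only [Category.assoc]
    have hWhom : (pullback.fst p eS ≫ m) ≫ (G ⊗ X).hom = pullback.snd p eS ≫ ιy ≫ Y.hom := by
      rw [hGX, ← Category.assoc, hW, Category.assoc, hηw, Category.comp_id]
    let W : Over (Spec (CommRingCat.of k)) := Over.mk ((pullback.fst p eS ≫ m) ≫ (G ⊗ X).hom)
    let M : W ⟶ G ⊗ X := Over.homMk (pullback.fst p eS ≫ m) rfl
    have hMfst : M ≫ fst G X = toUnit W ≫ η[G] := by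
      apply Over.OverMorphism.ext
      have h1 : (toUnit W).left = W.hom := by
        have h2 := Over.w (toUnit W)
        simpa using h2
      show (pullback.fst p eS ≫ m) ≫ pullback.fst G.hom X.hom = (toUnit W).left ≫ η[G].left
      rw [h1, hW]
      show _ = ((pullback.fst p eS ≫ m) ≫ (G ⊗ X).hom) ≫ η[G].left
      rw [hWhom]
    have hMact : M ≫ a.act = M ≫ snd G X := by
      have h1 : M = lift (toUnit W ≫ η[G]) (M ≫ snd G X) := by
        apply CartesianMonoidalCategory.hom_ext
        · rw [lift_fst, hMfst]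
        · rw [lift_snd]
      conv_lhs => rw [h1]
      exact lift_unit_act a _
    have hMact' : (pullback.fst p eS ≫ m) ≫ a.act.left =
        (pullback.fst p eS ≫ m) ≫ pullback.snd G.hom X.hom :=
      congrArg CommaMorphism.left hMact
    have hfin : pullback.fst p eS ≫ m ≫ (a.act ≫ f).left =
        (pullback.fst p eS ≫ s' ≫ qy) ≫ ιy := by
      calc pullback.fst p eS ≫ m ≫ (a.act ≫ f).left
          = ((pullback.fst p eS ≫ m) ≫ a.act.left) ≫ f.left := by
            simp only [Over.comp_left, Category.assoc]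
        _ = ((pullback.fst p eS ≫ m) ≫ pullback.snd G.hom X.hom) ≫ f.left := by rw [hMact']
        _ = pullback.fst p eS ≫ s' ≫ jy ≫ f.left := by
            simp only [Category.assoc]
            rw [← Category.assoc m, hm2]
            simp only [Category.assoc]
        _ = (pullback.fst p eS ≫ s' ≫ qy) ≫ ιy := by rw [hfib]; simp only [Category.assoc]
    have h3 := congrArg (fun φ => φ.base x') hfin
    simp only [Scheme.Hom.comp_base, TopCat.hom_comp, ContinuousMap.comp_apply] at h3
    rw [hx'1] at h3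
    rw [hιypt] at h3
    simpa only [Scheme.Hom.comp_base, TopCat.hom_comp, ContinuousMap.comp_apply] using h3
  have hall := RigidNS.collapsed_eq_univ p (m ≫ (a.act ≫ f).left) _ hcol
  -- the two points
  have hz : (pullback.snd G.hom Y.hom).base ((G ◁ f).left.base p₁) = ιy.base pt := by
    rw [hιypt, hy]
  obtain ⟨s, hs1, -⟩ := Scheme.Pullback.exists_preimage_pullback
    (f := pullback.snd G.hom Y.hom) (g := ιy) ((G ◁ f).left.base p₁) pt hz
  have hs1' : ν.base s = (G ◁ f).left.base p₁ := by rw [hν]; exact hs1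
  obtain ⟨w₁, hw11, hw12⟩ := Scheme.Pullback.exists_preimage_pullback
    (f := (G ◁ f).left) (g := ν) p₁ s hs1'.symm
  obtain ⟨w₂, hw21, hw22⟩ := Scheme.Pullback.exists_preimage_pullback
    (f := (G ◁ f).left) (g := ν) p₂ s (hp.symm.trans hs1'.symm)
  have hmx : ∀ w : ↥(pullback (G ◁ f).left ν),
      m.base (hmpb.isoPullback.inv.base w) = (pullback.fst (G ◁ f).left ν).base w := by
    intro w
    rw [← Scheme.Hom.comp_apply, hmpb.isoPullback_inv_fst]
  have hpx : ∀ w : ↥(pullback (G ◁ f).left ν),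
      p.base (hmpb.isoPullback.inv.base w) = (pullback.snd (G ◁ f).left ν).base w := by
    intro w
    rw [← Scheme.Hom.comp_apply, hmpb.isoPullback_inv_snd]
  have hs_col : s ∈ Rigid.collapsed p (m ≫ (a.act ≫ f).left) := by
    rw [hall]; exact Set.mem_univ s
  obtain ⟨y', hy'⟩ := hs_col
  have e1 := hy' (hmpb.isoPullback.inv.base w₁) (by rw [hpx, hw12])
  have e2 := hy' (hmpb.isoPullback.inv.base w₂) (by rw [hpx, hw22])
  simp only [Scheme.Hom.comp_base, TopCat.hom_comp, ContinuousMap.comp_apply] at e1 e2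
  rw [hmx, hw11] at e1
  rw [hmx, hw21] at e2
  simp only [Scheme.Hom.comp_base, TopCat.hom_comp, ContinuousMap.comp_apply]
  rw [e1, e2]

theorem existsUnique_action' [ConnectedSpace ↥G.left] [LocallyOfFiniteType Y.hom]
    (f : X ⟶ Y) [IsProper f.left]
    (hf : ∀ U : Y.left.Opens, IsIso (f.left.app U)) (a : AlgGrp.Action G X) :
    ∃! b : AlgGrp.Action G Y, (G ◁ f) ≫ b.act = a.act ≫ f := by
  haveI : IsLocallyNoetherian Y.left := LocallyOfFiniteType.isLocallyNoetherian Y.hom
  haveI : GeometricallyConnected f.left :=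
    (Groth.Agent.Lib.Helper13.ZariskiConn.main2431 f.left hf).2
  haveI : GeometricallyConnected G.hom :=
    Groth.Agent.Lib.Helper29.ExtGrp.geomConn_of_section G.hom η[G].left (Over.w η[G])
  obtain ⟨b, hb⟩ := exists_action f hf G a (const_on_fibres' f a)
  refine ⟨b, hb, fun b' hb' => ?_⟩
  haveI := epi_whiskerLeft f hf G
  apply action_ext
  rw [← cancel_epi (G ◁ f), hb', hb]

end Groth.Agent.Lib.Helper13.Blanchard
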