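import Mathlib
import Groth.Prelude

set_option autoImplicit false
set_option linter.style.haveILetI false

/-!
# Sub-lemmas L1 and L5 for S13737 (requested by helper9)
-/

universe u

open CategoryTheory CategoryTheory.Limits AlgebraicGeometry TopologicalSpace

namespace Groth.Agent.Lib.Helper13.BlowMono

/-- the unit ideal sheaf is effective Cartier. -/
theorem isEffCartierIdeal_top (T : Scheme.{u}) :
    BlowUp.IsEffCartierIdeal (⊤ : T.IdealSheafData) := by
  intro t
  obtain ⟨_, ⟨V, hV, rfl⟩, htV, -⟩ :=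
    (T.isBasis_affineOpens).exists_subset_of_mem_open (Set.mem_univ t) isOpen_univ
  refine ⟨⟨V, hV⟩, htV, 1, one_mem _, ?_⟩
  rw [Scheme.IdealSheafData.ideal_top]
  simp

/-- (L1) blow-up (universal property only) is a monomorphism away from the centre. -/
theorem eq_of_comp_eq_of_disjoint_support {X X' T : Scheme.{u}} (𝓘 : X.IdealSheafData)
    (b : X' ⟶ X) (hb : BlowUp.IsBlowUp b 𝓘) (φ₁ φ₂ : T ⟶ X') (h : φ₁ ≫ b = φ₂ ≫ b)
    (hd : ∀ t : T, (φ₁ ≫ b) t ∉ (𝓘.support : Set X)) : φ₁ = φ₂ := by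
  have htop : 𝓘.comap (φ₁ ≫ b) = ⊤ := by
    rw [← Scheme.IdealSheafData.support_eq_bot_iff]
    ext t
    rw [Scheme.IdealSheafData.support_comap]
    simp only [Closeds.coe_preimage, Set.mem_preimage, SetLike.mem_coe]
    constructor
    · intro ht
      exact (hd t ht).elim
    · intro ht
      exact (ht : t ∈ (∅ : Set T)).elim
  have hcart : BlowUp.IsEffCartierIdeal (𝓘.comap (φ₁ ≫ b)) := by
    rw [htop]
    exact isEffCartierIdeal_top T
  exact (hb.2 T (φ₁ ≫ b) hcart).unique rfl h.symm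

/-- (L5) two maps into a separated scheme that agree on an open agree pointwise on its closure. -/
theorem apply_eq_of_mem_closure {W Y : Scheme.{u}} [Y.IsSeparated] (φ₁ φ₂ : W ⟶ Y) (B : W.Opens)
    (h : B.ι ≫ φ₁ = B.ι ≫ φ₂) (w : W) (hw : w ∈ closure (B : Set W)) : φ₁ w = φ₂ w := by
  have hcl : IsClosed (Set.range (equalizer.ι φ₁ φ₂)) :=
    (equalizer.ι φ₁ φ₂).isClosedEmbedding.isClosed_range
  have hsub : (B : Set W) ⊆ Set.range (equalizer.ι φ₁ φ₂) := by
    intro x hx
    refine ⟨(equalizer.lift B.ι h) ⟨x, hx⟩, ?_⟩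
    rw [← Scheme.Hom.comp_apply, equalizer.lift_ι]
    rfl
  obtain ⟨c, rfl⟩ := (closure_minimal hsub hcl) hw
  rw [← Scheme.Hom.comp_apply, ← Scheme.Hom.comp_apply, equalizer.condition]

end Groth.Agent.Lib.Helper13.BlowMono
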