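import Mathlib
import Groth.Prelude.Def_CAlg2

/-!
# Algebra for unibranch points

* `normEquiv`: the integral closures of isomorphic domains in their fraction fields are isomorphic.
* `isLocalRing_integralClosure_of_isUnibranch`: for a unibranch local domain `O` with fraction field
  `L`, the integral closure of `O` in `L` is local.
* `isLocalRing_of_radicial`: if moreover every element of a subring `C` of `K ⊇ L`, integral over `O`,
  has a `p^e`-th power in `L`, then `C` is local.
-/

set_option autoImplicit false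
set_option maxHeartbeats 400000
set_option linter.style.haveILetI false
universe u

namespace Groth.Agent.Lib.Helper13.UnibranchAlg

section NormEquiv

variable {D₁ D₂ F₁ F₂ : Type*} [CommRing D₁] [CommRing D₂] [IsDomain D₁] [IsDomain D₂]
  [Field F₁] [Field F₂] [Algebra D₁ F₁] [Algebra D₂ F₂] [IsFractionRing D₁ F₁]
  [IsFractionRing D₂ F₂]

lemma isIntegral_map (e : D₁ ≃+* D₂) (z : F₁) (hz : IsIntegral D₁ z) :
    IsIntegral D₂ (IsFractionRing.ringEquivOfRingEquiv (K := F₁) (L := F₂) e z) := by
  obtain ⟨p, hp, hpz⟩ := hz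
  refine ⟨p.map e.toRingHom, hp.map _, ?_⟩
  rw [Polynomial.eval₂_map]
  have h1 := Polynomial.hom_eval₂ p (algebraMap D₁ F₁)
    (IsFractionRing.ringEquivOfRingEquiv (K := F₁) (L := F₂) e).toRingHom z
  have h2 : (IsFractionRing.ringEquivOfRingEquiv (K := F₁) (L := F₂) e).toRingHom.comp
      (algebraMap D₁ F₁) = (algebraMap D₂ F₂).comp e.toRingHom := by
    ext a
    exact IsFractionRing.ringEquivOfRingEquiv_algebraMap e a
  rw [h2] at h1
  exact h1.symm.trans (by rw [hpz, map_zero])

/-- Isomorphic domains have isomorphic normalizations. -/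
noncomputable def normEquiv (e : D₁ ≃+* D₂) :
    integralClosure D₁ F₁ ≃+* integralClosure D₂ F₂ where
  toFun z := ⟨IsFractionRing.ringEquivOfRingEquiv (K := F₁) (L := F₂) e z.1,
    isIntegral_map e z.1 z.2⟩
  invFun w := ⟨IsFractionRing.ringEquivOfRingEquiv (K := F₂) (L := F₁) e.symm w.1,
    isIntegral_map e.symm w.1 w.2⟩
  left_inv z := by
    apply Subtype.ext
    change (IsFractionRing.ringEquivOfRingEquiv (K := F₁) (L := F₂) e).symm
      (IsFractionRing.ringEquivOfRingEquiv (K := F₁) (L := F₂) e z.1) = z.1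
    exact RingEquiv.symm_apply_apply _ _
  right_inv w := by
    apply Subtype.ext
    change (IsFractionRing.ringEquivOfRingEquiv (K := F₁) (L := F₂) e)
      ((IsFractionRing.ringEquivOfRingEquiv (K := F₁) (L := F₂) e).symm w.1) = w.1
    exact RingEquiv.apply_symm_apply _ _
  map_mul' z w := Subtype.ext (map_mul _ _ _)
  map_add' z w := Subtype.ext (map_add _ _ _)

end NormEquiv

section Unibranch

variable (O : Type u) [CommRing O] [IsDomain O] [IsLocalRing O] (L : Type*) [Field L] [Algebra O L]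
  [IsFractionRing O L]

/-- For a unibranch local domain, the integral closure in the fraction field is local. -/
theorem isLocalRing_integralClosure_of_isUnibranch (hO : CAlg2.IsUnibranch O) :
    IsLocalRing (integralClosure O L) := by
  obtain ⟨hdom, hloc⟩ := hO
  haveI := hdom
  haveI := hloc
  have hnil : nilradical O = ⊥ := nilradical_eq_zero O
  let e₀ : CAlg2.red O ≃+* O := (Ideal.quotEquivOfEq hnil).trans (RingEquiv.quotientBot O)
  let e : CAlg2.normRed O ≃+* integralClosure O L :=
    normEquiv (F₁ := FractionRing (CAlg2.red O)) (F₂ := L) e₀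
  exact e.isLocalRing

end Unibranch

section Radicial

variable {O L K : Type*} [CommRing O] [Field L] [Field K] [Algebra O L] (φ : L →+* K)
  (C : Subring K) (hC : ∀ c, c ∈ C ↔ (φ.comp (algebraMap O L)).IsIntegralElem c)

include hC in
lemma mem_of_isIntegral (w : L) (hw : IsIntegral O w) : φ w ∈ C := by
  rw [hC]
  obtain ⟨P, hP, hPw⟩ := hw
  refine ⟨P, hP, ?_⟩
  have h1 := Polynomial.hom_eval₂ P (algebraMap O L) φ w
  rw [← h1, hPw, map_zero]

include hC in
lemma isIntegral_of_mem (z : L) (hz : φ z ∈ C) : IsIntegral O z := by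
  obtain ⟨P, hP, hPz⟩ := (hC _).mp hz
  refine ⟨P, hP, φ.injective ?_⟩
  rw [map_zero, Polynomial.hom_eval₂]
  exact hPz

include hC in
lemma isUnit_of_pow (c : ↥C) (q : ℕ) (hq : 0 < q) (z : L) (hz : (c : K) ^ q = φ z)
    (hzu : ∃ w : L, IsIntegral O w ∧ z * w = 1) : IsUnit c := by
  obtain ⟨w, hw, hzw⟩ := hzu
  have hmem : (c : K) ^ (q - 1) * φ w ∈ C :=
    C.mul_mem (C.pow_mem c.2 _) (mem_of_isIntegral φ C hC w hw)
  refine IsUnit.of_mul_eq_one (⟨(c : K) ^ (q - 1) * φ w, hmem⟩ : ↥C) (Subtype.ext ?_)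
  change (c : K) * ((c : K) ^ (q - 1) * φ w) = 1
  rw [← mul_assoc, mul_pow_sub_one hq.ne', hz, ← map_mul, hzw, map_one]

include hC in
/-- If every element of `C` (the integral closure of `O` in `K`) has a `p^e`-th power in `L`, and the
integral closure of `O` in `L` is local, then `C` is local. -/
theorem isLocalRing_of_radicial (p : ℕ) [ExpChar K p] [IsLocalRing (integralClosure O L)]
    (hrad : ∀ c ∈ C, ∃ (e : ℕ) (z : L), c ^ (p ^ e) = φ z) : IsLocalRing ↥C := by
  refine IsLocalRing.of_isUnit_or_isUnit_one_sub_self fun c => ?_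
  obtain ⟨e, z, hz⟩ := hrad c.1 c.2
  have hzC : φ z ∈ C := hz ▸ C.pow_mem c.2 _
  have hzint := isIntegral_of_mem φ C hC z hzC
  have hpos : 0 < p ^ e := expChar_pow_pos K p e
  rcases IsLocalRing.isUnit_or_isUnit_one_sub_self (⟨z, hzint⟩ : integralClosure O L) with
    hu | hu
  · left
    obtain ⟨w', hw'⟩ := hu.exists_right_inv
    exact isUnit_of_pow φ C hC c (p ^ e) hpos z hz
      ⟨w'.1, w'.2, congrArg Subtype.val hw'⟩
  · right
    obtain ⟨w', hw'⟩ := hu.exists_right_inv
    have h1 : ((1 - c : ↥C) : K) ^ (p ^ e) = φ (1 - z) := by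
      change ((1 : K) - (c : K)) ^ (p ^ e) = φ (1 - z)
      rw [sub_pow_expChar_pow, one_pow, hz, map_sub, map_one]
    exact isUnit_of_pow φ C hC (1 - c) (p ^ e) hpos (1 - z) h1
      ⟨w'.1, w'.2, congrArg Subtype.val hw'⟩

end Radicial

end Groth.Agent.Lib.Helper13.UnibranchAlg
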