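import Mathlib
import Groth.Prelude.Def_ega3
import Groth.Prelude.Def_CAlg2
import Groth.Agent.Lib.Helper13.SteinCount
import Groth.Agent.Lib.Helper13.UnibranchAlg
import Groth.Agent.Lib.Helper13.ZariskiNormal

/-!
# Fibres over unibranch points (purely inseparable case)
-/

set_option autoImplicit false
set_option maxHeartbeats 400000
set_option linter.style.haveILetI false
universe u

namespace Groth.Agent.Lib.Helper13.SteinUnibranch

open CategoryTheory Limits AlgebraicGeometry TopologicalSpace

variable {X Y : Scheme.{u}} [IsIntegral X] [IsIntegral Y] (f : X ⟶ Y)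

/-- `O_{Y,y} → R(X)` factors through `R(Y)`. -/
theorem stalkToFunctionField_eq_comp (hdom : f.base (genericPoint X) ⤳ genericPoint Y) (y : Y)
    (h : f.base (genericPoint X) ⤳ y) :
    CohIII.stalkToFunctionField f y h =
      (CohIII.stalkToFunctionField f (genericPoint Y) hdom).comp
        (algebraMap (Y.presheaf.stalk y) Y.functionField) := by
  unfold CohIII.stalkToFunctionField
  rw [RingHom.comp_assoc]
  congr 1
  rw [RingHom.algebraMap_toAlgebra, ← CommRingCat.hom_comp,
    TopCat.Presheaf.stalkSpecializes_comp]

/-- A closed dominant morphism of integral schemes is surjective. -/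
theorem surjective_of_isClosedMap (hcl : IsClosedMap f)
    (hdom : f.base (genericPoint X) ⤳ genericPoint Y) : Function.Surjective f := by
  intro y
  have hgen : f.base (genericPoint X) = genericPoint Y :=
    Groth.Agent.Lib.Helper13.ZariskiNormal.map_genericPoint f hdom
  have h1 : genericPoint Y ∈ Set.range f := ⟨genericPoint X, hgen⟩
  have h2 : IsClosed (Set.range f) := hcl.isClosed_range
  have h3 : closure {genericPoint Y} ⊆ Set.range f :=
    h2.closure_subset_iff.mpr (Set.singleton_subset_iff.mpr h1)
  have h4 : y ∈ closure {genericPoint Y} := by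
    rw [(genericPoint_spec Y).def]; trivial
  exact h3 h4

/-- The integral closure of a unibranch `O_{Y,y}` in `R(X)` is local when the algebraic closure of
`R(Y)` in `R(X)` is purely inseparable over `R(Y)`. -/
theorem isLocalRing_integralClosureStalk
    (hdom : f.base (genericPoint X) ⤳ genericPoint Y)
    (hrad : ∀ x : X.functionField,
      (∃ q : Polynomial Y.functionField, q ≠ 0 ∧
        Polynomial.eval₂ (CohIII.stalkToFunctionField f (genericPoint Y) hdom) x q = 0) →
      ∃ e : ℕ, x ^ (ringExpChar X.functionField ^ e) ∈
        Set.range (CohIII.stalkToFunctionField f (genericPoint Y) hdom))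
    (y : Y) (hy : CAlg2.IsUnibranch (Y.presheaf.stalk y))
    (h : f.base (genericPoint X) ⤳ y) :
    IsLocalRing ↥(CohIII.integralClosureStalk f y h) := by
  haveI : IsLocalRing (integralClosure (Y.presheaf.stalk y) Y.functionField) :=
    Groth.Agent.Lib.Helper13.UnibranchAlg.isLocalRing_integralClosure_of_isUnibranch
      (Y.presheaf.stalk y) Y.functionField hy
  have hC : ∀ c, c ∈ CohIII.integralClosureStalk f y h ↔
      ((CohIII.stalkToFunctionField f (genericPoint Y) hdom).comp
        (algebraMap (Y.presheaf.stalk y) Y.functionField)).IsIntegralElem c := by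
    intro c
    rw [← stalkToFunctionField_eq_comp f hdom y h]
    exact Iff.rfl
  refine Groth.Agent.Lib.Helper13.UnibranchAlg.isLocalRing_of_radicial
    (CohIII.stalkToFunctionField f (genericPoint Y) hdom)
    (CohIII.integralClosureStalk f y h) hC (ringExpChar X.functionField) ?_
  intro c hc
  obtain ⟨P, hP, hPc⟩ := (hC c).mp hc
  have hq0 : P.map (algebraMap (Y.presheaf.stalk y) Y.functionField) ≠ 0 := (hP.map _).ne_zero
  have hq : Polynomial.eval₂ (CohIII.stalkToFunctionField f (genericPoint Y) hdom) c
      (P.map (algebraMap (Y.presheaf.stalk y) Y.functionField)) = 0 := by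
    rw [Polynomial.eval₂_map]; exact hPc
  obtain ⟨e, z, hz⟩ := hrad c ⟨_, hq0, hq⟩
  exact ⟨e, z, hz.symm⟩

/-- A nonempty space with at most one connected component is connected. -/
theorem connectedSpace_of_card_le_one {α : Type*} [TopologicalSpace α] [Nonempty α]
    (h : Cardinal.mk (_root_.ConnectedComponents α) ≤ 1) : ConnectedSpace α := by
  haveI : Subsingleton (_root_.ConnectedComponents α) := Cardinal.le_one_iff_subsingleton.mp h
  obtain ⟨x⟩ := (inferInstance : Nonempty α)
  rw [connectedSpace_iff_connectedComponent]
  refine ⟨x, Set.eq_univ_of_forall fun x' => ?_⟩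
  have h1 : (x' : _root_.ConnectedComponents α) = x := Subsingleton.elim _ _
  have h2 := ConnectedComponents.coe_eq_coe.mp h1
  rw [← h2]
  exact mem_connectedComponent

/-- S4464. -/
theorem main4464 [IsLocallyNoetherian Y] [IsProper f]
    (hdom : f.base (genericPoint X) ⤳ genericPoint Y)
    (hrad : ∀ x : X.functionField,
      (∃ q : Polynomial Y.functionField, q ≠ 0 ∧
        Polynomial.eval₂ (CohIII.stalkToFunctionField f (genericPoint Y) hdom) x q = 0) →
      ∃ e : ℕ, x ^ (ringExpChar X.functionField ^ e) ∈
        Set.range (CohIII.stalkToFunctionField f (genericPoint Y) hdom))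
    (y : Y) (hy : CAlg2.IsUnibranch (Y.presheaf.stalk y)) :
    ConnectedSpace ↥(f.fiber y) := by
  have hgen : f.base (genericPoint X) = genericPoint Y :=
    Groth.Agent.Lib.Helper13.ZariskiNormal.map_genericPoint f hdom
  have h : f.base (genericPoint X) ⤳ y := by
    rw [hgen]; exact (genericPoint_spec Y).specializes trivial
  haveI := isLocalRing_integralClosureStalk f hdom hrad y hy h
  obtain ⟨x, hx⟩ := surjective_of_isClosedMap f f.isClosedMap hdom y
  haveI : Nonempty ↥(f.fiber y) := by
    have : x ∈ Set.range (f.fiberι y) := by rw [f.range_fiberι]; exact hx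
    obtain ⟨x₀, -⟩ := this
    exact ⟨x₀⟩
  apply connectedSpace_of_card_le_one
  refine (Groth.Agent.Lib.Helper13.SteinCount.card_connectedComponents_le f y h).trans ?_
  rw [Cardinal.le_one_iff_subsingleton]
  constructor
  intro M₁ M₂
  ext1
  rw [IsLocalRing.eq_maximalIdeal M₁.isMaximal, IsLocalRing.eq_maximalIdeal M₂.isMaximal]

end Groth.Agent.Lib.Helper13.SteinUnibranch
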