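import Mathlib
import Groth.Prelude.Def_BlowUp2
import Groth.Agent.Lib.Helper13.SteinUnibranch
import Groth.Agent.Lib.Helper17.BlowUpIntegral
import Groth.Agent.Lib.Helper17.BlowUpProper

/-!
# The closed fibre of a blow-up of a unibranch Noetherian local domain is connected
-/

set_option autoImplicit false
set_option maxHeartbeats 400000
set_option linter.style.haveILetI false
universe u

namespace Groth.Agent.Lib.Helper13.BlowUnibranch

open CategoryTheory Limits AlgebraicGeometry TopologicalSpace

section Transport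

open Groth.Agent.Lib.Helper13.UnibranchAlg

/-- Unibranchness of local domains is invariant under ring isomorphisms. -/
theorem isUnibranch_of_ringEquiv {A B : Type u} [CommRing A] [CommRing B] [IsDomain A] [IsDomain B]
    [IsLocalRing A] [IsLocalRing B] (e : A ≃+* B) (hA : CAlg2.IsUnibranch A) :
    CAlg2.IsUnibranch B := by
  obtain ⟨hdomA, hlocA⟩ := hA
  haveI := hdomA
  haveI := hlocA
  have hnilA : nilradical A = ⊥ := nilradical_eq_zero A
  have hnilB : nilradical B = ⊥ := nilradical_eq_zero B
  let eA : CAlg2.red A ≃+* A := (Ideal.quotEquivOfEq hnilA).trans (RingEquiv.quotientBot A)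
  let eB : CAlg2.red B ≃+* B := (Ideal.quotEquivOfEq hnilB).trans (RingEquiv.quotientBot B)
  haveI hdomB : IsDomain (CAlg2.red B) := eB.toMulEquiv.isDomain _
  refine ⟨hdomB, ?_⟩
  let e' : CAlg2.red A ≃+* CAlg2.red B := (eA.trans e).trans eB.symm
  let E : CAlg2.normRed A ≃+* CAlg2.normRed B :=
    normEquiv (F₁ := FractionRing (CAlg2.red A)) (F₂ := FractionRing (CAlg2.red B)) e'
  exact E.isLocalRing

end Transport

/-- The local ring of `Spec A` at the closed point of a local ring `A` is `A`. -/
noncomputable def stalkClosedPointEquiv (A : Type u) [CommRing A] [IsLocalRing A] :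
    A ≃+* (Spec (CommRingCat.of A)).presheaf.stalk (IsLocalRing.closedPoint A) :=
  (IsLocalization.atUnits A (IsLocalRing.closedPoint A).asIdeal.primeCompl
    (S := (Spec.structureSheaf A).presheaf.stalk (IsLocalRing.closedPoint A))
    (fun x hx => IsLocalRing.notMem_maximalIdeal.mp hx)).toRingEquiv

theorem isUnibranch_stalk_closedPoint (A : Type u) [CommRing A] [IsDomain A] [IsLocalRing A]
    (hA : CAlg2.IsUnibranch A) :
    haveI : IsIntegral (Spec (CommRingCat.of A)) := inferInstance
    CAlg2.IsUnibranch ((Spec (CommRingCat.of A)).presheaf.stalk (IsLocalRing.closedPoint A)) :=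
  isUnibranch_of_ringEquiv (stalkClosedPointEquiv A) hA

/-- A blow-up in the zero ideal is empty. -/
theorem isEmpty_of_isBlowUp_bot {X Y : Scheme.{u}} (b : X ⟶ Y)
    (hb : BlowUp.IsBlowUp b (⊥ : Y.IdealSheafData)) : IsEmpty X := by
  constructor
  intro x
  have h1 := hb.1 x
  rw [Scheme.IdealSheafData.comap_bot] at h1
  obtain ⟨U, hxU, t, ht, hUt⟩ := h1
  have ht0 : t = 0 := by
    have h2 : t ∈ Ideal.span {t} := Ideal.subset_span rfl
    rw [← hUt] at h2
    exact h2
  rw [ht0] at ht
  have h01 : (1 : Γ(X, U.1)) = 0 := by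
    have := ht.1 1 (by rw [zero_mul])
    exact this
  have h3 := congrArg (X.presheaf.germ U.1 x hxU) h01
  rw [map_one, map_zero] at h3
  exact one_ne_zero h3

/-- For a birational morphism of integral schemes (bijective on residue fields of the generic
points), the map `R(Y) → R(X)` is surjective. -/
theorem stalkToFunctionField_surjective {X Y : Scheme.{u}} [IsIntegral X] [IsIntegral Y] (b : X ⟶ Y)
    (hgen : b.base (genericPoint X) = genericPoint Y)
    (hbij : Function.Bijective (b.residueFieldMap (genericPoint X)).hom)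
    (hdom : b.base (genericPoint X) ⤳ genericPoint Y) :
    Function.Surjective (CohIII.stalkToFunctionField b (genericPoint Y) hdom) := by
  intro x
  obtain ⟨z, hz⟩ := hbij.2 (X.residue (genericPoint X) x)
  obtain ⟨w, rfl⟩ := IsLocalRing.residue_surjective (R := Y.presheaf.stalk (b (genericPoint X))) z
  have h1 := ConcreteCategory.congr_hom (Scheme.residue_residueFieldMap b (genericPoint X)) w
  rw [ConcreteCategory.comp_apply, ConcreteCategory.comp_apply] at h1
  have h2 : X.residue (genericPoint X) ((b.stalkMap (genericPoint X)) w) =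
      X.residue (genericPoint X) x := h1.symm.trans hz
  have hinj : Function.Injective (X.residue (genericPoint X)) :=
    RingHom.injective (X.residue (genericPoint X)).hom
  have h3 : (b.stalkMap (genericPoint X)) w = x := hinj h2
  -- `w` comes from the stalk at the generic point of `Y`
  have hdom' : genericPoint Y ⤳ b.base (genericPoint X) := hgen ▸ specializes_rfl
  have h4 : Y.presheaf.stalkSpecializes hdom' ≫ Y.presheaf.stalkSpecializes hdom = 𝟙 _ := by
    rw [TopCat.Presheaf.stalkSpecializes_comp]
    exact TopCat.Presheaf.stalkSpecializes_refl _ _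
  refine ⟨Y.presheaf.stalkSpecializes hdom' w, ?_⟩
  dsimp only [CohIII.stalkToFunctionField]
  rw [RingHom.comp_apply]
  have h5 := ConcreteCategory.congr_hom h4 w
  rw [ConcreteCategory.comp_apply] at h5
  erw [h5]
  exact h3

/-- S4472. -/
theorem main4472 (A : Type u) [CommRing A] [IsDomain A]
    [IsNoetherianRing A] [IsLocalRing A] (hA : CAlg2.IsUnibranch A) (𝔞 : Ideal A)
    {X : Scheme.{u}} (b : X ⟶ Spec (CommRingCat.of A))
    (hb : BlowUp.IsBlowUp b
      (Scheme.IdealSheafData.ofIdealTop (𝔞.map (Scheme.ΓSpecIso (CommRingCat.of A)).inv.hom))) :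
    PreconnectedSpace ↥(b.fiber (IsLocalRing.closedPoint A)) := by
  obtain ⟨𝓘, h𝓘⟩ : ∃ 𝓘 : (Spec (CommRingCat.of A)).IdealSheafData, 𝓘 =
    Scheme.IdealSheafData.ofIdealTop (𝔞.map (Scheme.ΓSpecIso (CommRingCat.of A)).inv.hom) :=
    ⟨_, rfl⟩
  rw [← h𝓘] at hb
  by_cases hbot : 𝓘 = ⊥
  · rw [hbot] at hb
    have hempty := isEmpty_of_isBlowUp_bot b hb
    haveI : IsEmpty ↥(b.fiber (IsLocalRing.closedPoint A)) :=
      ⟨fun z => hempty.false (b.fiberι _ z)⟩
    infer_instance
  · obtain ⟨hint, hgen, hbij⟩ :=
      Groth.Agent.Lib.Helper17.BlowUpIntegral.blowup_integral_birational 𝓘 hbot b hb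
    haveI := hint
    haveI : IsProper b := Groth.Agent.Lib.Helper17.BlowUpProper.isProper_of_isBlowUp 𝓘
      (fun U => by
        haveI : IsNoetherianRing Γ(Spec (CommRingCat.of A), U.1) :=
          IsLocallyNoetherian.component_noetherian U
        exact IsNoetherian.noetherian _) b hb
    have hdom : b.base (genericPoint X) ⤳ genericPoint (Spec (CommRingCat.of A)) :=
      hgen ▸ specializes_rfl
    have hsurj := stalkToFunctionField_surjective b hgen hbij hdom
    have := Groth.Agent.Lib.Helper13.SteinUnibranch.main4464 b hdom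
      (fun x _ => ⟨0, by rw [pow_zero, pow_one]; exact hsurj x⟩)
      (IsLocalRing.closedPoint A) (isUnibranch_stalk_closedPoint A hA)
    exact this.toPreconnectedSpace

end Groth.Agent.Lib.Helper13.BlowUnibranch
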