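import Mathlib
import Groth.Agent.Lib.Helper23.FBC5
import Groth.Agent.Lib.Helper17.FibreFlat
import Groth.Agent.Lib.Helper13.CBCStalk
import Groth.Prelude.Def_PerfAux

/-!
# Betti numbers of the fibres of a base change
-/

set_option autoImplicit false
set_option linter.style.haveILetI false
universe u
open CategoryTheory CategoryTheory.Limits AlgebraicGeometry TopologicalSpace Opposite

namespace Groth.Agent.Lib.Helper13.CBCEulerBC

variable {X Y Y' : Scheme.{u}} (f : X ⟶ Y) (g : Y' ⟶ Y) [IsProper f]

theorem betti_baseChange (F : X.Modules) [F.IsQuasicoherent] (y' : Y') (i : ℕ) :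
    PerfAux.betti (pullback.snd f g) ((Scheme.Modules.pullback (pullback.fst f g)).obj F) y' i =
      PerfAux.betti f F (g y') i := by
  letI alg : Algebra ↑(Y.residueField (g y')) ↑(Y'.residueField y') :=
    (g.residueFieldMap y').hom.toAlgebra
  letI o1 : (f.fiber (g y')).Over (Spec (CommRingCat.of ↑(Y.residueField (g y')))) :=
    ⟨f.fiberToSpecResidueField (g y')⟩
  letI o2 : ((pullback.snd f g).fiber y').Over (Spec (CommRingCat.of ↑(Y'.residueField y'))) :=
    ⟨(pullback.snd f g).fiberToSpecResidueField y'⟩
  haveI : IsProper ((f.fiber (g y')) ↘ Spec (CommRingCat.of ↑(Y.residueField (g y')))) :=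
    (inferInstance : IsProper (pullback.snd f (Y.fromSpecResidueField (g y'))))
  have hw : ((pullback.snd f g).fiberι y' ≫ pullback.fst f g) ≫ f =
      ((pullback.snd f g).fiberToSpecResidueField y' ≫ Spec.map (g.residueFieldMap y')) ≫
        Y.fromSpecResidueField (g y') := by
    rw [Category.assoc, pullback.condition, ← Category.assoc, (pullback.snd f g).fiber_fac y',
      Category.assoc, Category.assoc, Scheme.Hom.SpecMap_residueFieldMap_fromSpecResidueField]
  have hfib : IsPullback (f.fiberι (g y')) (f.fiberToSpecResidueField (g y')) f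
      (Y.fromSpecResidueField (g y')) := IsPullback.of_hasPullback _ _
  let π : (pullback.snd f g).fiber y' ⟶ f.fiber (g y') := hfib.lift _ _ hw
  have hπ1 : π ≫ f.fiberι (g y') = (pullback.snd f g).fiberι y' ≫ pullback.fst f g :=
    hfib.lift_fst _ _ _
  have hπ2 : π ≫ f.fiberToSpecResidueField (g y') =
      (pullback.snd f g).fiberToSpecResidueField y' ≫ Spec.map (g.residueFieldMap y') :=
    hfib.lift_snd _ _ _
  have hfib' : IsPullback ((pullback.snd f g).fiberι y')
      ((pullback.snd f g).fiberToSpecResidueField y') (pullback.snd f g)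
      (Y'.fromSpecResidueField y') := IsPullback.of_hasPullback _ _
  have hsq : IsPullback (pullback.fst f g) (pullback.snd f g) f g := IsPullback.of_hasPullback _ _
  have hbig : IsPullback ((pullback.snd f g).fiberι y' ≫ pullback.fst f g)
      ((pullback.snd f g).fiberToSpecResidueField y') f (Y'.fromSpecResidueField y' ≫ g) :=
    hfib'.paste_horiz hsq
  have hbig' : IsPullback (π ≫ f.fiberι (g y'))
      ((pullback.snd f g).fiberToSpecResidueField y') f
      (Spec.map (g.residueFieldMap y') ≫ Y.fromSpecResidueField (g y')) := by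
    rw [hπ1, Scheme.Hom.SpecMap_residueFieldMap_fromSpecResidueField]
    exact hbig
  have hc : IsPullback π ((pullback.snd f g).fiberToSpecResidueField y')
      (f.fiberToSpecResidueField (g y')) (Spec.map (g.residueFieldMap y')) :=
    IsPullback.of_right hbig' hπ2 hfib
  have hc' : IsPullback π (((pullback.snd f g).fiber y') ↘
        Spec (CommRingCat.of ↑(Y'.residueField y')))
      ((f.fiber (g y')) ↘ Spec (CommRingCat.of ↑(Y.residueField (g y'))))
      (Spec.map (CommRingCat.ofHom (algebraMap ↑(Y.residueField (g y'))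
        ↑(Y'.residueField y')))) := hc
  haveI : ((Scheme.Modules.pullback (f.fiberι (g y'))).obj F).IsQuasicoherent :=
    Groth.Agent.Lib.Helper17.PbStalk.isQuasicoherent_pullback _ F
  have h1 := Groth.Agent.Lib.Helper23.FBC.finrank_eq_of_isProper ↑(Y.residueField (g y'))
    ↑(Y'.residueField y') hc' i ((Scheme.Modules.pullback (f.fiberι (g y'))).obj F)
  let ε : (Scheme.Modules.pullback π).obj ((Scheme.Modules.pullback (f.fiberι (g y'))).obj F) ≅
      (Scheme.Modules.pullback ((pullback.snd f g).fiberι y')).obj
        ((Scheme.Modules.pullback (pullback.fst f g)).obj F) :=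
    (Scheme.Modules.pullbackComp π (f.fiberι (g y'))).app F ≪≫
      (Scheme.Modules.pullbackCongr hπ1).app F ≪≫
      ((Scheme.Modules.pullbackComp ((pullback.snd f g).fiberι y') (pullback.fst f g)).app F).symm
  have h2 := (Groth.Agent.Lib.Helper13.CBCStalk.HHcongr ↑(Y'.residueField y') ε i).finrank_eq
  exact h2.symm.trans h1

theorem eulerChar_baseChange (F : X.Modules) [F.IsQuasicoherent] (y' : Y') :
    PerfAux.eulerChar (pullback.snd f g) ((Scheme.Modules.pullback (pullback.fst f g)).obj F) y' =
      PerfAux.eulerChar f F (g y') := by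
  unfold PerfAux.eulerChar
  refine finsum_congr fun i => ?_
  rw [betti_baseChange f g F y' i]

end Groth.Agent.Lib.Helper13.CBCEulerBC
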