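import Mathlib
import Groth.Agent.Lib.Helper13.CBCStalk
import Groth.Agent.Lib.Helper13.CBCSeesaw
import Groth.Agent.Lib.Helper13.StalkFBCT
import Groth.Agent.S2380
import Groth.Agent.S0002

/-!
# The degree in which the cohomology of the fibres is concentrated is locally constant
-/

set_option autoImplicit false
set_option linter.style.haveILetI false
universe u
open CategoryTheory CategoryTheory.Limits AlgebraicGeometry TopologicalSpace Opposite

namespace Groth.Agent.Lib.Helper13.CBCIndex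

/-- on a locally Noetherian scheme, a function which is constant along specializations is locally
constant. -/
theorem isLocallyConstant_of_specializes {Z : Scheme.{u}} [IsLocallyNoetherian Z] {α : Type*}
    (φ : Z → α) (h : ∀ z₀ z : Z, z ⤳ z₀ → φ z = φ z₀) : IsLocallyConstant φ := by
  rw [IsLocallyConstant.iff_exists_open]
  intro z₀
  obtain ⟨V, hV, hzV⟩ : ∃ V : Z.Opens, IsAffineOpen V ∧ z₀ ∈ V := by
    obtain ⟨V, hV, hz, -⟩ := exists_isAffineOpen_mem_and_subset (x := z₀) (U := ⊤) trivial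
    exact ⟨V, hV, hz⟩
  haveI : IsNoetherianRing Γ(Z, V) := IsLocallyNoetherian.component_noetherian ⟨V, hV⟩
  have hr : z₀ ∈ Set.range hV.fromSpec := by
    rw [hV.range_fromSpec]
    exact hzV
  obtain ⟨x₀, hx₀⟩ := hr
  let S : Set (Ideal Γ(Z, V)) := {𝔭 | 𝔭 ∈ minimalPrimes Γ(Z, V) ∧ ¬ 𝔭 ≤ x₀.asIdeal}
  have hSfin : S.Finite :=
    (minimalPrimes.finite_of_isNoetherianRing Γ(Z, V)).subset (fun 𝔭 h𝔭 => h𝔭.1)
  let C : Set ↥(Spec Γ(Z, V)) := ⋃ 𝔭 ∈ S, PrimeSpectrum.zeroLocus (𝔭 : Set Γ(Z, V))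
  have hC : IsClosed C :=
    hSfin.isClosed_biUnion (fun 𝔭 _ => PrimeSpectrum.isClosed_zeroLocus _)
  have hopen : IsOpen (hV.fromSpec '' Cᶜ) :=
    hV.fromSpec.isOpenEmbedding.isOpenMap _ hC.isOpen_compl
  refine ⟨hV.fromSpec '' Cᶜ, hopen, ⟨x₀, ?_, hx₀⟩, ?_⟩
  · intro hx
    simp only [C, Set.mem_iUnion, exists_prop] at hx
    obtain ⟨𝔭, h𝔭, hx⟩ := hx
    exact h𝔭.2 ((PrimeSpectrum.mem_zeroLocus _ _).1 hx)
  · rintro _ ⟨x, hx, rfl⟩
    obtain ⟨𝔭, h𝔭min, h𝔭x⟩ := Ideal.exists_minimalPrimes_le (I := ⊥) (J := x.asIdeal) bot_le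
    have h𝔭x₀ : 𝔭 ≤ x₀.asIdeal := by
      by_contra hcon
      apply hx
      simp only [C, Set.mem_iUnion, exists_prop]
      exact ⟨𝔭, ⟨h𝔭min, hcon⟩, (PrimeSpectrum.mem_zeroLocus _ _).2 h𝔭x⟩
    haveI : 𝔭.IsPrime := h𝔭min.1.1
    let η : ↥(Spec Γ(Z, V)) := (⟨𝔭, inferInstance⟩ : PrimeSpectrum Γ(Z, V))
    have h1 : η ⤳ x := (PrimeSpectrum.le_iff_specializes η x).1 h𝔭x
    have h2 : η ⤳ x₀ := (PrimeSpectrum.le_iff_specializes η x₀).1 h𝔭x₀
    have h3 : hV.fromSpec η ⤳ hV.fromSpec x := h1.map hV.fromSpec.continuous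
    have h4 : hV.fromSpec η ⤳ hV.fromSpec x₀ := h2.map hV.fromSpec.continuous
    have h5 : φ (hV.fromSpec η) = φ (hV.fromSpec x) := h _ _ h3
    have h6 : φ (hV.fromSpec η) = φ (hV.fromSpec x₀) := h _ _ h4
    rw [← hx₀]
    exact h5.symm.trans h6

section Index

variable {X Y : Scheme.{u}} (f : X ⟶ Y) [IsProper f] [IsLocallyNoetherian Y]

theorem finite_fiberH (F : X.Modules) (hF : Coh.IsCoh F) (t : Y) (j : ℕ) :
    Module.Finite (Y.residueField t) (CohIII.fiberH f F t j) := by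
  letI over' : (f.fiber t).Over (Spec (CommRingCat.of ↑(Y.residueField t))) :=
    ⟨f.fiberToSpecResidueField t⟩
  haveI : IsProper ((f.fiber t) ↘ Spec (CommRingCat.of ↑(Y.residueField t))) :=
    (inferInstance : IsProper (pullback.snd f (Y.fromSpecResidueField t)))
  exact Groth.Agent.S0002.result ↑(Y.residueField t) (f.fiber t) (CohIII.fiberMod f F t)
    (Groth.Agent.Lib.Helper23.T2.isCoh_pullback _ hF) j

theorem isLocallyConstant_index (F : X.Modules) (hF : Coh.IsCoh F)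
    (hfl : FlatMod.IsFlatOver f F) (idx : Y → ℕ)
    (hidx : ∀ t : Y, (∀ j : ℕ, j ≠ idx t → Subsingleton (CohIII.fiberH f F t j)) ∧
      Nontrivial (CohIII.fiberH f F t (idx t))) :
    IsLocallyConstant idx := by
  letI := Groth.Agent.Lib.Helper13.StalkFBCT.hasInjRes X
  refine isLocallyConstant_of_specializes idx (fun t₀ t hsp => ?_)
  obtain ⟨Q, hQ, -, -, hp⟩ := Groth.Agent.Lib.Helper13.CBCStalk.stalk_bridge f F hF hfl t₀
  have hQ' : ∀ i, Module.Finite (Y.presheaf.stalk t₀) (Q.X i) ∧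
      Module.Flat (Y.presheaf.stalk t₀) (Q.X i) := fun i =>
    ⟨(hQ i).1, haveI := (hQ i).2; inferInstance⟩
  have hr : t ∈ Set.range (Y.fromSpecStalk t₀) := by
    rw [Scheme.range_fromSpecStalk]
    exact hsp
  obtain ⟨q, rfl⟩ := hr
  by_contra hne
  have h0 : CohIII.fiberRank f F (idx ((Y.fromSpecStalk t₀) q)) t₀ = 0 := by
    haveI := (hidx t₀).1 (idx ((Y.fromSpecStalk t₀) q)) hne
    exact Module.finrank_zero_of_subsingleton
  have hcl := (hp (idx ((Y.fromSpecStalk t₀) q))).2 (IsLocalRing.closedPoint (Y.presheaf.stalk t₀))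
  rw [Scheme.fromSpecStalk_closedPoint] at hcl
  have husc := Groth.Agent.S2380.result Q hQ' (-((idx ((Y.fromSpecStalk t₀) q) : ℕ) : ℤ))
  have hopen : IsOpen ((CohIII.dRank Q (-((idx ((Y.fromSpecStalk t₀) q) : ℕ) : ℤ))) ⁻¹'
      Set.Iio 1) := husc.isOpen_preimage 1
  have hmem : IsLocalRing.closedPoint (Y.presheaf.stalk t₀) ∈
      (CohIII.dRank Q (-((idx ((Y.fromSpecStalk t₀) q) : ℕ) : ℤ))) ⁻¹' Set.Iio 1 := by
    show CohIII.dRank Q _ _ < 1
    rw [← hcl, h0]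
    exact one_pos
  have hq : CohIII.dRank Q (-((idx ((Y.fromSpecStalk t₀) q) : ℕ) : ℤ)) q < 1 :=
    (IsLocalRing.specializes_closedPoint q).mem_open hopen hmem
  have hq0 : CohIII.fiberRank f F (idx ((Y.fromSpecStalk t₀) q)) ((Y.fromSpecStalk t₀) q) = 0 := by
    rw [(hp (idx ((Y.fromSpecStalk t₀) q))).2 q]
    omega
  haveI := (hidx ((Y.fromSpecStalk t₀) q)).2
  haveI := finite_fiberH f F hF ((Y.fromSpecStalk t₀) q) (idx ((Y.fromSpecStalk t₀) q))
  have hpos : 0 < Module.finrank (Y.residueField ((Y.fromSpecStalk t₀) q))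
      (CohIII.fiberH f F ((Y.fromSpecStalk t₀) q) (idx ((Y.fromSpecStalk t₀) q))) :=
    Module.finrank_pos
  exact absurd hq0 (Nat.pos_iff_ne_zero.1 hpos)

end Index

end Groth.Agent.Lib.Helper13.CBCIndex
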