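import Mathlib
import Groth.Agent.Lib.Helper13.CBCCorep
import Groth.Agent.Lib.Helper13.CBCStalk2
import Groth.Agent.Lib.Helper7.TFunLib
import Groth.Agent.Lib.Helper7.BcLink

/-!
# Negation of the indexing of a chain complex; vanishing of `T_n` from vanishing at the residue
fields of the maximal ideals
-/

set_option autoImplicit false
set_option linter.style.haveILetI false
universe u
open CategoryTheory CategoryTheory.Limits TensorProduct MonoidalCategory Opposite

namespace Groth.Agent.Lib.Helper13.CBCMumford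

open Groth.Agent.Lib.Helper7

variable {A : Type u} [CommRing A]

/-- the cochain complex `K^i = C_{-i}`. -/
noncomputable def neg (C : ChainComplex (ModuleCat.{u} A) ℤ) :
    CochainComplex (ModuleCat.{u} A) ℤ where
  X i := C.X (-i)
  d i j := C.d (-i) (-j)
  shape i j h := C.shape _ _ (fun h' => h (by
    have h'' : -j + 1 = -i := h'
    show i + 1 = j
    omega))
  d_comp_d' i j k _ _ := C.d_comp_d _ _ _

/-- homology of the negated complex -/
noncomputable def negHomologyIso (C : ChainComplex (ModuleCat.{u} A) ℤ) (p : ℤ) :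
    (neg C).homology p ≅ C.homology (-p) :=
  ShortComplex.homologyMapIso ((neg C).isoSc' (p - 1) p (p + 1) (by simp) (by simp)) ≪≫
    (show ((neg C).sc' (p - 1) p (p + 1)).homology ≅
      (C.sc' (-(p - 1)) (-p) (-(p + 1))).homology from Iso.refl _) ≪≫
    (ShortComplex.homologyMapIso (C.isoSc' (-(p - 1)) (-p) (-(p + 1))
      (by rw [ChainComplex.prev]; ring) (by rw [ChainComplex.next]; ring))).symm

theorem tensorObj_neg (C : ChainComplex (ModuleCat.{u} A) ℤ) (M : ModuleCat.{u} A) :
    CohIII.tensorObj (neg C) M = neg (CohIII.tensorObj C M) := rfl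

/-- `T^p(neg C)(M) ≅ T_{-p}(C)(M)`. -/
noncomputable def negTIso (C : ChainComplex (ModuleCat.{u} A) ℤ) (p : ℤ) (M : ModuleCat.{u} A) :
    CohIII.T (neg C) p M ≅ CohIII.T C (-p) M :=
  negHomologyIso (CohIII.tensorObj C M) p

/-- `A/m` as an `A`-module is the restriction of scalars of `κ(m)`. -/
noncomputable def resIsoMax (m : Ideal A) [m.IsMaximal] :
    ModuleCat.of A (A ⧸ m) ≅
      (ModuleCat.restrictScalars (algebraMap A m.ResidueField)).obj
        (ModuleCat.of m.ResidueField m.ResidueField) := by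
  have hb : Function.Bijective (algebraMap (A ⧸ m) m.ResidueField) :=
    Ideal.bijective_algebraMap_quotient_residueField _
  let l : (A ⧸ m) →ₗ[A]
      ↑((ModuleCat.restrictScalars (algebraMap A m.ResidueField)).obj
        (ModuleCat.of m.ResidueField m.ResidueField)) :=
    { toFun := fun x => algebraMap (A ⧸ m) m.ResidueField x
      map_add' := fun a b => map_add _ _ _
      map_smul' := fun a x => by
        obtain ⟨b, rfl⟩ := Ideal.Quotient.mk_surjective x
        have key : ∀ c : A, algebraMap (A ⧸ m) m.ResidueField (Ideal.Quotient.mk m c) =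
            algebraMap A m.ResidueField c := fun c =>
          (IsScalarTower.algebraMap_apply A (A ⧸ m) m.ResidueField c).symm
        show algebraMap (A ⧸ m) m.ResidueField (Ideal.Quotient.mk m (a * b)) =
          algebraMap A m.ResidueField a *
            algebraMap (A ⧸ m) m.ResidueField (Ideal.Quotient.mk m b)
        rw [key, key, map_mul] }
  exact (LinearEquiv.ofBijective l hb).toModuleIso

/-- `T_p(A/m) = 0` if `d_p(m) = 0`. -/
theorem isZero_T_quot_of_dRank_eq_zero (Q : ChainComplex (ModuleCat.{u} A) ℤ) (p : ℤ)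
    (hQ : ∀ i, Module.Finite A (Q.X i)) (m : Ideal A) [hm : m.IsMaximal]
    (h : CohIII.dRank Q p ⟨m, hm.isPrime⟩ = 0) :
    IsZero ((CohIII.TFun Q p).obj (ModuleCat.of A (A ⧸ m))) := by
  haveI := hQ p
  have hfd := Groth.Agent.Lib.Helper13.CBCStalk2.finite_homology_bcCx
    (algebraMap A m.ResidueField) Q p
  unfold CohIII.dRank at h
  haveI : Subsingleton ((CohIII.bcCx (algebraMap A m.ResidueField) Q).homology p) :=
    Module.finrank_zero_iff.1 h
  haveI : Subsingleton ↑((CohIII.TFun Q p).obj (ModuleCat.of A (A ⧸ m))) :=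
    (((CohIII.TFun Q p).mapIso (resIsoMax m)).toLinearEquiv.toAddEquiv.trans
      (linkHEquiv (algebraMap A m.ResidueField) Q p).symm).toEquiv.subsingleton
  exact ModuleCat.isZero_of_subsingleton _

/-- a finite module with no nonzero maps to the residue fields `A/m` is zero. -/
theorem subsingleton_of_hom_quot_eq_zero (W : Type u) [AddCommGroup W] [Module A W]
    [Module.Finite A W]
    (h : ∀ (m : Ideal A) [m.IsMaximal] (φ : W →ₗ[A] (A ⧸ m)), φ = 0) : Subsingleton W := by
  by_contra hW
  rw [not_subsingleton_iff_nontrivial] at hW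
  have hann : Module.annihilator A W ≠ ⊤ := by
    intro htop
    obtain ⟨w, hw⟩ := exists_ne (0 : W)
    have h1 : (1 : A) ∈ Module.annihilator A W := htop ▸ Submodule.mem_top
    rw [Module.mem_annihilator] at h1
    exact hw (by simpa using h1 w)
  obtain ⟨m, hm, hle⟩ := Ideal.exists_le_maximal _ hann
  haveI := hm
  -- `mW ≠ W`
  have hne : (m • (⊤ : Submodule A W)) ≠ ⊤ := by
    intro htop
    obtain ⟨r, hr1, hr2⟩ := Submodule.exists_sub_one_mem_and_smul_eq_zero_of_fg_of_le_smul m
      (⊤ : Submodule A W) Module.Finite.fg_top (by rw [htop])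
    have hrann : r ∈ Module.annihilator A W := by
      rw [Module.mem_annihilator]
      exact fun w => hr2 w Submodule.mem_top
    have hrm : r ∈ m := hle hrann
    have h1 : (1 : A) ∈ m := by
      have := m.sub_mem hrm hr1
      simpa using this
    exact hm.ne_top ((Ideal.eq_top_iff_one m).2 h1)
  -- a nonzero element of `W/mW` and a functional not vanishing on it
  obtain ⟨w, hw⟩ : ∃ w : W, w ∉ m • (⊤ : Submodule A W) := by
    by_contra hall
    push_neg at hall
    exact hne (eq_top_iff.2 (fun w _ => hall w))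
  have hq : (Submodule.Quotient.mk w : W ⧸ m • (⊤ : Submodule A W)) ≠ 0 := by
    rw [Ne, Submodule.Quotient.mk_eq_zero]
    exact hw
  letI : Field (A ⧸ m) := Ideal.Quotient.field m
  obtain ⟨φ, hφ⟩ : ∃ φ : Module.Dual (A ⧸ m) (W ⧸ m • (⊤ : Submodule A W)),
      φ (Submodule.Quotient.mk w) ≠ 0 := by
    by_contra hall
    push_neg at hall
    exact hq ((Module.forall_dual_apply_eq_zero_iff (A ⧸ m) _).1 hall)
  have hz := h m ((φ.restrictScalars A).comp (m • (⊤ : Submodule A W)).mkQ)
  exact hφ (by simpa using LinearMap.congr_fun hz w)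

variable [IsNoetherianRing A]

/-- if `T_j = 0` for `j > n` and `T_n(A/m) = 0` for all maximal ideals then `T_n = 0`. -/
theorem TFun_isZero_of_quot (Q : ChainComplex (ModuleCat.{u} A) ℤ)
    (hQ : ∀ i, Module.Finite A (Q.X i) ∧ Module.Flat A (Q.X i)) (n : ℤ)
    (hab : ∀ M, IsZero ((CohIII.TFun Q (n + 1)).obj M))
    (hres : ∀ (m : Ideal A) [m.IsMaximal],
      IsZero ((CohIII.TFun Q n).obj (ModuleCat.of A (A ⧸ m)))) (M : ModuleCat.{u} A) :
    IsZero ((CohIII.TFun Q n).obj M) := by
  have hm : (CohIII.TFun Q n).PreservesMonomorphisms :=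
    (TFun_preservesMono_iff_preservesEpi Q (fun i => (hQ i).2) (n + 1) n rfl).2
      (preservesMonoEpi_of_isZero _ hab).2
  obtain ⟨W, hWfin, ⟨e⟩⟩ := Groth.Agent.Lib.Helper13.CBCCorep.exists_corep Q n hQ hm
  haveI := hWfin
  haveI : Subsingleton W := by
    refine subsingleton_of_hom_quot_eq_zero (A := A) W ?_
    intro m _ φ
    have hz : IsZero (((linearCoyoneda A (ModuleCat.{u} A)).obj (op W)).obj
        (ModuleCat.of A (A ⧸ m))) := (hres m).of_iso (e.app _).symm
    haveI := ModuleCat.subsingleton_of_isZero hz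
    have h0 : (ModuleCat.ofHom φ : W ⟶ ModuleCat.of A (A ⧸ m)) = 0 :=
      Subsingleton.elim (α := ↑(((linearCoyoneda A (ModuleCat.{u} A)).obj (op W)).obj
        (ModuleCat.of A (A ⧸ m)))) _ _
    have := congrArg ModuleCat.Hom.hom h0
    simpa using this
  have hW0 : IsZero W := ModuleCat.isZero_of_subsingleton W
  have hz : IsZero (((linearCoyoneda A (ModuleCat.{u} A)).obj (op W)).obj M) := by
    apply @ModuleCat.isZero_of_subsingleton _ _ _ ?_
    exact ⟨fun a b => hW0.eq_of_src _ _⟩
  exact hz.of_iso (e.app M)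

end Groth.Agent.Lib.Helper13.CBCMumford
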