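import Mathlib
import Groth.Agent.Lib.Helper13.CBCMumford
import Groth.Agent.S14611
import Groth.Agent.S14612
import Groth.Agent.S14613

/-!
# Two-sided truncation of a bounded-above complex of finite projective modules
-/

set_option autoImplicit false
set_option linter.style.haveILetI false
universe u
open CategoryTheory CategoryTheory.Limits TensorProduct MonoidalCategory Opposite

namespace Groth.Agent.Lib.Helper13.CBCMumford2

open Groth.Agent.Lib.Helper7 Groth.Agent.Lib.Helper13.CBCMumford

variable {A : Type u} [CommRing A] [IsNoetherianRing A]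

lemma finite_projective_of_isZero (M : ModuleCat.{u} A) (h : IsZero M) :
    Module.Finite A M ∧ Module.Projective A M := by
  haveI := ModuleCat.subsingleton_of_isZero h
  haveI := Module.Free.of_subsingleton A M
  exact ⟨Module.Finite.of_finite, inferInstance⟩

lemma finite_projective_of_iso {M N : ModuleCat.{u} A} (e : M ≅ N)
    (h : Module.Finite A M ∧ Module.Projective A M) :
    Module.Finite A N ∧ Module.Projective A N := by
  haveI := h.1
  haveI := h.2
  exact ⟨Module.Finite.equiv e.toLinearEquiv, Module.Projective.of_equiv e.toLinearEquiv⟩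

variable (K : CochainComplex (ModuleCat.{u} A) ℤ)

theorem truncLE_step (hK : ∀ i, Module.Finite A (K.X i) ∧ Module.Projective A (K.X i))
    (hb : ∃ b : ℤ, ∀ i, b < i → IsZero (K.X i)) (d : ℤ)
    (hac : ∀ p, d < p → IsZero (K.homology p)) :
    (∀ i, Module.Finite A ((K.truncLE d).X i) ∧ Module.Projective A ((K.truncLE d).X i)) ∧
    (∀ i, d < i → IsZero ((K.truncLE d).X i)) ∧
    QuasiIso (K.ιTruncLE d) ∧
    ∀ M : ModuleCat.{u} A, QuasiIso
      (((tensorRight M).mapHomologicalComplex (ComplexShape.up ℤ)).map (K.ιTruncLE d)) := by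
  have hz : ∀ i, d < i → IsZero ((K.truncLE d).X i) := fun i hi =>
    (K.truncLE d).isZero_of_isStrictlyLE d i hi
  have hflatK : ∀ i, Module.Flat A (K.X i) := fun i => by
    haveI := (hK i).2
    infer_instance
  have hcyc : Module.Finite A (K.cycles d) ∧ Module.Projective A (K.cycles d) := by
    haveI : Module.Flat A (K.cycles d) := Groth.Agent.S14612.result A K hflatK hb d hac
    haveI := (hK d).1
    haveI : IsNoetherian A (K.X d) := isNoetherian_of_isNoetherianRing_of_finite A _
    haveI : Module.Finite A (K.cycles d) :=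
      Module.Finite.of_injective (K.iCycles d).hom
        ((ModuleCat.mono_iff_injective _).1 inferInstance)
    haveI : Module.FinitePresentation A (K.cycles d) := Module.finitePresentation_of_finite A _
    exact ⟨inferInstance, Module.Flat.projective_of_finitePresentation⟩
  have hterms : ∀ i, Module.Finite A ((K.truncLE d).X i) ∧
      Module.Projective A ((K.truncLE d).X i) := by
    intro i
    rcases lt_trichotomy i d with h | h | h
    · exact finite_projective_of_iso (K.truncLEXIso d i h).symm (hK i)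
    · rw [h]
      exact finite_projective_of_iso (K.truncLEXIsoCycles d).symm hcyc
    · exact finite_projective_of_isZero _ (hz i h)
  have hqi : QuasiIso (K.ιTruncLE d) := by
    rw [quasiIso_iff]
    intro q
    by_cases hq : q ≤ d
    · exact K.quasiIsoAt_ιTruncLE d q hq
    · have hq' : d < q := by omega
      have hE : (K.truncLE d).ExactAt q :=
        ((K.truncLE d).sc q).exact_of_isZero_X₂ (hz q hq')
      rw [quasiIsoAt_iff_exactAt _ q hE, HomologicalComplex.exactAt_iff_isZero_homology]
      exact hac q hq'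
  refine ⟨hterms, hz, hqi, fun M => ?_⟩
  haveI := hqi
  exact Groth.Agent.S14613.result A (K.truncLE d) K
    (fun i => by haveI := (hterms i).2; infer_instance) hflatK ⟨d, hz⟩ hb (K.ιTruncLE d) M

theorem truncGE_step (hK : ∀ i, Module.Finite A (K.X i) ∧ Module.Projective A (K.X i))
    (b : ℤ) (hb : ∀ i, b < i → IsZero (K.X i)) (d' : ℤ)
    (h1 : ∀ p < d', IsZero (K.homology p))
    (h2 : ∀ (m : Ideal A) [m.IsMaximal], ∀ p < d',
      IsZero ((CohIII.tensorObj K (ModuleCat.of A (A ⧸ m))).homology p)) :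
    (∀ i, Module.Finite A ((K.truncGE d').X i) ∧ Module.Projective A ((K.truncGE d').X i)) ∧
    (∀ i, i < d' → IsZero ((K.truncGE d').X i)) ∧
    (∀ i, b < i → IsZero ((K.truncGE d').X i)) ∧
    ∀ M : ModuleCat.{u} A, QuasiIso
      (((tensorRight M).mapHomologicalComplex (ComplexShape.up ℤ)).map (K.πTruncGE d')) := by
  have hz : ∀ i, i < d' → IsZero ((K.truncGE d').X i) := fun i hi =>
    (K.truncGE d').isZero_of_isStrictlyGE d' i hi
  have hflatK : ∀ i, Module.Flat A (K.X i) := fun i => by
    haveI := (hK i).2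
    infer_instance
  have hop : Module.Finite A (K.opcycles d') ∧ Module.Projective A (K.opcycles d') := by
    haveI := (hK d').1
    have hs : Function.Surjective (K.pOpcycles d').hom :=
      (ModuleCat.epi_iff_surjective _).1 inferInstance
    exact ⟨Module.Finite.of_surjective (K.pOpcycles d').hom hs,
      Groth.Agent.S14611.result A K hK d' h1 h2⟩
  have hterms : ∀ i, Module.Finite A ((K.truncGE d').X i) ∧
      Module.Projective A ((K.truncGE d').X i) := by
    intro i
    rcases lt_trichotomy i d' with h | h | h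
    · exact finite_projective_of_isZero _ (hz i h)
    · rw [h]
      exact finite_projective_of_iso (K.truncGEXIsoOpcycles d').symm hop
    · exact finite_projective_of_iso (K.truncGEXIso d' i h).symm (hK i)
  have hzb : ∀ i, b < i → IsZero ((K.truncGE d').X i) := by
    intro i hi
    rcases lt_trichotomy i d' with h | h | h
    · exact hz i h
    · rw [h]
      have h0 : IsZero (K.opcycles d') := by
        haveI : Epi (K.pOpcycles d') := inferInstance
        exact IsZero.of_epi (K.pOpcycles d') (hb d' (h ▸ hi))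
      exact h0.of_iso (K.truncGEXIsoOpcycles d')
    · exact (hb i hi).of_iso (K.truncGEXIso d' i h)
  have hqi : QuasiIso (K.πTruncGE d') := by
    rw [quasiIso_iff]
    intro q
    by_cases hq : d' ≤ q
    · exact K.quasiIsoAt_πTruncGE d' q hq
    · have hq' : q < d' := by omega
      have hE : K.ExactAt q := by
        rw [HomologicalComplex.exactAt_iff_isZero_homology]
        exact h1 q hq'
      rw [quasiIsoAt_iff_exactAt _ q hE]
      exact ((K.truncGE d').sc q).exact_of_isZero_X₂ (hz q hq')
  refine ⟨hterms, hz, hzb, fun M => ?_⟩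
  haveI := hqi
  exact Groth.Agent.S14613.result A K (K.truncGE d') hflatK
    (fun i => by haveI := (hterms i).2; infer_instance) ⟨b, hb⟩ ⟨b, hzb⟩ (K.πTruncGE d') M

/-- **Mumford's complex, algebraic form.** -/
theorem mumford_algebra (Q : ChainComplex (ModuleCat.{u} A) ℤ)
    (hQ : ∀ i, Module.Finite A (Q.X i) ∧ Module.Free A (Q.X i))
    (hb : ∃ d₀ : ℤ, ∀ i < d₀, IsZero (Q.X i)) (d' d : ℤ)
    (h1 : ∀ p : ℤ, p < d' → IsZero (Q.homology (-p)))
    (h2 : ∀ (m : Ideal A) [m.IsMaximal], ∀ p : ℤ, p < d' →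
      IsZero ((CohIII.TFun Q (-p)).obj (ModuleCat.of A (A ⧸ m))))
    (h3 : ∀ p : ℤ, d < p → IsZero (Q.homology (-p))) :
    ∃ L : CochainComplex (ModuleCat.{u} A) ℤ,
      (∀ i, Module.Finite A (L.X i) ∧ Module.Projective A (L.X i)) ∧
      (∀ i : ℤ, i < d' ∨ d < i → IsZero (L.X i)) ∧
      ∀ (M : ModuleCat.{u} A) (p : ℤ), Nonempty (CohIII.T L p M ≅ CohIII.T Q (-p) M) := by
  obtain ⟨d₀, hd₀⟩ := hb
  have hK : ∀ i, Module.Finite A ((neg Q).X i) ∧ Module.Projective A ((neg Q).X i) := fun i => by
    haveI := (hQ (-i)).2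
    exact ⟨(hQ (-i)).1, inferInstanceAs (Module.Projective A (Q.X (-i)))⟩
  have hbK : ∃ b : ℤ, ∀ i, b < i → IsZero ((neg Q).X i) :=
    ⟨-d₀, fun i hi => hd₀ (-i) (by omega)⟩
  have hacK : ∀ p, d < p → IsZero ((neg Q).homology p) := fun p hp =>
    (h3 p hp).of_iso (negHomologyIso Q p)
  obtain ⟨hK₁, hz₁, hqi₁, hq₁⟩ := truncLE_step (neg Q) hK hbK d hacK
  haveI := hqi₁
  have h1' : ∀ p < d', IsZero (((neg Q).truncLE d).homology p) := fun p hp =>
    (h1 p hp).of_iso (isoOfQuasiIsoAt ((neg Q).ιTruncLE d) p ≪≫ negHomologyIso Q p)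
  have h2' : ∀ (m : Ideal A) [m.IsMaximal], ∀ p < d',
      IsZero ((CohIII.tensorObj ((neg Q).truncLE d) (ModuleCat.of A (A ⧸ m))).homology p) := by
    intro m _ p hp
    haveI := hq₁ (ModuleCat.of A (A ⧸ m))
    exact (h2 m p hp).of_iso (isoOfQuasiIsoAt
      (((tensorRight (ModuleCat.of A (A ⧸ m))).mapHomologicalComplex (ComplexShape.up ℤ)).map
        ((neg Q).ιTruncLE d)) p ≪≫ negTIso Q p (ModuleCat.of A (A ⧸ m)))
  obtain ⟨hL, hzlow, hzhigh, hq₂⟩ := truncGE_step ((neg Q).truncLE d) hK₁ d hz₁ d' h1' h2'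
  refine ⟨((neg Q).truncLE d).truncGE d', hL, ?_, fun M p => ?_⟩
  · rintro i (hi | hi)
    · exact hzlow i hi
    · exact hzhigh i hi
  · have a1 : QuasiIsoAt (((tensorRight M).mapHomologicalComplex (ComplexShape.up ℤ)).map
        ((neg Q).ιTruncLE d)) p := by
      have h := hq₁ M
      rw [quasiIso_iff] at h
      exact h p
    have a2 : QuasiIsoAt (((tensorRight M).mapHomologicalComplex (ComplexShape.up ℤ)).map
        (((neg Q).truncLE d).πTruncGE d')) p := by
      have h := hq₂ M
      rw [quasiIso_iff] at h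
      exact h p
    exact ⟨(@isoOfQuasiIsoAt _ _ _ _ _ _ _ (((tensorRight M).mapHomologicalComplex
        (ComplexShape.up ℤ)).map (((neg Q).truncLE d).πTruncGE d')) p _ _ a2).symm ≪≫
      @isoOfQuasiIsoAt _ _ _ _ _ _ _ (((tensorRight M).mapHomologicalComplex
        (ComplexShape.up ℤ)).map ((neg Q).ιTruncLE d)) p _ _ a1 ≪≫ negTIso Q p M⟩

end Groth.Agent.Lib.Helper13.CBCMumford2
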