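import Mathlib
import Groth.Agent.Lib.Helper13.CBCMumford2
import Groth.Agent.Lib.Helper13.CBCUnit
import Groth.Agent.Lib.Helper13.CBCRank
import Groth.Agent.Lib.Helper7.TFunExact
import Groth.Agent.Lib.Helper7.TFunExact2
import Groth.Agent.Lib.Helper7.DvrRank

/-!
# Geometric inputs for Mumford's complex
-/

set_option autoImplicit false
set_option linter.style.haveILetI false
universe u
open CategoryTheory CategoryTheory.Limits AlgebraicGeometry TopologicalSpace Opposite TensorProduct
  MonoidalCategory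
open Scheme.Modules

namespace Groth.Agent.Lib.Helper13.CBCMumford3

open Groth.Agent.Lib.Helper13.CBCSec Groth.Agent.Lib.Helper13.CBCCech
  Groth.Agent.Lib.Helper13.CBCUp Groth.Agent.Lib.Helper13.CBCBase
  Groth.Agent.Lib.Helper13.CBCBC Groth.Agent.Lib.Helper13.CBCFib
  Groth.Agent.Lib.Helper13.CBCRank Groth.Agent.Lib.Helper13.CBCMumford
open Groth.Agent.Lib.Helper7

variable (A : Type u) [CommRing A] (X : Scheme.{u}) [X.Over (Spec (CommRingCat.of A))]
  [IsSeparated (sm A X)] [QuasiCompact (sm A X)] (F : X.Modules) [F.IsQuasicoherent]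
  (Q : ChainComplex (ModuleCat.{u} A) ℤ) (p : ℕ)
  (ν : CohIII.tensorAFunctor A F ⋙ CohIII.HAb X p ≅
    CohIII.TFun Q (-(p : ℤ)) ⋙ forget₂ (ModuleCat.{u} A) AddCommGrpCat.{u})

include ν in
/-- `H^p(X_B, F_B) ≃ T_{-p}(B)`. -/
theorem exists_baseChange_equiv (B : Type u) [CommRing B] [Algebra A B] :
    Nonempty (Coh.HH (pullback (X ↘ Spec (CommRingCat.of A))
          (Spec.map (CommRingCat.ofHom (algebraMap A B))))
        ((Scheme.Modules.pullback (pullback.fst (X ↘ Spec (CommRingCat.of A))
          (Spec.map (CommRingCat.ofHom (algebraMap A B))))).obj F) p ≃+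
      CohIII.T Q (-(p : ℤ)) (ModuleCat.of A B)) := by
  classical
  obtain ⟨ι, hfin, U, hcov, -, hU⟩ := Groth.Agent.Lib.Helper13.CBCCover.exists_cover A X
  letI : (pullback (X ↘ Spec (CommRingCat.of A))
      (Spec.map (CommRingCat.ofHom (algebraMap A B)))).Over (Spec (CommRingCat.of B)) :=
    ⟨pullback.snd _ _⟩
  have hc : IsPullback (pullback.fst (X ↘ Spec (CommRingCat.of A))
      (Spec.map (CommRingCat.ofHom (algebraMap A B))))
      ((pullback (X ↘ Spec (CommRingCat.of A))
        (Spec.map (CommRingCat.ofHom (algebraMap A B)))) ↘ Spec (CommRingCat.of B))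
      (X ↘ Spec (CommRingCat.of A)) (Spec.map (CommRingCat.ofHom (algebraMap A B))) :=
    IsPullback.of_hasPullback _ _
  obtain ⟨fb, -⟩ := exists_fibre_equiv A B
    (Spec.map (CommRingCat.ofHom (algebraMap A B))) (pullback.fst _ _) hc F U p hcov hU
  let MB : ModuleCat.{u} A := MA A B
    (Spec.map (CommRingCat.ofHom (algebraMap A B))) (ModuleCat.of B B)
  let b := Groth.Agent.Lib.Helper13.CBCUnit.linEquivOfBridge A F Q p (-(p : ℤ)) ν MB
  let e2 : ↑MB ≃ₗ[A] B :=
    { toFun := fun x => (show B from x)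
      map_add' := fun _ _ => rfl
      map_smul' := fun a x => by
        show φg A B (Spec.map (CommRingCat.ofHom (algebraMap A B))) a * (show B from x) =
            a • (show B from x)
        rw [φg_specMap, Algebra.smul_def]
        rfl
      invFun := fun x => x
      left_inv := fun _ => rfl
      right_inv := fun _ => rfl }
  exact ⟨(fb.trans b.toAddEquiv).trans
    ((CohIII.TFun Q (-(p : ℤ))).mapIso e2.toModuleIso).toLinearEquiv.toAddEquiv⟩

end Groth.Agent.Lib.Helper13.CBCMumford3
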