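import Mathlib
import Groth.Prelude.Def_ega3
import Groth.Agent.Lib.Helper7.CxElem

/-!
# `M ↦ H_n(Q ⊗_A M)` commutes with arbitrary products when `Q` has finite free terms
-/

set_option autoImplicit false
universe u
open CategoryTheory CategoryTheory.Limits MonoidalCategory TensorProduct

namespace Groth.Agent.Lib.Helper13.CBCProd

open Groth.Agent.Lib.Helper7

section KL

variable {A : Type u} [CommRing A] {N : Type u} [AddCommGroup N] [Module A N]
  {κ : Type*} [DecidableEq κ] (b : Module.Basis κ A N)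

lemma E_nat {M M' : Type u} [AddCommGroup M] [Module A M] [AddCommGroup M'] [Module A M']
    (g : M →ₗ[A] M') (t : N ⊗[A] M) (i : κ) :
    TensorProduct.equivFinsuppOfBasisLeft b (LinearMap.lTensor N g t) i =
      g (TensorProduct.equivFinsuppOfBasisLeft b t i) := by
  induction t using TensorProduct.induction_on with
  | zero => simp
  | tmul n m =>
    rw [LinearMap.lTensor_tmul, TensorProduct.equivFinsuppOfBasisLeft_apply_tmul_apply,
      TensorProduct.equivFinsuppOfBasisLeft_apply_tmul_apply, map_smul]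
  | add x y hx hy =>
    rw [map_add, map_add, Finsupp.add_apply, hx, hy, map_add, Finsupp.add_apply, map_add]

variable [Finite κ] {J : Type u} (M : J → Type u) [∀ j, AddCommGroup (M j)] [∀ j, Module A (M j)]

include b in
lemma lTensor_proj_eq_zero (t : N ⊗[A] (∀ j, M j))
    (h : ∀ j, LinearMap.lTensor N (LinearMap.proj j : (∀ j, M j) →ₗ[A] M j) t = 0) : t = 0 := by
  apply (TensorProduct.equivFinsuppOfBasisLeft b).injective
  rw [map_zero]
  ext i j
  have h1 := E_nat b (LinearMap.proj j : (∀ j, M j) →ₗ[A] M j) t i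
  rw [h j, map_zero] at h1
  exact h1.symm

include b in
lemma lTensor_proj_surjective (s : ∀ j, N ⊗[A] M j) :
    ∃ t : N ⊗[A] (∀ j, M j),
      ∀ j, LinearMap.lTensor N (LinearMap.proj j : (∀ j, M j) →ₗ[A] M j) t = s j := by
  let c : κ →₀ (∀ j, M j) := Finsupp.equivFunOnFinite.symm
    (fun i j => TensorProduct.equivFinsuppOfBasisLeft b (s j) i)
  refine ⟨(TensorProduct.equivFinsuppOfBasisLeft b).symm c, fun j => ?_⟩
  apply (TensorProduct.equivFinsuppOfBasisLeft b).injective
  ext i
  rw [E_nat, LinearEquiv.apply_symm_apply]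
  rfl

end KL

section KL2

variable {A : Type u} [CommRing A] (N : Type u) [AddCommGroup N] [Module A N]
  [Module.Finite A N] [Module.Free A N]
  {J : Type u} (M : J → Type u) [∀ j, AddCommGroup (M j)] [∀ j, Module A (M j)]

lemma lTensor_proj_eq_zero' (t : N ⊗[A] (∀ j, M j))
    (h : ∀ j, LinearMap.lTensor N (LinearMap.proj j : (∀ j, M j) →ₗ[A] M j) t = 0) : t = 0 := by
  classical
  exact lTensor_proj_eq_zero (Module.Free.chooseBasis A N) M t h

lemma lTensor_proj_surjective' (s : ∀ j, N ⊗[A] M j) :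
    ∃ t : N ⊗[A] (∀ j, M j),
      ∀ j, LinearMap.lTensor N (LinearMap.proj j : (∀ j, M j) →ₗ[A] M j) t = s j := by
  classical
  exact lTensor_proj_surjective (Module.Free.chooseBasis A N) M s

end KL2

variable {A : Type u} [CommRing A] {ι : Type} {c : ComplexShape ι}
  (Q : HomologicalComplex (ModuleCat.{u} A) c)
  (hQ : ∀ i, Module.Finite A (Q.X i) ∧ Module.Free A (Q.X i)) (n : ι)
  {J : Type u} (f : J → ModuleCat.{u} A)

/-- the explicit product module. -/
abbrev PiM : ModuleCat.{u} A := ModuleCat.of A (∀ j, f j)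

/-- the projections. -/
abbrev prj (j : J) : PiM f ⟶ f j := ModuleCat.ofHom (LinearMap.proj j)

include hQ in
lemma T_inj (x : (CohIII.TFun Q n).obj (PiM f))
    (h : ∀ j, ((CohIII.TFun Q n).map (prj f j)).hom x = 0) : x = 0 := by
  obtain ⟨z, hz, rfl⟩ := clsT_surjective Q n (PiM f) x
  have h1 : ∀ j, ∃ w : TensorProduct A (Q.X (c.prev n)) (f j),
      LinearMap.rTensor (f j) (Q.d (c.prev n) n).hom w =
        LinearMap.lTensor (Q.X n) (prj f j).hom z := by
    intro j
    have := h j
    rw [TFun_map_clsT Q n (prj f j) z hz (lTensor_cycle Q n (prj f j) z hz),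
      clsT_eq_zero_iff] at this
    exact this
  choose w hw using h1
  haveI := (hQ (c.prev n)).1
  haveI := (hQ (c.prev n)).2
  haveI := (hQ n).1
  haveI := (hQ n).2
  obtain ⟨w', hw'⟩ := lTensor_proj_surjective' (Q.X (c.prev n)) (fun j => ↑(f j)) w
  rw [clsT_eq_zero_iff]
  refine ⟨w', ?_⟩
  rw [← sub_eq_zero]
  apply lTensor_proj_eq_zero' (Q.X n) (fun j => ↑(f j))
  intro j
  rw [map_sub, ← rTensor_lTensor_comm, hw' j, hw j, sub_eq_zero]
  rfl

include hQ in
lemma T_surj (y : ∀ j, (CohIII.TFun Q n).obj (f j)) :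
    ∃ x : (CohIII.TFun Q n).obj (PiM f), ∀ j, ((CohIII.TFun Q n).map (prj f j)).hom x = y j := by
  have h1 : ∀ j, ∃ (z : TensorProduct A (Q.X n) (f j))
      (hz : LinearMap.rTensor (f j) (Q.d n (c.next n)).hom z = 0), clsT Q n (f j) z hz = y j :=
    fun j => clsT_surjective Q n (f j) (y j)
  choose z hz hzy using h1
  haveI := (hQ (c.next n)).1
  haveI := (hQ (c.next n)).2
  haveI := (hQ n).1
  haveI := (hQ n).2
  obtain ⟨z', hz'⟩ := lTensor_proj_surjective' (Q.X n) (fun j => ↑(f j)) z
  have hcyc : LinearMap.rTensor (PiM f) (Q.d n (c.next n)).hom z' = 0 := by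
    apply lTensor_proj_eq_zero' (Q.X (c.next n)) (fun j => ↑(f j))
    intro j
    rw [← rTensor_lTensor_comm, hz' j, hz j]
  refine ⟨clsT Q n (PiM f) z' hcyc, fun j => ?_⟩
  rw [TFun_map_clsT Q n (prj f j) z' hcyc (lTensor_cycle Q n (prj f j) z' hcyc), ← hzy j]
  congr 1
  exact hz' j

include hQ in
/-- `M ↦ H_n(Q ⊗ M)` (to abelian groups) preserves products. -/
theorem TFun_preservesProducts (J : Type u) :
    PreservesLimitsOfShape (Discrete J)
      (CohIII.TFun Q n ⋙ forget₂ (ModuleCat.{u} A) AddCommGrpCat.{u}) := by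
  haveI : ∀ f : J → ModuleCat.{u} A, PreservesLimit (Discrete.functor f)
      (CohIII.TFun Q n ⋙ forget₂ (ModuleCat.{u} A) AddCommGrpCat.{u}) := by
    intro f
    refine preservesLimit_of_preserves_limit_cone (ModuleCat.productConeIsLimit f) ?_
    refine (isLimitMapConeFanMkEquiv _ f (fun j => prj f j)).symm ?_
    let G := CohIII.TFun Q n ⋙ forget₂ (ModuleCat.{u} A) AddCommGrpCat.{u}
    let s : Fan (fun j => G.obj (f j)) := Fan.mk (G.obj (PiM f)) (fun j => G.map (prj f j))
    have hiso : IsIso ((AddCommGrpCat.HasLimit.productLimitCone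
        (fun j => G.obj (f j))).isLimit.lift s) := by
      rw [ConcreteCategory.isIso_iff_bijective]
      constructor
      · rw [injective_iff_map_eq_zero]
        intro x hx
        apply T_inj Q hQ n f x
        intro j
        exact congrFun hx j
      · intro y
        obtain ⟨x, hx⟩ := T_surj Q hQ n f (fun j => y j)
        exact ⟨x, funext hx⟩
    exact IsLimit.ofPointIso (AddCommGrpCat.HasLimit.productLimitCone
      (fun j => G.obj (f j))).isLimit
  exact preservesLimitsOfShape_of_discrete _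

end Groth.Agent.Lib.Helper13.CBCProd
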