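import Mathlib
import Groth.Agent.Lib.Helper13.CBCStalk2
import Groth.Agent.Lib.Helper23.T2N

/-!
# Finiteness of the cohomology of the fibres of a proper morphism
-/

set_option autoImplicit false
set_option linter.style.haveILetI false
universe u
open CategoryTheory CategoryTheory.Limits AlgebraicGeometry TopologicalSpace Opposite TensorProduct
open Scheme.Modules

namespace Groth.Agent.Lib.Helper13.CBCStalk3

variable {X Y : Scheme.{u}} (f : X ⟶ Y) [IsProper f]

theorem finite_fiberH (F : X.Modules) (hF : Coh.IsCoh F) (y : Y) (p : ℕ) :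
    @Module.Finite (Y.residueField y) (CohIII.fiberH f F y p) _ _
      (CohIII.moduleFiberH f F y p) := by
  letI : (f.fiber y).Over (Spec (CommRingCat.of ↑(Y.residueField y))) :=
    ⟨f.fiberToSpecResidueField y⟩
  haveI : IsProper ((f.fiber y) ↘ Spec (CommRingCat.of ↑(Y.residueField y))) :=
    MorphismProperty.of_isPullback (IsPullback.of_hasPullback f (Y.fromSpecResidueField y))
      ‹IsProper f›
  have hcoh : Coh.IsCoh (CohIII.fiberMod f F y) :=
    Groth.Agent.Lib.Helper23.T2.isCoh_pullback _ hF
  exact Groth.Agent.Lib.Helper23.T2.finite_HH ↑(Y.residueField y) (CohIII.fiberMod f F y) hcoh p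

theorem subsingleton_fiberH_of_fiberRank_eq_zero (F : X.Modules) (hF : Coh.IsCoh F) (y : Y)
    (p : ℕ) (h : CohIII.fiberRank f F p y = 0) : Subsingleton (CohIII.fiberH f F y p) := by
  haveI : @Module.Finite (Y.residueField y) (CohIII.fiberH f F y p) _ _
      (CohIII.moduleFiberH f F y p) := finite_fiberH f F hF y p
  unfold CohIII.fiberRank at h
  exact (@Module.finrank_zero_iff (Y.residueField y) (CohIII.fiberH f F y p) _ _
    (CohIII.moduleFiberH f F y p) _ _ _).1 h

end Groth.Agent.Lib.Helper13.CBCStalk3
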