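import Mathlib
import Groth.Prelude
import Groth.Agent.Lib.Helper7.HypIdeal

/-!
# (C) for helper1's S14335: on an affine open inside a standard chart, the ideal of `V(G_1,…,G_r)` is
generated by the dehomogenised forms (helper13)
-/

set_option autoImplicit false
set_option linter.style.haveILetI false
universe u
open CategoryTheory CategoryTheory.Limits AlgebraicGeometry Opposite

namespace Groth.Agent.Lib.Helper13.CIDimC

open Groth.Agent.Lib.Helper7.HypIdeal Groth.Agent.Lib.Helper3 Groth.Agent.Lib.Helper3.QCSec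
  Groth.Agent.Lib.Helper3.SubIdeal Groth.Agent.Lib.Helper3.InvGen

/-- single hypersurface, typed on `Proj`: on an affine open inside `D_+(T_i)` the ideal is generated by
`G / T_i^d`. -/
theorem hyp_ideal_eq (k : Type u) [Field k] (n : ℕ) {d : ℕ} (G : LefPen.Form n k d)
    (i : Fin (n + 1)) (V : (Proj (CohB1.polyGrading n k)).affineOpens) (hV : V.1 ≤ chartP n k i) :
    (hyp G).ideal V = Ideal.span
      {rres (Proj (CohB1.polyGrading n k)) hV (dehomP G i)} := by
  apply le_antisymm
  · intro g hg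
    have h1 := hyp_ideal_le G V hg
    obtain ⟨a, ha⟩ := (mem_hypFam_iff G V g).mp h1 i
    have hVinf : V.1 ≤ V.1 ⊓ chartP n k i := le_inf le_rfl hV
    have h2 := congrArg (rres (Proj (CohB1.polyGrading n k)) hVinf) ha
    rw [rres_mul, rres_rres, rres_rres, rres_self] at h2
    rw [Ideal.mem_span_singleton']
    exact ⟨_, h2⟩
  · rw [Ideal.span_le, Set.singleton_subset_iff]
    have h1 : psiFun G V.1 (esec i V.1 hV) ∈ (hyp G).ideal V :=
      (idealOfSub_le G) V ((mem_ideal_idealOfSub (psi G) V _).mpr ⟨_, rfl⟩)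
    rw [psiFun_esec] at h1
    exact h1

/-- single hypersurface. -/
theorem hypIdeal_ideal_eq (k : Type u) [Field k] (n : ℕ) {d : ℕ} (G : LefPen.Form n k d)
    (i : Fin (n + 1)) (V : (CohB1.ProjSpace n k).affineOpens) (hV : V.1 ≤ LefPen.chart n k i) :
    (LefPen.hypIdeal G).ideal V = Ideal.span
      {((CohB1.ProjSpace n k).presheaf.map (homOfLE hV).op).hom (LefPen.dehom G i)} :=
  hyp_ideal_eq k n G i V hV

theorem ciIdeal_ideal_eq (k : Type u) [Field k] (n r : ℕ) (a : Fin r → ℕ)
    (G : ∀ j : Fin r, LefPen.Form n k (a j)) (i : Fin (n + 1))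
    (V : (CohB1.ProjSpace n k).affineOpens) (hV : V.1 ≤ LefPen.chart n k i) :
    (LefPen.ciIdeal G).ideal V = Ideal.span (Set.range fun j : Fin r =>
      ((CohB1.ProjSpace n k).presheaf.map (homOfLE hV).op).hom (LefPen.dehom (G j) i)) := by
  unfold LefPen.ciIdeal
  rw [Scheme.IdealSheafData.ideal_iSup, iSup_apply, Ideal.span_range_eq_iSup]
  exact iSup_congr fun j => hypIdeal_ideal_eq k n (G j) i V hV

end Groth.Agent.Lib.Helper13.CIDimC
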