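import Mathlib
import Groth.Agent.Lib.Helper4.FaltPd
import Groth.Agent.Lib.Helper4.CM
import Groth.Agent.Lib.Helper7.RegAB
import Groth.Agent.Lib.Helper17.ZClosS2
import Groth.Agent.Lib.Helper13.StalkPd

/-!
# Maximal Cohen–Macaulay modules on regular schemes are locally free (helper13)
-/

set_option autoImplicit false
set_option backward.isDefEq.respectTransparency false
universe u

namespace Groth.Agent.Lib.Helper13.CMLocFree

open CategoryTheory CategoryTheory.Limits AlgebraicGeometry
open AlgebraicGeometry.Scheme.Modules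
open Groth.Agent.Lib.Helper1 Groth.Agent.Lib.Helper2 Groth.Agent.Lib.Helper3
  Groth.Agent.Lib.Helper13 Groth.Agent.Lib.Helper17
open Groth.Agent.Lib.Helper13.StalkPd

variable {X : Scheme.{u}}

/-- a module with a basis of length `0` over a neighbourhood of `x` has zero stalk at `x` -/
lemma subsingleton_stalk_of_isBasis_zero (F : X.Modules) {U : X.Opens} {e : Fin 0 → Γ(F, U)}
    (hb : FreeBasis.IsBasis F U e) (x : X) (hxU : x ∈ U) :
    Subsingleton (F.presheaf.stalk x) := by
  refine ⟨fun a b => ?_⟩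
  have hz : ∀ m : F.presheaf.stalk x, m = 0 := by
    intro m
    obtain ⟨W, hxW, s, rfl⟩ := TopCat.Presheaf.exists_germ_eq F.presheaf m
    have hsub : ∀ t : Γ(F, W ⊓ U), t = 0 := by
      intro t
      obtain ⟨a, ha⟩ := (hb (W ⊓ U) inf_le_right).surjective t
      obtain ⟨a', ha'⟩ := (hb (W ⊓ U) inf_le_right).surjective 0
      have haa' : a = a' := Subsingleton.elim _ _
      rw [← ha, haa', ha']
    have hxWU : x ∈ W ⊓ U := ⟨hxW, hxU⟩
    have key : ∀ t : Γ(F, W ⊓ U), F.presheaf.germ (W ⊓ U) x hxWU t = 0 := by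
      intro t
      rw [hsub t, map_zero]
    have h1 := TopCat.Presheaf.germ_res_apply F.presheaf (homOfLE (inf_le_left : W ⊓ U ≤ W)) x
      hxWU s
    rw [← h1]
    exact key _
  rw [hz a, hz b]

theorem cm_iff_locFree [IsLocallyNoetherian X]
    (hreg : ∀ x : X, IsRegularLocalRing (X.presheaf.stalk x)) (F : X.Modules)
    (hF : Coh.IsCoh F) :
    (CohB1.support F = Set.univ ∧
        ∀ x : X, LocCoh.IsCohenMacaulayModule (X.presheaf.stalk x) ↑(F.presheaf.stalk x)) ↔
      ∀ x : X, ∃ (U : X.Opens) (n : ℕ), x ∈ U ∧ 0 < n ∧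
        Nonempty (F.restrict U.ι ≅ FlatMod.freeMod (↑U) n) := by
  obtain ⟨hq, hf⟩ := hF
  haveI := hq
  haveI := hf
  constructor
  · rintro ⟨hs, hcm⟩
    have hnt : ∀ x : X, Nontrivial (F.presheaf.stalk x) := by
      intro x
      have hx : x ∈ CohB1.support F := by rw [hs]; trivial
      exact not_subsingleton_iff_nontrivial.1 hx
    have hpd : ∀ x, PdLT F x 1 := by
      intro x
      haveI := hreg x
      haveI : Module.Finite (X.presheaf.stalk x) (F.presheaf.stalk x) := CohStalk.finite_stalk F x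
      obtain ⟨d, hd⟩ := RegPerf.exists_nat_dim (X.presheaf.stalk x)
      have hsd := ZClosS2.supportDim_stalk_of_full F hnt x
      have hc := hcm x
      unfold LocCoh.IsCohenMacaulayModule at hc
      rw [hsd, hd] at hc
      have hdep : (d : ℕ∞) = LocCoh.depth (X.presheaf.stalk x) (F.presheaf.stalk x) := by
        have hc' : ((d : ℕ∞) : WithBot ℕ∞) =
            ((LocCoh.depth (X.presheaf.stalk x) (F.presheaf.stalk x) : ℕ∞) : WithBot ℕ∞) := hc
        exact WithBot.coe_injective hc'
      exact Groth.Agent.Lib.Helper4.Falt.hasProjectiveDimensionLE_of_depth (X.presheaf.stalk x) d hd d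
        (F.presheaf.stalk x) 0 hdep.le (by omega)
    have hlf : FlatMod.IsFinLocFree F := isFinLocFree_of_pdLT_one F ⟨hq, hf⟩ hpd
    intro x
    obtain ⟨U, n, e, hxU, hb⟩ := LocFreeCrit.isFinLocFree_iff.mp hlf x
    refine ⟨U, n, hxU, ?_, FreeBasis.nonempty_iso_of_isBasis hb⟩
    rcases Nat.eq_zero_or_pos n with rfl | hn
    · exfalso
      exact (not_subsingleton_iff_nontrivial.2 (hnt x))
        (subsingleton_stalk_of_isBasis_zero F hb x hxU)
    · exact hn
  · intro hloc
    have hlf : FlatMod.IsFinLocFree F := by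
      intro x
      obtain ⟨U, n, hxU, -, hi⟩ := hloc x
      exact ⟨U, n, hxU, hi⟩
    have hfree : ∀ x, Module.Free (X.presheaf.stalk x) (F.presheaf.stalk x) :=
      fun x => LocConstRank.free_stalk_of_isFinLocFree F hlf x
    have hnt : ∀ x : X, Nontrivial (F.presheaf.stalk x) := by
      intro x
      obtain ⟨U, n, hxU, hn, ⟨φ⟩⟩ := hloc x
      obtain ⟨e, he⟩ := FreeBasis.exists_isBasis_of_iso φ
      obtain ⟨hfr, hrk⟩ := LocConstRank.free_and_fibreRank_of_isBasis F he x hxU
      haveI := hfr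
      unfold LocConstRank.fibreRank at hrk
      rw [Module.finrank_baseChange] at hrk
      by_contra hsub
      rw [not_nontrivial_iff_subsingleton] at hsub
      haveI := hsub
      rw [Module.finrank_zero_of_subsingleton] at hrk
      omega
    refine ⟨Set.eq_univ_of_forall (fun x => not_subsingleton_iff_nontrivial.2 (hnt x)), ?_⟩
    intro x
    haveI := hreg x
    haveI := hnt x
    haveI : Module.Finite (X.presheaf.stalk x) (F.presheaf.stalk x) := CohStalk.finite_stalk F x
    obtain ⟨d, hd⟩ := RegPerf.exists_nat_dim (X.presheaf.stalk x)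
    have hsd := ZClosS2.supportDim_stalk_of_full F hnt x
    have h1 : (d : ℕ∞) ≤ LocCoh.depth (X.presheaf.stalk x) (F.presheaf.stalk x) :=
      Groth.Agent.Lib.Helper7.RegAB.le_depth_of_hasProjectiveDimensionLE (X.presheaf.stalk x) d hd d
        (F.presheaf.stalk x) 0 (by omega) (pdLT_one_of_isFinLocFree F hlf x)
    have h2 := Groth.Agent.Lib.Helper4.depth_le_supportDim (R := X.presheaf.stalk x)
      (M := F.presheaf.stalk x)
    unfold LocCoh.IsCohenMacaulayModule
    refine le_antisymm ?_ h2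
    rw [hsd, hd]
    have h1' : ((d : ℕ∞) : WithBot ℕ∞) ≤
        ((LocCoh.depth (X.presheaf.stalk x) (F.presheaf.stalk x) : ℕ∞) : WithBot ℕ∞) :=
      WithBot.coe_le_coe.2 h1
    exact h1'

end Groth.Agent.Lib.Helper13.CMLocFree
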