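import Mathlib

set_option linter.style.haveILetI false
set_option autoImplicit false

/-!
# A sheaf sends a covering by pairwise disjoint monomorphisms to a product
-/

universe w v₁ u₁ v₂ u₂

open CategoryTheory CategoryTheory.Limits Opposite

namespace Groth.Agent.Lib.Helper13.CechDisjA

variable {C : Type u₁} [Category.{v₁} C] (J : GrothendieckTopology C)
  {A : Type u₂} [Category.{v₂} A]

/-- If the empty sieve covers `Z`, then any two morphisms into the value of a sheaf at `Z` agree. -/
theorem hom_ext_of_bot_mem (P : Cᵒᵖ ⥤ A) (hP : Presheaf.IsSheaf J P) {Z : C}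
    (hZ : (⊥ : Sieve Z) ∈ J Z) {E : A} (s t : E ⟶ P.obj (op Z)) : s = t := by
  have h := (hP E ⊥ hZ).isSeparatedFor
  exact h.ext (t₁ := s) (t₂ := t) (fun Y f hf => hf.elim)

/-- A sheaf sends a covering family of pairwise disjoint monomorphisms to a product. -/
theorem isIso_lift (P : Cᵒᵖ ⥤ A) (hP : Presheaf.IsSheaf J P) {W : C} {κ : Type w}
    (Y : κ → C) (g : ∀ x, Y x ⟶ W) [HasProduct (fun x => P.obj (op (Y x)))]
    (hcov : Sieve.ofArrows Y g ∈ J W) (hmono : ∀ x, Mono (g x))
    (hdisj : ∀ x y, x ≠ y → ∀ (Z : C) (a : Z ⟶ Y x) (b : Z ⟶ Y y),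
      a ≫ g x = b ≫ g y → (⊥ : Sieve Z) ∈ J Z) :
    IsIso (Pi.lift (fun x => P.map (g x).op) :
      P.obj (op W) ⟶ ∏ᶜ fun x => P.obj (op (Y x))) := by
  classical
  apply isIso_of_yoneda_map_bijective
  intro E
  have hsh : (Presieve.ofArrows Y g).IsSheafFor (P ⋙ coyoneda.obj (op E)) := by
    rw [Presieve.isSheafFor_iff_generate]
    exact hP E _ hcov
  rw [Presieve.isSheafFor_arrows_iff] at hsh
  have hcompat : ∀ (k : ∀ x, E ⟶ P.obj (op (Y x))),
      Presieve.Arrows.Compatible (P ⋙ coyoneda.obj (op E)) g k := by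
    intro k x y Z a b hab
    by_cases hxy : x = y
    · subst hxy
      have := hmono x
      have : a = b := (cancel_mono (g x)).1 hab
      rw [this]
    · exact hom_ext_of_bot_mem J P hP (hdisj x y hxy Z a b hab) _ _
  constructor
  · intro s t hst
    dsimp at hst
    obtain ⟨u, -, hu⟩ := hsh (fun x => s ≫ P.map (g x).op) (hcompat _)
    have hs : s = u := hu s (fun x => by simp)
    have ht : t = u := hu t (fun x => by
      have := congrArg (fun m => m ≫ Pi.π _ x) hst
      simp only [Category.assoc, Pi.lift_π] at this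
      simpa using this.symm)
    rw [hs, ht]
  · intro k
    obtain ⟨u, hu, -⟩ := hsh (fun x => k ≫ Pi.π _ x) (hcompat _)
    refine ⟨u, ?_⟩
    dsimp
    apply Pi.hom_ext
    intro x
    simpa using hu x

end Groth.Agent.Lib.Helper13.CechDisjA
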