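import Mathlib
import Groth.Agent.Lib.Helper13.CechDisjA

set_option linter.style.haveILetI false
set_option autoImplicit false

/-!
# Products in `Over U` of a covering family of disjoint monomorphisms
-/

universe w v₁ u₁

open CategoryTheory CategoryTheory.Limits Opposite

namespace Groth.Agent.Lib.Helper13.CechDisjB

variable {C : Type u₁} [Category.{v₁} C] (J : GrothendieckTopology C)

/-- A finite infimum of covering sieves is covering. -/
theorem finset_inf_mem {W : C} {α : Type*} (s : Finset α) (S : α → Sieve W)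
    (hS : ∀ a, S a ∈ J W) : s.inf S ∈ J W := by
  classical
  induction s using Finset.induction_on with
  | empty => simpa using J.top_mem W
  | insert a s _ ih =>
    rw [Finset.inf_insert]
    exact J.intersection_covering (hS a) ih

variable {U : C} [HasFiniteProducts (Over U)] {ι : Type w} (Uf : ι → Over U) (V : Over U)
  (incl : ∀ i, Uf i ⟶ V)

/-- The product of the inclusions. -/
noncomputable abbrev prodMap {α : Type} [Finite α] (x : α → ι) :
    (∏ᶜ fun a => Uf (x a)) ⟶ ∏ᶜ fun _ : α => V :=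
  Limits.Pi.map (fun a => incl (x a))

theorem covering {α : Type} [Finite α]
    (hcov : Sieve.ofArrows (fun i => (Uf i).left) (fun i => (incl i).left) ∈ J V.left) :
    Sieve.ofArrows (fun x : α → ι => (∏ᶜ fun a => Uf (x a)).left)
      (fun x => (prodMap Uf V incl x).left) ∈ J (∏ᶜ fun _ : α => V).left := by
  classical
  have := Fintype.ofFinite α
  set W' : Over U := ∏ᶜ fun _ : α => V with hW'
  let S₀ : Sieve V.left := Sieve.ofArrows (fun i => (Uf i).left) (fun i => (incl i).left)
  let S : α → Sieve W'.left := fun a => S₀.pullback (Pi.π (fun _ : α => V) a).left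
  have hS : ∀ a, S a ∈ J W'.left := fun a => J.pullback_stable _ hcov
  refine J.superset_covering ?_ (finset_inf_mem J Finset.univ S hS)
  intro Z g hg
  have hg' : ∀ a, S₀ (g ≫ (Pi.π (fun _ : α => V) a).left) := fun a =>
    (Finset.inf_le (Finset.mem_univ a) : Finset.univ.inf S ≤ S a) _ hg
  have hex : ∀ a, ∃ (i : ι) (h : Z ⟶ (Uf i).left),
      g ≫ (Pi.π (fun _ : α => V) a).left = h ≫ (incl i).left := fun a =>
    (Sieve.mem_ofArrows_iff _ _ _).1 (hg' a)
  choose x h hh using hex
  rw [Sieve.mem_ofArrows_iff]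
  refine ⟨x, ?_⟩
  let Zo : Over U := Over.mk (g ≫ W'.hom)
  let go : Zo ⟶ W' := Over.homMk g rfl
  have hw : ∀ a, h a ≫ (Uf (x a)).hom = g ≫ W'.hom := by
    intro a
    have h1 : (incl (x a)).left ≫ V.hom = (Uf (x a)).hom := Over.w (incl (x a))
    have h2 : (Pi.π (fun _ : α => V) a).left ≫ V.hom = W'.hom :=
      Over.w (Pi.π (fun _ : α => V) a)
    rw [← h1, ← Category.assoc, ← hh a, Category.assoc, h2]
  let ho : ∀ a, Zo ⟶ Uf (x a) := fun a => Over.homMk (h a) (hw a)
  refine ⟨(Pi.lift ho).left, ?_⟩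
  have : go = Pi.lift ho ≫ prodMap Uf V incl x := by
    apply Pi.hom_ext
    intro a
    ext
    simp only [prodMap, Category.assoc, Pi.map_π, Pi.lift_π_assoc, Over.comp_left]
    exact hh a
  have h3 := congrArg (fun m => m.left) this
  simpa [go] using h3

theorem mono_left {α : Type} [Finite α] (hmono : ∀ i, Mono (incl i)) (x : α → ι) :
    Mono (prodMap Uf V incl x).left := by
  have : ∀ a, Mono (incl (x a)) := fun a => hmono _
  infer_instance

theorem disjoint {α : Type} [Finite α]
    (hdisj : ∀ i j, i ≠ j → ∀ (Z : C) (a : Z ⟶ (Uf i).left) (b : Z ⟶ (Uf j).left),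
      a ≫ (incl i).left = b ≫ (incl j).left → (⊥ : Sieve Z) ∈ J Z)
    (x y : α → ι) (hxy : x ≠ y) (Z : C) (a : Z ⟶ (∏ᶜ fun c => Uf (x c)).left)
    (b : Z ⟶ (∏ᶜ fun c => Uf (y c)).left)
    (hab : a ≫ (prodMap Uf V incl x).left = b ≫ (prodMap Uf V incl y).left) :
    (⊥ : Sieve Z) ∈ J Z := by
  obtain ⟨c, hc⟩ : ∃ c, x c ≠ y c := by
    by_contra hcon
    push_neg at hcon
    exact hxy (funext hcon)
  refine hdisj (x c) (y c) hc Z (a ≫ (Pi.π (fun c => Uf (x c)) c).left)
    (b ≫ (Pi.π (fun c => Uf (y c)) c).left) ?_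
  have h1 : (Pi.π (fun c => Uf (x c)) c).left ≫ (incl (x c)).left =
      (prodMap Uf V incl x).left ≫ (Pi.π (fun _ : α => V) c).left := by
    rw [← Over.comp_left, ← Over.comp_left]
    congr 1
    simp [prodMap]
  have h2 : (Pi.π (fun c => Uf (y c)) c).left ≫ (incl (y c)).left =
      (prodMap Uf V incl y).left ≫ (Pi.π (fun _ : α => V) c).left := by
    rw [← Over.comp_left, ← Over.comp_left]
    congr 1
    simp [prodMap]
  rw [Category.assoc, Category.assoc, h1, h2, ← Category.assoc, ← Category.assoc, hab]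

end Groth.Agent.Lib.Helper13.CechDisjB
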