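import Mathlib
import Groth.Prelude.Def_EtCech
import Groth.Agent.Lib.Helper13.CechDisjB

set_option linter.style.haveILetI false
set_option autoImplicit false

/-!
# The Cech complex of a disjoint covering family agrees with that of the union
-/

universe w v₁ u₁

open CategoryTheory CategoryTheory.Limits Opposite

namespace Groth.Agent.Lib.Helper13.CechDisjC

open Groth.Agent.Lib.Helper13

variable {C : Type u₁} [Category.{v₁} C] (J : GrothendieckTopology C)
  {U : C} [HasFiniteProducts (Over U)] {ι : Type w} (Uf : ι → Over U) (V : Over U)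
  (incl : ∀ i, Uf i ⟶ V)

/-- The morphism of formal coproducts from the family to the single object. -/
def famHom : FormalCoproduct.mk ι Uf ⟶ FormalCoproduct.mk PUnit.{w + 1} (fun _ => V) where
  f := fun _ => PUnit.unit
  φ := fun i => incl i

variable (P : Cᵒᵖ ⥤ AddCommGrpCat.{w})

/-- The comparison of cosimplicial objects. -/
noncomputable def cosimpHom :
    (FormalCoproduct.cosimplicialObjectFunctor
      (FormalCoproduct.mk PUnit.{w + 1} (fun _ => V)).cech).obj ((Over.forget U).op ⋙ P) ⟶
    (FormalCoproduct.cosimplicialObjectFunctor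
      (FormalCoproduct.mk ι Uf).cech).obj ((Over.forget U).op ⋙ P) :=
  Functor.whiskerRight (NatTrans.rightOp (FormalCoproduct.cechFunctor.map (famHom Uf V incl)))
    ((FormalCoproduct.evalOp (Over U) AddCommGrpCat.{w}).obj ((Over.forget U).op ⋙ P))

theorem isIso_cosimpHom_app (hP : Presheaf.IsSheaf J P)
    (hcov : Sieve.ofArrows (fun i => (Uf i).left) (fun i => (incl i).left) ∈ J V.left)
    (hmono : ∀ i, Mono (incl i))
    (hdisj : ∀ i j, i ≠ j → ∀ (Z : C) (a : Z ⟶ (Uf i).left) (b : Z ⟶ (Uf j).left),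
      a ≫ (incl i).left = b ≫ (incl j).left → (⊥ : Sieve Z) ∈ J Z)
    (n : SimplexCategory) : IsIso ((cosimpHom Uf V incl P).app n) := by
  let α : Type := Fin (n.len + 1)
  have : Finite α := inferInstanceAs (Finite (Fin (n.len + 1)))
  let G : (α → PUnit.{w + 1}) → AddCommGrpCat.{w} :=
    fun _ => P.obj (op (∏ᶜ fun _ : α => V).left)
  have h1 : IsIso (Pi.π G (fun _ => PUnit.unit)) := by
    have : Pi.π G (fun _ => PUnit.unit) = (productUniqueIso G).hom := by
      rw [productUniqueIso_hom]
    rw [this]; infer_instance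
  have h2 := CechDisjA.isIso_lift J P hP
    (fun x : α → ι => (∏ᶜ fun a => Uf (x a)).left)
    (fun x => (CechDisjB.prodMap Uf V incl x).left)
    (CechDisjB.covering J Uf V incl hcov)
    (fun x => CechDisjB.mono_left Uf V incl hmono x)
    (CechDisjB.disjoint J Uf V incl hdisj)
  have key : (cosimpHom Uf V incl P).app n =
      Pi.π G (fun _ => PUnit.unit) ≫
        Pi.lift (fun x : α → ι => P.map ((CechDisjB.prodMap Uf V incl x).left).op) := by
    apply Pi.hom_ext
    intro x
    dsimp [cosimpHom]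
    rw [FormalCoproduct.evalOp_obj_map]
    refine (Pi.lift_π _ _).trans ?_
    refine Eq.trans ?_ (Category.assoc _ _ _).symm
    refine Eq.trans ?_ (congrArg (fun t => Pi.π G (fun _ => PUnit.unit) ≫ t)
      (Pi.lift_π (fun x : α → ι => P.map ((CechDisjB.prodMap Uf V incl x).left).op) x).symm)
    rfl
  rw [key]
  exact @IsIso.comp_isIso _ _ _ _ _ _ _ h1 h2

theorem main (hP : Presheaf.IsSheaf J P)
    (hcov : Sieve.ofArrows (fun i => (Uf i).left) (fun i => (incl i).left) ∈ J V.left)
    (hmono : ∀ i, Mono (incl i))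
    (hdisj : ∀ i j, i ≠ j → ∀ (Z : C) (a : Z ⟶ (Uf i).left) (b : Z ⟶ (Uf j).left),
      a ≫ (incl i).left = b ≫ (incl j).left → (⊥ : Sieve Z) ∈ J Z) :
    Nonempty (EtCech.cechComplex Uf P ≅ EtCech.cechComplex (fun _ : PUnit.{w + 1} => V) P) := by
  have : ∀ n, IsIso ((cosimpHom Uf V incl P).app n) :=
    isIso_cosimpHom_app J Uf V incl P hP hcov hmono hdisj
  have : IsIso (cosimpHom Uf V incl P) := NatIso.isIso_of_isIso_app _
  exact ⟨((AlgebraicTopology.alternatingCofaceMapComplex AddCommGrpCat.{w}).mapIso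
    (asIso (cosimpHom Uf V incl P))).symm⟩

end Groth.Agent.Lib.Helper13.CechDisjC
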