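import Mathlib
import Groth.Prelude
import Groth.Agent.Lib.Helper13.CechDelta

/-!
# Edge families from Čech cohomology to sheaf cohomology: degree zero, uniqueness, existence
-/
set_option autoImplicit false
universe u
open CategoryTheory CategoryTheory.Limits Opposite

noncomputable section

namespace Groth.Agent.Lib.Helper13.CechEdgeZero

open CechBasic CechLow CechLES CechH0 CechSite CechInjective DeltaFun CechDelta

variable {C : Type u} [SmallCategory C] [HasPullbacks C] {J : GrothendieckTopology C}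
  {U : C} {ι : Type u} (Y : ι → Over U)

section ToCech

variable (P : Cᵒᵖ ⥤ AddCommGrpCat.{u})

lemma toCech₀_eq : CechEdge.toCech₀ P Y = ε (siteAug Y) ((Over.forget U).op ⋙ P) := by
  refine Pi.hom_ext
    (f := fun i : Fin 1 → ι => ((Over.forget U).op ⋙ P).obj (op (∏ᶜ (Y ∘ i)))) _ _ (fun i => ?_)
  have h1 : CechEdge.toCech₀ P Y ≫
      Pi.π (fun i : Fin 1 → ι => ((Over.forget U).op ⋙ P).obj (op (∏ᶜ (Y ∘ i)))) i =
      P.map (∏ᶜ (Y ∘ i)).hom.op := Pi.lift_π _ _
  have h2 : ε (siteAug Y) ((Over.forget U).op ⋙ P) ≫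
      Pi.π (fun i : Fin 1 → ι => ((Over.forget U).op ⋙ P).obj (op (∏ᶜ (Y ∘ i)))) i =
      ((Over.forget U).op ⋙ P).map (Pi.π (Y ∘ i) 0 ≫ (siteAug Y).b (i 0)).op := Pi.lift_π _ _
  refine h1.trans (Eq.trans ?_ h2.symm)
  change P.map _ = P.map _
  congr 1
  exact congrArg Quiver.Hom.op (Over.w (Pi.π (Y ∘ i) 0)).symm

lemma toCycles_eq :
    CechEdge.toCycles P Y = CechH0.toCycles (siteAug Y) ((Over.forget U).op ⋙ P) := by
  rw [← cancel_mono ((CechEdge.cx P Y).iCycles 0), CechEdge.toCycles_i]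
  exact (toCech₀_eq Y P).trans (CechH0.toCycles_i _ _).symm

lemma toCech_eq :
    CechEdge.toCech Y P = (secToH0 (siteAug Y) ((Over.forget U).op ⋙ P)).hom := by
  rw [CechEdge.toCech, toCycles_eq]
  rfl

variable {P} in
lemma toCech_naturality {Q : Cᵒᵖ ⥤ AddCommGrpCat.{u}} (φ : P ⟶ Q) (s : P.obj (op U)) :
    CechEdge.cechHMap Y φ 0 (CechEdge.toCech Y P s) =
      CechEdge.toCech Y Q ((φ.app (op U)).hom s) := by
  rw [toCech_eq, toCech_eq]
  exact ConcreteCategory.congr_hom (secToH0_naturality (siteAug Y)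
    (Functor.whiskerLeft (Over.forget U).op φ)) s

end ToCech

lemma toCech_bijective
    (hY : Sieve.ofArrows (fun i => (Y i).left) (fun i => (Y i).hom) ∈ J U)
    (F : Sheaf J AddCommGrpCat.{u}) : Function.Bijective (CechEdge.toCech Y F.obj) := by
  rw [toCech_eq]
  have := isIso_secToH0 (siteAug Y) (isGluing_site Y hY F)
  exact (ConcreteCategory.isIso_iff_bijective _).1 this

section SectH0

open Abelian

lemma sectH0_apply (F : Sheaf J AddCommGrpCat.{u}) (s : F.obj.obj (op U)) :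
    CechEdge.sectH0 J U F s = Ext.mk₀ (CohFree.ofSect J U F s) := rfl

lemma ofSect_comp {F G : Sheaf J AddCommGrpCat.{u}} (ψ : F ⟶ G) (s : F.obj.obj (op U)) :
    CohFree.ofSect J U F s ≫ ψ = CohFree.ofSect J U G ((ψ.hom.app (op U)).hom s) := by
  apply (CohFree.homEquivSect J U G).injective
  rw [CohFree.homEquivSect_apply, CohFree.homEquivSect_apply, CohFree.evalGen_ofSect]
  change (ψ.hom.app (op U)).hom (CohFree.evalGen J U F (CohFree.ofSect J U F s)) = _
  rw [CohFree.evalGen_ofSect]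

lemma sectH0_naturality {F G : Sheaf J AddCommGrpCat.{u}} (ψ : F ⟶ G) (s : F.obj.obj (op U)) :
    CechEdge.HUmap ψ 0 U (CechEdge.sectH0 J U F s) =
      CechEdge.sectH0 J U G ((ψ.hom.app (op U)).hom s) := by
  rw [HUmap_apply, sectH0_apply, sectH0_apply, Ext.mk₀_comp_mk₀, ofSect_comp]

lemma HUmap_bijective {F G : Sheaf J AddCommGrpCat.{u}} (ψ : F ⟶ G) [IsIso ψ] (n : ℕ) (V : C) :
    Function.Bijective (CechEdge.HUmap ψ n V) := by
  have : IsIso (((Sheaf.cohomologyPresheafFunctor J n).map ψ).app (op V)) := inferInstance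
  exact (ConcreteCategory.isIso_iff_bijective _).1 this

instance isIso_shfMap_toSheafify (P : Cᵒᵖ ⥤ AddCommGrpCat.{u}) :
    IsIso (CechEdge.shfMap J (toSheafify J P)) := by
  have h := (sheafificationAdjunction J AddCommGrpCat.{u}).left_triangle_components P
  have h2 : IsIso ((presheafToSheaf J AddCommGrpCat.{u}).map
      ((sheafificationAdjunction J AddCommGrpCat.{u}).unit.app P) ≫
      (sheafificationAdjunction J AddCommGrpCat.{u}).counit.app
        ((presheafToSheaf J AddCommGrpCat.{u}).obj P)) := by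
    rw [h]
    exact IsIso.id _
  exact IsIso.of_isIso_comp_right _
    ((sheafificationAdjunction J AddCommGrpCat.{u}).counit.app
      ((presheafToSheaf J AddCommGrpCat.{u}).obj P))

end SectH0

section Edge0

variable (hY : Sieve.ofArrows (fun i => (Y i).left) (fun i => (Y i).hom) ∈ J U)

/-- sections over `U` of a sheaf are its degree `0` Čech cohomology on a covering family. -/
def toCechEquiv (F : Sheaf J AddCommGrpCat.{u}) : F.obj.obj (op U) ≃+ CohCx.cechH F.obj Y 0 :=
  AddEquiv.ofBijective (CechEdge.toCech Y F.obj) (toCech_bijective Y hY F)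

lemma toCechEquiv_apply (F : Sheaf J AddCommGrpCat.{u}) (s : F.obj.obj (op U)) :
    toCechEquiv Y hY F s = CechEdge.toCech Y F.obj s := rfl

/-- the edge map in degree `0`. -/
def edge0 (P : Cᵒᵖ ⥤ AddCommGrpCat.{u}) :
    CohCx.cechH P Y 0 →+ CohSite.HU (CechEdge.shf J P) 0 U :=
  ((CechEdge.sectH0 J U (CechEdge.shf J P)).toAddMonoidHom.comp
    (toCechEquiv Y hY (CechEdge.shf J P)).symm.toAddMonoidHom).comp
      (CechEdge.cechHMap Y (toSheafify J P) 0)

lemma edge0_apply (P : Cᵒᵖ ⥤ AddCommGrpCat.{u}) (x : CohCx.cechH P Y 0) :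
    edge0 Y hY P x = CechEdge.sectH0 J U (CechEdge.shf J P)
      ((toCechEquiv Y hY (CechEdge.shf J P)).symm
        (CechEdge.cechHMap Y (toSheafify J P) 0 x)) := rfl

lemma edge0_toCech (P : Cᵒᵖ ⥤ AddCommGrpCat.{u}) (s : P.obj (op U)) :
    edge0 Y hY P (CechEdge.toCech Y P s) =
      CechEdge.sectH0 J U (CechEdge.shf J P) (((toSheafify J P).app (op U)).hom s) := by
  rw [edge0_apply, toCech_naturality, ← toCechEquiv_apply Y hY, AddEquiv.symm_apply_apply]

lemma edge0_natural {P Q : Cᵒᵖ ⥤ AddCommGrpCat.{u}} (φ : P ⟶ Q) (x : CohCx.cechH P Y 0) :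
    edge0 Y hY Q (CechEdge.cechHMap Y φ 0 x) =
      CechEdge.HUmap (CechEdge.shfMap J φ) 0 U (edge0 Y hY P x) := by
  obtain ⟨s, hs⟩ := (toCechEquiv Y hY (CechEdge.shf J P)).surjective
    (CechEdge.cechHMap Y (toSheafify J P) 0 x)
  have h1 : CechEdge.cechHMap Y (toSheafify J Q) 0 (CechEdge.cechHMap Y φ 0 x) =
      toCechEquiv Y hY (CechEdge.shf J Q)
        (((CechEdge.shfMap J φ).hom.app (op U)).hom s) := by
    have hnat : φ ≫ toSheafify J Q = toSheafify J P ≫ (CechEdge.shfMap J φ).hom :=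
      toSheafify_naturality J φ
    have h2 : CechEdge.cechHMap Y (toSheafify J Q) 0 (CechEdge.cechHMap Y φ 0 x) =
        CechEdge.cechHMap Y (φ ≫ toSheafify J Q) 0 x := by
      change _ = (HomologicalComplex.homologyMap
        ((CechEdge.cxFunctor Y).map (φ ≫ toSheafify J Q)) 0).hom x
      rw [Functor.map_comp, HomologicalComplex.homologyMap_comp]
      rfl
    have h3 : CechEdge.cechHMap Y (toSheafify J P ≫ (CechEdge.shfMap J φ).hom) 0 x =
        CechEdge.cechHMap Y (CechEdge.shfMap J φ).hom 0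
          (CechEdge.cechHMap Y (toSheafify J P) 0 x) := by
      change (HomologicalComplex.homologyMap
        ((CechEdge.cxFunctor Y).map (toSheafify J P ≫ (CechEdge.shfMap J φ).hom)) 0).hom x = _
      rw [Functor.map_comp, HomologicalComplex.homologyMap_comp]
      rfl
    rw [h2, hnat, h3, ← hs, toCechEquiv_apply, toCechEquiv_apply]
    exact toCech_naturality Y (CechEdge.shfMap J φ).hom s
  rw [edge0_apply, edge0_apply, h1, ← hs, AddEquiv.symm_apply_apply, AddEquiv.symm_apply_apply,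
    sectH0_naturality]

end Edge0

section Main

variable {Y}
variable {e e' : ∀ (P : Cᵒᵖ ⥤ AddCommGrpCat.{u}) (p : ℕ),
  CohCx.cechH P Y p →+ CohSite.HU (CechEdge.shf J P) p U}

/-- in degree zero an edge family is determined by its axioms. -/
lemma isEdge_zero_eq (he : CechEdge.IsEdge J Y e) (he' : CechEdge.IsEdge J Y e')
    (P : Cᵒᵖ ⥤ AddCommGrpCat.{u}) : e P 0 = e' P 0 := by
  ext x
  apply (HUmap_bijective (CechEdge.shfMap J (toSheafify J P)) 0 U).1
  rw [← he.natural, ← he'.natural]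
  obtain ⟨s, hs⟩ := (toCech_bijective Y he.cover (CechEdge.shf J P)).2
    (CechEdge.cechHMap Y (toSheafify J P) 0 x)
  rw [← hs, he.zero, he'.zero]

/-- **uniqueness of edge families.** -/
theorem isEdge_unique (he : CechEdge.IsEdge J Y e) (he' : CechEdge.IsEdge J Y e') : e = e' :=
  ext_of_zero (cechDelta_effaceable Y) (isHom_of_isEdge he) (isHom_of_isEdge he')
    (isEdge_zero_eq he he')

variable (J Y) in
/-- **existence of edge families.** -/
theorem exists_isEdge (hY : Sieve.ofArrows (fun i => (Y i).left) (fun i => (Y i).hom) ∈ J U) :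
    ∃ e : ∀ (P : Cᵒᵖ ⥤ AddCommGrpCat.{u}) (p : ℕ),
      CohCx.cechH P Y p →+ CohSite.HU (CechEdge.shf J P) p U, CechEdge.IsEdge J Y e := by
  obtain ⟨e, he, h0⟩ := exists_of_zero (T := cechDelta Y) (S := shDelta J U)
    (cechDelta_effaceable Y) (edge0 Y hY) (fun φ x => edge0_natural Y hY φ x)
  refine ⟨e, isEdge_of_isHom hY (fun P s => ?_) he⟩
  rw [h0]
  exact edge0_toCech Y hY P s

end Main

end Groth.Agent.Lib.Helper13.CechEdgeZero
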