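import Mathlib
import Groth.Prelude
import Groth.Agent.Lib.Helper13.CechEdgeZero

/-!
# Edge maps: injectivity in degree one and bijectivity for acyclic covering families
-/
set_option autoImplicit false
universe w u' u
open CategoryTheory CategoryTheory.Limits Opposite

noncomputable section

namespace Groth.Agent.Lib.Helper13.CechEdgeAcyclic

open CechBasic CechLow CechLES CechH0 CechSite CechInjective DeltaFun CechDelta CechEdgeZero

section Generic

variable {D : Type u'} [Category.{w} D] [HasFiniteProducts D] {κ : Type w} (Y : κ → D)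
  {P P' : Dᵒᵖ ⥤ AddCommGrpCat.{w}} (τ : P ⟶ P')

lemma at0_zero (j : κ) : at0 Y P 0 j = 0 := by
  change (P.map (toSingle Y j).op).hom ((proj Y P 0 (single j)).hom 0) = 0
  rw [map_zero, map_zero]

/-- a morphism of presheaves which is injective on the members of the family is injective on
`Ȟ⁰`. -/
lemma homologyMap_zero_injective (hinj : ∀ j : κ, Function.Injective (τ.app (op (Y j))).hom) :
    Function.Injective
      (HomologicalComplex.homologyMap ((cechComplexFunctor Y).map τ) 0).hom := by
  have hπ : Function.Bijective ((cx Y P).homologyπ 0).hom :=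
    (ConcreteCategory.isIso_iff_bijective _).1 inferInstance
  have hπ' : Function.Bijective ((cx Y P').homologyπ 0).hom :=
    (ConcreteCategory.isIso_iff_bijective _).1 inferInstance
  have hi : Function.Injective ((cx Y P).iCycles 0).hom :=
    (AddCommGrpCat.mono_iff_injective _).1 inferInstance
  rw [injective_iff_map_eq_zero]
  intro x hx
  obtain ⟨c, rfl⟩ := hπ.2 x
  have h1 : ((cx Y P').homologyπ 0).hom
      ((HomologicalComplex.cyclesMap ((cechComplexFunctor Y).map τ) 0).hom c) = 0 := by
    rw [← hx]
    exact (ConcreteCategory.congr_hom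
      (HomologicalComplex.homologyπ_naturality ((cechComplexFunctor Y).map τ) 0) c).symm
  have h2 : (HomologicalComplex.cyclesMap ((cechComplexFunctor Y).map τ) 0).hom c = 0 :=
    hπ'.1 (h1.trans (map_zero _).symm)
  have h3 : (((cechComplexFunctor Y).map τ).f 0).hom (((cx Y P).iCycles 0).hom c) = 0 := by
    have h := ConcreteCategory.congr_hom
      (HomologicalComplex.cyclesMap_i ((cechComplexFunctor Y).map τ) 0) c
    refine h.symm.trans ?_
    change ((cx Y P').iCycles 0).hom
      ((HomologicalComplex.cyclesMap ((cechComplexFunctor Y).map τ) 0).hom c) = 0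
    rw [h2, map_zero]
  have h4 : ((cx Y P).iCycles 0).hom c = 0 := by
    apply ext0
    intro j
    have h := at0_map Y τ (((cx Y P).iCycles 0).hom c) j
    rw [h3, at0_zero] at h
    rw [at0_zero]
    exact hinj j (h.symm.trans (map_zero _).symm)
  rw [hi (h4.trans (map_zero _).symm), map_zero]

/-- a morphism of presheaves which is bijective on all iterated products of the members of the
family induces an isomorphism of Čech complexes. -/
lemma isIso_map_of_bijective (h : ∀ (n : ℕ) (i : Fin (n + 1) → κ),
    Function.Bijective (τ.app (op (∏ᶜ (Y ∘ i)))).hom) :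
    IsIso ((cechComplexFunctor Y).map τ) := by
  have : ∀ n, IsIso (((cechComplexFunctor Y).map τ).f n) := by
    intro n
    rw [ConcreteCategory.isIso_iff_bijective]
    constructor
    · rw [injective_iff_map_eq_zero]
      intro x hx
      apply ext_elem
      intro i
      rw [map_zero]
      apply (h n i).1
      rw [← map_proj_apply, hx, map_zero, map_zero]
    · intro z
      choose x hx using fun i => (h n i).2 ((proj Y P' n i).hom z)
      refine ⟨mk Y P x, ?_⟩
      apply ext_elem
      intro i
      rw [map_proj_apply, proj_mk, hx]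
  exact HomologicalComplex.Hom.isIso_of_components _

lemma homologyMap_bijective (h : ∀ (n : ℕ) (i : Fin (n + 1) → κ),
    Function.Bijective (τ.app (op (∏ᶜ (Y ∘ i)))).hom) (p : ℕ) :
    Function.Bijective
      (HomologicalComplex.homologyMap ((cechComplexFunctor Y).map τ) p).hom := by
  have := isIso_map_of_bijective Y τ h
  have h2 : IsIso (HomologicalComplex.homologyMap ((cechComplexFunctor Y).map τ) p) :=
    inferInstanceAs (IsIso ((HomologicalComplex.homologyFunctor _ _ p).map
      ((cechComplexFunctor Y).map τ)))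
  exact (ConcreteCategory.isIso_iff_bijective _).1 h2

end Generic

variable {C : Type u} [SmallCategory C] {J : GrothendieckTopology C}

section Separated

variable {X : ShortComplex (Cᵒᵖ ⥤ AddCommGrpCat.{u})} (hX : X.ShortExact)
  (h₁ : Presheaf.IsSheaf J X.X₁) (h₂ : Presheaf.IsSheaf J X.X₂)
include hX h₁ h₂

/-- the quotient presheaf of a sheaf by a subsheaf is separated. -/
lemma eq_zero_of_locally_zero (V : C) (s : X.X₃.obj (op V)) (R : Sieve V) (hR : R ∈ J V)
    (hs : ∀ ⦃W : C⦄ (g : W ⟶ V), R g → (X.X₃.map g.op).hom s = 0) : s = 0 := by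
  obtain ⟨t, rfl⟩ := app_surjective hX (op V) s
  have hinj : ∀ W : C, Function.Injective (X.f.app (op W)).hom := fun W =>
    (injective_iff_map_eq_zero _).2 (fun x hx => app_injective hX (op W) x hx)
  have hex : ∀ ⦃W : C⦄ (g : W ⟶ V), R g → ∃ a : X.X₁.obj (op W),
      (X.f.app (op W)).hom a = (X.X₂.map g.op).hom t := by
    intro W g hg
    apply app_exact hX
    rw [nat_apply X.g g t]
    exact hs g hg
  choose a ha using hex
  have hF : Presieve.IsSheaf J (X.X₁ ⋙ forget AddCommGrpCat.{u}) :=
    (isSheaf_iff_isSheaf_of_type J _).1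
      ((Presheaf.isSheaf_iff_isSheaf_forget J X.X₁ (forget AddCommGrpCat.{u})).1 h₁)
  have hI : Presieve.IsSheaf J (X.X₂ ⋙ forget AddCommGrpCat.{u}) :=
    (isSheaf_iff_isSheaf_of_type J _).1
      ((Presheaf.isSheaf_iff_isSheaf_forget J X.X₂ (forget AddCommGrpCat.{u})).1 h₂)
  let x : Presieve.FamilyOfElements (X.X₁ ⋙ forget AddCommGrpCat.{u}) R.arrows :=
    fun W g hg => a g hg
  have hx : x.Compatible := by
    intro W₁ W₂ Z g₁ g₂ f₁ f₂ hf₁ hf₂ hcomm
    apply hinj Z
    change (X.f.app (op Z)).hom ((X.X₁.map g₁.op).hom (a f₁ hf₁)) =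
      (X.f.app (op Z)).hom ((X.X₁.map g₂.op).hom (a f₂ hf₂))
    rw [nat_apply X.f g₁, nat_apply X.f g₂, ha, ha, map_map_apply, map_map_apply, hcomm]
  have hglue : ∀ ⦃W : C⦄ (g : W ⟶ V) (hg : R g),
      (X.X₁.map g.op).hom ((hF R hR).amalgamate x hx) = a g hg := fun W g hg =>
    Presieve.IsSheafFor.valid_glue (hF R hR) hx g hg
  have ht : (X.f.app (op V)).hom ((hF R hR).amalgamate x hx) = t := by
    apply (hI R hR).isSeparatedFor.ext
    intro W g hg
    change (X.X₂.map g.op).hom ((X.f.app (op V)).hom ((hF R hR).amalgamate x hx)) =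
      (X.X₂.map g.op).hom t
    rw [← nat_apply X.f g, hglue g hg, ha]
  rw [← ht]
  exact ConcreteCategory.congr_hom (NatTrans.congr_app X.zero (op V)) _

lemma toSheafify_app_injective (V : C) :
    Function.Injective ((toSheafify J X.X₃).app (op V)).hom := by
  rw [injective_iff_map_eq_zero]
  intro s hs
  have hmem : Presheaf.equalizerSieve (F := X.X₃) (X := op V) s 0 ∈ J V :=
    Presheaf.equalizerSieve_mem J (toSheafify J X.X₃) s 0 (hs.trans (map_zero _).symm)
  refine eq_zero_of_locally_zero hX h₁ h₂ V s _ hmem (fun W g hg => ?_)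
  exact hg.trans (map_zero _)

end Separated

section Surjective

variable [HasPullbacks C]
variable {X : ShortComplex (Cᵒᵖ ⥤ AddCommGrpCat.{u})} (hX : X.ShortExact)
  (h₂ : Presheaf.IsSheaf J X.X₂)
include hX h₂

lemma toSheafify_app_surjective (V : C)
    (hV : ∀ x : CohSite.HU (CechEdge.shf J X.X₁) 1 V, x = 0) :
    Function.Surjective ((toSheafify J X.X₃).app (op V)).hom := by
  intro w
  obtain ⟨v, hv⟩ := (shDelta J V).exact₃ X hX 0
    (CechEdge.sectH0 J V (CechEdge.shf J X.X₃) w) (hV _)
  obtain ⟨v₀, rfl⟩ := (CechEdge.sectH0 J V (CechEdge.shf J X.X₂)).surjective v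
  have : IsIso (toSheafify J X.X₂) := isIso_toSheafify J h₂
  obtain ⟨v₁, rfl⟩ := ((ConcreteCategory.isIso_iff_bijective
    ((toSheafify J X.X₂).app (op V))).1 inferInstance).2 v₀
  refine ⟨(X.g.app (op V)).hom v₁, ?_⟩
  have h1 : (shDelta J V).map X.g 0 (CechEdge.sectH0 J V (CechEdge.shf J X.X₂)
      (((toSheafify J X.X₂).app (op V)).hom v₁)) =
      CechEdge.sectH0 J V (CechEdge.shf J X.X₃) (((CechEdge.shfMap J X.g).hom.app (op V)).hom
        (((toSheafify J X.X₂).app (op V)).hom v₁)) :=
    sectH0_naturality (CechEdge.shfMap J X.g) _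
  rw [h1] at hv
  have h2 := (CechEdge.sectH0 J V (CechEdge.shf J X.X₃)).injective hv
  rw [← h2]
  exact ConcreteCategory.congr_hom (NatTrans.congr_app (toSheafify_naturality J X.g) (op V)) v₁

end Surjective

section Pres

/-- the presheaf-level short exact sequence `0 ⟶ F ⟶ I ⟶ I/F ⟶ 0` attached to the chosen
injective hull of an abelian sheaf `F`. -/
abbrev pres (F : Sheaf J AddCommGrpCat.{u}) : ShortComplex (Cᵒᵖ ⥤ AddCommGrpCat.{u}) :=
  ShortComplex.mk (Injective.ι F).hom (cokernel.π (Injective.ι F).hom) (cokernel.condition _)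

lemma pres_shortExact (F : Sheaf J AddCommGrpCat.{u}) : (pres F).ShortExact :=
  ShortComplex.ShortExact.mk' (ShortComplex.cokernelSequence_exact (Injective.ι F).hom)
    (inferInstanceAs (Mono (Injective.ι F).hom))
    (inferInstanceAs (Epi (cokernel.π (Injective.ι F).hom)))

end Pres

section Main

variable [HasPullbacks C] {U : C} {ι : Type u} {Y : ι → Over U}
  {e : ∀ (P : Cᵒᵖ ⥤ AddCommGrpCat.{u}) (p : ℕ),
    CohCx.cechH P Y p →+ CohSite.HU (CechEdge.shf J P) p U}

lemma HU_shf_eq_zero (G : Sheaf J AddCommGrpCat.{u}) (n : ℕ) (V : C)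
    (hG : Subsingleton (CohSite.HU G n V)) (x : CohSite.HU (CechEdge.shf J G.obj) n V) : x = 0 :=
  (HUmap_bijective ((sheafificationAdjunction J AddCommGrpCat.{u}).counit.app G) n V).1
    (@Subsingleton.elim (CohSite.HU G n V) hG _ _)

lemma subsingleton_HU_of_injective (I : Sheaf J AddCommGrpCat.{u}) [Injective I] (n : ℕ) (V : C) :
    Subsingleton (CohSite.HU I (n + 1) V) :=
  ⟨fun x y => (Abelian.Ext.eq_zero_of_injective x).trans (Abelian.Ext.eq_zero_of_injective y).symm⟩

variable (he : CechEdge.IsEdge J Y e)
include he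

/-- for a sheaf, the degree zero edge map is bijective. -/
lemma edge_zero_bijective (G : Sheaf J AddCommGrpCat.{u}) : Function.Bijective (e G.obj 0) := by
  have h1 := toCech_bijective Y he.cover G
  have : IsIso (toSheafify J G.obj) := isIso_toSheafify J G.2
  have h2 : Function.Bijective ((toSheafify J G.obj).app (op U)).hom :=
    (ConcreteCategory.isIso_iff_bijective ((toSheafify J G.obj).app (op U))).1 inferInstance
  have h3 := (CechEdge.sectH0 J U (CechEdge.shf J G.obj)).bijective
  have h4 : (e G.obj 0) ∘ (CechEdge.toCech Y G.obj) =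
      (CechEdge.sectH0 J U (CechEdge.shf J G.obj)) ∘ ((toSheafify J G.obj).app (op U)).hom :=
    funext (he.zero G.obj)
  refine (Function.Bijective.of_comp_iff (e G.obj 0) h1).1 ?_
  rw [h4]
  exact h3.comp h2

/-- **the edge map in degree one is injective** (on the presheaf underlying a sheaf). -/
theorem edge_one_injective (F : Sheaf J AddCommGrpCat.{u}) : Function.Injective (e F.obj 1) := by
  have hom := isHom_of_isEdge he
  have hX := pres_shortExact F
  have h₃ : Function.Injective (e (pres F).X₃ 0) := by
    rw [injective_iff_map_eq_zero]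
    intro x hx
    have h1 := he.natural _ _ (toSheafify J (pres F).X₃) 0 x
    rw [hx, map_zero] at h1
    have h2 := (edge_zero_bijective he (CechEdge.shf J (pres F).X₃)).1
      (h1.trans (map_zero _).symm)
    exact (injective_iff_map_eq_zero _).1 (homologyMap_zero_injective Y
      (Functor.whiskerLeft (Over.forget U).op (toSheafify J (pres F).X₃))
      (fun j => toSheafify_app_injective hX F.2 (Injective.under F).2 (Y j).left)) x h2
  have h₂ : Function.Surjective (e (Injective.under F).obj 0) :=
    (edge_zero_bijective he (Injective.under F)).2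
  have hT : ∀ x : CohCx.cechH (Injective.under F).obj Y 1, x = 0 := fun x =>
    (AddCommGrpCat.subsingleton_of_isZero
      (isZero_cechH_site J (Injective.under F) Y 0)).elim x 0
  exact injective_step hom (pres F) hX 0 h₃ h₂ hT

/-- **the edge maps are bijective for a sheaf which is acyclic on the iterated fibre products of
the members of the family** (on the presheaf underlying the sheaf). -/
theorem edge_bijective_of_acyclic (p : ℕ) : ∀ (F : Sheaf J AddCommGrpCat.{u}),
    (∀ (n : ℕ) (a : Fin (n + 1) → ι) (q : ℕ),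
      Subsingleton (CohSite.HU F (q + 1) (∏ᶜ (Y ∘ a)).left)) →
    Function.Bijective (e F.obj p) := by
  induction p with
  | zero => intro F _; exact edge_zero_bijective he F
  | succ p ih =>
    intro F hF
    have hom := isHom_of_isEdge he
    have hX := pres_shortExact F
    have hIac : ∀ (n : ℕ) (a : Fin (n + 1) → ι) (q : ℕ),
        Subsingleton (CohSite.HU (Injective.under F) (q + 1) (∏ᶜ (Y ∘ a)).left) :=
      fun n a q => subsingleton_HU_of_injective _ q _
    have hQac : ∀ (n : ℕ) (a : Fin (n + 1) → ι) (q : ℕ),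
        Subsingleton (CohSite.HU (CechEdge.shf J (pres F).X₃) (q + 1) (∏ᶜ (Y ∘ a)).left) := by
      intro n a q
      refine ⟨fun y y' => ?_⟩
      have key : ∀ z : CohSite.HU (CechEdge.shf J (pres F).X₃) (q + 1) (∏ᶜ (Y ∘ a)).left,
          z = 0 := by
        intro z
        obtain ⟨v, hv⟩ := (shDelta J (∏ᶜ (Y ∘ a)).left).exact₃ (pres F) hX (q + 1) z
          (HU_shf_eq_zero F (q + 1 + 1) _ (hF n a (q + 1)) _)
        have hv0 : v = 0 := HU_shf_eq_zero (Injective.under F) (q + 1) _ (hIac n a q) v
        rw [← hv, hv0]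
        exact map_zero _
      rw [key y, key y']
    have h₃ : Function.Bijective (e (pres F).X₃ p) := by
      have hη : ∀ (n : ℕ) (i : Fin (n + 1) → ι), Function.Bijective
          ((Functor.whiskerLeft (Over.forget U).op (toSheafify J (pres F).X₃)).app
            (op (∏ᶜ (Y ∘ i)))).hom := fun n i =>
        ⟨toSheafify_app_injective hX F.2 (Injective.under F).2 _,
          toSheafify_app_surjective hX (Injective.under F).2 _
            (fun x => HU_shf_eq_zero F 1 _ (hF n i 0) x)⟩
      have hc : Function.Bijective (CechEdge.cechHMap Y (toSheafify J (pres F).X₃) p) :=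
        homologyMap_bijective Y _ hη p
      have hsh := ih (CechEdge.shf J (pres F).X₃) hQac
      have hH := HUmap_bijective (CechEdge.shfMap J (toSheafify J (pres F).X₃)) p U
      have hcomp : (CechEdge.HUmap (CechEdge.shfMap J (toSheafify J (pres F).X₃)) p U) ∘
          (e (pres F).X₃ p) = (e (CechEdge.shf J (pres F).X₃).obj p) ∘
            (CechEdge.cechHMap Y (toSheafify J (pres F).X₃) p) :=
        funext (fun x => (he.natural _ _ (toSheafify J (pres F).X₃) p x).symm)
      refine (Function.Bijective.of_comp_iff' hH _).1 ?_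
      rw [hcomp]
      exact hsh.comp hc
    have h₂ : Function.Surjective (e (Injective.under F).obj p) := (ih _ hIac).2
    have hT : ∀ x : CohCx.cechH (Injective.under F).obj Y (p + 1), x = 0 := fun x =>
      (AddCommGrpCat.subsingleton_of_isZero
        (isZero_cechH_site J (Injective.under F) Y p)).elim x 0
    have hS : ∀ x : CohSite.HU (CechEdge.shf J (Injective.under F).obj) (p + 1) U, x = 0 :=
      fun x => HU_shf_eq_zero (Injective.under F) (p + 1) U
        (subsingleton_HU_of_injective _ p U) x
    exact bijective_step hom (pres F) hX p h₃ h₂ hT hS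

end Main

end Groth.Agent.Lib.Helper13.CechEdgeAcyclic
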