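import Mathlib
import Groth.Prelude
import Groth.Agent.Lib.Helper13.CechEdgeZero

/-!
# Edge families are compatible with refinement of the covering family
-/
set_option autoImplicit false
universe u
open CategoryTheory CategoryTheory.Limits Opposite

noncomputable section

namespace Groth.Agent.Lib.Helper13.CechEdgeRefine

open DeltaFun CechDelta CechEdgeZero

variable {C : Type u} [SmallCategory C] [HasPullbacks C] {J : GrothendieckTopology C}
  {U : C} {ι κ : Type u} {Y : ι → Over U} {Y' : κ → Over U}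
  (f : FormalCoproduct.mk ι Y ⟶ FormalCoproduct.mk κ Y')

/-- the refinement map between the Čech complexes of the prelude. -/
abbrev refine (P : Cᵒᵖ ⥤ AddCommGrpCat.{u}) : CechEdge.cx P Y' ⟶ CechEdge.cx P Y :=
  CohCx.cechRefine P f

lemma refine_naturality {P Q : Cᵒᵖ ⥤ AddCommGrpCat.{u}} (φ : P ⟶ Q) :
    (CechEdge.cxFunctor Y').map φ ≫ refine f Q = refine f P ≫ (CechEdge.cxFunctor Y).map φ := by
  ext n : 1
  exact (((FormalCoproduct.evalOp.{u} (Over U) AddCommGrpCat.{u}).map
    (Functor.whiskerLeft (Over.forget U).op φ)).naturality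
      ((FormalCoproduct.cechFunctor.map f).app (op (SimplexCategory.mk n))).op).symm

lemma refine_f_π (P : Cᵒᵖ ⥤ AddCommGrpCat.{u}) (n : ℕ) (i : Fin (n + 1) → ι) :
    (refine f P).f n ≫
      Pi.π (fun i : Fin (n + 1) → ι => ((Over.forget U).op ⋙ P).obj (op (∏ᶜ (Y ∘ i)))) i =
    Pi.π (fun i : Fin (n + 1) → κ => ((Over.forget U).op ⋙ P).obj (op (∏ᶜ (Y' ∘ i)))) (f.f ∘ i) ≫
      P.map (Limits.Pi.map (fun a => f.φ (i a)) : ∏ᶜ (Y ∘ i) ⟶ ∏ᶜ (Y' ∘ (f.f ∘ i))).left.op :=
  Pi.lift_π _ _

lemma toCech₀_refine (P : Cᵒᵖ ⥤ AddCommGrpCat.{u}) :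
    CechEdge.toCech₀ P Y' ≫ (refine f P).f 0 = CechEdge.toCech₀ P Y := by
  refine Pi.hom_ext
    (f := fun i : Fin 1 → ι => ((Over.forget U).op ⋙ P).obj (op (∏ᶜ (Y ∘ i)))) _ _ (fun i => ?_)
  have h1 : CechEdge.toCech₀ P Y ≫
      Pi.π (fun i : Fin 1 → ι => ((Over.forget U).op ⋙ P).obj (op (∏ᶜ (Y ∘ i)))) i =
      P.map (∏ᶜ (Y ∘ i)).hom.op := Pi.lift_π _ _
  have h2 : CechEdge.toCech₀ P Y' ≫
      Pi.π (fun i : Fin 1 → κ => ((Over.forget U).op ⋙ P).obj (op (∏ᶜ (Y' ∘ i)))) (f.f ∘ i) =
      P.map (∏ᶜ (Y' ∘ (f.f ∘ i))).hom.op := Pi.lift_π _ _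
  refine Eq.trans ?_ h1.symm
  refine (Category.assoc _ _ _).trans ?_
  refine (congrArg (fun k => CechEdge.toCech₀ P Y' ≫ k) (refine_f_π f P 0 i)).trans ?_
  refine (Category.assoc _ _ _).symm.trans ?_
  refine (congrArg (fun k => k ≫ P.map (Limits.Pi.map (fun a => f.φ (i a)) :
    ∏ᶜ (Y ∘ i) ⟶ ∏ᶜ (Y' ∘ (f.f ∘ i))).left.op) h2).trans ?_
  rw [← P.map_comp, ← op_comp, Over.w]

lemma toCech_refine (P : Cᵒᵖ ⥤ AddCommGrpCat.{u}) (s : P.obj (op U)) :
    (HomologicalComplex.homologyMap (refine f P) 0).hom (CechEdge.toCech Y' P s) =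
      CechEdge.toCech Y P s := by
  have h : CechEdge.toCycles P Y' ≫ HomologicalComplex.cyclesMap (refine f P) 0 =
      CechEdge.toCycles P Y := by
    rw [← cancel_mono ((CechEdge.cx P Y).iCycles 0), Category.assoc,
      HomologicalComplex.cyclesMap_i, ← Category.assoc, CechEdge.toCycles_i,
      CechEdge.toCycles_i, toCech₀_refine]
  have h2 : (CechEdge.toCycles P Y' ≫ (CechEdge.cx P Y').homologyπ 0) ≫
      HomologicalComplex.homologyMap (refine f P) 0 =
      CechEdge.toCycles P Y ≫ (CechEdge.cx P Y).homologyπ 0 := by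
    rw [Category.assoc, HomologicalComplex.homologyπ_naturality, ← Category.assoc, h]
  exact ConcreteCategory.congr_hom h2 s

/-- the refinement maps as a morphism of short complexes of Čech complexes. -/
def refineSC (X : ShortComplex (Cᵒᵖ ⥤ AddCommGrpCat.{u})) :
    X.map (CechEdge.cxFunctor Y') ⟶ X.map (CechEdge.cxFunctor Y) where
  τ₁ := refine f X.X₁
  τ₂ := refine f X.X₂
  τ₃ := refine f X.X₃
  comm₁₂ := (refine_naturality f X.f).symm
  comm₂₃ := (refine_naturality f X.g).symm

/-- refinement is a morphism of δ-functors. -/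
lemma refine_isHom : IsHom (cechDelta Y') (cechDelta Y)
    (fun P n => (HomologicalComplex.homologyMap (refine f P) n).hom) where
  natural {P Q} φ n x := by
    change (HomologicalComplex.homologyMap (refine f Q) n).hom
        ((HomologicalComplex.homologyMap ((CechEdge.cxFunctor Y').map φ) n).hom x) =
      (HomologicalComplex.homologyMap ((CechEdge.cxFunctor Y).map φ) n).hom
        ((HomologicalComplex.homologyMap (refine f P) n).hom x)
    have h := congrArg (fun k => HomologicalComplex.homologyMap k n) (refine_naturality f φ)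
    simp only [HomologicalComplex.homologyMap_comp] at h
    exact ConcreteCategory.congr_hom h x
  delta X hX n x := by
    have h := HomologicalComplex.HomologySequence.δ_naturality (refineSC f X)
      (cx_shortExact Y' X hX) (cx_shortExact Y X hX) n (n + 1) rfl
    exact ConcreteCategory.congr_hom h x

variable {f}
variable {e : ∀ (P : Cᵒᵖ ⥤ AddCommGrpCat.{u}) (p : ℕ),
    CohCx.cechH P Y p →+ CohSite.HU (CechEdge.shf J P) p U}
  {e' : ∀ (P : Cᵒᵖ ⥤ AddCommGrpCat.{u}) (p : ℕ),
    CohCx.cechH P Y' p →+ CohSite.HU (CechEdge.shf J P) p U}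

variable (f) in
/-- **edge families are compatible with refinement.** -/
theorem edge_refine (he : CechEdge.IsEdge J Y e) (he' : CechEdge.IsEdge J Y' e')
    (P : Cᵒᵖ ⥤ AddCommGrpCat.{u}) (p : ℕ) (x : CohCx.cechH P Y' p) :
    e P p ((HomologicalComplex.homologyMap (CohCx.cechRefine P f) p).hom x) = e' P p x := by
  have he'' : CechEdge.IsEdge J Y'
      (fun P n => (e P n).comp (HomologicalComplex.homologyMap (refine f P) n).hom) :=
    isEdge_of_isHom he'.cover (fun P s => by
      change e P 0 ((HomologicalComplex.homologyMap (refine f P) 0).hom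
        (CechEdge.toCech Y' P s)) = _
      rw [toCech_refine, he.zero]) ((isHom_of_isEdge he).comp (refine_isHom f))
  have h := isEdge_unique he'' he'
  exact congrArg (fun k => k P p x) h

end Groth.Agent.Lib.Helper13.CechEdgeRefine
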