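import Mathlib
import Groth.Prelude
import Groth.Agent.Lib.Helper13.CechEdgeZero

/-!
# The sheaf condition in terms of degree zero Čech cohomology
-/
set_option autoImplicit false
universe w u' u
open CategoryTheory CategoryTheory.Limits Opposite

noncomputable section

namespace Groth.Agent.Lib.Helper13.CechEdgeSheaf

open CechBasic CechLow CechLES CechH0 CechSite CechEdgeZero

section Converse

variable {D : Type u'} [Category.{w} D] [HasFiniteProducts D] {κ : Type w} {Y : κ → D}
  {B : D} (A : Aug Y B) {P : Dᵒᵖ ⥤ AddCommGrpCat.{w}}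

lemma exists_cycle (z : (cx Y P).X 0) (hz : ((cx Y P).d 0 1).hom z = 0) :
    ∃ c : (cx Y P).cycles 0, ((cx Y P).iCycles 0).hom c = z := by
  let k : AddCommGrpCat.of (((cx Y P).d 0 1).hom.ker) ⟶ (cx Y P).X 0 :=
    AddCommGrpCat.ofHom (AddSubgroup.subtype _)
  have hk : k ≫ (cx Y P).d 0 1 = 0 := by
    apply AddCommGrpCat.hom_ext
    ext x
    exact x.2
  refine ⟨((cx Y P).liftCycles k 1 (by simp) hk).hom ⟨z, hz⟩, ?_⟩
  exact ConcreteCategory.congr_hom ((cx Y P).liftCycles_i k 1 (by simp) hk) ⟨z, hz⟩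

/-- if `P(B) → Ȟ⁰(Y, P)` is bijective then `P` satisfies the gluing condition for `Y`. -/
lemma isGluing_of_bijective (h : Function.Bijective (secToH0 A P).hom) : IsGluing P A := by
  have hπb : Function.Bijective ((cx Y P).homologyπ 0).hom :=
    (ConcreteCategory.isIso_iff_bijective _).1 inferInstance
  have hc : Function.Bijective (CechH0.toCycles A P).hom :=
    (Function.Bijective.of_comp_iff' hπb _).1 h
  have hmono : Function.Injective ((cx Y P).iCycles 0).hom :=
    (AddCommGrpCat.mono_iff_injective _).1 inferInstance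
  have hi : ∀ s, ((cx Y P).iCycles 0).hom ((CechH0.toCycles A P).hom s) = εfun P A s := fun s => by
    rw [← ε_apply]
    exact ConcreteCategory.congr_hom (CechH0.toCycles_i A P) s
  constructor
  · intro s s' hss
    apply hc.1
    apply hmono
    rw [hi, hi]
    apply ext0
    intro j
    rw [at0_εfun, at0_εfun, hss]
  · intro t ht
    obtain ⟨c, hc'⟩ := exists_cycle (mk0 Y P t) (by
      apply ext_elem
      intro i
      rw [d0_proj, at0_mk0, at0_mk0, ht, sub_self, map_zero])
    obtain ⟨s, rfl⟩ := hc.2 c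
    refine ⟨s, fun j => ?_⟩
    rw [hi] at hc'
    rw [← at0_εfun, hc', at0_mk0]

end Converse

variable {C : Type u} [SmallCategory C] [HasPullbacks C] (J : GrothendieckTopology C)

theorem isSheaf_iff_toCech_bijective (P : Cᵒᵖ ⥤ AddCommGrpCat.{u}) :
    Presheaf.IsSheaf J P ↔ ∀ (U : C) (ι : Type u) (Y : ι → Over U),
      Sieve.ofArrows (fun i => (Y i).left) (fun i => (Y i).hom) ∈ J U →
        Function.Bijective (CechEdge.toCech Y P) := by
  constructor
  · intro hP U ι Y hY
    exact toCech_bijective Y hY ⟨P, hP⟩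
  · intro h
    rw [Presheaf.isSheaf_iff_isSheaf_forget J P (forget AddCommGrpCat.{u}),
      isSheaf_iff_isSheaf_of_type]
    intro U S hS
    let ι : Type u := Σ V : C, {f : V ⟶ U // S.arrows f}
    let Y : ι → Over U := fun i => Over.mk i.2.1
    have hle : Sieve.ofArrows (fun i => (Y i).left) (fun i => (Y i).hom) = S := by
      apply le_antisymm
      · rw [Sieve.ofArrows, Sieve.generate_le_iff]
        rintro V f ⟨i⟩
        exact i.2.2
      · intro V f hf
        exact Sieve.ofArrows_mk (fun i : ι => (Y i).left) (fun i => (Y i).hom) ⟨V, f, hf⟩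
    have hcov : Sieve.ofArrows (fun i => (Y i).left) (fun i => (Y i).hom) ∈ J U := hle ▸ hS
    have hb := h U ι Y hcov
    rw [toCech_eq] at hb
    have hG := isGluing_of_bijective (siteAug Y) hb
    rw [← hle, Sieve.ofArrows, ← Presieve.isSheafFor_iff_generate,
      Presieve.isSheafFor_arrows_iff]
    intro x hx
    obtain ⟨s, hs⟩ := hG.glue x (fun i =>
      hx (i 0) (i 1) (∏ᶜ (Y ∘ i)).left (Pi.π (Y ∘ i) 0).left (Pi.π (Y ∘ i) 1).left
        ((Over.w (Pi.π (Y ∘ i) 0)).trans (Over.w (Pi.π (Y ∘ i) 1)).symm))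
    exact ⟨s, hs, fun s' hs' => hG.sep s' s (fun j => (hs' j).trans (hs j).symm)⟩

end Groth.Agent.Lib.Helper13.CechEdgeSheaf
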