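import Mathlib
import Groth.Prelude
import Groth.Agent.Lib.Helper13.CechTop

/-!
# Čech vanishing when the restrictions to unions of finite intersections are surjective

* `CechIso`: transport of Čech exactness along termwise isomorphisms compatible with the faces.
* the coarse topology `tauTop U` generated by a family of opens, the sheaf `G U F` on it, which is
  flasque under the surjectivity hypothesis, and the transport of Čech exactness back.
-/
set_option autoImplicit false
universe w u₁ u₂ u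
open CategoryTheory CategoryTheory.Limits Opposite TopologicalSpace

noncomputable section

namespace Groth.Agent.Lib.Helper13.CechTau

open CechBasic CechLow CechTop

section Transport

variable {D : Type u₁} [Category.{w} D] [HasFiniteProducts D]
  {D' : Type u₂} [Category.{w} D'] [HasFiniteProducts D'] {κ : Type w}
  (Y : κ → D) (P : Dᵒᵖ ⥤ AddCommGrpCat.{w}) (Y' : κ → D') (P' : D'ᵒᵖ ⥤ AddCommGrpCat.{w})

/-- termwise isomorphisms between the terms of two Čech complexes, compatible with the faces. -/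
structure CechIso where
  /-- the isomorphisms -/
  θ : ∀ (n : ℕ) (i : Fin (n + 1) → κ),
    P.obj (op (∏ᶜ (Y ∘ i))) ≃+ P'.obj (op (∏ᶜ (Y' ∘ i)))
  compat : ∀ (n : ℕ) (i : Fin (n + 2) → κ) (k : Fin (n + 2))
    (x : P.obj (op (∏ᶜ (Y ∘ (i ∘ k.succAbove))))),
    θ (n + 1) i ((P.map (face Y i k).op).hom x) =
      (P'.map (face Y' i k).op).hom (θ n (i ∘ k.succAbove) x)

variable {Y P Y' P'}

/-- the inverse. -/
def CechIso.symm (E : CechIso Y P Y' P') : CechIso Y' P' Y P where
  θ n i := (E.θ n i).symm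
  compat n i k x := by
    apply (E.θ (n + 1) i).injective
    rw [AddEquiv.apply_symm_apply, E.compat, AddEquiv.apply_symm_apply]

variable (E : CechIso Y P Y' P')

/-- the induced map on cochains. -/
def CechIso.fwd (n : ℕ) (x : (cx Y P).X n) : (cx Y' P').X n :=
  CechBasic.mk Y' P' (fun i => E.θ n i ((proj Y P n i).hom x))

lemma CechIso.proj_fwd (n : ℕ) (x : (cx Y P).X n) (i : Fin (n + 1) → κ) :
    (proj Y' P' n i).hom (E.fwd n x) = E.θ n i ((proj Y P n i).hom x) :=
  proj_mk _ _ _ _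

lemma CechIso.fwd_d (n : ℕ) (x : (cx Y P).X n) :
    E.fwd (n + 1) (((cx Y P).d n (n + 1)).hom x) = ((cx Y' P').d n (n + 1)).hom (E.fwd n x) := by
  apply ext_elem
  intro i
  rw [E.proj_fwd, d_apply, d_apply, map_sum]
  refine Finset.sum_congr rfl (fun k _ => ?_)
  rw [map_zsmul, E.compat, E.proj_fwd]

lemma CechIso.symm_fwd_fwd (n : ℕ) (x : (cx Y P).X n) : E.symm.fwd n (E.fwd n x) = x := by
  apply ext_elem
  intro i
  rw [CechIso.proj_fwd, CechIso.proj_fwd]
  exact (E.θ n i).symm_apply_apply _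

lemma CechIso.fwd_zero (n : ℕ) : E.fwd n 0 = 0 := by
  apply ext_elem
  intro i
  rw [E.proj_fwd, map_zero, map_zero, map_zero]

include E in
theorem CechIso.cechExact (n : ℕ) (h : CechExact Y P n) : CechExact Y' P' n := by
  intro c hc
  obtain ⟨b, hb⟩ := h (E.symm.fwd (n + 1) c) (by
    rw [← E.symm.fwd_d (n + 1) c, hc, CechIso.fwd_zero])
  refine ⟨E.fwd n b, ?_⟩
  rw [← E.fwd_d, hb]
  exact E.symm.symm_fwd_fwd (n + 1) c

end Transport

section Tau

variable {X : TopCat.{u}} {ι : Type u} (U : ι → Opens X)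

/-- the topology generated by the members of the family. -/
def tauTop : TopologicalSpace X :=
  TopologicalSpace.generateFrom (Set.range fun i => (U i : Set X))

/-- `X` with the topology generated by the members of the family. -/
def Xτ : TopCat.{u} := @TopCat.of X (tauTop U)

/-- the map from the open subspace `⋃ U i` to `X` with the coarse topology. -/
def ρ : TopCat.of (iSup U : Opens X) ⟶ Xτ U :=
  TopCat.ofHom (X := TopCat.of (iSup U : Opens X)) (Y := Xτ U) ⟨fun z => (z.1 : X), by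
    apply continuous_generateFrom_iff.2
    rintro _ ⟨i, rfl⟩
    exact (U i).isOpen.preimage continuous_subtype_val⟩

/-- the members of the family as opens for the coarse topology. -/
def U' (i : ι) : Opens (Xτ U) :=
  ⟨(U i : Set X), TopologicalSpace.GenerateOpen.basic _ ⟨i, rfl⟩⟩

/-- the sheaf `V ↦ F(V ∩ ⋃ U i)` on `X` with the coarse topology. -/
def G (F : CohTop.Ab X) : CohTop.Ab (Xτ U) :=
  (CohTop.push (ρ U)).obj ((CohTop.restrFunctor (iSup U)).obj F)

/-- `V ↦ V ∩ ⋃ U i` from opens of the coarse topology to opens of `X`. -/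
def Λ (V : Opens (Xτ U)) : Opens X :=
  (iSup U : Opens X).isOpenEmbedding.isOpenMap.functor.obj ((Opens.map (ρ U)).obj V)

/-- the underlying set of an open of the coarse topology. -/
def car (V : Opens (Xτ U)) : Set X := V.1

lemma coe_Λ (V : Opens (Xτ U)) : (Λ U V : Set X) = car U V ∩ ((iSup U : Opens X) : Set X) := by
  change Subtype.val '' (Subtype.val ⁻¹' (car U V)) = _
  ext x
  constructor
  · rintro ⟨⟨y, hy⟩, hys, rfl⟩
    exact ⟨hys, hy⟩
  · rintro ⟨hxs, hxZ⟩
    exact ⟨⟨x, hxZ⟩, hxs, rfl⟩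

lemma Λ_le (V : Opens (Xτ U)) : Λ U V ≤ iSup U := by
  intro x hx
  have := (coe_Λ U V).le hx
  exact this.2

/-- opens which are unions of finite intersections of members of the family. -/
def IsTau (O : Opens X) : Prop :=
  ∃ (κ : Type u) (a : κ → Σ p : ℕ, Fin (p + 1) → ι), O = ⨆ k, ⨅ j, U ((a k).2 j)

lemma iInter_append {m n : ℕ} (a : Fin m → ι) (b : Fin n → ι) :
    (⋂ j, (U (Fin.append a b j) : Set X)) =
      (⋂ j, (U (a j) : Set X)) ∩ (⋂ j, (U (b j) : Set X)) := by
  ext x
  simp only [Set.mem_iInter, Set.mem_inter_iff, SetLike.mem_coe]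
  constructor
  · intro h
    refine ⟨fun j => ?_, fun j => ?_⟩
    · have := h (Fin.castAdd n j)
      rwa [Fin.append_left] at this
    · have := h (Fin.natAdd m j)
      rwa [Fin.append_right] at this
  · rintro ⟨h1, h2⟩ j
    refine Fin.addCases (fun j' => ?_) (fun j' => ?_) j
    · rw [Fin.append_left]
      exact h1 j'
    · rw [Fin.append_right]
      exact h2 j'

lemma exists_tau_inter (s : Set X) (hs : TopologicalSpace.GenerateOpen
    (Set.range fun i => (U i : Set X)) s) :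
    ∃ (κ : Type u) (a : κ → Σ p : ℕ, Fin (p + 1) → ι),
      s ∩ ((iSup U : Opens X) : Set X) = ⋃ k, ⋂ j, (U ((a k).2 j) : Set X) := by
  induction hs with
  | basic s hs =>
    obtain ⟨i, rfl⟩ := hs
    refine ⟨PUnit.{u + 1}, fun _ => ⟨0, fun _ => i⟩, ?_⟩
    ext x
    simp only [Set.mem_inter_iff, SetLike.mem_coe, Set.mem_iUnion, Set.mem_iInter, exists_const,
      forall_const]
    exact ⟨fun h => h.1, fun h => ⟨h, (le_iSup U i) h⟩⟩
  | univ =>
    refine ⟨ι, fun i => ⟨0, fun _ => i⟩, ?_⟩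
    ext x
    simp only [Set.univ_inter, SetLike.mem_coe, Opens.mem_iSup, Set.mem_iUnion, Set.mem_iInter,
      forall_const]
  | inter s t _ _ ihs iht =>
    obtain ⟨κ, a, ha⟩ := ihs
    obtain ⟨κ', b, hb⟩ := iht
    refine ⟨κ × κ', fun kl => ⟨(a kl.1).1 + 1 + (b kl.2).1,
      (Fin.append (m := (a kl.1).1 + 1) (n := (b kl.2).1 + 1) (a kl.1).2 (b kl.2).2 :
        Fin ((a kl.1).1 + 1 + ((b kl.2).1 + 1)) → ι)⟩, ?_⟩
    have h1 : s ∩ t ∩ ((iSup U : Opens X) : Set X) =
        (s ∩ ((iSup U : Opens X) : Set X)) ∩ (t ∩ ((iSup U : Opens X) : Set X)) := by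
      ext x
      simp only [Set.mem_inter_iff]
      tauto
    rw [h1, ha, hb]
    ext x
    simp only [Set.mem_inter_iff, Set.mem_iUnion, Prod.exists]
    constructor
    · rintro ⟨⟨k, hk⟩, ⟨l, hl⟩⟩
      exact ⟨k, l, (iInter_append U (a k).2 (b l).2).ge ⟨hk, hl⟩⟩
    · rintro ⟨k, l, h⟩
      have h' := (iInter_append U (a k).2 (b l).2).le h
      exact ⟨⟨k, h'.1⟩, ⟨l, h'.2⟩⟩
  | sUnion S _ ih =>
    choose κ a ha using ih
    refine ⟨Σ s : S, κ s.1 s.2, fun sk => a sk.1.1 sk.1.2 sk.2, ?_⟩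
    ext x
    simp only [Set.mem_inter_iff, Set.mem_sUnion, Set.mem_iUnion, Set.mem_iInter, SetLike.mem_coe,
      Sigma.exists, Subtype.exists]
    constructor
    · rintro ⟨⟨s, hs, hxs⟩, hxZ⟩
      have hx : x ∈ s ∩ ((iSup U : Opens X) : Set X) := ⟨hxs, hxZ⟩
      rw [ha s hs] at hx
      simp only [Set.mem_iUnion, Set.mem_iInter, SetLike.mem_coe] at hx
      obtain ⟨k, hk⟩ := hx
      exact ⟨s, hs, k, hk⟩
    · rintro ⟨s, hs, k, hk⟩
      have hx : x ∈ s ∩ ((iSup U : Opens X) : Set X) := by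
        rw [ha s hs]
        simp only [Set.mem_iUnion, Set.mem_iInter, SetLike.mem_coe]
        exact ⟨k, hk⟩
      exact ⟨⟨s, hs, hx.1⟩, hx.2⟩

lemma isTau_Λ (V : Opens (Xτ U)) : IsTau U (Λ U V) := by
  obtain ⟨κ, a, ha⟩ := exists_tau_inter U (car U V) V.2
  refine ⟨κ, a, ?_⟩
  apply Opens.ext
  rw [coe_Λ, ha]
  simp only [Opens.coe_iSup, Opens.coe_iInf]

lemma Λ_prod {n : ℕ} (i : Fin (n + 1) → ι) : Λ U (∏ᶜ (U' U ∘ i)) = ∏ᶜ (U ∘ i) := by
  apply Opens.ext
  rw [coe_Λ, prod_eq_iInf, prod_eq_iInf]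
  have h1 : car U (⨅ k, U' U (i k)) = ⋂ k, (U (i k) : Set X) :=
    Opens.coe_iInf (fun k => U' U (i k))
  rw [h1, Opens.coe_iInf]
  apply Set.inter_eq_left.2
  intro x hx
  simp only [Set.mem_iInter] at hx
  exact (le_iSup U (i 0)) (hx 0)

variable (F : CohTop.Ab X)

lemma G_obj_obj (V : Opens (Xτ U)) : (G U F).obj.obj (op V) = F.obj.obj (op (Λ U V)) := rfl

/-- restriction maps of a presheaf on a space only depend on their source and target. -/
lemma map_map_eq {A B B' C : Opens X} (f : A ⟶ B) (g : B ⟶ C) (f' : A ⟶ B') (g' : B' ⟶ C)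
    (x : F.obj.obj (op C)) :
    (F.obj.map f.op).hom ((F.obj.map g.op).hom x) =
      (F.obj.map f'.op).hom ((F.obj.map g'.op).hom x) := by
  rw [map_map_apply, map_map_apply, Subsingleton.elim (f ≫ g) (f' ≫ g')]

lemma map_map_single {A B C : Opens X} (f : A ⟶ B) (g : B ⟶ C) (k : A ⟶ C)
    (x : F.obj.obj (op C)) :
    (F.obj.map f.op).hom ((F.obj.map g.op).hom x) = (F.obj.map k.op).hom x := by
  rw [map_map_apply, Subsingleton.elim (f ≫ g) k]

/-- the comparison of the terms of the Čech complexes. -/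
def θ {n : ℕ} (i : Fin (n + 1) → ι) :
    F.obj.obj (op (∏ᶜ (U ∘ i))) ≃+ (G U F).obj.obj (op (∏ᶜ (U' U ∘ i))) where
  toFun := (F.obj.map (homOfLE (Λ_prod U i).le).op).hom
  invFun := (F.obj.map (homOfLE (Λ_prod U i).ge).op).hom
  left_inv x := by
    rw [map_map_apply, Subsingleton.elim (homOfLE (Λ_prod U i).ge ≫ homOfLE (Λ_prod U i).le)
      (𝟙 _), map_id_apply]
  right_inv x := by
    change (F.obj.map (homOfLE (Λ_prod U i).le).op).hom
      ((F.obj.map (homOfLE (Λ_prod U i).ge).op).hom x) = x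
    rw [map_map_apply, Subsingleton.elim (homOfLE (Λ_prod U i).le ≫ homOfLE (Λ_prod U i).ge)
      (𝟙 _), map_id_apply]
  map_add' := map_add _

/-- the Čech complexes of `F` on `X` and of `G U F` on the coarse space are isomorphic. -/
def cechIso : CechIso U F.obj (U' U) (G U F).obj where
  θ n i := θ U F i
  compat n i k x := by
    change (F.obj.map (homOfLE (Λ_prod U i).le).op).hom ((F.obj.map (face U i k).op).hom x) =
      (F.obj.map ((iSup U : Opens X).isOpenEmbedding.isOpenMap.functor.map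
        ((Opens.map (ρ U)).map (face (U' U) i k))).op).hom
        ((F.obj.map (homOfLE (Λ_prod U (i ∘ k.succAbove)).le).op).hom x)
    exact map_map_eq F _ _ _ _ x

/-- surjectivity of the restrictions from `⋃ U i` to the opens of the form `IsTau`. -/
lemma surjective_of_isTau
    (h : ∀ (κ : Type u) (a : κ → Σ p : ℕ, Fin (p + 1) → ι),
      Function.Surjective (F.obj.map (homOfLE
        (iSup_le fun k => (iInf_le _ ⟨0, Nat.succ_pos _⟩).trans
          (le_iSup U ((a k).2 ⟨0, Nat.succ_pos _⟩)) :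
          (⨆ k, ⨅ j, U ((a k).2 j)) ≤ iSup U)).op))
    (O : Opens X) (hO : IsTau U O) (hle : O ≤ iSup U) :
    Function.Surjective (F.obj.map (homOfLE hle).op) := by
  obtain ⟨κ, a, rfl⟩ := hO
  exact h κ a

lemma isFlasque_G
    (h : ∀ (κ : Type u) (a : κ → Σ p : ℕ, Fin (p + 1) → ι),
      Function.Surjective (F.obj.map (homOfLE
        (iSup_le fun k => (iInf_le _ ⟨0, Nat.succ_pos _⟩).trans
          (le_iSup U ((a k).2 ⟨0, Nat.succ_pos _⟩)) :
          (⨆ k, ⨅ j, U ((a k).2 j)) ≤ iSup U)).op)) :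
    TopCat.Sheaf.IsFlasque (G U F) := by
  constructor
  intro V W f
  rw [AddCommGrpCat.epi_iff_surjective]
  intro s
  obtain ⟨t, ht⟩ := surjective_of_isTau U F h (Λ U W.unop) (isTau_Λ U W.unop) (Λ_le U W.unop) s
  refine ⟨(F.obj.map (homOfLE (Λ_le U V.unop)).op).hom t, ?_⟩
  rw [← ht]
  change (F.obj.map ((iSup U : Opens X).isOpenEmbedding.isOpenMap.functor.map
      ((Opens.map (ρ U)).map f.unop)).op).hom
    ((F.obj.map (homOfLE (Λ_le U V.unop)).op).hom t) = _
  exact map_map_single F _ _ _ t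

/-- **Čech vanishing from surjectivity of the restrictions to unions of finite intersections.** -/
theorem isZero_cechH
    (h : ∀ (κ : Type u) (a : κ → Σ p : ℕ, Fin (p + 1) → ι),
      Function.Surjective (F.obj.map (homOfLE
        (iSup_le fun k => (iInf_le _ ⟨0, Nat.succ_pos _⟩).trans
          (le_iSup U ((a k).2 ⟨0, Nat.succ_pos _⟩)) :
          (⨆ k, ⨅ j, U ((a k).2 j)) ≤ iSup U)).op)) (p : ℕ) :
    IsZero (CohTop.cechH F.obj U (p + 1)) := by
  have := isFlasque_G U F h
  have h1 : IsZero (CohTop.cechH (G U F).obj (U' U) (p + 1)) :=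
    isZero_cechH_of_flasque p (G U F) (U' U)
  rw [← cechExact_iff] at h1 ⊢
  exact CechIso.cechExact (cechIso U F).symm p h1

end Tau

end Groth.Agent.Lib.Helper13.CechTau
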