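import Groth.Agent.Lib.Helper2.Mon.ProjFormula
import Groth.Agent.Lib.Helper13.ModSiteTensor

/-!
# The direct image along a closed immersion preserves colimits and has a right adjoint (helper13)

* `preservesColimit_of_jointly`: a functor preserves a colimit if its composites with a jointly
  iso-reflecting family of colimit-preserving functors do.
* `pushStalkNatIso`: `(i_* -)_{i z} ≅ (-)_z` for a closed immersion.
* `preservesColimits_pushforward`, `isLeftAdjoint_pushforward`.
-/

set_option autoImplicit false
universe u
open CategoryTheory CategoryTheory.Limits AlgebraicGeometry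
open Scheme.Modules

namespace Groth.Agent.Lib.Helper13.ClImmColim

open Groth.Agent.Lib.Helper2.Stk Groth.Agent.Lib.Helper2.Mon

section Generic

variable {C : Type*} [Category C] {D : Type*} [Category D] {ι : Type*} {E : ι → Type*}
  [∀ x, Category (E x)]

theorem preservesColimit_of_jointly (G : ∀ x, D ⥤ E x) (hG : JointlyReflectIsomorphisms G)
    {J : Type*} [Category J] (K : J ⥤ C) (F : C ⥤ D) [HasColimit K] [HasColimit (K ⋙ F)]
    [∀ x, PreservesColimit (K ⋙ F) (G x)] [∀ x, PreservesColimit K (F ⋙ G x)] :
    PreservesColimit K F := by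
  haveI : ∀ x, IsIso ((G x).map (colimit.post K F)) := by
    intro x
    haveI h0 : HasColimit ((K ⋙ F) ⋙ G x) :=
      ⟨⟨⟨_, isColimitOfPreserves (G x) (colimit.isColimit (K ⋙ F))⟩⟩⟩
    haveI h1 : HasColimit (K ⋙ F ⋙ G x) := h0
    have h := colimit.post_post K F (G x)
    haveI i1 : IsIso (colimit.post (K ⋙ F) (G x)) := inferInstance
    haveI i2 : IsIso (colimit.post K (F ⋙ G x)) := inferInstance
    exact IsIso.of_isIso_fac_left h
  haveI : IsIso (colimit.post K F) := hG.isIso _
  exact preservesColimit_of_isIso_post F K

end Generic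

variable {Z X : Scheme.{u}} (i : Z ⟶ X) [IsClosedImmersion i]

theorem isIso_pushStalkHom (z : Z) (A : Z.Modules) : IsIso (pushStalkHom i z A) :=
  (ConcreteCategory.isIso_iff_bijective _).2
    (pushStalkHom_bijective i z i.isClosedEmbedding.isInducing A)

/-- `(i_* A)_{i z} ≅ A_z`, naturally in `A` -/
noncomputable def pushStalkNatIso (z : Z) :
    pushforward i ⋙ Φ (i.base z) ≅ Φ z ⋙ ModuleCat.restrictScalars (φst i z) :=
  NatIso.ofComponents
    (fun A => @asIso _ _ _ _ (pushStalkHom i z A) (isIso_pushStalkHom i z A))
    (fun α => pushStalkHom_naturality i z α)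

theorem preservesColimitsOfShape_comp_Φ (x : X) (J : Type u) [SmallCategory J] :
    PreservesColimitsOfShape J (pushforward i ⋙ Φ x) := by
  have hcl : Topology.IsClosedEmbedding i.base := i.isClosedEmbedding
  by_cases hx : x ∈ Set.range i.base
  · obtain ⟨z, rfl⟩ := hx
    haveI : PreservesColimitsOfSize.{u, u} (Φ z) := (stalkSkyAdj z).leftAdjoint_preservesColimits
    haveI : PreservesColimitsOfSize.{u, u} (ModuleCat.restrictScalars (φst i z)) :=
      inferInstance
    exact preservesColimitsOfShape_of_natIso (pushStalkNatIso i z).symm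
  · have hz : IsZero (pushforward i ⋙ Φ x) := by
      rw [Functor.isZero_iff]
      intro A
      exact @ModuleCat.isZero_of_subsingleton _ _ _
        (subsingleton_stalk_pushforward i x hcl.isClosed_range hx A)
    exact Functor.preservesColimitsOfShape_of_isZero _ hz J

/-- the direct image along a closed immersion preserves all small colimits -/
theorem preservesColimits_pushforward : PreservesColimitsOfSize.{u, u} (pushforward i) := by
  refine ⟨fun {J} _ => ⟨fun {K} => ?_⟩⟩
  haveI : ∀ x : X, PreservesColimit (K ⋙ pushforward i) (Φ x) := fun x => by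
    haveI : PreservesColimitsOfSize.{u, u} (Φ x) := (stalkSkyAdj x).leftAdjoint_preservesColimits
    infer_instance
  haveI : ∀ x : X, PreservesColimit K (pushforward i ⋙ Φ x) := fun x => by
    haveI := preservesColimitsOfShape_comp_Φ i x J
    infer_instance
  exact preservesColimit_of_jointly (fun x : X => Φ x) jointlyReflectIsomorphisms_Φ K
    (pushforward i)

/-- the direct image along a closed immersion has a right adjoint -/
theorem isLeftAdjoint_pushforward : (pushforward i).IsLeftAdjoint := by
  have h := preservesColimits_pushforward i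
  exact @isLeftAdjoint_of_preservesColimits_of_isSeparating
    (ModSite.Mod (Groth.Agent.Lib.Helper2.Mon.OX Z)) _ _ _ _ _ _ _
    (ModSiteTensor.sepProp_isSeparating (Groth.Agent.Lib.Helper2.Mon.OX Z)) (pushforward i) h

end Groth.Agent.Lib.Helper13.ClImmColim
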