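import Mathlib
import Groth.Agent.Lib.Helper2.GSS.DimShift
import Groth.Agent.Lib.Helper2.GSS.DimShiftIff

/-!
# Helper13: abstract homological lemmas for the comparison of two topologies (S9073)

* `kerCoker`: for `X ⟶ Y ⟶ Z ⟶ T` with `Y = ker (Z ⟶ T)`, the sequence
  `0 ⟶ coker (X ⟶ Y) ⟶ coker (X ⟶ Z) ⟶ T` is exact.
* `lowDeg`: the low degree exact sequence `0 ⟶ R¹S (T A) ⟶ coker (S T g) ⟶ S (coker (T g))`.
* `mono_rightDerived_succ_map_f_of_isZero`, `mono_rightDerived_one_map_f_of_epi`.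
-/

set_option autoImplicit false
set_option linter.style.haveILetI false
universe v v' v'' u u' u''
open CategoryTheory CategoryTheory.Limits

namespace Groth.Agent.Lib.Helper13.CmpVnA

open Groth.Agent.Lib.Helper2.RDBridge Groth.Agent.Lib.Helper2.GSS
  Groth.Agent.Lib.Helper2.DimShiftIff

section Ab

variable {𝒟 : Type u} [Category.{v} 𝒟] [Abelian 𝒟]

lemma kerCoker {X Y Z T : 𝒟} (p : X ⟶ Y) (m : Y ⟶ Z) (q : Z ⟶ T) (d : X ⟶ Z) (hd : p ≫ m = d)
    [Mono m] (hmq : m ≫ q = 0) (hex : (ShortComplex.mk m q hmq).Exact) :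
    ∃ (a : cokernel p ⟶ cokernel d) (b : cokernel d ⟶ T) (hab : a ≫ b = 0),
      cokernel.π d ≫ b = q ∧ Mono a ∧ (ShortComplex.mk a b hab).Exact := by
  subst hd
  have hdq : (p ≫ m) ≫ q = 0 := by rw [Category.assoc, hmq, comp_zero]
  let a : cokernel p ⟶ cokernel (p ≫ m) :=
    cokernel.desc p (m ≫ cokernel.π (p ≫ m)) (by rw [← Category.assoc, cokernel.condition])
  let b : cokernel (p ≫ m) ⟶ T := cokernel.desc (p ≫ m) q hdq
  have ha : cokernel.π p ≫ a = m ≫ cokernel.π (p ≫ m) := cokernel.π_desc _ _ _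
  have hb : cokernel.π (p ≫ m) ≫ b = q := cokernel.π_desc _ _ _
  have hab : a ≫ b = 0 := by
    rw [← cancel_epi (cokernel.π p), ← Category.assoc, ha, Category.assoc, hb, hmq, comp_zero]
  refine ⟨a, b, hab, hb, ?_, ?_⟩
  · apply Preadditive.mono_of_cancel_zero
    intro A x hx
    obtain ⟨A', π, hπ, y, hy⟩ := surjective_up_to_refinements_of_epi (cokernel.π p) x
    have h1 : (y ≫ m) ≫ cokernel.π (p ≫ m) = 0 := by
      rw [Category.assoc, ← ha, ← Category.assoc, ← hy, Category.assoc, hx, comp_zero]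
    obtain ⟨A'', π', hπ', w, hw⟩ :=
      (ShortComplex.exact_cokernel (p ≫ m)).exact_up_to_refinements (y ≫ m) h1
    have h2 : π' ≫ y = w ≫ p := by
      rw [← cancel_mono m, Category.assoc, Category.assoc]
      exact hw
    have h3 : (π' ≫ π) ≫ x = 0 := by
      rw [Category.assoc, hy, ← Category.assoc, h2, Category.assoc, cokernel.condition, comp_zero]
    haveI := hπ
    haveI := hπ'
    exact (cancel_epi (π' ≫ π)).1 (h3.trans comp_zero.symm)
  · rw [ShortComplex.exact_iff_exact_up_to_refinements]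
    intro A x hx
    obtain ⟨A', π, hπ, z, hz⟩ := surjective_up_to_refinements_of_epi (cokernel.π (p ≫ m)) x
    have h1 : z ≫ q = 0 := by
      rw [← hb, ← Category.assoc, ← hz, Category.assoc]
      exact (congrArg (fun t => π ≫ t) hx).trans comp_zero
    obtain ⟨A'', π', hπ', y, hy⟩ := hex.exact_up_to_refinements z h1
    haveI := hπ
    haveI := hπ'
    refine ⟨A'', π' ≫ π, epi_comp _ _, y ≫ cokernel.π p, ?_⟩
    rw [Category.assoc, hz, ← Category.assoc, hy, Category.assoc, Category.assoc, ha]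

lemma desc_comp_π {X Y Z : 𝒟} (f : X ⟶ Y) (g : Y ⟶ Z) (w : f ≫ g = 0) :
    cokernel.desc f g w ≫ cokernel.π g = 0 := by
  rw [← cancel_epi (cokernel.π f), ← Category.assoc, cokernel.π_desc, cokernel.condition,
    comp_zero]

lemma exact_desc {X Y Z : 𝒟} (f : X ⟶ Y) (g : Y ⟶ Z) (w : f ≫ g = 0) :
    (ShortComplex.mk (cokernel.desc f g w) (cokernel.π g) (desc_comp_π f g w)).Exact := by
  rw [ShortComplex.exact_iff_exact_up_to_refinements]
  intro A x hx
  obtain ⟨A', π, hπ, y, hy⟩ := (ShortComplex.exact_cokernel g).exact_up_to_refinements x hx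
  refine ⟨A', π, hπ, y ≫ cokernel.π f, ?_⟩
  rw [Category.assoc, cokernel.π_desc]
  exact hy

end Ab

section LowDeg

variable {𝒜 : Type u} [Category.{v} 𝒜] [Abelian 𝒜]
  {ℬ : Type u'} [Category.{v'} ℬ] [Abelian ℬ] [EnoughInjectives ℬ]
  {𝒟 : Type u''} [Category.{v''} 𝒟] [Abelian 𝒟]
  (T : 𝒜 ⥤ ℬ) [T.Additive] [PreservesFiniteLimits T]
  (S : ℬ ⥤ 𝒟) [S.Additive] [PreservesFiniteLimits S]

theorem lowDeg (Sg : ShortComplex 𝒜) (hSg : Sg.ShortExact)
    (hI : IsZero ((S.rightDerived 1).obj (T.obj Sg.X₂))) :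
    ∃ (a : (S.rightDerived 1).obj (T.obj Sg.X₁) ⟶ cokernel (S.map (T.map Sg.g)))
      (b : cokernel (S.map (T.map Sg.g)) ⟶ S.obj (cokernel (T.map Sg.g))) (hab : a ≫ b = 0),
      cokernel.π (S.map (T.map Sg.g)) ≫ b = S.map (cokernel.π (T.map Sg.g)) ∧ Mono a ∧
        (ShortComplex.mk a b hab).Exact := by
  haveI := hSg.mono_f
  have hexT : (Sg.map T).Exact :=
    hSg.exact.map_of_mono_of_preservesKernel T hSg.mono_f inferInstance
  have wT : T.map Sg.f ≫ T.map Sg.g = 0 := (Sg.map T).zero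
  let πC : T.obj Sg.X₂ ⟶ cokernel (T.map Sg.f) := cokernel.π (T.map Sg.f)
  let mC : cokernel (T.map Sg.f) ⟶ T.obj Sg.X₃ := cokernel.desc (T.map Sg.f) (T.map Sg.g) wT
  haveI hmC : Mono mC := (Sg.map T).exact_iff_mono_cokernel_desc.1 hexT
  have hπm : πC ≫ mC = T.map Sg.g := cokernel.π_desc _ _ _
  let SV : ShortComplex ℬ := ShortComplex.mk (T.map Sg.f) πC (cokernel.condition _)
  have hSV : SV.ShortExact := ShortComplex.ShortExact.mk' (ShortComplex.exact_cokernel _)
    (inferInstanceAs (Mono (T.map Sg.f))) (inferInstanceAs (Epi (cokernel.π (T.map Sg.f))))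
  obtain ⟨δ, z1, z2, z3, -, e2, e3⟩ := rightDerived_les' S SV hSV 0
  have hδ : Epi δ := e3.epi_f (hI.eq_of_tgt _ _)
  have hmq : mC ≫ cokernel.π (T.map Sg.g) = 0 := desc_comp_π _ _ wT
  have hex2 : (ShortComplex.mk mC (cokernel.π (T.map Sg.g)) hmq).Exact := exact_desc _ _ wT
  haveI : Mono (S.map mC) := inferInstance
  have hmq' : S.map mC ≫ S.map (cokernel.π (T.map Sg.g)) = 0 := by
    rw [← S.map_comp, hmq, S.map_zero]
  have hex2' : (ShortComplex.mk (S.map mC) (S.map (cokernel.π (T.map Sg.g))) hmq').Exact :=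
    hex2.map_of_mono_of_preservesKernel S hmC inferInstance
  obtain ⟨a', b, hab', hb, ha'mono, hexab⟩ := kerCoker (S.map πC) (S.map mC)
    (S.map (cokernel.π (T.map Sg.g))) (S.map (T.map Sg.g))
    (by rw [← S.map_comp, hπm]) hmq' hex2'
  obtain ⟨e⟩ := nonempty_iso_X₃ (ShortComplex.mk _ _ z2)
    (ShortComplex.mk (S.map πC) (cokernel.π (S.map πC)) (cokernel.condition _))
    e2 (ShortComplex.exact_cokernel _) hδ (inferInstanceAs (Epi (cokernel.π (S.map πC))))
    (S.rightDerivedZeroIsoSelf.app _) (S.rightDerivedZeroIsoSelf.app _)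
    (S.rightDerivedZeroIsoSelf.hom.naturality πC).symm
  have hab : (e.hom ≫ a') ≫ b = 0 := by rw [Category.assoc, hab', comp_zero]
  have hexab' : (ShortComplex.mk (e.hom ≫ a') b hab).Exact := by
    rw [ShortComplex.exact_iff_exact_up_to_refinements]
    intro A x hx
    obtain ⟨A', π, hπ, x₁, hx₁⟩ := hexab.exact_up_to_refinements x hx
    refine ⟨A', π, hπ, x₁ ≫ e.inv, ?_⟩
    have h4 : (x₁ ≫ e.inv) ≫ e.hom ≫ a' = x₁ ≫ a' := by
      rw [Category.assoc, Iso.inv_hom_id_assoc]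
    exact hx₁.trans h4.symm
  exact ⟨e.hom ≫ a', b, hab, hb, mono_comp _ _, hexab'⟩

end LowDeg

section LES

variable {C : Type u} [Category.{v} C] [Abelian C] [EnoughInjectives C]
  {D : Type u'} [Category.{v'} D] [Abelian D] (F : C ⥤ D) [F.Additive]

lemma mono_rightDerived_succ_map_f_of_isZero (S : ShortComplex C) (hS : S.ShortExact) (k : ℕ)
    (h0 : IsZero ((F.rightDerived k).obj S.X₃)) : Mono ((F.rightDerived (k + 1)).map S.f) := by
  obtain ⟨δ, z1, z2, z3, -, e2, e3⟩ := rightDerived_les' F S hS k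
  exact e3.mono_g (h0.eq_of_src _ _)

lemma mono_rightDerived_one_map_f_of_epi (S : ShortComplex C) (hS : S.ShortExact)
    (hg : Epi ((F.rightDerived 0).map S.g)) : Mono ((F.rightDerived (0 + 1)).map S.f) := by
  obtain ⟨δ, z1, z2, z3, -, e2, e3⟩ := rightDerived_les' F S hS 0
  have h0 : δ = 0 := (cancel_epi ((F.rightDerived 0).map S.g)).1 (z2.trans comp_zero.symm)
  exact e3.mono_g h0

lemma isZero_rightDerived_one_of_epi [PreservesFiniteLimits F] (S : ShortComplex C)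
    (hS : S.ShortExact) [Injective S.X₂] (hg : Epi (F.map S.g)) :
    IsZero ((F.rightDerived (0 + 1)).obj S.X₁) := by
  obtain ⟨δ, z1, z2, z3, -, e2, e3⟩ := rightDerived_les' F S hS 0
  haveI : Epi ((F.rightDerived 0).map S.g) := (epi_rightDerived_zero_map_iff F S.g).2 hg
  have h0 : δ = 0 := (cancel_epi ((F.rightDerived 0).map S.g)).1 (z2.trans comp_zero.symm)
  have hδ : Epi δ := e3.epi_f ((F.isZero_rightDerived_obj_injective_succ 0 S.X₂).eq_of_tgt _ _)
  exact IsZero.of_epi_eq_zero δ h0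

end LES

end Groth.Agent.Lib.Helper13.CmpVnA
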