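import Mathlib
import Groth.Prelude.Def_SiteCmp
import Groth.Prelude.Def_WeakSerre
import Groth.Agent.Lib.Helper29.WS9074E
import Groth.Agent.Lib.Helper29.WS9079A
import Groth.Agent.Lib.Helper13.CmpVnA

/-!
# Helper13: sheaf level lemmas for the comparison of two topologies (S9073)
-/

set_option autoImplicit false
set_option linter.style.haveILetI false
set_option maxHeartbeats 1600000
universe u
open CategoryTheory CategoryTheory.Limits Opposite CategoryTheory.Abelian

noncomputable section

namespace Groth.Agent.Lib.Helper13.CmpVnB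

open Groth.Agent.Lib.Helper29.WS9074A Groth.Agent.Lib.Helper29.WS9074B
  Groth.Agent.Lib.Helper29.WS9074C Groth.Agent.Lib.Helper29.WS9074D
open Groth.Agent.Lib.Helper5.SiteCmpKill
open Groth.Agent.Lib.Helper13.DerivedPush

section Unit

variable {C : Type u} [SmallCategory C] {W Y : C} (f : W ⟶ Y) [HasPullbacksAlong f]
  (K : GrothendieckTopology C)

set_option backward.isDefEq.respectTransparency false in
lemma unitPhi_naturality {M M' : Sheaf (K.over Y) AddCommGrpCat.{u}} (β : M ⟶ M') :
    unitPhi f K M ≫ (CohSite.push (K.over Y) (K.over Y) (Psi f)).map β =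
      β ≫ unitPhi f K M' := by
  apply Sheaf.hom_ext
  apply NatTrans.ext
  funext T
  change M.obj.map (cc (Psi f) (cPsi f) T.unop).op ≫ β.hom.app (op ((Psi f).obj T.unop)) =
    β.hom.app T ≫ M'.obj.map (cc (Psi f) (cPsi f) T.unop).op
  exact β.hom.naturality ((cc (Psi f) (cPsi f) T.unop).op)

lemma mono_unitPhi_of_mono {M M' : Sheaf (K.over Y) AddCommGrpCat.{u}} (ι : M ⟶ M') [Mono ι]
    (h' : Mono (unitPhi f K M')) : Mono (unitPhi f K M) := by
  haveI := h'
  haveI : Mono (unitPhi f K M ≫ (CohSite.push (K.over Y) (K.over Y) (Psi f)).map ι) := by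
    rw [unitPhi_naturality]
    infer_instance
  exact mono_of_mono (unitPhi f K M) ((CohSite.push (K.over Y) (K.over Y) (Psi f)).map ι)

set_option backward.isDefEq.respectTransparency false in
lemma mono_unitPhi_push (N' : Sheaf (K.over W) AddCommGrpCat.{u}) :
    Mono (unitPhi f K ((CohSite.push (K.over W) (K.over Y) (Over.pullback f)).obj N')) := by
  apply mono_of_app_injective
  intro T
  have e : (Over.mapPullbackAdj f).unit.app ((Over.pullback f).obj T) ≫
      (Over.pullback f).map ((Over.mapPullbackAdj f).counit.app T) = 𝟙 _ :=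
    (Over.mapPullbackAdj f).right_triangle_components T
  have e2 : N'.obj.map ((Over.pullback f).map ((Over.mapPullbackAdj f).counit.app T)).op ≫
      N'.obj.map ((Over.mapPullbackAdj f).unit.app ((Over.pullback f).obj T)).op = 𝟙 _ := by
    rw [← N'.obj.map_comp, ← op_comp, e]
    exact N'.obj.map_id _
  refine Function.LeftInverse.injective
    (g := fun a => (N'.obj.map
      ((Over.mapPullbackAdj f).unit.app ((Over.pullback f).obj T)).op).hom a) ?_
  intro a
  exact ConcreteCategory.congr_hom e2 a

lemma kernel_ι_comp_eq_zero (M : Sheaf (K.over Y) AddCommGrpCat.{u})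
    (N' : Sheaf (K.over W) AddCommGrpCat.{u}) (β : M ⟶ (fstar K f).obj N') :
    kernel.ι (unitPhi f K M) ≫ β = 0 := by
  let B := (CohSite.push (K.over W) (K.over Y) (Over.pullback f)).obj N'
  let β' : M ⟶ B := β ≫ (fstarIso K f).hom.app N'
  haveI := mono_unitPhi_push f K N'
  have h1 : (kernel.ι (unitPhi f K M) ≫ β') ≫ unitPhi f K B = 0 := by
    rw [Category.assoc, ← unitPhi_naturality, ← Category.assoc, kernel.condition, zero_comp]
  have h2 : kernel.ι (unitPhi f K M) ≫ β' = 0 :=
    (cancel_mono (unitPhi f K B)).1 (h1.trans zero_comp.symm)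
  have h3 : (kernel.ι (unitPhi f K M) ≫ β) ≫ (fstarIso K f).hom.app N' = 0 := by
    rw [Category.assoc]
    exact h2
  exact (cancel_mono ((fstarIso K f).hom.app N')).1 (h3.trans zero_comp.symm)

lemma mono_unitPhi_of_cover (J : GrothendieckTopology C)
    (hcov : Sieve.ofArrows (fun _ : PUnit.{u + 1} => W) (fun _ => f) ∈ J Y)
    (F : Sheaf (J.over Y) AddCommGrpCat.{u}) : Mono (unitPhi f J F) :=
  mono_of_app_injective _ (fun T a a' haa' =>
    descent_inj (descData f J hcov) F.obj F.property T a a' haa')

end Unit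

section LZ

variable {D : Type u} [SmallCategory D]

/-- the sieve on which a section vanishes -/
def zeroSieve (Q : Dᵒᵖ ⥤ AddCommGrpCat.{u}) {T : D} (s : Q.obj (op T)) : Sieve T where
  arrows := fun _ g => rs Q g s = 0
  downward_closed := by
    intro T' T'' g hg k
    rw [rs_comp, hg, map_zero]

end LZ

variable {C : Type u} [SmallCategory C] {J J' : GrothendieckTopology C} (h : J' ≤ J)

set_option backward.isDefEq.respectTransparency false in
/-- sections of the higher direct images of `ε` vanish locally for the finer topology. -/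
theorem zeroSieve_mem (X : C) (G : Sheaf (J.over X) AddCommGrpCat.{u}) (k : ℕ) (T : Over X)
    (s : (((epsY h X).rightDerived (k + 1)).obj G).obj.obj (op T)) :
    zeroSieve (((epsY h X).rightDerived (k + 1)).obj G).obj s ∈ (J.over X) T := by
  haveI := SiteCmp.idContinuous (SiteCmp.over_le h X)
  let M := ((epsY h X).rightDerived (k + 1)).obj G
  let P : (Over X)ᵒᵖ ⥤ AddCommGrpCat.{u} := (𝟭 (Over X)).op ⋙ G.cohomologyPresheaf (k + 1)
  let e : M ≅ (presheafToSheaf (J'.over X) AddCommGrpCat.{u}).obj P :=
    RpushIso (J.over X) (J'.over X) (𝟭 (Over X)) G (k + 1)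
  let s' : ((presheafToSheaf (J'.over X) AddCommGrpCat.{u}).obj P).obj.obj (op T) :=
    (e.hom.hom.app (op T)).hom s
  have hloc : Presheaf.IsLocallySurjective (J'.over X) (toSheafify (J'.over X) P) :=
    inferInstance
  have hI := hloc.imageSieve_mem s'
  have hI' : Presheaf.imageSieve (toSheafify (J'.over X) P) s' ∈ (J.over X) T :=
    SiteCmp.over_le h X _ hI
  refine (J.over X).transitive hI' _ ?_
  intro T' g hg
  obtain ⟨η, hη⟩ := hg
  obtain ⟨S', hS', hS'0⟩ := exists_cover_res_eq_zero (J.over X) G k T' η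
  refine (J.over X).superset_covering ?_ hS'
  intro T'' g' hg'
  change rs M.obj (g' ≫ g) s = 0
  have h1 : (e.hom.hom.app (op T'')).hom (rs M.obj (g' ≫ g) s) = 0 := by
    refine (rs_nat e.hom.hom (g' ≫ g) s).trans ?_
    refine (rs_comp _ g' g s').trans ?_
    have h2 : rs ((presheafToSheaf (J'.over X) AddCommGrpCat.{u}).obj P).obj g s' =
        ((toSheafify (J'.over X) P).app (op T')).hom η := hη.symm
    rw [h2]
    refine (rs_nat (toSheafify (J'.over X) P) g' η).symm.trans ?_
    have h3 : rs P g' η = 0 := hS'0 g' hg'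
    rw [h3, map_zero]
  exact (app_injective_of_mono e.hom T'') (h1.trans (map_zero _).symm)

set_option backward.isDefEq.respectTransparency false in
/-- a subsheaf of a higher direct image of `ε` which embeds in a sheaf for the finer topology
vanishes. -/
theorem isZero_of_mono_of_mono (X : C) (G : Sheaf (J.over X) AddCommGrpCat.{u}) (k : ℕ)
    (Kk : Sheaf (J'.over X) AddCommGrpCat.{u})
    (m₁ : Kk ⟶ ((epsY h X).rightDerived (k + 1)).obj G) [Mono m₁]
    (N : Sheaf (J'.over X) AddCommGrpCat.{u}) (hN : Presheaf.IsSheaf (J.over X) N.obj)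
    (m₂ : Kk ⟶ N) [Mono m₂] : IsZero Kk := by
  have hz : ∀ (T : Over X) (s : Kk.obj.obj (op T)), s = 0 := by
    intro T s
    apply app_injective_of_mono m₂ T
    rw [map_zero]
    have hcov := zeroSieve_mem h X G k T ((m₁.hom.app (op T)).hom s)
    refine eq_zero_of_cover (J.over X) N.obj hN _ hcov _ ?_
    intro T' g hg
    have h1 : (m₁.hom.app (op T')).hom (rs Kk.obj g s) = 0 := (rs_nat m₁.hom g s).trans hg
    have h2 : rs Kk.obj g s = 0 :=
      app_injective_of_mono m₁ T' (h1.trans (map_zero _).symm)
    refine (rs_nat m₂.hom g s).symm.trans ?_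
    rw [h2, map_zero]
  haveI : Mono (0 : Kk ⟶ Kk) :=
    mono_of_app_injective _ (fun U a b _ => (hz U a).trans (hz U b).symm)
  exact IsZero.of_mono_zero Kk Kk

set_option backward.isDefEq.respectTransparency false in
/-- if the cokernel for the coarse topology is a sheaf for the fine one, then `ε_*` of the
cokernel projection is an epimorphism. -/
lemma epi_eps_cokernel (X : C) {F G : Sheaf (J.over X) AddCommGrpCat.{u}} (φ : F ⟶ G)
    (hsh : Presheaf.IsSheaf (J.over X) (cokernel ((epsY h X).map φ)).obj) :
    Epi ((epsY h X).map (cokernel.π φ)) ∧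
      Nonempty ((epsY h X).obj (cokernel φ) ≅ cokernel ((epsY h X).map φ)) := by
  let QK : Sheaf (J.over X) AddCommGrpCat.{u} := ⟨(cokernel ((epsY h X).map φ)).obj, hsh⟩
  let πK : G ⟶ QK := ObjectProperty.homMk (cokernel.π ((epsY h X).map φ)).hom
  have wK : φ ≫ πK = 0 := by
    apply Sheaf.hom_ext_iff.2
    have := congrArg (fun ψ => ψ.hom) (cokernel.condition ((epsY h X).map φ))
    exact this
  have hQK : IsColimit (CokernelCofork.ofπ πK wK) := by
    refine CokernelCofork.IsColimit.ofπ πK wK
      (fun {H} g' eq' => ObjectProperty.homMk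
        (cokernel.desc ((epsY h X).map φ) ((epsY h X).map g')
          (by rw [← Functor.map_comp, eq', Functor.map_zero])).hom) ?_ ?_
    · intro H g' eq'
      apply Sheaf.hom_ext_iff.2
      have := congrArg (fun ψ => ψ.hom) (cokernel.π_desc ((epsY h X).map φ) ((epsY h X).map g')
        (by rw [← Functor.map_comp, eq', Functor.map_zero]))
      exact this
    · intro H g' eq' m hm
      apply Sheaf.hom_ext_iff.2
      let m' : cokernel ((epsY h X).map φ) ⟶ (epsY h X).obj H := ObjectProperty.homMk m.hom
      have h1 : cokernel.π ((epsY h X).map φ) ≫ m' = (epsY h X).map g' := by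
        apply Sheaf.hom_ext_iff.2
        have := congrArg (fun ψ => ψ.hom) hm
        exact this
      have h2 : m' = cokernel.desc ((epsY h X).map φ) ((epsY h X).map g')
          (by rw [← Functor.map_comp, eq', Functor.map_zero]) := by
        rw [← cancel_epi (cokernel.π ((epsY h X).map φ)), h1, cokernel.π_desc]
      have := congrArg (fun ψ => ψ.hom) h2
      exact this
  let e : cokernel φ ≅ QK := (cokernelIsCokernel φ).coconePointUniqueUpToIso hQK
  have hcomp : cokernel.π φ ≫ e.hom = πK :=
    (cokernelIsCokernel φ).comp_coconePointUniqueUpToIso_hom hQK WalkingParallelPair.one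
  let e' : (epsY h X).obj QK ≅ cokernel ((epsY h X).map φ) := Iso.refl _
  have hepiK : Epi ((epsY h X).map πK) := by
    apply epi_of_imageSieve_mem
    intro U x
    exact imageSieve_mem_of_epi (cokernel.π ((epsY h X).map φ)) U x
  have hfac : (epsY h X).map (cokernel.π φ) = (epsY h X).map πK ≫ (epsY h X).map e.inv := by
    rw [← Functor.map_comp, ← hcomp, Category.assoc, e.hom_inv_id, Category.comp_id]
  refine ⟨?_, ⟨(epsY h X).mapIso e ≪≫ e'⟩⟩
  rw [hfac]
  haveI := hepiK
  exact epi_comp _ _

end Groth.Agent.Lib.Helper13.CmpVnB
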