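import Mathlib
import Groth.Prelude.Def_SiteCmp
import Groth.Prelude.Def_WeakSerre
import Groth.Agent.Lib.Helper13.CmpVnB

/-!
# Helper13: injectivity of restriction to a `P`-covering on `R^{m+1} ε_* (f_* G)` (S9073)
-/

set_option autoImplicit false
set_option linter.style.haveILetI false
set_option maxHeartbeats 1600000
universe u
open CategoryTheory CategoryTheory.Limits Opposite CategoryTheory.Abelian

noncomputable section

namespace Groth.Agent.Lib.Helper13.CmpVnC

open Groth.Agent.Lib.Helper29.WS9074A Groth.Agent.Lib.Helper29.WS9074B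
  Groth.Agent.Lib.Helper29.WS9074C Groth.Agent.Lib.Helper29.WS9074D
  Groth.Agent.Lib.Helper29.WS9079A
open Groth.Agent.Lib.Helper5.SiteCmpKill
open Groth.Agent.Lib.Helper2.RDBridge Groth.Agent.Lib.Helper2.GSS Groth.Agent.Lib.Helper2.DimShiftIff
open Groth.Agent.Lib.Helper13.CmpVnA Groth.Agent.Lib.Helper13.CmpVnB

variable {C : Type u} [SmallCategory C] {J J' : GrothendieckTopology C} (h : J' ≤ J)
  {W V : C} (f : W ⟶ V) [HasPullbacksAlong f]

set_option backward.isDefEq.respectTransparency false in
/-- the base case -/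
theorem base (G : Sheaf (J.over W) AddCommGrpCat.{u})
    (hsh : Presheaf.IsSheaf (J.over V)
      (((fstar J' f).rightDerived 1).obj ((epsY h W).obj G)).obj) :
    Mono (unitPhi f J' (((epsY h V).rightDerived 1).obj ((fstar J f).obj G))) := by
  haveI := preservesFiniteLimits_eps h V
  haveI := preservesFiniteLimits_eps h W
  have hSg := injSC_shortExact G
  haveI : Injective ((fstar J f).obj (injSC G).X₂) :=
    Injective.injective_of_adjoint (adjJF J f) _
  obtain ⟨a₁, b₁, hab₁, hb₁, ha₁, hex₁⟩ := lowDeg (fstar J f) (epsY h V) (injSC G) hSg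
    (Functor.isZero_rightDerived_obj_injective_succ _ 0 _)
  haveI : Injective ((epsY h W).obj (injSC G).X₂) := injective_eps h W _
  obtain ⟨a₂, b₂, hab₂, hb₂, ha₂, hex₂⟩ := lowDeg (epsY h W) (fstar J' f) (injSC G) hSg
    (Functor.isZero_rightDerived_obj_injective_succ _ 0 _)
  let c : cokernel ((epsY h V).map ((fstar J f).map (injSC G).g)) ≅
      cokernel ((fstar J' f).map ((epsY h W).map (injSC G).g)) :=
    cokernel.mapIso _ _ ((kappa h f).symm.app (injSC G).X₂) ((kappa h f).symm.app (injSC G).X₃)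
      ((kappa h f).symm.hom.naturality (injSC G).g)
  let M := ((epsY h V).rightDerived 1).obj ((fstar J f).obj G)
  let β : M ⟶ (fstar J' f).obj (cokernel ((epsY h W).map (injSC G).g)) := a₁ ≫ c.hom ≫ b₂
  have hk : kernel.ι (unitPhi f J' M) ≫ β = 0 := kernel_ι_comp_eq_zero f J' M _ β
  haveI := ha₁
  haveI : Mono (ShortComplex.mk a₂ b₂ hab₂).f := ha₂
  have hk' : (kernel.ι (unitPhi f J' M) ≫ a₁ ≫ c.hom) ≫ b₂ = 0 := by
    rw [Category.assoc, Category.assoc]
    exact hk
  let k'' := hex₂.lift (kernel.ι (unitPhi f J' M) ≫ a₁ ≫ c.hom) hk'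
  have hk'' : k'' ≫ a₂ = kernel.ι (unitPhi f J' M) ≫ a₁ ≫ c.hom := hex₂.lift_f _ _
  haveI : Mono k'' := by
    haveI : Mono (k'' ≫ a₂) := by
      rw [hk'']
      infer_instance
    exact mono_of_mono k'' a₂
  have hz : IsZero (kernel (unitPhi f J' M)) :=
    isZero_of_mono_of_mono h V ((fstar J f).obj G) 0 _ (kernel.ι (unitPhi f J' M)) _ hsh k''
  exact Preadditive.mono_of_kernel_zero (hz.eq_of_src _ _)

set_option backward.isDefEq.respectTransparency false in
/-- the induction along an injective resolution -/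
theorem chain (A' : ∀ X : C, ObjectProperty (Sheaf (J'.over X) AddCommGrpCat.{u}))
    [∀ X : C, WSerre.IsWeakSerre (A' X)]
    (h3 : ∀ (X : C) (F' : Sheaf (J'.over X) AddCommGrpCat.{u}), A' X F' →
      Presheaf.IsSheaf (J.over X) F'.obj)
    (n : ℕ)
    (hVn : ∀ (H : Sheaf (J.over V) AddCommGrpCat.{u}), A' V ((epsY h V).obj H) →
      ∀ i : ℕ, 1 ≤ i → i ≤ n → IsZero (((epsY h V).rightDerived i).obj H)) :
    ∀ (m : ℕ), m ≤ n → ∀ (G : Sheaf (J.over W) AddCommGrpCat.{u}),
      (∀ i : ℕ, 1 ≤ i → i ≤ m → IsZero (((epsY h W).rightDerived i).obj G)) →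
      (∀ i : ℕ, 1 ≤ i → i ≤ m + 1 →
        A' V (((fstar J' f).rightDerived i).obj ((epsY h W).obj G))) →
      Mono (unitPhi f J' (((epsY h V).rightDerived (m + 1)).obj ((fstar J f).obj G))) := by
  intro m
  induction m with
  | zero =>
    intro _ G _ hR
    exact base h f G (h3 V _ (hR 1 le_rfl (by omega)))
  | succ m ih =>
    intro hm G hE hR
    haveI := preservesFiniteLimits_eps h V
    haveI := preservesFiniteLimits_eps h W
    have hSg := injSC_shortExact G
    have hE1 : IsZero (((epsY h W).rightDerived 1).obj G) := hE 1 le_rfl (by omega)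
    have hSg' : ((injSC G).map (epsY h W)).ShortExact :=
      shortExact_map_of_isZero (epsY h W) _ hSg hE1
    haveI : Injective ((injSC G).map (epsY h W)).X₂ := injective_eps h W _
    have hE' : ∀ i : ℕ, 1 ≤ i → i ≤ m →
        IsZero (((epsY h W).rightDerived i).obj (injSC G).X₃) := by
      intro i hi1 hi2
      obtain ⟨j, rfl⟩ : ∃ j, i = j + 1 := ⟨i - 1, by omega⟩
      obtain ⟨e⟩ := nonempty_iso_of_isZero (epsY h W) _ hSg (j + 1)
        (Functor.isZero_rightDerived_obj_injective_succ _ j _)
        (Functor.isZero_rightDerived_obj_injective_succ _ (j + 1) _)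
      exact IsZero.of_iso (hE (j + 2) (by omega) (by omega)) e
    have hR' : ∀ i : ℕ, 1 ≤ i → i ≤ m + 1 →
        A' V (((fstar J' f).rightDerived i).obj ((epsY h W).obj (injSC G).X₃)) := by
      intro i hi1 hi2
      obtain ⟨j, rfl⟩ : ∃ j, i = j + 1 := ⟨i - 1, by omega⟩
      obtain ⟨e⟩ := nonempty_iso_of_isZero (fstar J' f) _ hSg' (j + 1)
        (Functor.isZero_rightDerived_obj_injective_succ _ j _)
        (Functor.isZero_rightDerived_obj_injective_succ _ (j + 1) _)
      exact (A' V).prop_of_iso e.symm (hR (j + 2) (by omega) (by omega))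
    have ih' := ih (by omega) (injSC G).X₃ hE' hR'
    -- the sequences downstairs
    have wT : (fstar J f).map (injSC G).f ≫ (fstar J f).map (injSC G).g = 0 := by
      rw [← Functor.map_comp, (injSC G).zero, Functor.map_zero]
    let πC := cokernel.π ((fstar J f).map (injSC G).f)
    let mC := cokernel.desc ((fstar J f).map (injSC G).f) ((fstar J f).map (injSC G).g) wT
    have hexT : ((injSC G).map (fstar J f)).Exact :=
      hSg.exact.map_of_mono_of_preservesKernel (fstar J f) hSg.mono_f inferInstance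
    haveI hmC : Mono mC := ((injSC G).map (fstar J f)).exact_iff_mono_cokernel_desc.1 hexT
    haveI := hSg.mono_f
    let S₁ : ShortComplex (Sheaf (J.over V) AddCommGrpCat.{u}) :=
      ShortComplex.mk ((fstar J f).map (injSC G).f) πC (cokernel.condition _)
    have hS₁ : S₁.ShortExact := ShortComplex.ShortExact.mk' (ShortComplex.exact_cokernel _)
      (inferInstanceAs (Mono ((fstar J f).map (injSC G).f)))
      (inferInstanceAs (Epi (cokernel.π ((fstar J f).map (injSC G).f))))
    haveI : Injective S₁.X₂ := Injective.injective_of_adjoint (adjJF J f) _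
    obtain ⟨e₁⟩ := nonempty_iso_of_isZero (epsY h V) S₁ hS₁ (m + 1)
      (Functor.isZero_rightDerived_obj_injective_succ _ m _)
      (Functor.isZero_rightDerived_obj_injective_succ _ (m + 1) _)
    let S₂ : ShortComplex (Sheaf (J.over V) AddCommGrpCat.{u}) :=
      ShortComplex.mk mC (cokernel.π ((fstar J f).map (injSC G).g)) (desc_comp_π _ _ wT)
    have hS₂ : S₂.ShortExact := ShortComplex.ShortExact.mk' (exact_desc _ _ wT) hmC
      (inferInstanceAs (Epi (cokernel.π ((fstar J f).map (injSC G).g))))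
    -- the cokernel
    obtain ⟨δ', z1', z2', z3', -, e2', e3'⟩ := rightDerived_les' (fstar J' f) _ hSg' 0
    have hδ' : Epi δ' := e3'.epi_f
      ((Functor.isZero_rightDerived_obj_injective_succ _ 0 _).eq_of_tgt _ _)
    obtain ⟨a1⟩ := nonempty_iso_X₃ (ShortComplex.mk _ _ z2')
      (ShortComplex.mk ((epsY h V).map ((fstar J f).map (injSC G).g)) (cokernel.π _)
        (cokernel.condition _))
      e2' (ShortComplex.exact_cokernel _) hδ' (inferInstanceAs (Epi (cokernel.π _)))
      ((Theta h f).app (injSC G).X₂) ((Theta h f).app (injSC G).X₃)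
      ((Theta h f).hom.naturality (injSC G).g).symm
    have hcok : A' V (cokernel ((epsY h V).map ((fstar J f).map (injSC G).g))) :=
      (A' V).prop_of_iso a1 (hR 1 le_rfl (by omega))
    obtain ⟨hepi, ⟨e₂⟩⟩ := epi_eps_cokernel h V ((fstar J f).map (injSC G).g) (h3 V _ hcok)
    have hRA : A' V ((epsY h V).obj (cokernel ((fstar J f).map (injSC G).g))) :=
      (A' V).prop_of_iso e₂.symm hcok
    have hmono : Mono (((epsY h V).rightDerived (m + 1)).map mC) := by
      rcases Nat.eq_zero_or_pos m with rfl | hmpos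
      · exact mono_rightDerived_one_map_f_of_epi (epsY h V) S₂ hS₂
          ((epi_rightDerived_zero_map_iff (epsY h V) S₂.g).2 hepi)
      · obtain ⟨m', rfl⟩ : ∃ m', m = m' + 1 := ⟨m - 1, by omega⟩
        exact mono_rightDerived_succ_map_f_of_isZero (epsY h V) S₂ hS₂ (m' + 1)
          (hVn _ hRA (m' + 1) (by omega) (by omega))
    haveI := hmono
    let ι : ((epsY h V).rightDerived (m + 1 + 1)).obj ((fstar J f).obj G) ⟶
        ((epsY h V).rightDerived (m + 1)).obj ((fstar J f).obj (injSC G).X₃) :=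
      e₁.inv ≫ ((epsY h V).rightDerived (m + 1)).map mC
    haveI : Mono ι := mono_comp _ _
    exact mono_unitPhi_of_mono f J' ι ih'

end Groth.Agent.Lib.Helper13.CmpVnC
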