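import Mathlib
import Groth.Prelude.Def_SiteCmp
import Groth.Prelude.Def_WeakSerre
import Groth.Agent.Lib.Helper13.CmpVnC

/-!
# Helper13: vanishing of the higher direct images of `ε` on `A_X` (S9073)
-/

set_option autoImplicit false
set_option linter.style.haveILetI false
set_option maxHeartbeats 1600000
universe u
open CategoryTheory CategoryTheory.Limits Opposite CategoryTheory.Abelian

noncomputable section

namespace Groth.Agent.Lib.Helper13.CmpVnD

open Groth.Agent.Lib.Helper29.WS9074A Groth.Agent.Lib.Helper29.WS9074B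
  Groth.Agent.Lib.Helper29.WS9074C Groth.Agent.Lib.Helper29.WS9074D
  Groth.Agent.Lib.Helper29.WS9074E Groth.Agent.Lib.Helper29.WS9079A
open Groth.Agent.Lib.Helper5.SiteCmpKill Groth.Agent.Lib.Helper5.OverExtZero
open Groth.Agent.Lib.Helper2.RDBridge Groth.Agent.Lib.Helper2.GSS Groth.Agent.Lib.Helper2.DimShiftIff
open Groth.Agent.Lib.Helper13.CmpVnA Groth.Agent.Lib.Helper13.CmpVnB
  Groth.Agent.Lib.Helper13.CmpVnC Groth.Agent.Lib.Helper13.DerivedCommute

variable {C : Type u} [SmallCategory C] {J J' : GrothendieckTopology C} (h : J' ≤ J)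

set_option backward.isDefEq.respectTransparency false in
/-- the higher direct images of `ε` commute with localisation. -/
def locIso {V X : C} (y : V ⟶ X) (F : Sheaf (J.over X) AddCommGrpCat.{u}) (i : ℕ) :
    (jinv J' y).obj (((epsY h X).rightDerived i).obj F) ≅
      ((epsY h V).rightDerived i).obj ((jinv J y).obj F) :=
  rightDerivedBaseChangeObjIso (epsY h X) (jinv J' y) (jinv J y)
    (fun I hI => by
      haveI := hI
      exact injective_push y J I) (epsY h V)
    (NatIso.ofComponents (fun _ => Iso.refl _)) i F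

section

variable (P : MorphismProperty C)
    (A' : ∀ X : C, ObjectProperty (Sheaf (J'.over X) AddCommGrpCat.{u}))
    [∀ X : C, WSerre.IsWeakSerre (A' X)]
    (h1 : ∀ ⦃X Y : C⦄ (f : X ⟶ Y), P f → ∀ ⦃Y' : C⦄ (g : Y' ⟶ Y),
      ∃ (W : C) (p : W ⟶ Y') (q : W ⟶ X), IsPullback p q g f ∧ P p)
    (h2 : ∀ ⦃X Y : C⦄ (f : X ⟶ Y) (F' : Sheaf (J'.over Y) AddCommGrpCat.{u}), A' Y F' →
      A' X ((CohSite.push (J'.over Y) (J'.over X) (Over.map f)).obj F'))
    (h3 : ∀ (X : C) (F' : Sheaf (J'.over X) AddCommGrpCat.{u}), A' X F' →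
      Presheaf.IsSheaf (J.over X) F'.obj)
    (h4 : ∀ ⦃X Y : C⦄ (f : X ⟶ Y)
      [((Over.map f).sheafPushforwardCocontinuous AddCommGrpCat.{u} (J'.over X) (J'.over Y)).Additive],
      P f → ∀ (F' : Sheaf (J'.over X) AddCommGrpCat.{u}), A' X F' → ∀ i : ℕ,
        A' Y ((((Over.map f).sheafPushforwardCocontinuous AddCommGrpCat.{u} (J'.over X)
          (J'.over Y)).rightDerived i).obj F'))

include h1 h2 h3 h4 in
set_option backward.isDefEq.respectTransparency false in
/-- restriction to a `P`-covering is injective on `R^{n+1} ε_* F`. -/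
theorem core (n : ℕ) (hn : 1 ≤ n)
    (hV : ∀ (Z : C) (G : Sheaf (J.over Z) AddCommGrpCat.{u}), A' Z ((epsY h Z).obj G) →
      ∀ i : ℕ, 1 ≤ i → i ≤ n → IsZero (((epsY h Z).rightDerived i).obj G))
    {W V : C} (f : W ⟶ V) (hf : P f)
    (hcov : Sieve.ofArrows (fun _ : PUnit.{u + 1} => W) (fun _ => f) ∈ J V)
    [HasPullbacksAlong f]
    (F : Sheaf (J.over V) AddCommGrpCat.{u}) (hF : A' V ((epsY h V).obj F)) :
    Mono (unitPhi f J' (((epsY h V).rightDerived (n + 1)).obj F)) := by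
  haveI := preservesFiniteLimits_eps h V
  have hA : A' W ((epsY h W).obj ((jinv J f).obj F)) := h2 f _ hF
  have hchain : Mono (unitPhi f J'
      (((epsY h V).rightDerived (n + 1)).obj ((fstar J f).obj ((jinv J f).obj F)))) :=
    chain h f A' h3 n (fun H hH => hV V H hH) n le_rfl ((jinv J f).obj F)
      (fun i hi1 hi2 => hV W _ hA i hi1 hi2) (fun i _ _ => h4 f hf _ hA i)
  haveI hu : Mono (unitPhi f J F) := mono_unitPhi_of_cover f J hcov F
  have h0 := h4 f hf _ (h2 f _ hF) 0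
  have hΦ' : A' V ((CohSite.push (J'.over V) (J'.over V) (Psi f)).obj ((epsY h V).obj F)) :=
    (A' V).prop_of_iso
      (((fstar J' f).rightDerivedZeroIsoSelf.app ((jinv J' f).obj ((epsY h V).obj F))) ≪≫
        (compIso J' f).app ((epsY h V).obj F)) h0
  have hΦ : A' V ((epsY h V).obj ((CohSite.push (J.over V) (J.over V) (Psi f)).obj F)) := hΦ'
  have hQ0 := cokernel_closed h A' h3 V (unitPhi f J F) _
    (cokernelIsCokernel (unitPhi f J F)) hF hΦ
  have hQ : A' V ((epsY h V).obj (cokernel (unitPhi f J F))) := hQ0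
  let S : ShortComplex (Sheaf (J.over V) AddCommGrpCat.{u}) :=
    ShortComplex.mk (unitPhi f J F) (cokernel.π (unitPhi f J F)) (cokernel.condition _)
  have hS : S.ShortExact := ShortComplex.ShortExact.mk' (ShortComplex.exact_cokernel _) hu
    (inferInstanceAs (Epi (cokernel.π (unitPhi f J F))))
  obtain ⟨n', rfl⟩ : ∃ n', n = n' + 1 := ⟨n - 1, by omega⟩
  haveI : Mono (((epsY h V).rightDerived (n' + 1 + 1)).map (unitPhi f J F)) :=
    mono_rightDerived_succ_map_f_of_isZero (epsY h V) S hS (n' + 1)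
      (hV V _ hQ (n' + 1) (by omega) le_rfl)
  let θ : (CohSite.push (J.over V) (J.over V) (Psi f)).obj F ≅
      (fstar J f).obj ((jinv J f).obj F) := ((compIso J f).app F).symm
  let ι : ((epsY h V).rightDerived (n' + 1 + 1)).obj F ⟶
      ((epsY h V).rightDerived (n' + 1 + 1)).obj ((fstar J f).obj ((jinv J f).obj F)) :=
    ((epsY h V).rightDerived (n' + 1 + 1)).map (unitPhi f J F) ≫
      ((epsY h V).rightDerived (n' + 1 + 1)).map θ.hom
  haveI : Mono ι := mono_comp _ _
  exact mono_unitPhi_of_mono f J' ι hchain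

variable (h5 : ∀ (U : C) (S : Sieve U), S ∈ J U → ∃ (ι : Type u) (V : ι → C) (v : ∀ j, V j ⟶ U),
      Sieve.ofArrows V v ∈ J' U ∧ ∀ j, ∃ (W : C) (w : W ⟶ V j), P w ∧
        Sieve.ofArrows (fun _ : PUnit.{u + 1} => W) (fun _ => w) ∈ J (V j) ∧
        ∃ (κ : Type u) (Wk : κ → C) (wk : ∀ k, Wk k ⟶ W), Sieve.ofArrows Wk wk ∈ J' W ∧
          ∀ k, S.arrows (wk k ≫ w ≫ v j))

include h1 h2 h3 h4 h5 in
set_option backward.isDefEq.respectTransparency false in
theorem v1 (X : C) (F : Sheaf (J.over X) AddCommGrpCat.{u})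
    (hF : A' X ((epsY h X).obj F)) : IsZero (((epsY h X).rightDerived (0 + 1)).obj F) := by
  haveI := preservesFiniteLimits_eps h X
  have hS := injSC_shortExact F
  have hepi : Epi ((epsY h X).map (injSC F).g) := epi_of_imageSieve_mem _
    (fun U s => imageSieve_mem_eps h P A' h1 h2 h3 h4 h5 X (injSC F) hS hF U s)
  exact isZero_rightDerived_one_of_epi (epsY h X) (injSC F) hS hepi

include h1 h2 h3 h4 h5 in
set_option backward.isDefEq.respectTransparency false in
theorem step (n : ℕ) (hn : 1 ≤ n)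
    (hV : ∀ (Z : C) (G : Sheaf (J.over Z) AddCommGrpCat.{u}), A' Z ((epsY h Z).obj G) →
      ∀ i : ℕ, 1 ≤ i → i ≤ n → IsZero (((epsY h Z).rightDerived i).obj G))
    (X : C) (F : Sheaf (J.over X) AddCommGrpCat.{u}) (hF : A' X ((epsY h X).obj F)) :
    IsZero (((epsY h X).rightDerived (n + 1)).obj F) := by
  have hz : ∀ (U : Over X) (s : (((epsY h X).rightDerived (n + 1)).obj F).obj.obj (op U)),
      s = 0 := by
    intro U s
    have hcov := zeroSieve_mem h X F n U s
    have hcov' := (GrothendieckTopology.mem_over_iff J _).1 hcov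
    obtain ⟨ι, Vv, v, hVcov, hdata⟩ := h5 U.left _ hcov'
    have hR : (Sieve.overEquiv U).symm (Sieve.ofArrows Vv v) ∈ (J'.over X) U := by
      rw [GrothendieckTopology.mem_over_iff]
      have hRe : Sieve.overEquiv U ((Sieve.overEquiv U).symm (Sieve.ofArrows Vv v)) =
          Sieve.ofArrows Vv v := (Sieve.overEquiv U).apply_symm_apply _
      rw [hRe]
      exact hVcov
    refine eq_zero_of_cover (J'.over X) _
      (((epsY h X).rightDerived (n + 1)).obj F).property _ hR s ?_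
    intro T g hg
    have hg' : (Sieve.ofArrows Vv v) g.left := (Sieve.overEquiv_symm_iff _ g).1 hg
    obtain ⟨j, a, ha⟩ := (Sieve.mem_ofArrows_iff _ _ _).1 hg'
    obtain ⟨Ww, w, hw, hwcov, κ, Wk, wk, hWk, hWkS⟩ := hdata j
    let M := ((epsY h X).rightDerived (n + 1)).obj F
    let y : Vv j ⟶ X := v j ≫ U.hom
    let T0 : Over (Vv j) := Over.mk (𝟙 (Vv j))
    have e1 : ((Over.map y).obj T0).hom = 𝟙 (Vv j) ≫ v j ≫ U.hom := rfl
    let φ : (Over.map y).obj T0 ⟶ U := Over.homMk (v j) (by rw [e1, Category.id_comp])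
    have hg0w : a ≫ ((Over.map y).obj T0).hom = T.hom := by
      rw [e1, Category.id_comp, ← Over.w g, ha, Category.assoc]
    let g0 : T ⟶ (Over.map y).obj T0 := Over.homMk a hg0w
    have hg0 : g0 ≫ φ = g := by
      apply Over.OverMorphism.ext
      change a ≫ v j = g.left
      exact ha.symm
    change rs M.obj g s = 0
    rw [← hg0, rs_comp]
    suffices hφ : rs M.obj φ s = 0 by rw [hφ, map_zero]
    haveI : HasPullbacksAlong w := fun {W'} g => by
      obtain ⟨W'', p, q, hpb, -⟩ := h1 w hw g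
      exact hpb.hasPullback
    have hFV : A' (Vv j) ((epsY h (Vv j)).obj ((jinv J y).obj F)) := h2 y _ hF
    have hcore := core h P A' h1 h2 h3 h4 n hn hV w hw hwcov ((jinv J y).obj F) hFV
    haveI : Mono (unitPhi w J' ((jinv J' y).obj M)) :=
      mono_unitPhi_of_mono w J' (locIso h y F (n + 1)).hom hcore
    have hinj := app_injective_of_mono (unitPhi w J' ((jinv J' y).obj M)) T0
    let a0 : ((jinv J' y).obj M).obj.obj (op T0) := rs M.obj φ s
    suffices ha0 : a0 = 0 from ha0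
    apply hinj
    rw [map_zero]
    change rs M.obj ((Over.map y).map (cc (Psi w) (cPsi w) T0)) (rs M.obj φ s) = 0
    rw [← rs_comp]
    let ψ : Over.mk ((w ≫ v j) ≫ U.hom) ⟶ U := Over.homMk (w ≫ v j)
    let χ : (Over.map y).obj ((Psi w).obj T0) ⟶ Over.mk ((w ≫ v j) ≫ U.hom) :=
      Over.homMk (pullback.snd T0.hom w) (by simp [y])
    have hχ : (Over.map y).map (cc (Psi w) (cPsi w) T0) ≫ φ = χ ≫ ψ := by
      apply Over.OverMorphism.ext
      change (cc (Psi w) (cPsi w) T0).left ≫ v j = pullback.snd T0.hom w ≫ w ≫ v j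
      rw [cc_left, ← Category.assoc, ← pullback.condition]
      simp [T0]
    rw [hχ, rs_comp]
    suffices hψ : rs M.obj ψ s = 0 by rw [hψ, map_zero]
    have hR2 : (Sieve.overEquiv (Over.mk ((w ≫ v j) ≫ U.hom))).symm (Sieve.ofArrows Wk wk) ∈
        (J'.over X) (Over.mk ((w ≫ v j) ≫ U.hom)) := by
      rw [GrothendieckTopology.mem_over_iff]
      have hRe : Sieve.overEquiv (Over.mk ((w ≫ v j) ≫ U.hom))
          ((Sieve.overEquiv (Over.mk ((w ≫ v j) ≫ U.hom))).symm (Sieve.ofArrows Wk wk)) =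
          Sieve.ofArrows Wk wk := (Sieve.overEquiv _).apply_symm_apply _
      rw [hRe]
      exact hWk
    refine eq_zero_of_cover (J'.over X) _ M.property _ hR2 _ ?_
    intro T' g' hg'
    have hg'' : (Sieve.ofArrows Wk wk) g'.left := (Sieve.overEquiv_symm_iff _ g').1 hg'
    obtain ⟨k, b, hb⟩ := (Sieve.mem_ofArrows_iff _ _ _).1 hg''
    have hS0 := hWkS k
    rw [Sieve.overEquiv_iff] at hS0
    have hS0' : rs M.obj (Over.homMk (wk k ≫ w ≫ v j) :
        Over.mk ((wk k ≫ w ≫ v j) ≫ U.hom) ⟶ U) s = 0 := hS0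
    have hb'w : b ≫ (Over.mk ((wk k ≫ w ≫ v j) ≫ U.hom)).hom = T'.hom := by
      have e3 : (Over.mk ((wk k ≫ w ≫ v j) ≫ U.hom)).hom = (wk k ≫ w ≫ v j) ≫ U.hom := rfl
      have e4 : (Over.mk ((w ≫ v j) ≫ U.hom)).hom = (w ≫ v j) ≫ U.hom := rfl
      rw [e3, ← Over.w g', e4, hb]
      simp
    let b' : T' ⟶ Over.mk ((wk k ≫ w ≫ v j) ≫ U.hom) := Over.homMk b hb'w
    have hb' : g' ≫ ψ = b' ≫ (Over.homMk (wk k ≫ w ≫ v j) :
        Over.mk ((wk k ≫ w ≫ v j) ≫ U.hom) ⟶ U) := by
      apply Over.OverMorphism.ext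
      change g'.left ≫ (w ≫ v j) = b ≫ (wk k ≫ w ≫ v j)
      rw [hb, Category.assoc]
    change rs M.obj g' (rs M.obj ψ s) = 0
    rw [← rs_comp, hb', rs_comp, hS0', map_zero]
  haveI : Mono (0 : ((epsY h X).rightDerived (n + 1)).obj F ⟶
      ((epsY h X).rightDerived (n + 1)).obj F) :=
    mono_of_app_injective _ (fun U a b _ => (hz U a).trans (hz U b).symm)
  exact IsZero.of_mono_zero (((epsY h X).rightDerived (n + 1)).obj F)
    (((epsY h X).rightDerived (n + 1)).obj F)

include h1 h2 h3 h4 h5 in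
theorem allV : ∀ (n : ℕ) (Z : C) (G : Sheaf (J.over Z) AddCommGrpCat.{u}),
    A' Z ((epsY h Z).obj G) →
      ∀ i : ℕ, 1 ≤ i → i ≤ n → IsZero (((epsY h Z).rightDerived i).obj G) := by
  intro n
  induction n with
  | zero =>
    intro Z G _ i hi1 hi2
    omega
  | succ n ih =>
    intro Z G hG i hi1 hi2
    rcases Nat.lt_or_ge i (n + 1) with hlt | hge
    · exact ih Z G hG i hi1 (by omega)
    · obtain rfl : i = n + 1 := by omega
      rcases Nat.eq_zero_or_pos n with rfl | hn
      · exact v1 h P A' h1 h2 h3 h4 h5 Z G hG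
      · exact step h P A' h1 h2 h3 h4 h5 n hn ih Z G hG

end

end Groth.Agent.Lib.Helper13.CmpVnD
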