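import Mathlib
import Groth.Prelude.Def_SiteCmp
import Groth.Prelude.Def_WeakSerre
import Groth.Agent.Lib.Helper13.CmpVnD
import Groth.Agent.Lib.Helper13.DerivedPush
import Groth.Agent.Lib.Helper2.GSS.Degenerate

/-!
# Helper13: `H^n_{τ'}(X, F') = H^n_τ(X, ε^{-1} F')` for `F'` in `A'_X` (S9077)
-/

set_option autoImplicit false
set_option linter.style.haveILetI false
set_option maxHeartbeats 1600000
universe u
open CategoryTheory CategoryTheory.Limits Opposite CategoryTheory.Abelian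

noncomputable section

namespace Groth.Agent.Lib.Helper13.CmpVnE

open Groth.Agent.Lib.Helper29.WS9074C Groth.Agent.Lib.Helper29.WS9079A
open Groth.Agent.Lib.Helper2.RDBridge Groth.Agent.Lib.Helper2.GSS
open Groth.Agent.Lib.Helper13.CmpVnD Groth.Agent.Lib.Helper13.DerivedCommute
  Groth.Agent.Lib.Helper13.DerivedPush

variable {C : Type u} [SmallCategory C] {J J' : GrothendieckTopology C} (h : J' ≤ J)

set_option backward.isDefEq.respectTransparency false in
lemma faithful_eps (X : C) : (epsY h X).Faithful where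
  map_injective {F G} φ ψ hφψ := by
    apply Sheaf.hom_ext
    have := congrArg (fun t => t.hom) hφψ
    exact this

set_option backward.isDefEq.respectTransparency false in
lemma full_eps (X : C) : (epsY h X).Full where
  map_surjective {F G} φ := by
    let φ₀ : F.obj ⟶ G.obj := φ.hom
    refine ⟨ObjectProperty.homMk φ₀, ?_⟩
    apply Sheaf.hom_ext
    rfl

set_option backward.isDefEq.respectTransparency false in
theorem cohIso (X : C) (F' : Sheaf (J'.over X) AddCommGrpCat.{u})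
    (hsh : Presheaf.IsSheaf (J.over X) F'.obj)
    (hacyc : ∀ i : ℕ, 0 < i → IsZero (((epsY h X).rightDerived i).obj ⟨F'.obj, hsh⟩)) (n : ℕ) :
    Nonempty (F'.cohomologyPresheaf n ≅
      ((SiteCmp.epsShInv (SiteCmp.over_le h X) AddCommGrpCat.{u}).obj F').cohomologyPresheaf n) := by
  haveI := SiteCmp.idContinuous (SiteCmp.over_le h X)
  haveI := preservesFiniteLimits_eps h X
  haveI := faithful_eps h X
  haveI := full_eps h X
  let F₀ : Sheaf (J.over X) AddCommGrpCat.{u} := ⟨F'.obj, hsh⟩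
  let e₀ : (epsY h X).obj F₀ ≅ F' := Iso.refl _
  let adj := SiteCmp.epsShAdj (SiteCmp.over_le h X) AddCommGrpCat.{u}
  haveI : IsIso adj.counit := inferInstance
  let e₁ : (SiteCmp.epsShInv (SiteCmp.over_le h X) AddCommGrpCat.{u}).obj F' ≅ F₀ :=
    (SiteCmp.epsShInv (SiteCmp.over_le h X) AddCommGrpCat.{u}).mapIso e₀.symm ≪≫
      asIso (adj.counit.app F₀)
  haveI : PreservesFiniteLimits (sheafToPresheaf (J'.over X) AddCommGrpCat.{u}) := by
    have : PreservesLimitsOfSize.{0, 0} (sheafToPresheaf (J'.over X) AddCommGrpCat.{u}) :=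
      (sheafificationAdjunction (J'.over X) AddCommGrpCat.{u}).rightAdjoint_preservesLimits
    exact PreservesLimitsOfSize.preservesFiniteLimits.{0, 0} _
  obtain ⟨c⟩ := nonempty_comp_iso_of_racyc (epsY h X)
    (sheafToPresheaf (J'.over X) AddCommGrpCat.{u})
    (fun I hI => by
      haveI := hI
      exact injective_eps h X I) n F₀ hacyc
  let d : epsY h X ⋙ sheafToPresheaf (J'.over X) AddCommGrpCat.{u} ≅
      sheafToPresheaf (J.over X) AddCommGrpCat.{u} := NatIso.ofComponents (fun _ => Iso.refl _)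
  exact ⟨(rightDerivedSheafToPresheafIso (J'.over X) F' n).symm ≪≫
    ((sheafToPresheaf (J'.over X) AddCommGrpCat.{u}).rightDerived n).mapIso e₀.symm ≪≫
    c.symm ≪≫ rightDerivedObjIsoOfNatIso d n F₀ ≪≫
    ((sheafToPresheaf (J.over X) AddCommGrpCat.{u}).rightDerived n).mapIso e₁.symm ≪≫
    rightDerivedSheafToPresheafIso (J.over X) _ n⟩

set_option backward.isDefEq.respectTransparency false in
theorem main9077 (P : MorphismProperty C)
    (A' : ∀ X : C, ObjectProperty (Sheaf (J'.over X) AddCommGrpCat.{u}))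
    [∀ X : C, WSerre.IsWeakSerre (A' X)]
    (h1 : ∀ ⦃X Y : C⦄ (f : X ⟶ Y), P f → ∀ ⦃Y' : C⦄ (g : Y' ⟶ Y),
      ∃ (W : C) (p : W ⟶ Y') (q : W ⟶ X), IsPullback p q g f ∧ P p)
    (h2 : ∀ ⦃X Y : C⦄ (f : X ⟶ Y) (F' : Sheaf (J'.over Y) AddCommGrpCat.{u}), A' Y F' →
      A' X ((CohSite.push (J'.over Y) (J'.over X) (Over.map f)).obj F'))
    (h3 : ∀ (X : C) (F' : Sheaf (J'.over X) AddCommGrpCat.{u}), A' X F' →
      Presheaf.IsSheaf (J.over X) F'.obj)
    (h4 : ∀ ⦃X Y : C⦄ (f : X ⟶ Y)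
      [((Over.map f).sheafPushforwardCocontinuous AddCommGrpCat.{u} (J'.over X) (J'.over Y)).Additive],
      P f → ∀ (F' : Sheaf (J'.over X) AddCommGrpCat.{u}), A' X F' → ∀ i : ℕ,
        A' Y ((((Over.map f).sheafPushforwardCocontinuous AddCommGrpCat.{u} (J'.over X)
          (J'.over Y)).rightDerived i).obj F'))
    (h5 : ∀ (U : C) (S : Sieve U), S ∈ J U → ∃ (ι : Type u) (V : ι → C) (v : ∀ j, V j ⟶ U),
      Sieve.ofArrows V v ∈ J' U ∧ ∀ j, ∃ (W : C) (w : W ⟶ V j), P w ∧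
        Sieve.ofArrows (fun _ : PUnit.{u + 1} => W) (fun _ => w) ∈ J (V j) ∧
        ∃ (κ : Type u) (Wk : κ → C) (wk : ∀ k, Wk k ⟶ W), Sieve.ofArrows Wk wk ∈ J' W ∧
          ∀ k, S.arrows (wk k ≫ w ≫ v j))
    (X : C) (F' : Sheaf (J'.over X) AddCommGrpCat.{u}) (hF' : A' X F') (n : ℕ) :
    Nonempty (CohSite.HU F' n (Over.mk (𝟙 X)) ≃+
      CohSite.HU ((SiteCmp.epsShInv (SiteCmp.over_le h X) AddCommGrpCat.{u}).obj F') n
        (Over.mk (𝟙 X))) := by
  have hsh := h3 X F' hF'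
  have hF₀ : A' X ((epsY h X).obj ⟨F'.obj, hsh⟩) := hF'
  obtain ⟨Ψ⟩ := cohIso h X F' hsh
    (fun i hi => allV h P A' h1 h2 h3 h4 h5 i X ⟨F'.obj, hsh⟩ hF₀ i hi le_rfl) n
  exact ⟨(Ψ.app (op (Over.mk (𝟙 X)))).addCommGroupIsoToAddEquiv⟩

end Groth.Agent.Lib.Helper13.CmpVnE
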