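import Groth.Agent.Lib.Helper3.QCPush
import Groth.Agent.Lib.Helper17.PbStalk
import Groth.Prelude.Def_QCohCat

/-!
# Coherators commute with direct images along qcqs morphisms (helper13)

`f_*` and `f^*` restrict to an adjunction between `QCoh X` and `QCoh Y` for `f` qcqs; uniqueness of right adjoints
gives `f_* ∘ Q_X ≅ Q_Y ∘ f_*`.
-/

set_option autoImplicit false
universe u

namespace Groth.Agent.Lib.Helper13.CoheratorPush

open CategoryTheory AlgebraicGeometry

variable {X Y : Scheme.{u}} (f : X ⟶ Y)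

/-- `f^*` on quasi-coherent modules. -/
noncomputable def pullQC : QCohCat.QCoh Y ⥤ QCohCat.QCoh X :=
  ObjectProperty.lift (QCohCat.isQCoh X) ((QCohCat.isQCoh Y).ι ⋙ Scheme.Modules.pullback f)
    (fun M => by
      haveI : M.obj.IsQuasicoherent := M.property
      exact Groth.Agent.Lib.Helper17.PbStalk.isQuasicoherent_pullback f M.obj)

variable [QuasiCompact f] [QuasiSeparated f]

/-- `f_*` on quasi-coherent modules (`f` qcqs). -/
noncomputable def pushQC : QCohCat.QCoh X ⥤ QCohCat.QCoh Y :=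
  ObjectProperty.lift (QCohCat.isQCoh Y) ((QCohCat.isQCoh X).ι ⋙ Scheme.Modules.pushforward f)
    (fun M => by
      haveI : M.obj.IsQuasicoherent := M.property
      exact Groth.Agent.Lib.Helper3.QCSec.isQuasicoherent_pushforward f M.obj)

/-- the adjunction `f^* ⊣ f_*` on quasi-coherent modules. -/
noncomputable def adjQC : pullQC f ⊣ pushQC f :=
  Adjunction.restrictFullyFaithful (Scheme.Modules.pullbackPushforwardAdjunction f)
    (QCohCat.isQCoh Y).fullyFaithfulι (QCohCat.isQCoh X).fullyFaithfulι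
    (ObjectProperty.liftCompιIso _ _ _).symm (ObjectProperty.liftCompιIso _ _ _).symm

theorem nonempty_coherator_push_iso
    (QX : X.Modules ⥤ QCohCat.QCoh X) (adjX : (QCohCat.isQCoh X).ι ⊣ QX)
    (QY : Y.Modules ⥤ QCohCat.QCoh Y) (adjY : (QCohCat.isQCoh Y).ι ⊣ QY) :
    Nonempty ((QX ⋙ (QCohCat.isQCoh X).ι ⋙ Scheme.Modules.pushforward f) ≅
      (Scheme.Modules.pushforward f ⋙ QY ⋙ (QCohCat.isQCoh Y).ι)) := by
  let A1 : pullQC f ⋙ (QCohCat.isQCoh X).ι ⊣ QX ⋙ pushQC f := (adjQC f).comp adjX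
  let A2 : (QCohCat.isQCoh Y).ι ⋙ Scheme.Modules.pullback f ⊣ Scheme.Modules.pushforward f ⋙ QY :=
    adjY.comp (Scheme.Modules.pullbackPushforwardAdjunction f)
  let A1' : (QCohCat.isQCoh Y).ι ⋙ Scheme.Modules.pullback f ⊣ QX ⋙ pushQC f :=
    Adjunction.ofNatIsoLeft A1 (ObjectProperty.liftCompιIso _ _ _)
  let e : QX ⋙ pushQC f ≅ Scheme.Modules.pushforward f ⋙ QY := Adjunction.rightAdjointUniq A1' A2
  let c : pushQC f ⋙ (QCohCat.isQCoh Y).ι ≅ (QCohCat.isQCoh X).ι ⋙ Scheme.Modules.pushforward f :=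
    ObjectProperty.liftCompιIso _ _ _
  exact ⟨Functor.isoWhiskerLeft QX c.symm ≪≫ (Functor.associator _ _ _).symm ≪≫
    Functor.isoWhiskerRight e (QCohCat.isQCoh Y).ι ≪≫ Functor.associator _ _ _⟩

end Groth.Agent.Lib.Helper13.CoheratorPush
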