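import Mathlib
import Groth.Agent.Lib.Helper2.RDBridge

/-!
# Vanishing of the cohomology of `F(L)` in high degrees

`L` is a bounded-below complex of injectives in an abelian category `C` with enough injectives and
`F : C ⥤ D` an additive functor.  If the classical derived functors `RᵖF` vanish on the cohomology
objects of `L` for `p ≥ N` and `L` has no cohomology above degree `b`, then `F(L)` is exact in
degrees `> b + N - 1`.
-/

set_option autoImplicit false

namespace Groth.Agent.Lib.Helper13.CycleVanish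

open CategoryTheory CategoryTheory.Limits Groth.Agent.Lib.Helper2

universe v v' u u'

variable {C : Type u} [Category.{v} C] [Abelian C]

section Complex

variable (L : CochainComplex C ℤ)

/-- The boundaries of `L` in degree `j`, as the kernel of `Zʲ ⟶ Hʲ`. -/
noncomputable abbrev bd (j : ℤ) : C := kernel (L.homologyπ j)

/-- The inclusion of the boundaries in the cycles. -/
noncomputable abbrev bdι (j : ℤ) : bd L j ⟶ L.cycles j := kernel.ι (L.homologyπ j)

/-- The map `Lⁱ ⟶ Bʲ` induced by the differential. -/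
noncomputable abbrev toBd (i j : ℤ) : L.X i ⟶ bd L j :=
  kernel.lift (L.homologyπ j) (L.toCycles i j) (L.toCycles_comp_homologyπ i j)

lemma toBd_ι (i j : ℤ) : toBd L i j ≫ bdι L j = L.toCycles i j := kernel.lift_ι _ _ _

lemma toBd_comp (i j : ℤ) : toBd L i j ≫ bdι L j ≫ L.iCycles j = L.d i j := by
  rw [← Category.assoc, toBd_ι, L.toCycles_i]

lemma iCycles_toBd (i j : ℤ) : L.iCycles i ≫ toBd L i j = 0 := by
  rw [← cancel_mono (bdι L j ≫ L.iCycles j), Category.assoc, toBd_comp, zero_comp, L.iCycles_d]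

/-- `0 ⟶ Bʲ ⟶ Zʲ ⟶ Hʲ ⟶ 0`. -/
noncomputable abbrev ses2 (j : ℤ) : ShortComplex C :=
  ShortComplex.mk (bdι L j) (L.homologyπ j) (kernel.condition _)

lemma ses2_shortExact (j : ℤ) : (ses2 L j).ShortExact := by
  have hmono : Mono (ses2 L j).f := by dsimp; infer_instance
  have hepi : Epi (ses2 L j).g := by dsimp; infer_instance
  exact ShortComplex.ShortExact.mk' (ShortComplex.exact_of_f_is_kernel _ (kernelIsKernel _))
    hmono hepi

/-- `0 ⟶ Zⁱ ⟶ Lⁱ ⟶ Bʲ ⟶ 0` (for `i + 1 = j`). -/
noncomputable abbrev ses1 (i j : ℤ) : ShortComplex C :=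
  ShortComplex.mk (L.iCycles i) (toBd L i j) (iCycles_toBd L i j)

lemma ses1_shortExact (i j : ℤ) (hij : i + 1 = j) : (ses1 L i j).ShortExact := by
  have hnext : (ComplexShape.up ℤ).next i = j := (ComplexShape.up ℤ).next_eq' hij
  have hprev : (ComplexShape.up ℤ).prev j = i := (ComplexShape.up ℤ).prev_eq' hij
  have hmono : Mono (ses1 L i j).f := by dsimp; infer_instance
  have hepi : Epi (ses1 L i j).g :=
    (ShortComplex.exact_of_g_is_cokernel
      (ShortComplex.mk (L.toCycles i j) (L.homologyπ j) (L.toCycles_comp_homologyπ i j))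
      (L.homologyIsCokernel i j hprev)).epi_kernelLift
  have hex : (ses1 L i j).Exact := by
    let φ : ses1 L i j ⟶ ShortComplex.mk (L.iCycles i) (L.d i j) (L.iCycles_d i j) :=
      { τ₁ := 𝟙 _
        τ₂ := 𝟙 _
        τ₃ := bdι L j ≫ L.iCycles j
        comm₁₂ := by simp
        comm₂₃ := by
          dsimp
          rw [Category.id_comp, toBd_comp] }
    haveI : Epi φ.τ₁ := by dsimp [φ]; infer_instance
    haveI : IsIso φ.τ₂ := by dsimp [φ]; infer_instance
    haveI : Mono φ.τ₃ := by dsimp [φ]; infer_instance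
    exact (ShortComplex.exact_iff_of_epi_of_isIso_of_mono φ).2
      (ShortComplex.exact_of_f_is_kernel _ (L.cyclesIsKernel i j hnext))
  exact ShortComplex.ShortExact.mk' hex hmono hepi

lemma isZero_cycles_of_lt (a : ℤ) [L.IsStrictlyGE a] (k : ℤ) (hk : k < a) : IsZero (L.cycles k) :=
  IsZero.of_mono (L.iCycles k) (CochainComplex.isZero_of_isStrictlyGE L a k hk)

end Complex

section Derived

variable [EnoughInjectives C] {D : Type u'} [Category.{v'} D] [Abelian D]
  (L : CochainComplex C ℤ) (F : C ⥤ D) [F.Additive]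

lemma mono_R0_map {A B : C} (f : A ⟶ B) [Mono f] : Mono ((F.rightDerived 0).map f) := by
  have hmono : Mono (ShortComplex.mk f (cokernel.π f) (cokernel.condition f)).f := by
    dsimp; infer_instance
  have hepi : Epi (ShortComplex.mk f (cokernel.π f) (cokernel.condition f)).g := by
    dsimp; infer_instance
  have hS : (ShortComplex.mk f (cokernel.π f) (cokernel.condition f)).ShortExact :=
    ShortComplex.ShortExact.mk' (ShortComplex.exact_of_g_is_cokernel _ (cokernelIsCokernel f))
      hmono hepi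
  exact RDBridge.rightDerived_zero_map_mono' F _ hS

/-- Exactness of `R⁰F(Lⁱ) ⟶ R⁰F(Lʲ) ⟶ R⁰F(Lᵏ)` under vanishing assumptions. -/
theorem exact_R0 (i j k : ℤ) (hij : i + 1 = j) (hjk : j + 1 = k)
    (h1 : IsZero ((F.rightDerived 1).obj (L.cycles i)))
    (h0 : IsZero ((F.rightDerived 0).obj (L.homology j))) :
    (ShortComplex.mk ((F.rightDerived 0).map (L.d i j)) ((F.rightDerived 0).map (L.d j k))
      (by rw [← Functor.map_comp, L.d_comp_d, Functor.map_zero])).Exact := by
  -- step 1
  obtain ⟨δ, z1, z2, z3, e1, e2, e3⟩ :=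
    RDBridge.rightDerived_les' F (ses1 L j k) (ses1_shortExact L j k hjk) 0
  -- step 2
  have hS1 : (ShortComplex.mk ((F.rightDerived 0).map (L.iCycles j))
      ((F.rightDerived 0).map (L.d j k))
      (by rw [← Functor.map_comp, L.iCycles_d, Functor.map_zero])).Exact := by
    let φ : ShortComplex.mk ((F.rightDerived 0).map (ses1 L j k).f)
        ((F.rightDerived 0).map (ses1 L j k).g) z1 ⟶
        ShortComplex.mk ((F.rightDerived 0).map (L.iCycles j))
          ((F.rightDerived 0).map (L.d j k))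
          (by rw [← Functor.map_comp, L.iCycles_d, Functor.map_zero]) :=
      { τ₁ := 𝟙 _
        τ₂ := 𝟙 _
        τ₃ := (F.rightDerived 0).map (bdι L k ≫ L.iCycles k)
        comm₁₂ := by simp
        comm₂₃ := by
          dsimp
          rw [Category.id_comp, ← Functor.map_comp, toBd_comp] }
    haveI : Epi φ.τ₁ := by dsimp [φ]; infer_instance
    haveI : IsIso φ.τ₂ := by dsimp [φ]; infer_instance
    haveI : Mono φ.τ₃ := by dsimp [φ]; exact mono_R0_map F _
    exact (ShortComplex.exact_iff_of_epi_of_isIso_of_mono φ).1 e1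
  -- step 3
  have hepi1 : Epi ((F.rightDerived 0).map (toBd L i j)) := by
    obtain ⟨δ', w1, w2, w3, f1, f2, f3⟩ :=
      RDBridge.rightDerived_les' F (ses1 L i j) (ses1_shortExact L i j hij) 0
    exact f2.epi_f (h1.eq_of_tgt _ _)
  have hepi2 : Epi ((F.rightDerived 0).map (bdι L j)) := by
    obtain ⟨δ', w1, w2, w3, f1, f2, f3⟩ :=
      RDBridge.rightDerived_les' F (ses2 L j) (ses2_shortExact L j) 0
    exact f1.epi_f (h0.eq_of_tgt _ _)
  have hepi : Epi ((F.rightDerived 0).map (L.toCycles i j)) := by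
    rw [← toBd_ι, Functor.map_comp]
    infer_instance
  -- step 4
  let ψ : ShortComplex.mk ((F.rightDerived 0).map (L.d i j)) ((F.rightDerived 0).map (L.d j k))
        (by rw [← Functor.map_comp, L.d_comp_d, Functor.map_zero]) ⟶
      ShortComplex.mk ((F.rightDerived 0).map (L.iCycles j))
        ((F.rightDerived 0).map (L.d j k))
        (by rw [← Functor.map_comp, L.iCycles_d, Functor.map_zero]) :=
    { τ₁ := (F.rightDerived 0).map (L.toCycles i j)
      τ₂ := 𝟙 _
      τ₃ := 𝟙 _
      comm₁₂ := by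
        dsimp
        rw [← Functor.map_comp, L.toCycles_i, Category.comp_id]
      comm₂₃ := by simp }
  haveI : Epi ψ.τ₁ := by dsimp [ψ]; exact hepi
  haveI : IsIso ψ.τ₂ := by dsimp [ψ]; infer_instance
  haveI : Mono ψ.τ₃ := by dsimp [ψ]; infer_instance
  exact (ShortComplex.exact_iff_of_epi_of_isIso_of_mono ψ).2 hS1

variable (a b : ℤ) (N : ℕ)

lemma cycles_vanish_step [∀ n, Injective (L.X n)]
    (hH : ∀ (k : ℤ) (p : ℕ), N ≤ p → IsZero ((F.rightDerived p).obj (L.homology k)))
    (hH' : ∀ k : ℤ, b < k → IsZero (L.homology k))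
    (k : ℤ)
    (IH : ∀ p : ℕ, 1 ≤ p → ((N : ℤ) ≤ p ∨ (b < k - 1 ∧ (N : ℤ) ≤ p + (k - 1) - b)) →
      IsZero ((F.rightDerived p).obj (L.cycles (k - 1))))
    (p : ℕ) (hp : 1 ≤ p) (hc : (N : ℤ) ≤ p ∨ (b < k ∧ (N : ℤ) ≤ p + k - b)) :
    IsZero ((F.rightDerived p).obj (L.cycles k)) := by
  have hB : IsZero ((F.rightDerived p).obj (bd L k)) := by
    obtain ⟨δ, z1, z2, z3, e1, e2, e3⟩ :=
      RDBridge.rightDerived_les' F (ses1 L (k - 1) k) (ses1_shortExact L (k - 1) k (by omega)) p
    have hz1 : IsZero ((F.rightDerived p).obj (L.X (k - 1))) :=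
      RDBridge.racyc_of_injective F (L.X (k - 1)) p hp
    have hc' : (N : ℤ) ≤ ((p + 1 : ℕ) : ℤ) ∨
        (b < k - 1 ∧ (N : ℤ) ≤ ((p + 1 : ℕ) : ℤ) + (k - 1) - b) := by
      rcases hc with h | ⟨h1, h2⟩
      · left
        push_cast
        omega
      · by_cases hb : b < k - 1
        · right
          refine ⟨hb, ?_⟩
          push_cast
          omega
        · left
          push_cast
          omega
    have hz2 : IsZero ((F.rightDerived (p + 1)).obj (L.cycles (k - 1))) :=
      IH (p + 1) (by omega) hc'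
    exact e2.isZero_of_both_zeros (hz1.eq_of_src _ _) (hz2.eq_of_tgt _ _)
  have hHk : IsZero ((F.rightDerived p).obj (L.homology k)) := by
    by_cases hN : N ≤ p
    · exact hH k p hN
    · have hbk : b < k := by
        rcases hc with h | h
        · exfalso
          omega
        · exact h.1
      exact RDBridge.racyc_of_isZero F _ (hH' k hbk) p hp
  obtain ⟨δ, z1, z2, z3, e1, e2, e3⟩ :=
    RDBridge.rightDerived_les' F (ses2 L k) (ses2_shortExact L k) p
  exact e1.isZero_of_both_zeros (hB.eq_of_src _ _) (hHk.eq_of_tgt _ _)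

theorem cycles_vanish [L.IsStrictlyGE a] [∀ n, Injective (L.X n)]
    (hH : ∀ (k : ℤ) (p : ℕ), N ≤ p → IsZero ((F.rightDerived p).obj (L.homology k)))
    (hH' : ∀ k : ℤ, b < k → IsZero (L.homology k)) :
    ∀ (n : ℕ) (k : ℤ), k < a + n → ∀ p : ℕ, 1 ≤ p →
      ((N : ℤ) ≤ p ∨ (b < k ∧ (N : ℤ) ≤ p + k - b)) →
      IsZero ((F.rightDerived p).obj (L.cycles k)) := by
  intro n
  induction n with
  | zero =>
    intro k hk p hp _
    exact RDBridge.racyc_of_isZero F _ (isZero_cycles_of_lt L a k (by simpa using hk)) p hp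
  | succ n ih =>
    intro k hk p hp hc
    exact cycles_vanish_step L F b N hH hH' k
      (fun q hq hcq => ih (k - 1) (by push_cast at hk; omega) q hq hcq) p hp hc

/-- `F(L)` is exact in degrees `> b + N - 1`. -/
theorem exactAt_map [L.IsStrictlyGE a] [∀ n, Injective (L.X n)]
    (hH : ∀ (k : ℤ) (p : ℕ), N ≤ p → IsZero ((F.rightDerived p).obj (L.homology k)))
    (hH' : ∀ k : ℤ, b < k → IsZero (L.homology k)) (m : ℤ) (hm : b + N - 1 < m) :
    ((F.mapHomologicalComplex (ComplexShape.up ℤ)).obj L).ExactAt m := by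
  have h1 : IsZero ((F.rightDerived 1).obj (L.cycles (m - 1))) := by
    refine cycles_vanish L F a b N hH hH' (m - a + 1).toNat (m - 1)
      (by have := Int.self_le_toNat (m - a + 1); omega) 1 le_rfl ?_
    by_cases hb : b < m - 1
    · right
      refine ⟨hb, ?_⟩
      push_cast
      omega
    · left
      push_cast
      omega
  have h0 : IsZero ((F.rightDerived 0).obj (L.homology m)) := by
    by_cases hb : b < m
    · exact (F.rightDerived 0).map_isZero (hH' m hb)
    · exact hH m 0 (by omega)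
  have hex := exact_R0 L F (m - 1) m (m + 1) (by omega) rfl h1 h0
  rw [HomologicalComplex.exactAt_iff' _ (m - 1) m (m + 1) (by simp) (by simp)]
  let ψ : ((F.mapHomologicalComplex (ComplexShape.up ℤ)).obj L).sc' (m - 1) m (m + 1) ⟶
      ShortComplex.mk ((F.rightDerived 0).map (L.d (m - 1) m))
        ((F.rightDerived 0).map (L.d m (m + 1)))
        (by rw [← Functor.map_comp, L.d_comp_d, Functor.map_zero]) :=
    { τ₁ := F.toRightDerivedZero.app (L.X (m - 1))
      τ₂ := F.toRightDerivedZero.app (L.X m)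
      τ₃ := F.toRightDerivedZero.app (L.X (m + 1))
      comm₁₂ := (F.toRightDerivedZero.naturality (L.d (m - 1) m)).symm
      comm₂₃ := (F.toRightDerivedZero.naturality (L.d m (m + 1))).symm }
  haveI : IsIso ψ.τ₁ := (inferInstance : IsIso (F.toRightDerivedZero.app (L.X (m - 1))))
  haveI : IsIso ψ.τ₂ := (inferInstance : IsIso (F.toRightDerivedZero.app (L.X m)))
  haveI : IsIso ψ.τ₃ := (inferInstance : IsIso (F.toRightDerivedZero.app (L.X (m + 1))))
  exact (ShortComplex.exact_iff_of_epi_of_isIso_of_mono ψ).2 hex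

end Derived

end Groth.Agent.Lib.Helper13.CycleVanish
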