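import Mathlib.Algebra.Homology.ShortComplex.HomologicalComplex
import Mathlib.Algebra.Homology.ShortComplex.Exact
import Mathlib.Algebra.Homology.HomologicalComplexAbelian
import Mathlib.CategoryTheory.Abelian.Basic

set_option autoImplicit false
universe v u
open CategoryTheory CategoryTheory.Limits

namespace Groth.Agent.Lib.Helper13

variable {C : Type u} [Category.{v} C] [Abelian C]

/-- the short complex `Z^i → Q^i → Z^{i+1}` -/
noncomputable def cyclesSC (Q : CochainComplex C ℕ) (i : ℕ) : ShortComplex C :=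
  ShortComplex.mk (Q.iCycles i) (Q.toCycles i (i + 1)) (by
    rw [← cancel_mono (Q.iCycles (i + 1)), Category.assoc, Q.toCycles_i, Q.iCycles_d, zero_comp])

theorem cyclesSC_exact (Q : CochainComplex C ℕ) (i : ℕ) : (cyclesSC Q i).Exact := by
  apply ShortComplex.exact_of_f_is_kernel
  exact isKernelOfComp (Q.iCycles (i + 1)) (Q.d i (i + 1))
    (Q.cyclesIsKernel i (i + 1) (by simp)) _ (Q.toCycles_i i (i + 1))

theorem epi_toCycles_of_isZero_homology (Q : CochainComplex C ℕ) (i : ℕ)
    (h : IsZero (Q.homology (i + 1))) : Epi (Q.toCycles i (i + 1)) :=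
  Preadditive.epi_of_isZero_cokernel' _ (Q.homologyIsCokernel i (i + 1) (by simp)) h

/-- the splitting of `Z^i → Q^i → Z^{i+1}` -/
noncomputable def cyclesSplitting (Q : CochainComplex C ℕ) (i : ℕ)
    (hac : IsZero (Q.homology (i + 1))) (hsplit : IsSplitMono (Q.iCycles i)) :
    (cyclesSC Q i).Splitting := by
  let r : Q.X i ⟶ Q.cycles i := retraction (Q.iCycles i)
  have hr : Q.iCycles i ≫ r = 𝟙 _ := IsSplitMono.id (Q.iCycles i)
  exact ShortComplex.Splitting.ofExactOfRetraction (cyclesSC Q i) (cyclesSC_exact Q i)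
    r hr (epi_toCycles_of_isZero_homology Q i hac)

/-- a retraction of `Z^i → Q^i` -/
noncomputable def cyclesRetr (Q : CochainComplex C ℕ) (i : ℕ)
    (hac : IsZero (Q.homology (i + 1))) (hsplit : IsSplitMono (Q.iCycles i)) :
    Q.X i ⟶ Q.cycles i := (cyclesSplitting Q i hac hsplit).r

/-- the compatible section of `Q^i → Z^{i+1}` -/
noncomputable def cyclesSect (Q : CochainComplex C ℕ) (i : ℕ)
    (hac : IsZero (Q.homology (i + 1))) (hsplit : IsSplitMono (Q.iCycles i)) :
    Q.cycles (i + 1) ⟶ Q.X i := (cyclesSplitting Q i hac hsplit).s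

theorem iCycles_cyclesRetr (Q : CochainComplex C ℕ) (i : ℕ)
    (hac : IsZero (Q.homology (i + 1))) (hsplit : IsSplitMono (Q.iCycles i)) :
    Q.iCycles i ≫ cyclesRetr Q i hac hsplit = 𝟙 _ := (cyclesSplitting Q i hac hsplit).f_r

theorem cyclesSect_toCycles (Q : CochainComplex C ℕ) (i : ℕ)
    (hac : IsZero (Q.homology (i + 1))) (hsplit : IsSplitMono (Q.iCycles i)) :
    cyclesSect Q i hac hsplit ≫ Q.toCycles i (i + 1) = 𝟙 _ := (cyclesSplitting Q i hac hsplit).s_g

theorem cyclesRetr_iCycles_add (Q : CochainComplex C ℕ) (i : ℕ)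
    (hac : IsZero (Q.homology (i + 1))) (hsplit : IsSplitMono (Q.iCycles i)) :
    cyclesRetr Q i hac hsplit ≫ Q.iCycles i + Q.toCycles i (i + 1) ≫ cyclesSect Q i hac hsplit =
      𝟙 (Q.X i) := (cyclesSplitting Q i hac hsplit).id

theorem cyclesRetr_iCycles (Q : CochainComplex C ℕ) (i : ℕ)
    (hac : IsZero (Q.homology (i + 1))) (hsplit : IsSplitMono (Q.iCycles i)) :
    cyclesRetr Q i hac hsplit ≫ Q.iCycles i =
      𝟙 (Q.X i) - Q.toCycles i (i + 1) ≫ cyclesSect Q i hac hsplit := by
  rw [← cyclesRetr_iCycles_add Q i hac hsplit, add_sub_cancel_right]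

end Groth.Agent.Lib.Helper13
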