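import Mathlib

/-!
# Every open subscheme of the spectrum of a Dedekind domain is affine
-/

set_option autoImplicit false
universe u

namespace Groth.Agent.Lib.Helper13.DedekindAffine

open CategoryTheory AlgebraicGeometry Topology

/-- In a Dedekind domain, a nonzero element lies in only finitely many primes. -/
theorem finite_primes_of_mem {A : Type*} [CommRing A] [IsDedekindDomain A] {g : A} (hg : g ≠ 0) :
    {n : PrimeSpectrum A | g ∈ n.asIdeal}.Finite := by
  have hinj : Set.InjOn (PrimeSpectrum.asIdeal (R := A)) {n : PrimeSpectrum A | g ∈ n.asIdeal} :=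
    fun a _ b _ h => PrimeSpectrum.ext h
  refine Set.Finite.of_finite_image ?_ hinj
  refine (Ideal.finite_minimalPrimes_of_isNoetherianRing A (Ideal.span {g})).subset ?_
  rintro _ ⟨n, hn, rfl⟩
  have hn' : g ∈ n.asIdeal := hn
  refine ⟨⟨n.isPrime, (Ideal.span_singleton_le_iff_mem _).mpr hn'⟩, ?_⟩
  rintro q ⟨hq, hle⟩ hqn
  have hgq : g ∈ q := (Ideal.span_singleton_le_iff_mem _).mp hle
  have hq0 : q ≠ ⊥ := by
    rintro rfl
    exact hg (by simpa using hgq)
  have hqmax : q.IsMaximal := hq.isMaximal hq0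
  exact (hqmax.eq_of_le n.isPrime.ne_top hqn).ge

/-- Every open subscheme of the spectrum of a Dedekind domain is affine. -/
theorem isAffineOpen_of_isDedekindDomain (A : Type u) [CommRing A] [IsDedekindDomain A]
    (U : (Spec (CommRingCat.of A)).Opens) : IsAffineOpen U := by
  classical
  by_cases hU : U = ⊥
  · rw [hU]
    exact isAffineOpen_bot _
  let US : Set (PrimeSpectrum A) := U.carrier
  have hUS : IsOpen US := U.isOpen
  obtain ⟨x, hx⟩ : ∃ x : PrimeSpectrum A, x ∈ US := by
    by_contra h
    push Not at h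
    exact hU (le_bot_iff.mp (fun y hy => absurd hy (h y)))
  obtain ⟨_, ⟨g, rfl⟩, hxg, hgU⟩ :=
    PrimeSpectrum.isTopologicalBasis_basic_opens.exists_subset_of_mem_open hx hUS
  have hg0 : g ≠ 0 := by
    rintro rfl
    simp at hxg
  suffices IsAffineHom U.ι from isAffine_of_isAffineHom U.ι
  apply isAffineHom_of_forall_exists_isAffineOpen
  intro m
  by_cases hm : m ∈ U
  · obtain ⟨_, ⟨f, rfl⟩, hmf, hfU⟩ :=
      PrimeSpectrum.isTopologicalBasis_basic_opens.exists_subset_of_mem_open
        (show (m : PrimeSpectrum A) ∈ US from hm) hUS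
    let W : (Spec (CommRingCat.of A)).Opens := PrimeSpectrum.basicOpen f
    have hW : IsAffineOpen W := IsAffineOpen.Spec_basicOpen (R := CommRingCat.of A) f
    have hWU : W ≤ U := hfU
    refine ⟨W, hmf, hW, ?_⟩
    rw [← U.ι.isAffineOpen_iff_of_isOpenImmersion, Scheme.Hom.image_preimage_eq_opensRange_inf,
      Scheme.Opens.opensRange_ι, inf_eq_right.mpr hWU]
    exact hW
  · let m' : PrimeSpectrum A := m
    have hgm : g ∈ m'.asIdeal := by
      by_contra h
      exact hm (hgU h)
    have hfin := finite_primes_of_mem hg0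
    let F : Finset (PrimeSpectrum A) := hfin.toFinset.erase m'
    have hF : ∀ n : PrimeSpectrum A, n ∈ F ↔ n ≠ m' ∧ g ∈ n.asIdeal := by
      intro n
      simp [F]
    have hnot : ¬ F.inf (fun n => n.asIdeal) ≤ m'.asIdeal := by
      intro hle
      obtain ⟨n, hnF, hnm⟩ := (m'.isPrime.inf_le').mp hle
      obtain ⟨hne, hgn⟩ := (hF n).mp hnF
      have hn0 : n.asIdeal ≠ ⊥ := by
        intro h0
        rw [h0] at hgn
        exact hg0 (by simpa using hgn)
      have hnmax : n.asIdeal.IsMaximal := n.isPrime.isMaximal hn0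
      exact hne (PrimeSpectrum.ext (hnmax.eq_of_le m'.isPrime.ne_top hnm))
    obtain ⟨f, hfJ, hfm⟩ := SetLike.not_le_iff_exists.mp hnot
    have hfn : ∀ n : PrimeSpectrum A, n ≠ m' → g ∈ n.asIdeal → f ∈ n.asIdeal := by
      intro n hne hgn
      have : F.inf (fun n => n.asIdeal) ≤ n.asIdeal := Finset.inf_le ((hF n).mpr ⟨hne, hgn⟩)
      exact this hfJ
    let W : (Spec (CommRingCat.of A)).Opens := PrimeSpectrum.basicOpen f
    have hW : IsAffineOpen W := IsAffineOpen.Spec_basicOpen (R := CommRingCat.of A) f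
    let W' : (Spec (CommRingCat.of A)).Opens := PrimeSpectrum.basicOpen (f * g)
    have hW' : IsAffineOpen W' := IsAffineOpen.Spec_basicOpen (R := CommRingCat.of A) (f * g)
    refine ⟨W, hfm, hW, ?_⟩
    rw [← U.ι.isAffineOpen_iff_of_isOpenImmersion, Scheme.Hom.image_preimage_eq_opensRange_inf,
      Scheme.Opens.opensRange_ι]
    have heq : U ⊓ W = W' := by
      ext q
      let q' : PrimeSpectrum A := q
      change (q ∈ U ∧ f ∉ q'.asIdeal) ↔ f * g ∉ q'.asIdeal
      constructor
      · rintro ⟨hqU, hfq⟩ hfg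
        rcases q'.isPrime.mem_or_mem hfg with h | h
        · exact hfq h
        · have hne : q' ≠ m' := by
            intro e
            apply hm
            have : q = m := e
            rwa [← this]
          exact hfq (hfn q' hne h)
      · intro hfg
        refine ⟨hgU ?_, fun h => hfg (q'.asIdeal.mul_mem_right _ h)⟩
        exact fun h => hfg (q'.asIdeal.mul_mem_left _ h)
    rw [heq]
    exact hW'

end Groth.Agent.Lib.Helper13.DedekindAffine
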