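import Mathlib
import Groth.Agent.Lib.Helper4.DerSub

/-!
# D3a for helper4/helper18 (S12265): the space of `resO`-derivations `O → k` has the dimension of `m/m²` (helper13)
-/

set_option autoImplicit false
set_option linter.style.haveILetI false
set_option linter.unusedSectionVars false
universe u
open Groth.Agent.Lib.Helper4.DerSub

namespace Groth.Agent.Lib.Helper13.DerCot

open IsLocalRing

section

variable {k : Type u} [Field k] (O : Type u) [CommRing O] [Algebra k O]
  [IsLocalRing O] (resO : O →ₐ[k] k) (hres : Function.Surjective resO)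

include hres in
lemma ker_eq : RingHom.ker (resO : O →+* k) = maximalIdeal O := by
  haveI : (RingHom.ker (resO : O →+* k)).IsMaximal :=
    RingHom.ker_isMaximal_of_surjective _ hres
  exact IsLocalRing.eq_maximalIdeal this

include hres in
lemma mem_max_iff (x : O) : x ∈ maximalIdeal O ↔ resO x = 0 := by
  rw [← ker_eq O resO hres]
  exact RingHom.mem_ker

include hres in
lemma sub_mem (o : O) : o - algebraMap k O (resO o) ∈ maximalIdeal O := by
  rw [mem_max_iff O resO hres, map_sub, AlgHom.commutes]
  simp

/-- `o ↦ o - resO o`, as a `k`-linear map `O → m`. -/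
noncomputable def pr : O →ₗ[k] ↥(maximalIdeal O) where
  toFun o := ⟨o - algebraMap k O (resO o), sub_mem O resO hres o⟩
  map_add' o o' := Subtype.ext (by
    change (o + o') - algebraMap k O (resO (o + o')) =
      (o - algebraMap k O (resO o)) + (o' - algebraMap k O (resO o'))
    rw [map_add, map_add]; ring)
  map_smul' a o := Subtype.ext (by
    change a • o - algebraMap k O (resO (a • o)) = a • (o - algebraMap k O (resO o))
    rw [map_smul, smul_eq_mul, map_mul, Algebra.smul_def, Algebra.smul_def]; ring)

lemma pr_coe (o : O) : ((pr O resO hres o : ↥(maximalIdeal O)) : O) = o - algebraMap k O (resO o) :=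
  rfl

lemma pr_of_mem (x : ↥(maximalIdeal O)) : pr O resO hres (x : O) = x := by
  apply Subtype.ext
  rw [pr_coe, (mem_max_iff O resO hres _).mp x.2, map_zero, sub_zero]

variable (k) in
/-- the `k`-linear quotient map `m → m/m²`. -/
noncomputable def T : ↥(maximalIdeal O) →ₗ[k] (maximalIdeal O).Cotangent :=
  (maximalIdeal O).toCotangent.restrictScalars k

lemma T_surjective : Function.Surjective (T k O) :=
  (maximalIdeal O).toCotangent_surjective

lemma T_eq_zero (x : ↥(maximalIdeal O)) : T k O x = 0 ↔ (x : O) ∈ maximalIdeal O ^ 2 :=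
  (maximalIdeal O).toCotangent_eq_zero x

variable {O resO}

lemma der_one {δ : O →ₗ[k] k} (hδ : δ ∈ derSub O resO) : δ 1 = 0 := by
  have h := hδ 1 1
  rw [mul_one, map_one resO, one_mul] at h
  exact left_eq_add.mp h

lemma der_algebraMap {δ : O →ₗ[k] k} (hδ : δ ∈ derSub O resO) (a : k) :
    δ (algebraMap k O a) = 0 := by
  rw [Algebra.algebraMap_eq_smul_one, map_smul, der_one hδ, smul_zero]

include hres in
lemma der_sq {δ : O →ₗ[k] k} (hδ : δ ∈ derSub O resO) (x : O) (hx : x ∈ maximalIdeal O ^ 2) :
    δ x = 0 := by
  rw [pow_two] at hx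
  refine Submodule.mul_induction_on hx ?_ ?_
  · intro a ha b hb
    rw [hδ a b, (mem_max_iff O resO hres a).mp ha, (mem_max_iff O resO hres b).mp hb]
    simp
  · intro a b ha hb
    rw [map_add, ha, hb, add_zero]

variable (O resO)

/-- a functional on `m/m²` gives a derivation. -/
noncomputable def Psi : Module.Dual k (maximalIdeal O).Cotangent →ₗ[k] ↥(derSub O resO) where
  toFun ℓ := ⟨ℓ ∘ₗ T k O ∘ₗ pr O resO hres, by
    intro a b
    change ℓ (T k O (pr O resO hres (a * b))) =
      resO a * ℓ (T k O (pr O resO hres b)) + resO b * ℓ (T k O (pr O resO hres a))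
    have hxy : (pr O resO hres a : O) * (pr O resO hres b : O) ∈ maximalIdeal O :=
      Ideal.mul_mem_left _ _ (pr O resO hres b).2
    have key : pr O resO hres (a * b) =
        resO a • pr O resO hres b + resO b • pr O resO hres a +
          ⟨(pr O resO hres a : O) * (pr O resO hres b : O), hxy⟩ := by
      apply Subtype.ext
      change a * b - algebraMap k O (resO (a * b)) =
        resO a • (b - algebraMap k O (resO b)) + resO b • (a - algebraMap k O (resO a)) +
          (a - algebraMap k O (resO a)) * (b - algebraMap k O (resO b))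
      rw [map_mul, map_mul, Algebra.smul_def, Algebra.smul_def]
      ring
    have hz : T k O ⟨(pr O resO hres a : O) * (pr O resO hres b : O), hxy⟩ = 0 := by
      rw [T_eq_zero, pow_two]
      exact Ideal.mul_mem_mul (pr O resO hres a).2 (pr O resO hres b).2
    rw [key]
    simp only [map_add, map_smul, hz, add_zero, smul_eq_mul]⟩
  map_add' ℓ ℓ' := Subtype.ext (by
    apply LinearMap.ext
    intro o
    rfl)
  map_smul' a ℓ := Subtype.ext (by
    apply LinearMap.ext
    intro o
    rfl)

lemma Psi_apply (ℓ : Module.Dual k (maximalIdeal O).Cotangent) (o : O) :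
    (Psi O resO hres ℓ : O →ₗ[k] k) o = ℓ (T k O (pr O resO hres o)) := rfl

lemma Psi_injective : Function.Injective (Psi O resO hres) := by
  refine (injective_iff_map_eq_zero _).mpr ?_
  intro ℓ hℓ
  apply LinearMap.ext
  intro v
  obtain ⟨x, rfl⟩ := T_surjective (k := k) O v
  have h1 := Psi_apply O resO hres ℓ (x : O)
  rw [hℓ, pr_of_mem] at h1
  exact h1.symm

lemma Psi_surjective : Function.Surjective (Psi O resO hres) := by
  rintro ⟨δ, hδ⟩
  obtain ⟨s, hs⟩ := LinearMap.exists_rightInverse_of_surjective (T k O)
    (LinearMap.range_eq_top.mpr (T_surjective (k := k) O))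
  have hs' : ∀ v, T k O (s v) = v := fun v => LinearMap.congr_fun hs v
  let δm : ↥(maximalIdeal O) →ₗ[k] k := δ ∘ₗ ((maximalIdeal O).subtype.restrictScalars k)
  refine ⟨δm ∘ₗ s, ?_⟩
  apply Subtype.ext
  apply LinearMap.ext
  intro o
  change δ ((s (T k O (pr O resO hres o)) : ↥(maximalIdeal O)) : O) = δ o
  have h1 : T k O (s (T k O (pr O resO hres o)) - pr O resO hres o) = 0 := by
    rw [map_sub, hs', sub_self]
  have h2 := der_sq hres hδ _ ((T_eq_zero (k := k) O _).mp h1)
  rw [Submodule.coe_sub, map_sub, sub_eq_zero] at h2
  rw [h2, pr_coe, map_sub, der_algebraMap hδ, sub_zero]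

/-- derivations = dual of the cotangent space. -/
noncomputable def dualEquiv : Module.Dual k (maximalIdeal O).Cotangent ≃ₗ[k] ↥(derSub O resO) :=
  LinearEquiv.ofBijective (Psi O resO hres) ⟨Psi_injective O resO hres, Psi_surjective O resO hres⟩

include hres in
lemma rank_cotangent_eq :
    Module.rank k (maximalIdeal O).Cotangent =
      Module.rank (ResidueField O) (CotangentSpace O) := by
  refine rank_eq_of_equiv_equiv (fun a : k => residue O (algebraMap k O a)) (AddEquiv.refl _) ?_ ?_
  · constructor
    · exact ((residue O).comp (algebraMap k O)).injective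
    · intro z
      obtain ⟨o, rfl⟩ := residue_surjective z
      refine ⟨resO o, ?_⟩
      change residue O (algebraMap k O (resO o)) = residue O o
      rw [eq_comm, ← sub_eq_zero, ← map_sub, residue_eq_zero_iff]
      exact sub_mem O resO hres o
  · intro a v
    change a • v = residue O (algebraMap k O a) • v
    rw [← algebraMap_smul O a v]
    exact (algebraMap_smul (ResidueField O) (algebraMap k O a) v).symm

end

/-- (D3a) pure algebra: the k-space of resO-derivations O → k has the dimension of m/m². -/
theorem finrank_derSub {k : Type u} [Field k] (O : Type u) [CommRing O] [Algebra k O]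
    [IsLocalRing O] [IsNoetherianRing O] (resO : O →ₐ[k] k) (hres : Function.Surjective resO) :
    Module.finrank k ↥(derSub O resO) =
      Module.finrank (IsLocalRing.ResidueField O) (IsLocalRing.CotangentSpace O) := by
  rw [← (dualEquiv O resO hres).finrank_eq, Subspace.dual_finrank_eq]
  exact congrArg Cardinal.toNat (rank_cotangent_eq O resO hres)

end Groth.Agent.Lib.Helper13.DerCot
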