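import Mathlib

/-!
# Dimension lemmas for sober spaces and schemes

* `surjective_of_isClosedEmbedding_of_dim_eq`: a closed embedding into an irreducible sober space
  of the same finite dimension is surjective.
* `isIso_of_isClosedImmersion_of_dim_eq`: a closed immersion into an integral scheme of the same
  finite dimension is an isomorphism.
-/

set_option autoImplicit false
universe u

namespace Groth.Agent.Lib.Helper13.DimBasic

open CategoryTheory AlgebraicGeometry Topology

theorem false_of_succ_le_cast (n : ℕ) (h1 : ((n + 1 : ℕ) : WithBot ℕ∞) ≤ (n : WithBot ℕ∞)) :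
    False := by
  have h2 : ((n + 1 : ℕ) : ℕ∞) ≤ (n : ℕ∞) := by
    rw [← WithBot.coe_natCast, ← WithBot.coe_natCast] at h1
    exact WithBot.coe_le_coe.mp h1
  have h3 : n + 1 ≤ n := by exact_mod_cast h2
  omega

attribute [local instance] specializationOrder in
/-- A closed embedding into an irreducible sober space of the same finite dimension is
surjective. -/
theorem surjective_of_isClosedEmbedding_of_dim_eq {X Y : Type*} [TopologicalSpace X]
    [TopologicalSpace Y] [QuasiSober X] [T0Space X] [QuasiSober Y] [T0Space Y]
    [IrreducibleSpace X] (j : Y → X) (hj : IsClosedEmbedding j)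
    (hfin : topologicalKrullDim X ≠ ⊤)
    (hdim : topologicalKrullDim X = topologicalKrullDim Y) : Function.Surjective j := by
  unfold topologicalKrullDim at hfin hdim
  rw [Order.krullDim_eq_of_orderIso (irreducibleSetEquivPoints (α := X))] at hfin hdim
  rw [Order.krullDim_eq_of_orderIso (irreducibleSetEquivPoints (α := Y))] at hdim
  obtain ⟨n, hn⟩ : ∃ n : ℕ, Order.krullDim X = n := by
    have h0 : (0 : WithBot ℕ∞) ≤ Order.krullDim X := Order.krullDim_nonneg
    cases h : Order.krullDim X with
    | bot => rw [h] at h0; simp at h0
    | coe m =>
      cases m with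
      | top => exact absurd h hfin
      | coe k => exact ⟨k, rfl⟩
  obtain ⟨l, hl⟩ := Order.le_krullDim_iff.mp (le_of_eq (hn.symm.trans hdim))
  have hη : ∀ x : X, x ≤ genericPoint X := fun x => genericPoint_specializes x
  by_cases hlast : j l.last = genericPoint X
  · intro x
    have hcl : closure {genericPoint X} ⊆ Set.range j :=
      hj.isClosed_range.closure_subset_iff.mpr (by rintro _ rfl; exact ⟨_, hlast⟩)
    exact hcl (specializes_iff_mem_closure.mp (hη x))
  · exfalso
    have hlt : j l.last < genericPoint X := lt_of_le_of_ne (hη _) hlast
    have hmono : StrictMono j := fun a b hab =>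
      lt_of_le_not_ge (hj.isInducing.specializes_iff.mpr hab.le)
        (fun h => hab.not_ge (hj.isInducing.specializes_iff.mp h))
    have h1 := Order.LTSeries.length_le_krullDim
      ((l.map j hmono).snoc (genericPoint X) (by simpa using hlt))
    rw [hn] at h1
    simp only [RelSeries.snoc_length, LTSeries.map_length, hl] at h1
    exact false_of_succ_le_cast n h1

/-- A closed immersion into an integral scheme of the same finite dimension is an
isomorphism. -/
theorem isIso_of_isClosedImmersion_of_dim_eq {X Y : Scheme.{u}} (i : Y ⟶ X)
    [IsClosedImmersion i] [IsIntegral X] (hfin : topologicalKrullDim ↥X ≠ ⊤)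
    (hdim : topologicalKrullDim ↥X = topologicalKrullDim ↥Y) : IsIso i := by
  have hs : Function.Surjective i.base :=
    surjective_of_isClosedEmbedding_of_dim_eq i.base i.isClosedEmbedding hfin hdim
  have : Surjective i := ⟨hs⟩
  exact isIso_of_isClosedImmersion_of_surjective i

end Groth.Agent.Lib.Helper13.DimBasic
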