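import Mathlib
import Groth.Agent.Lib.Helper10.IndCofDiv

/-!
# A divisible subobject with small quotient forces the images `j A` to stabilise (F1 for S19621)
-/

set_option autoImplicit false
set_option linter.style.haveILetI false

open CategoryTheory CategoryTheory.Limits

universe v u

namespace Groth.Agent.Lib.Helper13.DivML

open H10Ind

variable {𝒜 : Type u} [Category.{v} 𝒜] [Abelian 𝒜] {P : ObjectProperty 𝒜}

/-- If `B'` is divisible and `A / B'` is killed by `j₀`, then `j A = B'` for every positive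
multiple `j` of `j₀`. -/
lemma image_nsmul_eq (A : 𝒜) (B' : Subobject A)
    (hdiv : ∀ k : ℕ, 0 < k → Epi (k • 𝟙 (B' : 𝒜))) (j₀ : ℕ)
    (hj₀ : j₀ • 𝟙 (cokernel B'.arrow) = 0) (j : ℕ) (hj : 0 < j) (hdvd : j₀ ∣ j) :
    imageSubobject (j • 𝟙 A) = B' := by
  apply le_antisymm
  · apply le_of_forall_factors
    intro T x hx
    obtain ⟨T', π, hπ, z, hz⟩ := (imageSubobject_factors_iff (j • 𝟙 A) x).1 hx
    apply factors_of_epi_comp π
    apply factors_of_comp_cokernel
    obtain ⟨c, rfl⟩ := hdvd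
    rw [hz, Category.assoc]
    have e : ((j₀ * c) • 𝟙 A) ≫ cokernel.π B'.arrow =
        (c • cokernel.π B'.arrow) ≫ (j₀ • 𝟙 (cokernel B'.arrow)) := by
      rw [Preadditive.nsmul_comp, Category.id_comp, Preadditive.comp_nsmul, Category.comp_id,
        mul_nsmul']
    rw [e, hj₀, comp_zero, comp_zero]
  · apply le_of_forall_factors
    intro T x hx
    haveI := hdiv j hj
    obtain ⟨T', π, hπ, y, hy⟩ :=
      surjective_up_to_refinements_of_epi (j • 𝟙 (B' : 𝒜)) (B'.factorThru x hx)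
    apply factors_of_epi_comp π
    rw [imageSubobject_factors_iff]
    refine ⟨T', 𝟙 T', inferInstance, y ≫ B'.arrow, ?_⟩
    rw [Category.id_comp, Preadditive.comp_nsmul, Category.comp_id,
      ← Subobject.factorThru_arrow B' x hx, ← Category.assoc, hy, Category.assoc,
      Preadditive.nsmul_comp, Category.id_comp, Preadditive.comp_nsmul]

/-- (F1) -/
theorem ml_of_divQuot (htorP : ∀ T, P T → ∃ n, 0 < n ∧ n • 𝟙 T = 0) (A : 𝒜)
    (B' : Subobject A) (hdiv : ∀ k : ℕ, 0 < k → Epi (k • 𝟙 (B' : 𝒜)))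
    (hQ : P (cokernel B'.arrow)) :
    ∀ n : ℕ, 0 < n → ∃ m : ℕ, 0 < m ∧ n ∣ m ∧ ∀ m' : ℕ, 0 < m' → m ∣ m' →
      imageSubobject ((m' / n) • 𝟙 A) = imageSubobject ((m / n) • 𝟙 A) := by
  obtain ⟨j₀, hj₀pos, hj₀⟩ := htorP _ hQ
  intro n hn
  refine ⟨n * j₀, Nat.mul_pos hn hj₀pos, dvd_mul_right n j₀, ?_⟩
  intro m' hm' hdvd
  obtain ⟨c, rfl⟩ := hdvd
  have hc : 0 < c := by
    rcases Nat.eq_zero_or_pos c with rfl | h
    · simp at hm'
    · exact h
  rw [mul_assoc, Nat.mul_div_cancel_left _ hn, Nat.mul_div_cancel_left _ hn,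
    image_nsmul_eq A B' hdiv j₀ hj₀ (j₀ * c) (Nat.mul_pos hj₀pos hc) (dvd_mul_right _ _),
    image_nsmul_eq A B' hdiv j₀ hj₀ j₀ hj₀pos dvd_rfl]

end Groth.Agent.Lib.Helper13.DivML
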