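import Mathlib
import Groth.Agent.Lib.Helper10.IndCofDiv
import Groth.Agent.Lib.Helper26.BezoutPow

/-!
# The largest divisible subobject of a torsion object of cofinite type

Abstract setting of `H10Ind.Setting` (helper10).  For an object `A` all of whose `A[n]` (`n > 0`)
satisfy `P`, the subobject `D = ⋂_m m^{N_m} A` (with `N_m` a stabilisation index of `m^k A`) is
divisible, contains every divisible subobject, and all `D[n]` satisfy `P`.
-/

set_option autoImplicit false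
set_option linter.style.haveILetI false

open CategoryTheory CategoryTheory.Limits

universe v u

namespace Groth.Agent.Lib.Helper13.DivPart

open H10Ind

variable {𝒜 : Type u} [Category.{v} 𝒜] [Abelian 𝒜] {P : ObjectProperty 𝒜}

lemma epi_of_forall_P (hsep : P.IsSeparating) {X Y : 𝒜} (f : X ⟶ Y)
    (h : ∀ T, P T → ∀ x : T ⟶ Y,
      ∃ (T' : 𝒜) (π : T' ⟶ T) (_ : Epi π) (y : T' ⟶ X), π ≫ x = y ≫ f) : Epi f := by
  apply Abelian.epi_of_cokernel_π_eq_zero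
  apply hsep
  intro T hT x
  obtain ⟨T', π, hπ, y, hy⟩ := h T hT x
  rw [comp_zero, ← cancel_epi π, comp_zero, ← Category.assoc, hy, Category.assoc,
    cokernel.condition, comp_zero]

lemma iso_of_mono_factors {X Y A : 𝒜} (i : X ⟶ A) (j : Y ⟶ A) [Mono i] [Mono j]
    (u : X ⟶ Y) (hu : u ≫ j = i) (w : Y ⟶ X) (hw : w ≫ i = j) : Nonempty (X ≅ Y) :=
  ⟨⟨u, w, by rw [← cancel_mono i, Category.assoc, hw, hu, Category.id_comp],
    by rw [← cancel_mono j, Category.assoc, hu, hw, Category.id_comp]⟩⟩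

lemma cok_iff_Im (A : 𝒜) (m k : ℕ) {T : 𝒜} (x : T ⟶ A) :
    x ≫ cokernel.π ((m ^ k) • 𝟙 A) = 0 ↔ (Im A m k).Factors x := by
  rw [Im_factors_iff]
  constructor
  · intro h
    exact exists_of_comp_cokernel_π (m ^ k) x h
  · rintro ⟨T', π, hπ, y, hy⟩
    rw [← cancel_epi π, comp_zero, ← Category.assoc, hy]
    exact nsmul_comp_cokernel_π (m ^ k) y

/-- An `n`-torsion element lying in `n^K A` with `K` large lies in `m^N' A`. -/
lemma cok_of_torsion_divisible (A : 𝒜) (n m N' K : ℕ) (hn : 0 < n) (hm : 0 < m)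
    (hK : N' * m ≤ K) {T : 𝒜} (x : T ⟶ A) (hx : n • x = 0)
    (hxK : x ≫ cokernel.π ((n ^ K) • 𝟙 A) = 0) :
    x ≫ cokernel.π ((m ^ N') • 𝟙 A) = 0 := by
  obtain ⟨T', π, hπ, z, hz⟩ := exists_of_comp_cokernel_π (n ^ K) x hxK
  have hz0 : (n ^ (K + 1)) • z = 0 := by
    rw [pow_succ_nsmul, ← hz, ← Preadditive.comp_nsmul, hx, comp_zero]
  obtain ⟨a, b, hab⟩ :=
    Groth.Agent.Lib.Helper26.BezoutPow.exists_mul_pow_eq n m N' K hn hm hK
  have e : (m ^ N') • (a • z) = (n ^ K) • z := by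
    rw [← mul_nsmul', mul_comm, hab, add_nsmul, mul_nsmul', hz0, nsmul_zero, zero_add]
  rw [← cancel_epi π, comp_zero, ← Category.assoc, hz, ← e]
  exact nsmul_comp_cokernel_π (m ^ N') (a • z)

/-- Membership in `D = ⋂_m m^{N_m} A` for generalised elements. -/
def InD (A : 𝒜) (N : ℕ → ℕ) {T : 𝒜} (x : T ⟶ A) : Prop :=
  ∀ m, 0 < m → x ≫ cokernel.π ((m ^ N m) • 𝟙 A) = 0

lemma inD_of_torsion {A : 𝒜} {N : ℕ → ℕ}
    (hN : ∀ m, 0 < m → ∀ k, N m ≤ k → Im A m k = Im A m (N m))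
    (n : ℕ) (hn : 0 < n) {T : 𝒜} (x : T ⟶ A) (hx : n • x = 0)
    (hxn : x ≫ cokernel.π ((n ^ N n) • 𝟙 A) = 0) : InD A N x := by
  intro m hm
  have h1 : (Im A n (max (N n) (N m * m))).Factors x := by
    rw [hN n hn _ (le_max_left _ _)]
    exact (cok_iff_Im A n (N n) x).1 hxn
  exact cok_of_torsion_divisible A n m (N m) _ hn hm (le_max_right _ _) x hx
    ((cok_iff_Im A n _ x).2 h1)

section

variable [HasProductsOfShape ℕ 𝒜]

/-- The quotients `A / m^{N_m} A` for `m = i + 1`. -/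
noncomputable def Q (A : 𝒜) (N : ℕ → ℕ) (i : ℕ) : 𝒜 :=
  cokernel (((i + 1) ^ N (i + 1)) • 𝟙 A)

/-- `A ⟶ ∏_m A / m^{N_m} A`. -/
noncomputable def φ (A : 𝒜) (N : ℕ → ℕ) : A ⟶ ∏ᶜ (Q A N) :=
  Pi.lift (fun i => cokernel.π (((i + 1) ^ N (i + 1)) • 𝟙 A))

/-- `D = ⋂_m m^{N_m} A`. -/
noncomputable def D (A : 𝒜) (N : ℕ → ℕ) : Subobject A := kernelSubobject (φ A N)

lemma D_factors_iff (A : 𝒜) (N : ℕ → ℕ) {T : 𝒜} (x : T ⟶ A) :
    (D A N).Factors x ↔ InD A N x := by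
  unfold D
  rw [kernelSubobject_factors_iff]
  constructor
  · intro h m hm
    obtain ⟨i, rfl⟩ : ∃ i, m = i + 1 := ⟨m - 1, by omega⟩
    have h2 := congrArg (fun t => t ≫ Pi.π (Q A N) i) h
    simp only [Category.assoc, zero_comp] at h2
    unfold φ at h2
    rw [Pi.lift_π] at h2
    exact h2
  · intro h
    apply Pi.hom_ext
    intro i
    rw [Category.assoc, zero_comp]
    unfold φ
    rw [Pi.lift_π]
    exact h (i + 1) (Nat.succ_pos i)

theorem le_D (A : 𝒜) (N : ℕ → ℕ) (D' : Subobject A)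
    (hD' : ∀ k, 0 < k → Epi (k • 𝟙 (D' : 𝒜))) : D' ≤ D A N := by
  apply Subobject.le_of_factors
  rw [D_factors_iff]
  intro m hm
  haveI := hD' (m ^ N m) (pow_pos hm _)
  rw [← cancel_epi ((m ^ N m) • 𝟙 (D' : 𝒜)), comp_zero, ← Category.assoc,
    Preadditive.nsmul_comp, Category.id_comp]
  exact nsmul_comp_cokernel_π (m ^ N m) D'.arrow

theorem epi_nsmul_D (hP : Setting P) (htorP : ∀ T, P T → ∃ n, 0 < n ∧ n • 𝟙 T = 0)
    {A : 𝒜} {N : ℕ → ℕ} (hN : ∀ m, 0 < m → ∀ k, N m ≤ k → Im A m k = Im A m (N m))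
    (q : ℕ) (hq : 0 < q) : Epi (q • 𝟙 ((D A N : Subobject A) : 𝒜)) := by
  apply epi_of_forall_P hP.sep
  intro T hT x
  obtain ⟨n, hn, hnT⟩ := htorP T hT
  have hx₀D : InD A N (x ≫ (D A N).arrow) :=
    (D_factors_iff A N _).1 (Subobject.factors_comp_arrow x)
  have hnx₀ : n • (x ≫ (D A N).arrow) = 0 := by
    have e : n • (x ≫ (D A N).arrow) = (n • 𝟙 T) ≫ (x ≫ (D A N).arrow) := by
      rw [Preadditive.nsmul_comp, Category.id_comp]
    rw [e, hnT, zero_comp]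
  have hn'pos : 0 < n * q := Nat.mul_pos hn hq
  have h1 : (Im A (n * q) (N (n * q) + 1)).Factors (x ≫ (D A N).arrow) := by
    rw [hN (n * q) hn'pos (N (n * q) + 1) (Nat.le_succ _)]
    exact (cok_iff_Im A (n * q) (N (n * q)) _).1 (hx₀D (n * q) hn'pos)
  obtain ⟨T', π, hπ, z, hz⟩ := (Im_factors_iff A (n * q) (N (n * q) + 1) _).1 h1
  have hqy₀ : q • (((n * q) ^ N (n * q)) • (n • z)) = π ≫ (x ≫ (D A N).arrow) := by
    rw [hz, pow_succ_nsmul', mul_nsmul, smul_comm]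
  have hn'y₀ : (n * q) • (((n * q) ^ N (n * q)) • (n • z)) = 0 := by
    rw [mul_nsmul', hqy₀, ← Preadditive.comp_nsmul, hnx₀, comp_zero]
  have hy₀D : InD A N (((n * q) ^ N (n * q)) • (n • z)) :=
    inD_of_torsion hN (n * q) hn'pos _ hn'y₀ (nsmul_comp_cokernel_π _ (n • z))
  refine ⟨T', π, hπ, (D A N).factorThru _ ((D_factors_iff A N _).2 hy₀D), ?_⟩
  rw [← cancel_mono (D A N).arrow, Category.assoc, Category.assoc, Preadditive.nsmul_comp,
    Category.id_comp, Preadditive.comp_nsmul, Subobject.factorThru_arrow, hqy₀]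

theorem P_tor_D (hP : Setting P) {A : 𝒜} (hA : ∀ n, 0 < n → P (tor A n)) {N : ℕ → ℕ}
    (hN : ∀ m, 0 < m → ∀ k, N m ≤ k → Im A m k = Im A m (N m)) (n : ℕ) (hn : 0 < n) :
    P (tor ((D A N : Subobject A) : 𝒜) n) := by
  have hQ : P (cokernel ((n ^ N n) • 𝟙 A)) :=
    P_cokernel_nsmul hP A (n ^ N n) (fun k => hA _ (pow_pos (pow_pos hn _) k))
  have hQn : P (tor (cokernel ((n ^ N n) • 𝟙 A)) n) := hP.ker _ hQ hQ
  have h1 : P (tor (kernel (cokernel.π ((n ^ N n) • 𝟙 A))) n) :=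
    P_tor_kernel hP _ n (hA n hn) hQn
  haveI : Mono (torι (kernel (cokernel.π ((n ^ N n) • 𝟙 A))) n ≫
      kernel.ι (cokernel.π ((n ^ N n) • 𝟙 A))) := mono_comp _ _
  haveI : Mono (torι ((D A N : Subobject A) : 𝒜) n ≫ (D A N).arrow) := mono_comp _ _
  have hi_n : n • (torι (kernel (cokernel.π ((n ^ N n) • 𝟙 A))) n ≫
      kernel.ι (cokernel.π ((n ^ N n) • 𝟙 A))) = 0 := by
    rw [← Preadditive.nsmul_comp, nsmul_torι, zero_comp]
  have hj_n : n • (torι ((D A N : Subobject A) : 𝒜) n ≫ (D A N).arrow) = 0 := by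
    rw [← Preadditive.nsmul_comp, nsmul_torι, zero_comp]
  have hiD : InD A N (torι (kernel (cokernel.π ((n ^ N n) • 𝟙 A))) n ≫
      kernel.ι (cokernel.π ((n ^ N n) • 𝟙 A))) :=
    inD_of_torsion hN n hn _ hi_n (by rw [Category.assoc, kernel.condition, comp_zero])
  have hjc : (torι ((D A N : Subobject A) : 𝒜) n ≫ (D A N).arrow) ≫
      cokernel.π ((n ^ N n) • 𝟙 A) = 0 :=
    (D_factors_iff A N _).1 (Subobject.factors_comp_arrow _) n hn
  obtain ⟨e⟩ := iso_of_mono_factors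
    (torι (kernel (cokernel.π ((n ^ N n) • 𝟙 A))) n ≫ kernel.ι (cokernel.π ((n ^ N n) • 𝟙 A)))
    (torι ((D A N : Subobject A) : 𝒜) n ≫ (D A N).arrow)
    (torLift n ((D A N).factorThru _ ((D_factors_iff A N _).2 hiD)) (by
      rw [← cancel_mono (D A N).arrow, zero_comp, Preadditive.nsmul_comp,
        Subobject.factorThru_arrow]
      exact hi_n))
    (by rw [torLift_ι_assoc, Subobject.factorThru_arrow])
    (torLift n (kernel.lift _ _ hjc) (by
      rw [← cancel_mono (kernel.ι (cokernel.π ((n ^ N n) • 𝟙 A))), zero_comp,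
        Preadditive.nsmul_comp, kernel.lift_ι]
      exact hj_n))
    (by rw [torLift_ι_assoc, kernel.lift_ι])
  exact hP.iso e h1

end

/-- **The largest divisible subobject.** -/
theorem main [HasProductsOfShape ℕ 𝒜] (hP : Setting P)
    (htorP : ∀ T, P T → ∃ n, 0 < n ∧ n • 𝟙 T = 0) (A : 𝒜)
    (hA : ∀ n, 0 < n → P (tor A n)) :
    ∃ D : Subobject A, (∀ k, 0 < k → Epi (k • 𝟙 (D : 𝒜))) ∧
      (∀ D' : Subobject A, (∀ k, 0 < k → Epi (k • 𝟙 (D' : 𝒜))) → D' ≤ D) ∧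
      (∀ n, 0 < n → P (tor (D : 𝒜) n)) := by
  have hex : ∀ m, ∃ Nm, 0 < m → ∀ k, Nm ≤ k → Im A m k = Im A m Nm := by
    intro m
    by_cases hm : 0 < m
    · obtain ⟨Nm, h⟩ := im_stabilizes hP A m (fun k => hA _ (pow_pos hm k))
      exact ⟨Nm, fun _ => h⟩
    · exact ⟨0, fun h => (hm h).elim⟩
  choose N hN using hex
  exact ⟨D A N, fun k hk => epi_nsmul_D hP htorP hN k hk, fun D' hD' => le_D A N D' hD',
    fun n hn => P_tor_D hP hA hN n hn⟩

end Groth.Agent.Lib.Helper13.DivPart
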