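import Groth.Agent.Lib.Helper13.PointedCone
import Mathlib.RingTheory.GradedAlgebra.Radical

set_option autoImplicit false
universe u
open CategoryTheory CategoryTheory.Limits AlgebraicGeometry Opposite TopologicalSpace
open scoped HomogeneousIdeal

noncomputable section
namespace Groth.Agent.Lib.Helper13

section dom

variable {A σ : Type u} [CommRing A] [SetLike σ A] [AddSubgroupClass σ A] {𝒜 : ℕ → σ} [GradedRing 𝒜]
variable {B τ : Type u} [CommRing B] [SetLike τ B] [AddSubgroupClass τ B] {ℬ : ℕ → τ} [GradedRing ℬ]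

theorem domOpen_eq_top_iff (ψ : 𝒜 →+*ᵍ ℬ) :
    RelCone.domOpen ψ = ⊤ ↔ ∀ P : PrimeSpectrum B, ¬ ((HomogeneousIdeal.irrelevant ℬ).toIdeal ≤ P.asIdeal) →
      ¬ ((HomogeneousIdeal.irrelevant 𝒜).toIdeal ≤ P.asIdeal.comap ψ.toRingHom) := by
  constructor
  · intro h P hP hle
    have hcore : ¬ (HomogeneousIdeal.irrelevant ℬ ≤ P.asIdeal.homogeneousCore ℬ) := by
      intro h'
      exact hP ((Ideal.homogeneousCore.gc ℬ _ _).mpr h')
    let p : Proj ℬ := (⟨P.asIdeal.homogeneousCore ℬ, P.isPrime.homogeneousCore, hcore⟩ : ProjectiveSpectrum ℬ)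
    have hp : p ∈ RelCone.domOpen ψ := by rw [h]; trivial
    obtain ⟨f, hf, hψf⟩ := (RelCone.mem_domOpen ψ p).mp hp
    apply hψf
    change ψ f ∈ (P.asIdeal.homogeneousCore ℬ).toIdeal
    rw [(P.asIdeal.homogeneousCore ℬ).isHomogeneous.mem_iff]
    intro i
    rw [← ψ.map_directSumDecompose]
    apply Ideal.mem_homogeneousCore_of_homogeneous_of_mem
    · exact ⟨i, ψ.map_mem (SetLike.coe_mem _)⟩
    · exact hle ((HomogeneousIdeal.irrelevant 𝒜).is_homogeneous' i hf)
  · intro h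
    rw [eq_top_iff]
    intro x _
    rw [RelCone.mem_domOpen]
    have := h ⟨x.asHomogeneousIdeal.toIdeal, x.isPrime⟩ x.not_irrelevant_le
    rw [SetLike.not_le_iff_exists] at this
    obtain ⟨f, hf, hψf⟩ := this
    exact ⟨f, hf, hψf⟩

end dom

end Groth.Agent.Lib.Helper13
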