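import Mathlib
import Groth.Prelude
import Groth.Agent.Lib.Helper13.ExtTransfer

/-!
# The first edge map `R^q Ψ (Φ X) ⟶ R^q (Φ ⋙ Ψ) X` is an isomorphism when `R^n Φ X = 0` for `n > 0`
-/
set_option autoImplicit false
universe v₁ v₂ v₃ u₁ u₂ u₃
open CategoryTheory CategoryTheory.Limits HomologicalComplex

noncomputable section

namespace Groth.Agent.Lib.Helper13.EdgeInIso

open Groth.Agent.Lib.Helper13.ExtTransfer

variable {A : Type u₁} [Category.{v₁} A] [Abelian A] [HasInjectiveResolutions A]
  {B : Type u₂} [Category.{v₂} B] [Abelian B] [HasInjectiveResolutions B]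
  {C : Type u₃} [Category.{v₃} C] [Abelian C]

/-- a cochain map between injective resolutions of the same object which is compatible with the
augmentations in degree `0` induces isomorphisms on the cohomology of `Ψ` of them. -/
lemma isIso_homologyMap_of_comm (Ψ : B ⥤ C) [Ψ.Additive] {Y : B} (J I' : InjectiveResolution Y)
    (φ : J.cocomplex ⟶ I'.cocomplex) (hφ : J.ι.f 0 ≫ φ.f 0 = I'.ι.f 0) (q : ℕ) :
    IsIso ((HomologicalComplex.homologyFunctor C _ q).map
      ((Ψ.mapHomologicalComplex _).map φ)) := by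
  have hcomm : J.ι ≫ φ = (CochainComplex.single₀ B).map (𝟙 Y) ≫ I'.ι := by
    rw [CategoryTheory.Functor.map_id, Category.id_comp]
    apply HomologicalComplex.from_single_hom_ext
    exact hφ
  let E := InjectiveResolution.homotopyEquiv J I'
  have hE : J.ι ≫ E.hom = (CochainComplex.single₀ B).map (𝟙 Y) ≫ I'.ι :=
    InjectiveResolution.desc_commutes (𝟙 Y) I' J
  have ho : Homotopy φ E.hom := InjectiveResolution.descHomotopy (𝟙 Y) φ E.hom hcomm hE
  have ho' := Ψ.mapHomotopy ho
  have heq : (HomologicalComplex.homologyFunctor C _ q).map ((Ψ.mapHomologicalComplex _).map φ) =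
      ((Ψ.mapHomotopyEquiv E).toHomologyIso q).hom := ho'.homologyMap_eq q
  rw [heq]
  infer_instance

theorem isIso_edgeIn (Φ : A ⥤ B) [Φ.Additive] [Φ.PreservesInjectiveObjects]
    [PreservesFiniteLimits Φ] (Ψ : B ⥤ C) [Ψ.Additive] (X : A)
    (hvan : ∀ n, IsZero ((Φ.rightDerived (n + 1)).obj X)) (q : ℕ) :
    IsIso (RDer.edgeIn Φ Ψ q X) := by
  let I' : InjectiveResolution (Φ.obj X) :=
    mapRes Φ (injectiveResolution X) (fun n => Φ.injective_obj _) hvan
  have h := isIso_homologyMap_of_comm Ψ (injectiveResolution (Φ.obj X)) I'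
    (RDer.descToInjectives (𝟙 (Φ.obj X)) (injectiveResolution (Φ.obj X)).cocomplex
      (injectiveResolution (Φ.obj X)).ι
      ((Φ.mapHomologicalComplex _).obj (injectiveResolution X).cocomplex)
      (RDer.mapAug Φ (injectiveResolution X).ι))
    ((RDer.ι_descToInjectives_f_zero _ _ _ _ _).trans (Category.id_comp _)) q
  dsimp only [RDer.edgeIn]
  exact @IsIso.comp_isIso _ _ _ _ _ _ _ inferInstance (@IsIso.comp_isIso _ _ _ _ _ _ _ h inferInstance)

end Groth.Agent.Lib.Helper13.EdgeInIso
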