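import Groth.Agent.Lib.Helper13.QCohRpush
import Groth.Agent.Lib.Helper13.InjRestrSurj
import Groth.Agent.Lib.Helper2.RDBridge
import Groth.Prelude.Def_RDer
import Groth.Prelude.Def_CohBC2

/-!
# The second edge map `R^q (Φ ⋙ Ψ) X ⟶ Ψ (R^q Φ X)` is an isomorphism under acyclicity (helper13)

Abstract part: for a left exact functor `Ψ` and a cochain complex `K` whose terms and cohomology objects are
right `Ψ`-acyclic, `H^n (Ψ K) ⟶ Ψ (H^n K)` (`RDer.homologyComparison`) is an isomorphism.
Scheme part: `R^p (f ≫ g)_* M ⟶ g_* R^p f_* M` is an isomorphism for `f` qcqs, `g` affine, `M` quasi-coherent.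
-/

set_option autoImplicit false
set_option backward.isDefEq.respectTransparency false
universe u

namespace Groth.Agent.Lib.Helper13.EdgeOutIso

open CategoryTheory CategoryTheory.Limits
open Groth.Agent.Lib.Helper2.RDBridge

section Comparison

variable {B : Type*} [Category B] [Abelian B] {C : Type*} [Category C] [Abelian C]
  (Ψ : B ⥤ C) [Ψ.Additive] [PreservesFiniteLimits Ψ]
  {ι' : Type*} {c : ComplexShape ι'} (K : HomologicalComplex B c) (i : ι')

lemma isIso_cyclesComparison : IsIso (RDer.cyclesComparison Ψ K i) := by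
  haveI : Mono (Ψ.map (K.iCycles i)) := inferInstance
  have hd : Ψ.map (K.iCycles i) ≫ ((Ψ.mapHomologicalComplex c).obj K).d i (c.next i) = 0 := by
    rw [Functor.mapHomologicalComplex_obj_d, ← Ψ.map_comp, K.iCycles_d, Ψ.map_zero]
  refine ⟨⟨((Ψ.mapHomologicalComplex c).obj K).liftCycles (Ψ.map (K.iCycles i)) (c.next i) rfl hd,
    ?_, ?_⟩⟩
  · rw [← cancel_mono (((Ψ.mapHomologicalComplex c).obj K).iCycles i), Category.assoc,
      HomologicalComplex.liftCycles_i, RDer.cyclesComparison_i, Category.id_comp]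
  · rw [← cancel_mono (Ψ.map (K.iCycles i)), Category.assoc, RDer.cyclesComparison_i,
      HomologicalComplex.liftCycles_i, Category.id_comp]

/-- if `Ψ` keeps `K^j ⟶ Z^i ⟶ H^i ⟶ 0` exact, then `H^i (Ψ K) ⟶ Ψ (H^i K)` is an isomorphism. -/
theorem isIso_homologyComparison (j : ι') (hj : c.prev i = j)
    (w : Ψ.map (K.toCycles j i) ≫ Ψ.map (K.homologyπ i) = 0)
    (hex : (ShortComplex.mk (Ψ.map (K.toCycles j i)) (Ψ.map (K.homologyπ i)) w).Exact)
    (hepi : Epi (Ψ.map (K.homologyπ i))) : IsIso (RDer.homologyComparison Ψ K i) := by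
  subst hj
  haveI := isIso_cyclesComparison Ψ K i
  haveI := hepi
  have w' : ((Ψ.mapHomologicalComplex c).obj K).toCycles (c.prev i) i ≫
      (RDer.cyclesComparison Ψ K i ≫ Ψ.map (K.homologyπ i)) = 0 := by
    rw [RDer.toCycles_cyclesComparison_assoc, w]
  have hT : (ShortComplex.mk _ _ w').Exact := by
    refine (ShortComplex.exact_iff_of_iso ?_).2 hex
    refine ShortComplex.isoMk (Iso.refl _) (asIso (RDer.cyclesComparison Ψ K i)) (Iso.refl _) ?_ ?_
    · exact (Category.id_comp _).trans (RDer.toCycles_cyclesComparison Ψ K i).symm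
    · exact (Category.comp_id _).symm
  haveI : Epi (ShortComplex.mk _ _ w').g :=
    (inferInstance : Epi (RDer.cyclesComparison Ψ K i ≫ Ψ.map (K.homologyπ i)))
  let hK' := ((Ψ.mapHomologicalComplex c).obj K).homologyIsCokernel (c.prev i) i rfl
  have he : RDer.homologyComparison Ψ K i =
      (IsColimit.coconePointUniqueUpToIso hK' hT.gIsCokernel).hom := by
    apply Cofork.IsColimit.hom_ext hK'
    exact (RDer.homologyπ_homologyComparison Ψ K i).trans
      (IsColimit.comp_coconePointUniqueUpToIso_hom hK' hT.gIsCokernel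
        WalkingParallelPair.one).symm
  rw [he]
  infer_instance

end Comparison

section Nat

variable {B : Type*} [Category B] [Abelian B] (K : CochainComplex B ℕ)

/-- `0 ⟶ B^n ⟶ Z^n ⟶ H^n ⟶ 0`, with `B^n := ker (Z^n ⟶ H^n)`. -/
noncomputable def sb (n : ℕ) : ShortComplex B :=
  ShortComplex.mk (kernel.ι (K.homologyπ n)) (K.homologyπ n) (kernel.condition _)

lemma sb_shortExact (n : ℕ) : (sb K n).ShortExact :=
  { exact := ShortComplex.exact_of_f_is_kernel _ (kernelIsKernel _)
    mono_f := inferInstanceAs (Mono (kernel.ι (K.homologyπ n)))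
    epi_g := inferInstanceAs (Epi (K.homologyπ n)) }

/-- `K^n ⟶ B^{n+1}`. -/
noncomputable def e (n : ℕ) : K.X n ⟶ kernel (K.homologyπ (n + 1)) :=
  kernel.lift (K.homologyπ (n + 1)) (K.toCycles n (n + 1)) (K.toCycles_comp_homologyπ n (n + 1))

lemma e_ι (n : ℕ) : e K n ≫ kernel.ι (K.homologyπ (n + 1)) = K.toCycles n (n + 1) :=
  kernel.lift_ι _ _ _

lemma iCycles_e (n : ℕ) : K.iCycles n ≫ e K n = 0 := by
  rw [← cancel_mono (kernel.ι (K.homologyπ (n + 1))), Category.assoc, e_ι, zero_comp,
    ← cancel_mono (K.iCycles (n + 1)), Category.assoc, K.toCycles_i, K.iCycles_d, zero_comp]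

lemma epi_e (n : ℕ) : Epi (e K n) := by
  have hex : (ShortComplex.mk (K.toCycles n (n + 1)) (K.homologyπ (n + 1))
      (K.toCycles_comp_homologyπ n (n + 1))).Exact :=
    ShortComplex.exact_of_g_is_cokernel _ (K.homologyIsCokernel n (n + 1) (by simp))
  exact hex.epi_kernelLift

/-- `0 ⟶ Z^n ⟶ K^n ⟶ B^{n+1} ⟶ 0`. -/
noncomputable def sa (n : ℕ) : ShortComplex B :=
  ShortComplex.mk (K.iCycles n) (e K n) (iCycles_e K n)

lemma sa_shortExact (n : ℕ) : (sa K n).ShortExact := by
  have hlim : IsLimit (KernelFork.ofι (K.iCycles n) (iCycles_e K n)) :=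
    isKernelOfComp (f := e K n) (kernel.ι (K.homologyπ (n + 1)) ≫ K.iCycles (n + 1)) (K.d n (n + 1))
      (K.cyclesIsKernel n (n + 1) (by simp)) (iCycles_e K n)
      (by rw [← Category.assoc, e_ι, K.toCycles_i])
  exact
    { exact := ShortComplex.exact_of_f_is_kernel _ hlim
      mono_f := inferInstanceAs (Mono (K.iCycles n))
      epi_g := epi_e K n }

variable [EnoughInjectives B] {C : Type*} [Category C] [Abelian C]
  (Ψ : B ⥤ C) [Ψ.Additive]

lemma racyc_of_iso {X Y : B} (e : X ≅ Y) (h : RAcyc Ψ X) : RAcyc Ψ Y :=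
  fun i hi => IsZero.of_iso (h i hi) ((Ψ.rightDerived i).mapIso e.symm)

theorem racyc_cycles_bd (hK : ∀ n, RAcyc Ψ (K.X n)) (hH : ∀ n, RAcyc Ψ (K.homology n)) :
    ∀ n, RAcyc Ψ (K.cycles n) ∧ RAcyc Ψ (kernel (K.homologyπ n)) := by
  intro n
  induction n with
  | zero =>
    constructor
    · exact racyc_of_iso Ψ K.isoHomologyπ₀.symm (hH 0)
    · apply racyc_of_isZero
      haveI : IsIso (K.homologyπ 0) := K.isIso_homologyπ _ 0 rfl (by simp)
      exact isZero_kernel_of_mono _
  | succ n ih =>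
    have hb : RAcyc Ψ (kernel (K.homologyπ (n + 1))) :=
      racyc_X₃ Ψ (sa K n) (sa_shortExact K n) ih.1 (hK n)
    exact ⟨racyc_X₂ Ψ (sb K (n + 1)) (sb_shortExact K (n + 1)) hb (hH (n + 1)), hb⟩

variable [PreservesFiniteLimits Ψ]

/-- **Key abstract statement**: if the terms and the cohomology objects of `K` are right `Ψ`-acyclic then
`H^n (Ψ K) ⟶ Ψ (H^n K)` is an isomorphism. -/
theorem isIso_homologyComparison_of_racyc (hK : ∀ n, RAcyc Ψ (K.X n))
    (hH : ∀ n, RAcyc Ψ (K.homology n)) (n : ℕ) : IsIso (RDer.homologyComparison Ψ K n) := by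
  have hcb := racyc_cycles_bd K Ψ hK hH
  have h1 : ((sb K n).map Ψ).ShortExact :=
    shortExact_map_of_isZero Ψ (sb K n) (sb_shortExact K n) ((hcb n).2 1 Nat.one_pos)
  have hepi : Epi (Ψ.map (K.homologyπ n)) := h1.epi_g
  cases n with
  | zero =>
    have hz : K.toCycles 0 0 = 0 := K.toCycles_eq_zero (by simp)
    have w : Ψ.map (K.toCycles 0 0) ≫ Ψ.map (K.homologyπ 0) = 0 := by
      rw [hz, Ψ.map_zero, zero_comp]
    refine isIso_homologyComparison Ψ K 0 0 CochainComplex.prev_nat_zero w ?_ hepi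
    haveI : IsIso (K.homologyπ 0) := K.isIso_homologyπ _ 0 rfl (by simp)
    rw [ShortComplex.exact_iff_mono _ (by change Ψ.map (K.toCycles 0 0) = 0; rw [hz, Ψ.map_zero])]
    exact (inferInstance : Mono (Ψ.map (K.homologyπ 0)))
  | succ m =>
    have w : Ψ.map (K.toCycles m (m + 1)) ≫ Ψ.map (K.homologyπ (m + 1)) = 0 := by
      rw [← Ψ.map_comp, K.toCycles_comp_homologyπ, Ψ.map_zero]
    refine isIso_homologyComparison Ψ K (m + 1) m (CochainComplex.prev_nat_succ m) w ?_ hepi
    have h2 : ((sa K m).map Ψ).ShortExact :=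
      shortExact_map_of_isZero Ψ (sa K m) (sa_shortExact K m) ((hcb m).1 1 Nat.one_pos)
    let φ : ShortComplex.mk (Ψ.map (K.toCycles m (m + 1))) (Ψ.map (K.homologyπ (m + 1))) w ⟶
        (sb K (m + 1)).map Ψ :=
      { τ₁ := Ψ.map (e K m)
        τ₂ := 𝟙 _
        τ₃ := 𝟙 _
        comm₁₂ := by
          change Ψ.map (e K m) ≫ Ψ.map (kernel.ι (K.homologyπ (m + 1))) =
            Ψ.map (K.toCycles m (m + 1)) ≫ 𝟙 _
          rw [Category.comp_id, ← Ψ.map_comp, e_ι]
        comm₂₃ := by
          change 𝟙 _ ≫ Ψ.map (K.homologyπ (m + 1)) = Ψ.map (K.homologyπ (m + 1)) ≫ 𝟙 _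
          rw [Category.comp_id, Category.id_comp] }
    haveI : Epi φ.τ₁ := h2.epi_g
    haveI : IsIso φ.τ₂ := (inferInstance : IsIso (𝟙 _))
    haveI : Mono φ.τ₃ := (inferInstance : Mono (𝟙 _))
    exact (ShortComplex.exact_iff_of_epi_of_isIso_of_mono φ).2 h1.exact

end Nat

section Sch

open AlgebraicGeometry AlgebraicGeometry.Scheme.Modules TopologicalSpace
open Groth.Agent.Lib.Helper13 Groth.Agent.Lib.Helper2 Groth.Agent.Lib.Helper3

variable {X Y Z : Scheme.{u}} (f : X ⟶ Y) (g : Y ⟶ Z)

/-- direct images of injective modules are flasque. -/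
lemma isFlasque_push_of_injective (I : X.Modules) (hI : Injective I) :
    TopCat.Sheaf.IsFlasque (Coh.toAb ((pushforward f).obj I)) where
  epi {A B} i := by
    rw [AddCommGrpCat.epi_iff_surjective]
    haveI : Mono ((Opens.map f.base).map i.unop) := ⟨fun _ _ _ => Subsingleton.elim _ _⟩
    exact @InjRestrSurj.restriction_surjective _ _ _ X.ringCatSheaf I hI _ _
      ((Opens.map f.base).map i.unop) inferInstance

lemma racyc_push_of_isFlasque [EnoughInjectives Y.Modules] (N : Y.Modules)
    (hN : TopCat.Sheaf.IsFlasque (Coh.toAb N)) : RAcyc (pushforward g) N := by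
  intro i hi
  obtain ⟨k, rfl⟩ : ∃ k, i = k + 1 := ⟨i - 1, by omega⟩
  refine (RpushCompare.isZero_Rpush_iff g N (k + 1)).2 ?_
  exact LocallyZero.isZero_Rpush_of_basis g.base (Coh.toAb N) (k + 1) Set.univ
    (RpushCompare.isBasis_univ _)
    (fun B _ => Groth.Agent.Lib.Helper1.FlasqueAcyclic.flasque_HU_subsingleton (Coh.toAb N) _ k)

lemma racyc_push_of_qcoh [IsAffineHom g] [EnoughInjectives Y.Modules] (N : Y.Modules)
    [N.IsQuasicoherent] : RAcyc (pushforward g) N := by
  intro i hi
  obtain ⟨k, rfl⟩ : ∃ k, i = k + 1 := ⟨i - 1, by omega⟩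
  refine (RpushCompare.isZero_Rpush_iff g N (k + 1)).2 ?_
  exact LocallyZero.isZero_Rpush_of_basis g.base (Coh.toAb N) (k + 1) Z.affineOpens
    Z.isBasis_affineOpens
    (fun V hV => AffineVanish.subsingleton_HU_of_isAffineOpen N (IsAffineOpen.preimage hV g) k)

theorem isIso_edgeOut [QuasiCompact f] [QuasiSeparated f] [IsAffineHom g]
    [HasInjectiveResolutions X.Modules] (M : X.Modules) [M.IsQuasicoherent] (p : ℕ) :
    IsIso (RDer.edgeOut (pushforward f) (pushforward g) p M) := by
  haveI : EnoughInjectives Y.Modules := ModGrothendieck.enoughInjectives Y.ringCatSheaf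
  have hK : ∀ n, RAcyc (pushforward g)
      ((((pushforward f).mapHomologicalComplex _).obj (injectiveResolution M).cocomplex).X n) := by
    intro n
    exact racyc_push_of_isFlasque g _
      (isFlasque_push_of_injective f _ ((injectiveResolution M).injective n))
  have hH : ∀ n, RAcyc (pushforward g)
      ((((pushforward f).mapHomologicalComplex _).obj
        (injectiveResolution M).cocomplex).homology n) := by
    intro n
    haveI : (((pushforward f).rightDerived n).obj M).IsQuasicoherent :=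
      QCohRpush.isQuasicoherent_Rpush f M n
    exact racyc_of_iso _ ((injectiveResolution M).isoRightDerivedObj (pushforward f) n)
      (racyc_push_of_qcoh g _)
  haveI : IsIso (RDer.homologyComparison (pushforward g)
      (((pushforward f).mapHomologicalComplex _).obj (injectiveResolution M).cocomplex) p) :=
    isIso_homologyComparison_of_racyc _ (pushforward g) hK hH p
  unfold RDer.edgeOut
  infer_instance

theorem isIso_lerayEdgeOut [QuasiCompact f] [QuasiSeparated f] [IsAffineHom g]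
    [HasInjectiveResolutions X.Modules] (M : X.Modules) [M.IsQuasicoherent] (p : ℕ) :
    IsIso (CohBC.lerayEdgeOut f g p M) := by
  haveI := isIso_edgeOut f g M p
  unfold CohBC.lerayEdgeOut
  infer_instance

end Sch

end Groth.Agent.Lib.Helper13.EdgeOutIso
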