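import Groth.Agent.Lib.Helper13.EtSecPull
import Groth.Prelude.Def_EtBCD

/-!
# Helper13: `EtDesc.secPull` and the base change morphism `EtBC.baseChange0Sh`
-/

universe u
open CategoryTheory CategoryTheory.Limits Opposite AlgebraicGeometry

namespace Groth.Agent.Lib.Helper13
namespace EtSecPull

lemma map_eq_of_isTerminal {Z : Scheme.{u}} (A : EtDesc.Sh Z) {T V : Z.Etale} (hT : IsTerminal T)
    (m₁ m₂ : V ⟶ T) (x : A.obj.obj (op T)) : A.obj.map m₁.op x = A.obj.map m₂.op x := by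
  rw [hT.hom_ext m₁ m₂]

lemma collapse2 {Z : Scheme.{u}} (A : EtDesc.Sh Z) {T₀ T₁ T₂ : Z.Etale} (a₁ : T₁ ⟶ T₀) (a₂ : T₂ ⟶ T₁)
    (x : A.obj.obj (op T₀)) :
    A.obj.map a₂.op (A.obj.map a₁.op x) = A.obj.map (a₂ ≫ a₁).op x := by
  rw [op_comp, Functor.map_comp_apply]

lemma collapse5 {Z : Scheme.{u}} (A : EtDesc.Sh Z) {T₀ T₁ T₂ T₃ T₄ T₅ : Z.Etale} (a₁ : T₁ ⟶ T₀)
    (a₂ : T₂ ⟶ T₁) (a₃ : T₃ ⟶ T₂) (a₄ : T₄ ⟶ T₃) (a₅ : T₅ ⟶ T₄) (x : A.obj.obj (op T₀)) :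
    A.obj.map a₅.op (A.obj.map a₄.op (A.obj.map a₃.op (A.obj.map a₂.op (A.obj.map a₁.op x)))) =
      A.obj.map (a₅ ≫ a₄ ≫ a₃ ≫ a₂ ≫ a₁).op x := by
  simp only [op_comp, Functor.map_comp_apply]

lemma secPull_baseChange {X Y Xb Yb : Scheme.{u}} (h : Y ⟶ X) (p : Xb ⟶ X) (hb : Yb ⟶ Xb) (pY : Yb ⟶ Y)
    (w : hb ≫ p = pY ≫ h) (Fb : EtDesc.Sh Xb) (s : EtDesc.sect ((EtDesc.pushSh p).obj Fb) (EtCoh.top X)) :
    EtDesc.secPull hb Fb (Fb.obj.map (EtCore.bcTopIso p).inv.op s) =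
      ((EtDesc.pullSh hb).obj Fb).obj.map (EtCore.bcTopIso pY).inv.op
        ((EtBC.baseChange0Sh p h pY hb w Fb).hom.app (op (EtCoh.top Y))
          (EtDesc.secPull h ((EtDesc.pushSh p).obj Fb) s)) := by
  have hβ : (EtDesc.adjSh h).unit.app ((EtDesc.pushSh p).obj Fb) ≫
      (EtDesc.pushSh h).map (EtBC.baseChange0Sh p h pY hb w Fb) =
      (EtDesc.pushSh p).map ((EtDesc.adjSh hb).unit.app Fb) ≫ (EtDesc.pushCompSh p hb).hom.app _ ≫
      (EtBC.pushCongrSh w).hom.app _ ≫ (EtDesc.pushCompSh h pY).inv.app _ := by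
    unfold EtBC.baseChange0Sh
    exact ((EtDesc.adjSh h).homEquiv_unit _ _ _).symm.trans (Equiv.apply_symm_apply _ _)
  have hβ' := congrArg (fun α => α.hom.app (op (EtCoh.top X)) s) hβ
  have hterm : IsTerminal ((EtCoh.bc hb).obj ((EtCoh.bc p).obj (EtCoh.top X))) :=
    IsTerminal.isTerminalObj (EtCoh.bc hb) _ (EtCore.bcTopIsTerminal p)
  have n1 : ∀ {U V : Xb.Etaleᵒᵖ} (a : U ⟶ V) (x : Fb.obj.obj U),
      ((EtDesc.adjSh hb).unit.app Fb).hom.app V (Fb.obj.map a x) =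
        ((EtDesc.pushSh hb).obj ((EtDesc.pullSh hb).obj Fb)).obj.map a
          (((EtDesc.adjSh hb).unit.app Fb).hom.app U x) :=
    fun a x => sh_hom_nat ((EtDesc.adjSh hb).unit.app Fb) a x
  unfold EtDesc.secPull
  rw [n1, sh_hom_nat (EtBC.baseChange0Sh p h pY hb w Fb)]
  set A := (EtDesc.pullSh hb).obj Fb with hA
  set x₀ := ((EtDesc.adjSh hb).unit.app Fb).hom.app (op ((EtCoh.bc p).obj (EtCoh.top X))) s with hx₀
  have hβ'' : (EtBC.baseChange0Sh p h pY hb w Fb).hom.app (op ((EtCoh.bc h).obj (EtCoh.top X)))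
      (((EtDesc.adjSh h).unit.app ((EtDesc.pushSh p).obj Fb)).hom.app (op (EtCoh.top X)) s) =
      A.obj.map (((MorphismProperty.Over.pullbackComp (P := EtCoh.etaleMP) (Q := ⊤) pY h).symm).hom.app
          (EtCoh.top X)).op
        (A.obj.map ((MorphismProperty.Over.pullbackCongr (P := EtCoh.etaleMP) (Q := ⊤) w).inv.app
            (EtCoh.top X)).op
          (A.obj.map (((MorphismProperty.Over.pullbackComp (P := EtCoh.etaleMP) (Q := ⊤) hb p).symm).inv.app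
            (EtCoh.top X)).op x₀)) := hβ'
  rw [hβ'']
  change A.obj.map _ (A.obj.map ((EtCoh.bc hb).map (EtCore.bcTopIso p).inv).op x₀) =
    A.obj.map _ (A.obj.map ((EtCoh.bc pY).map (EtCore.bcTopIso h).inv).op _)
  refine (collapse2 A _ _ x₀).trans (Eq.trans ?_ (collapse5 A _ _ _ _ _ x₀).symm)
  exact map_eq_of_isTerminal A hterm _ _ x₀

/-- An isomorphism of sheaves of sets is bijective on sections. -/
lemma bijective_of_isIso {X : Scheme.{u}} {F G : EtDesc.Sh X} (φ : F ⟶ G) [IsIso φ] (U : X.Etaleᵒᵖ) :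
    Function.Bijective (φ.hom.app U) := by
  have : IsIso ((secF X U.unop).map φ) := inferInstance
  exact (isIso_iff_bijective ((secF X U.unop).map φ)).mp this

/-- Restriction along an isomorphism is bijective. -/
lemma bijective_map_iso {X : Scheme.{u}} (F : EtDesc.Sh X) {U V : X.Etale} (e : U ≅ V) :
    Function.Bijective (F.obj.map e.inv.op) := by
  have : IsIso (F.obj.map e.inv.op) := inferInstance
  exact (isIso_iff_bijective (F.obj.map e.inv.op)).mp this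

end EtSecPull
end Groth.Agent.Lib.Helper13
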