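import Groth.Agent.Lib.Helper13.ExtZeroExact
import Groth.Prelude.Def_EtShriek2

/-!
# Helper13: restriction to an etale `U → X` is the inverse image; open immersions

For etale `j : U → X`:
* `adjSites j : compEtale j ⊣ bc j` (composition with `j` is left adjoint to base change);
* `restrPushAdj j : restrAlong j ⊣ push j`;
* `pullIsoRestr j : pull j ≅ restrAlong j`;
* `restrAlong j` and `pull j` preserve injective objects.
For a monomorphism `j` (e.g. an open immersion) moreover `push j` and `extZero j` are fully
faithful (`isIso_counit_pullPush`, `isIso_unit_extZero`).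
-/

set_option autoImplicit false
open CategoryTheory CategoryTheory.Limits AlgebraicGeometry Opposite

namespace Groth.Agent.Lib.Helper13.EtaleRestr

universe u

variable {U X : Scheme.{u}} (j : U ⟶ X) [hj : AlgebraicGeometry.Etale j]

/-- Composition with an etale `j` is left adjoint to base change along `j` on small etale sites. -/
noncomputable def adjSites : EtShriek.compEtale j ⊣ EtCoh.bc j :=
  MorphismProperty.Over.mapPullbackAdj EtCoh.etaleMP.{u} ⊤ j hj trivial

variable [EtShriek.JCont j]

/-- `j^{-1}` (restriction) is left adjoint to `j_*`. -/
noncomputable def restrPushAdj : EtShriek.restrAlong j ⊣ EtCoh.push j :=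
  (adjSites j).sheafPushforwardContinuous (E := AddCommGrpCat.{u + 1}) U.smallEtaleTopology
    X.smallEtaleTopology

/-- The inverse image along an etale morphism is restriction. -/
noncomputable def pullIsoRestr : EtCoh.pull j ≅ EtShriek.restrAlong j :=
  (EtCoh.pullPushAdj j).leftAdjointUniq (restrPushAdj j)

open Groth.Agent.Lib.Helper13.ExtZeroExact in
instance restrAlong_preservesInjectiveObjects : (EtShriek.restrAlong j).PreservesInjectiveObjects :=
  Functor.preservesInjectiveObjects_of_adjunction_of_preservesMonomorphisms
    (EtShriek.extZeroAdj j)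

instance pull_preservesInjectiveObjects : (EtCoh.pull j).PreservesInjectiveObjects where
  injective_obj {I} hI :=
    Injective.of_iso ((pullIsoRestr j).app I).symm
      ((EtShriek.restrAlong j).injective_obj_of_injective hI)

set_option backward.isDefEq.respectTransparency.types false in
/-- Restriction along a surjective etale morphism is faithful. -/
instance restrAlong_faithful [Surjective j] : (EtShriek.restrAlong j).Faithful where
  map_injective {F G} a b hab := by
    apply ObjectProperty.hom_ext
    ext V : 2
    induction V using Opposite.rec with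
    | _ V =>
      have hc : Sieve.ofArrows (fun _ : PUnit.{1} => (EtShriek.compEtale j).obj ((EtCoh.bc j).obj V))
          (fun _ => (adjSites j).counit.app V) ∈ X.smallEtaleTopology V := by
        rw [Scheme.ofArrows_mem_smallEtaleTopology_iff]
        ext x
        simp only [Set.mem_iUnion, Set.mem_range, Set.mem_univ, iff_true]
        obtain ⟨y, hy⟩ := (inferInstance : Surjective (pullback.fst V.hom j)).surj x
        exact ⟨PUnit.unit, y, hy⟩
      refine G.property.hom_ext_ofArrows _ hc (fun _ => ?_)
      rw [← a.hom.naturality, ← b.hom.naturality]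
      congr 1
      exact congr_app (congrArg (fun m => m.hom) hab) (op ((EtCoh.bc j).obj V))

/-- For a surjective etale `j`, the counit `j_! j^{-1} F ⟶ F` is an epimorphism. -/
instance epi_counit_extZero [Surjective j] (F : EtCoh.Ab X) :
    Epi ((EtShriek.extZeroAdj j).counit.app F) := inferInstance

section Mono

variable [Mono j]

instance isIso_unit_adjSites : IsIso (adjSites j).unit := inferInstance

/-- For a monomorphism `j`, `j^{-1} j_* ≅ id`. -/
noncomputable def pushRestrIso : EtCoh.push j ⋙ EtShriek.restrAlong j ≅ 𝟭 (EtCoh.Ab U) :=
  letI := Functor.isContinuous_comp (EtShriek.compEtale j) (EtCoh.bc j) U.smallEtaleTopology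
    X.smallEtaleTopology U.smallEtaleTopology
  Functor.sheafPushforwardContinuousComp (EtShriek.compEtale j) (EtCoh.bc j) AddCommGrpCat.{u + 1}
      U.smallEtaleTopology X.smallEtaleTopology U.smallEtaleTopology ≪≫
    Functor.sheafPushforwardContinuousId' (asIso (adjSites j).unit).symm AddCommGrpCat.{u + 1}
      U.smallEtaleTopology

instance isIso_counit_restrPush : IsIso (restrPushAdj j).counit :=
  (restrPushAdj j).isIso_counit_of_iso (pushRestrIso j)

instance push_full : (EtCoh.push j).Full :=
  ((restrPushAdj j).fullyFaithfulROfIsIsoCounit).full

instance push_faithful : (EtCoh.push j).Faithful :=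
  ((restrPushAdj j).fullyFaithfulROfIsIsoCounit).faithful

/-- For a monomorphism `j`, the counit `j^{-1} j_* F ⟶ F` is an isomorphism. -/
instance isIso_counit_pullPush : IsIso (EtCoh.pullPushAdj j).counit := inferInstance

/-- For a monomorphism `j`, the unit `F ⟶ j^{-1} j_! F` is an isomorphism. -/
instance isIso_unit_extZero : IsIso (EtShriek.extZeroAdj j).unit :=
  (Adjunction.Triple.isIso_unit_iff_isIso_counit
    (⟨EtShriek.extZeroAdj j, restrPushAdj j⟩ : Adjunction.Triple _ _ _)).2 inferInstance

instance extZero_full : (EtShriek.extZero j).Full :=
  ((EtShriek.extZeroAdj j).fullyFaithfulLOfIsIsoUnit).full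

instance extZero_faithful : (EtShriek.extZero j).Faithful :=
  ((EtShriek.extZeroAdj j).fullyFaithfulLOfIsIsoUnit).faithful

end Mono

end Groth.Agent.Lib.Helper13.EtaleRestr
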