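import Mathlib
import Groth.Prelude.Def_EtOpen
import Groth.Agent.Lib.Helper13.EtaleRestr

set_option linter.style.haveILetI false
set_option autoImplicit false

/-!
# The representable presheaf of an open subscheme on the small etale site is a sheaf
-/

universe u

open CategoryTheory CategoryTheory.Limits AlgebraicGeometry Opposite

namespace Groth.Agent.Lib.Helper13.EtOpenOverA

variable {X : Scheme.{u}} (U : X.Opens)

instance subsingleton_hom (W : X.Etale) : Subsingleton (W ⟶ EtDesc.ofOpen U) := by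
  constructor
  intro a b
  apply MorphismProperty.Over.Hom.ext
  have ha := Over.w a.hom
  have hb := Over.w b.hom
  haveI : Mono (EtDesc.ofOpen U).hom := inferInstanceAs (Mono U.ι)
  exact (cancel_mono (EtDesc.ofOpen U).hom).1 (ha.trans hb.symm)

/-- A morphism to the open subscheme exists as soon as it exists locally for a covering sieve. -/
theorem nonempty_hom_of_covering (W : X.Etale) (S : Sieve W) (hS : S ∈ X.smallEtaleTopology W)
    (h : ∀ ⦃Z : X.Etale⦄ (f : Z ⟶ W), S f → Nonempty (Z ⟶ EtDesc.ofOpen U)) :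
    Nonempty (W ⟶ EtDesc.ofOpen U) := by
  obtain ⟨𝒰, h𝒰, hp, hle⟩ := (Scheme.mem_smallGrothendieckTopology (P := @Etale) W S).1 hS
  have hrange : Set.range W.hom ⊆ Set.range U.ι := by
    rintro _ ⟨w, rfl⟩
    obtain ⟨i, z, rfl⟩ := 𝒰.exists_eq w
    have hSi : S ((𝒰.f i).asOverProp X) := hle _ _ ⟨i⟩
    obtain ⟨t⟩ := h _ hSi
    have ht : t.left ≫ U.ι = ((𝒰.X i).asOverProp X (hp i)).hom := Over.w t.hom
    have hfi : 𝒰.f i ≫ W.hom = ((𝒰.X i).asOverProp X (hp i)).hom :=
      Over.w ((𝒰.f i).asOverProp X).hom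
    refine ⟨t.left z, ?_⟩
    exact congrArg (fun m => m z) (ht.trans hfi.symm)
  obtain ⟨l, hl⟩ : ∃ l : W.left ⟶ (U : Scheme.{u}), l ≫ U.ι = W.hom :=
    ⟨IsOpenImmersion.lift U.ι W.hom hrange, IsOpenImmersion.lift_fac _ _ _⟩
  exact ⟨MorphismProperty.Over.homMk l hl trivial⟩

end Groth.Agent.Lib.Helper13.EtOpenOverA
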