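import Mathlib

set_option linter.style.haveILetI false
set_option autoImplicit false

/-!
# Sheaves over a subterminal representable sheaf and sheaves on the "open subsite"

Abstract site-theoretic form of: sheaves on `X` over `U~` are sheaves on `U`.
-/

universe u

open CategoryTheory CategoryTheory.Limits Opposite

namespace Groth.Agent.Lib.Helper13.EtOpenOverB

variable {C : Type (u + 1)} [Category.{u} C] {D : Type (u + 1)} [Category.{u} D]
  (J : GrothendieckTopology C)
  {c : D ⥤ C} {b : C ⥤ D} (adj : c ⊣ b) (T : C)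

/-- The hypotheses on the "open" object `T`. -/
structure Hyp : Prop where
  sub : ∀ W : C, Subsingleton (W ⟶ T)
  isoCounit : ∀ W : C, Nonempty (W ⟶ T) → IsIso (adj.counit.app W)
  isoUnit : ∀ V : D, IsIso (adj.unit.app V)
  homC : ∀ V : D, Nonempty (c.obj V ⟶ T)
  glue : ∀ (W : C) (S : Sieve W), S ∈ J W →
    (∀ ⦃Z : C⦄ (f : Z ⟶ W), S f → Nonempty (Z ⟶ T)) → Nonempty (W ⟶ T)

variable {J adj T}

theorem isSheaf_yT (h : Hyp J adj T) :
    Presheaf.IsSheaf J (yoneda.obj T ⋙ uliftFunctor.{u + 1, u}) := by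
  rw [isSheaf_iff_isSheaf_of_type]
  intro W S hS x hx
  haveI := h.sub
  obtain ⟨t⟩ : Nonempty (W ⟶ T) := h.glue W S hS (fun Z f hf => ⟨(x f hf).down⟩)
  refine ⟨⟨t⟩, ?_, ?_⟩
  · intro Z f hf
    exact ULift.ext _ _ (Subsingleton.elim _ _)
  · intro y _
    exact ULift.ext _ _ (Subsingleton.elim _ _)

/-- The representable sheaf of `T`. -/
def shT (h : Hyp J adj T) : Sheaf J (Type (u + 1)) :=
  ⟨yoneda.obj T ⋙ uliftFunctor.{u + 1, u}, isSheaf_yT h⟩

lemma bijective_map_counit (h : Hyp J adj T) (G : Cᵒᵖ ⥤ Type (u + 1)) (W : C)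
    (t : Nonempty (W ⟶ T)) : Function.Bijective (G.map (adj.counit.app W).op) := by
  haveI := h.isoCounit W t
  exact (isIso_iff_bijective _).1 inferInstance

lemma map_counit_comm (G : Cᵒᵖ ⥤ Type (u + 1)) {W' W : C} (g : W' ⟶ W) (y : G.obj (op W)) :
    G.map (adj.counit.app W').op (G.map g.op y) =
      G.map (c.map (b.map g)).op (G.map (adj.counit.app W).op y) := by
  have e : g.op ≫ (adj.counit.app W').op = (adj.counit.app W).op ≫ (c.map (b.map g)).op :=
    congrArg Quiver.Hom.op (adj.counit_naturality g).symm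
  calc G.map (adj.counit.app W').op (G.map g.op y)
      = G.map (g.op ≫ (adj.counit.app W').op) y := (Functor.map_comp_apply G _ _ y).symm
    _ = G.map ((adj.counit.app W).op ≫ (c.map (b.map g)).op) y :=
        congrArg (fun m => G.map m y) e
    _ = _ := Functor.map_comp_apply G _ _ y

lemma map_tri (G : Cᵒᵖ ⥤ Type (u + 1)) (V : D) (y : G.obj (op (c.obj V))) :
    G.map (c.map (adj.unit.app V)).op (G.map (adj.counit.app (c.obj V)).op y) = y := by
  have e : (adj.counit.app (c.obj V)).op ≫ (c.map (adj.unit.app V)).op = 𝟙 (op (c.obj V)) :=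
    congrArg Quiver.Hom.op (adj.left_triangle_components V)
  calc G.map (c.map (adj.unit.app V)).op (G.map (adj.counit.app (c.obj V)).op y)
      = G.map ((adj.counit.app (c.obj V)).op ≫ (c.map (adj.unit.app V)).op) y :=
        (Functor.map_comp_apply G _ _ y).symm
    _ = G.map (𝟙 (op (c.obj V))) y := congrArg (fun m => G.map m y) e
    _ = y := Functor.map_id_apply G _ y

variable {F F' : Cᵒᵖ ⥤ Type (u + 1)}

/-- Extension of a morphism of restricted presheaves, sectionwise. -/
noncomputable def extApp (h : Hyp J adj T)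
    (p : F ⟶ yoneda.obj T ⋙ uliftFunctor.{u + 1, u})
    (γ : c.op ⋙ F ⟶ c.op ⋙ F') (W : C) (s : F.obj (op W)) : F'.obj (op W) :=
  haveI := h.isoCounit W ⟨(p.app (op W) s).down⟩
  F'.map (inv (adj.counit.app W)).op (γ.app (op (b.obj W)) (F.map (adj.counit.app W).op s))

lemma map_counit_extApp (h : Hyp J adj T)
    (p : F ⟶ yoneda.obj T ⋙ uliftFunctor.{u + 1, u})
    (γ : c.op ⋙ F ⟶ c.op ⋙ F') (W : C) (s : F.obj (op W)) :
    F'.map (adj.counit.app W).op (extApp h p γ W s) =
      γ.app (op (b.obj W)) (F.map (adj.counit.app W).op s) := by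
  haveI := h.isoCounit W ⟨(p.app (op W) s).down⟩
  unfold extApp
  rw [← Functor.map_comp_apply, ← op_comp, IsIso.hom_inv_id, op_id, Functor.map_id_apply]

lemma extApp_naturality (h : Hyp J adj T)
    (p : F ⟶ yoneda.obj T ⋙ uliftFunctor.{u + 1, u})
    (γ : c.op ⋙ F ⟶ c.op ⋙ F') {W' W : C} (g : W' ⟶ W) (s : F.obj (op W)) :
    extApp h p γ W' (F.map g.op s) = F'.map g.op (extApp h p γ W s) := by
  apply (bijective_map_counit h F' W' ⟨(p.app (op W') (F.map g.op s)).down⟩).1
  rw [map_counit_extApp, map_counit_comm, map_counit_comm, map_counit_extApp]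
  exact NatTrans.naturality_apply γ (b.map g).op _

lemma extApp_c (h : Hyp J adj T)
    (p : F ⟶ yoneda.obj T ⋙ uliftFunctor.{u + 1, u})
    (γ : c.op ⋙ F ⟶ c.op ⋙ F') (V : D) (s : F.obj (op (c.obj V))) :
    extApp h p γ (c.obj V) s = γ.app (op V) s := by
  have h1 := map_counit_extApp h p γ (c.obj V) s
  have h2 := congrArg (F'.map (c.map (adj.unit.app V)).op) h1
  rw [map_tri] at h2
  rw [h2]
  have h3 := NatTrans.naturality_apply γ (adj.unit.app V).op
    (F.map (adj.counit.app (c.obj V)).op s)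
  refine h3.symm.trans ?_
  exact congrArg (γ.app (op V)) (map_tri F V s)

/-- The extension as a natural transformation. -/
noncomputable def extNat (h : Hyp J adj T)
    (p : F ⟶ yoneda.obj T ⋙ uliftFunctor.{u + 1, u})
    (γ : c.op ⋙ F ⟶ c.op ⋙ F') : F ⟶ F' where
  app W := ↾(extApp h p γ W.unop)
  naturality W W' g := by
    apply ConcreteCategory.hom_ext
    intro s
    exact extApp_naturality h p γ g.unop s

end Groth.Agent.Lib.Helper13.EtOpenOverB
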