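import Mathlib
import Groth.Agent.Lib.Helper13.EtOpenOverB

set_option linter.style.haveILetI false
set_option autoImplicit false

/-!
# Sheaves over a subterminal representable sheaf: the equivalence (abstract site form)
-/

universe u

open CategoryTheory CategoryTheory.Limits Opposite

namespace Groth.Agent.Lib.Helper13.EtOpenOverC

open Groth.Agent.Lib.Helper13.EtOpenOverB

variable {C : Type (u + 1)} [Category.{u} C] {D : Type (u + 1)} [Category.{u} D]
  (J : GrothendieckTopology C) (K : GrothendieckTopology D)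
  {c : D ⥤ C} {b : C ⥤ D} {adj : c ⊣ b} {T : C}
  [c.IsContinuous K J] [b.IsContinuous J K]

lemma yT_subsingleton (h : Hyp J adj T) (W : Cᵒᵖ) :
    Subsingleton ((yoneda.obj T ⋙ uliftFunctor.{u + 1, u}).obj W) := by
  haveI := h.sub W.unop
  exact ⟨fun a b => ULift.ext _ _ (Subsingleton.elim _ _)⟩

theorem faithful (h : Hyp J adj T) :
    (Over.forget (shT h) ⋙ c.sheafPushforwardContinuous (Type (u + 1)) K J).Faithful := by
  constructor
  intro A B φ ψ hφψ
  apply Over.OverMorphism.ext
  apply Sheaf.hom_ext
  apply NatTrans.ext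
  funext W
  apply ConcreteCategory.hom_ext
  intro s
  have hb := bijective_map_counit h B.left.obj W.unop
    ⟨ULift.down (α := W.unop ⟶ T) (A.hom.hom.app W s)⟩
  apply hb.1
  have h1 : (φ.left.hom.app (op (c.obj (b.obj W.unop))))
        (A.left.obj.map (adj.counit.app W.unop).op s) =
      (ψ.left.hom.app (op (c.obj (b.obj W.unop))))
        (A.left.obj.map (adj.counit.app W.unop).op s) :=
    congrArg (fun m => m.hom.app (op (b.obj W.unop))
      (A.left.obj.map (adj.counit.app W.unop).op s)) hφψ
  exact (NatTrans.naturality_apply φ.left.hom (adj.counit.app W.unop).op s).symm.trans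
    (h1.trans (NatTrans.naturality_apply ψ.left.hom (adj.counit.app W.unop).op s))

theorem full (h : Hyp J adj T) :
    (Over.forget (shT h) ⋙ c.sheafPushforwardContinuous (Type (u + 1)) K J).Full := by
  constructor
  intro A B γ
  let φ₀ : A.left ⟶ B.left := ObjectProperty.homMk (extNat h A.hom.hom γ.hom)
  refine ⟨Over.homMk φ₀ ?_, ?_⟩
  · apply Sheaf.hom_ext
    apply NatTrans.ext
    funext W
    apply ConcreteCategory.hom_ext
    intro s
    exact (yT_subsingleton J h W).elim _ _
  · apply Sheaf.hom_ext
    apply NatTrans.ext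
    funext V
    apply ConcreteCategory.hom_ext
    intro s
    exact extApp_c h A.hom.hom γ.hom V.unop s

/-- Sections of `j_* G` over objects mapping to `T`. -/
def Θ (T : C) (b : C ⥤ D) (G : Dᵒᵖ ⥤ Type (u + 1)) : Subfunctor (b.op ⋙ G) where
  obj W := {_s | Nonempty (W.unop ⟶ T)}
  map {W W'} g := by
    rintro s ⟨t⟩
    exact ⟨g.unop ≫ t⟩

theorem isSheaf_Θ (h : Hyp J adj T) (G : Sheaf K (Type (u + 1))) :
    Presheaf.IsSheaf J (Θ T b G.obj).toFunctor := by
  rw [isSheaf_iff_isSheaf_of_type]
  have hP : Presieve.IsSheaf J (b.op ⋙ G.obj) :=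
    (isSheaf_iff_isSheaf_of_type _ _).1
      ((b.sheafPushforwardContinuous (Type (u + 1)) J K).obj G).property
  rw [Subfunctor.isSheaf_iff _ hP]
  intro W s hs
  exact h.glue W.unop _ hs (fun Z f hf => hf)

/-- The sheaf `j_! G` (as a subsheaf of `j_* G`). -/
def FΘ (h : Hyp J adj T) (G : Sheaf K (Type (u + 1))) : Sheaf J (Type (u + 1)) :=
  ⟨(Θ T b G.obj).toFunctor, isSheaf_Θ J K h G⟩

/-- The structure map to the representable sheaf of `T`. -/
noncomputable def toT (h : Hyp J adj T) (G : Sheaf K (Type (u + 1))) :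
    FΘ J K h G ⟶ shT h :=
  ObjectProperty.homMk
    { app := fun W => ↾(fun s => ULift.up (Classical.choice (show Nonempty (W.unop ⟶ T) from s.2)))
      naturality := by
        intro W W' g
        apply ConcreteCategory.hom_ext
        intro s
        exact (yT_subsingleton J h W').elim _ _ }

/-- Restriction of `j_! G` is `G`. -/
def resHom (adj : c ⊣ b) (T : C) (G : Dᵒᵖ ⥤ Type (u + 1)) :
    c.op ⋙ (Θ T b G).toFunctor ⟶ G where
  app V := ↾(fun s => G.map (adj.unit.app V.unop).op s.1)
  naturality V V' g := by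
    apply ConcreteCategory.hom_ext
    intro s
    have e : (b.map (c.map g.unop)).op ≫ (adj.unit.app V'.unop).op =
        (adj.unit.app V.unop).op ≫ g :=
      congrArg Quiver.Hom.op (adj.unit_naturality g.unop)
    change G.map (adj.unit.app V'.unop).op (G.map (b.map (c.map g.unop)).op s.1) =
      G.map g (G.map (adj.unit.app V.unop).op s.1)
    calc G.map (adj.unit.app V'.unop).op (G.map (b.map (c.map g.unop)).op s.1)
        = G.map ((b.map (c.map g.unop)).op ≫ (adj.unit.app V'.unop).op) s.1 :=
          (Functor.map_comp_apply G _ _ s.1).symm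
      _ = G.map ((adj.unit.app V.unop).op ≫ g) s.1 := congrArg (fun m => G.map m s.1) e
      _ = _ := Functor.map_comp_apply G _ _ s.1

theorem isIso_resHom (h : Hyp J adj T) (G : Dᵒᵖ ⥤ Type (u + 1)) :
    IsIso (resHom adj T G) := by
  haveI : ∀ V, IsIso ((resHom adj T G).app V) := by
    intro V
    haveI := h.isoUnit V.unop
    have hb : Function.Bijective (G.map (adj.unit.app V.unop).op) :=
      (isIso_iff_bijective _).1 inferInstance
    rw [isIso_iff_bijective]
    constructor
    · intro s s' hss
      exact Subtype.ext (hb.1 hss)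
    · intro x
      obtain ⟨y, hy⟩ := hb.2 x
      exact ⟨⟨y, h.homC V.unop⟩, hy⟩
  exact NatIso.isIso_of_isIso_app _

theorem essSurj (h : Hyp J adj T) :
    (Over.forget (shT h) ⋙ c.sheafPushforwardContinuous (Type (u + 1)) K J).EssSurj := by
  constructor
  intro G
  haveI := isIso_resHom J h G.obj
  let e : c.op ⋙ (Θ T b G.obj).toFunctor ≅ G.obj := asIso (resHom adj T G.obj)
  exact ⟨Over.mk (toT J K h G), ⟨(fullyFaithfulSheafToPresheaf K _).preimageIso e⟩⟩

theorem isEquivalence (h : Hyp J adj T) :
    (Over.forget (shT h) ⋙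
      c.sheafPushforwardContinuous (Type (u + 1)) K J).IsEquivalence := by
  haveI := faithful J K h
  haveI := full J K h
  haveI := essSurj J K h
  exact {}

end Groth.Agent.Lib.Helper13.EtOpenOverC
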