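import Mathlib
import Groth.Prelude.Def_EtOpen
import Groth.Agent.Lib.Helper13.EtaleRestr
import Groth.Agent.Lib.Helper13.EtOpenOverA
import Groth.Agent.Lib.Helper13.EtOpenOverC

set_option linter.style.haveILetI false
set_option autoImplicit false

/-!
# Sheaves on the small etale site of `X` over `U~` are sheaves on `U` (open `U ⊆ X`)
-/

universe u

open CategoryTheory CategoryTheory.Limits AlgebraicGeometry Opposite

namespace Groth.Agent.Lib.Helper13.EtOpenOverD

open Groth.Agent.Lib.Helper13.EtOpenOverA Groth.Agent.Lib.Helper13.EtOpenOverB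
  Groth.Agent.Lib.Helper13.EtOpenOverC Groth.Agent.Lib.Helper13.ExtZeroExact

lemma isIso_fst_of_factors {E : Type*} [Category E] {A B Y : E} (f : A ⟶ Y) (j : B ⟶ Y)
    [Mono j] [HasPullback f j] (l : A ⟶ B) (hl : l ≫ j = f) : IsIso (pullback.fst f j) := by
  refine ⟨pullback.lift (𝟙 _) l (by rw [Category.id_comp, hl]), ?_, ?_⟩
  · apply pullback.hom_ext
    · rw [Category.assoc, pullback.lift_fst, Category.comp_id, Category.id_comp]
    · rw [← cancel_mono j]
      rw [Category.assoc, Category.assoc, pullback.lift_snd_assoc, hl, Category.id_comp,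
        pullback.condition]
  · rw [pullback.lift_fst]

variable {X : Scheme.{u}} (U : X.Opens)

theorem hyp : Hyp X.smallEtaleTopology (EtaleRestr.adjSites U.ι) (EtDesc.ofOpen U) where
  sub W := subsingleton_hom U W
  isoCounit := by
    rintro W ⟨t⟩
    have ht : t.left ≫ U.ι = W.hom := Over.w t.hom
    haveI : IsIso (pullback.fst W.hom U.ι) := isIso_fst_of_factors W.hom U.ι t.left ht
    haveI : IsIso ((Scheme.Etale.forget X ⋙ Over.forget X).map
        ((EtaleRestr.adjSites U.ι).counit.app W)) :=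
      inferInstanceAs (IsIso (pullback.fst W.hom U.ι))
    exact isIso_of_reflects_iso _ (Scheme.Etale.forget X ⋙ Over.forget X)
  isoUnit V := inferInstance
  homC V := by
    obtain ⟨l, hl⟩ : ∃ l : ((EtShriek.compEtale U.ι).obj V).left ⟶ (EtDesc.ofOpen U).left,
        l ≫ (EtDesc.ofOpen U).hom = ((EtShriek.compEtale U.ι).obj V).hom := ⟨V.hom, rfl⟩
    exact ⟨MorphismProperty.Over.homMk l hl trivial⟩
  glue W S hS hloc := nonempty_hom_of_covering U W S hS hloc

theorem main : (Over.forget (EtDesc.repSh (EtDesc.ofOpen U)) ⋙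
    EtDesc.pullSh U.ι).IsEquivalence := by
  have h := hyp U
  let r := (EtShriek.compEtale U.ι).sheafPushforwardContinuous (Type (u + 1))
    U.toScheme.smallEtaleTopology X.smallEtaleTopology
  have rpAdj : r ⊣ EtDesc.pushSh U.ι :=
    (EtaleRestr.adjSites U.ι).sheafPushforwardContinuous (E := Type (u + 1)) _ _
  let e1 : EtDesc.pullSh U.ι ≅ r := (EtDesc.adjSh U.ι).leftAdjointUniq rpAdj
  let e2 : shT h ≅ EtDesc.repSh (EtDesc.ofOpen U) := sheafificationIso (shT h)
  haveI := EtOpenOverC.isEquivalence X.smallEtaleTopology U.toScheme.smallEtaleTopology h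
  haveI : (Over.map e2.inv ⋙ (Over.forget (shT h) ⋙ r)).IsEquivalence := inferInstance
  have e3 : Over.map e2.inv ⋙ (Over.forget (shT h) ⋙ r) ≅
      Over.forget (EtDesc.repSh (EtDesc.ofOpen U)) ⋙ EtDesc.pullSh U.ι :=
    Functor.isoWhiskerLeft (Over.forget (EtDesc.repSh (EtDesc.ofOpen U))) e1.symm
  exact Functor.isEquivalence_of_iso e3

end Groth.Agent.Lib.Helper13.EtOpenOverD
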