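import Groth.Agent.Lib.Helper13.FlatPullback
import Mathlib.CategoryTheory.Sites.LeftExact
import Mathlib.CategoryTheory.Adhesive.Basic
import Mathlib.CategoryTheory.Limits.Types.Pullbacks

/-!
# Helper13: sections of etale sheaves of sets and `EtDesc.secPull`
-/

universe u
open CategoryTheory CategoryTheory.Limits Opposite AlgebraicGeometry

namespace Groth.Agent.Lib.Helper13
namespace EtSecPull

open FlatPullback

/-- The sections functor over an object of the small etale site. -/
noncomputable abbrev secF (X : Scheme.{u}) (U : X.Etale) : EtDesc.Sh X ⥤ Type (u + 1) :=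
  sheafToPresheaf X.smallEtaleTopology (Type (u + 1)) ⋙ (evaluation _ _).obj (op U)

lemma sh_hom_nat {X : Scheme.{u}} {P Q : EtDesc.Sh X} (f : P ⟶ Q) {U V : X.Etaleᵒᵖ} (a : U ⟶ V)
    (x : P.obj.obj U) : f.hom.app V (P.obj.map a x) = Q.obj.map a (f.hom.app U x) :=
  NatTrans.naturality_apply f.hom a x

/-- A monomorphism of sheaves of sets is injective on sections. -/
lemma injective_of_mono {X : Scheme.{u}} {F G : EtDesc.Sh X} (φ : F ⟶ G) [Mono φ] (U : X.Etaleᵒᵖ) :
    Function.Injective (φ.hom.app U) := by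
  have : Mono ((secF X U.unop).map φ) := inferInstance
  exact (mono_iff_injective ((secF X U.unop).map φ)).mp this

/-- `secPull` is natural in the sheaf. -/
lemma secPull_natural {X Y : Scheme.{u}} (f : X ⟶ Y) {F G : EtDesc.Sh Y} (φ : F ⟶ G)
    (s : EtDesc.sect F (EtCoh.top Y)) :
    EtDesc.secPull f G (φ.hom.app (op (EtCoh.top Y)) s) =
      ((EtDesc.pullSh f).map φ).hom.app (op (EtCoh.top X)) (EtDesc.secPull f F s) := by
  have hnat := (EtDesc.adjSh f).unit.naturality φ
  have h1 := congrArg (fun α => α.hom.app (op (EtCoh.top Y)) s) hnat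
  unfold EtDesc.secPull
  rw [sh_hom_nat]
  exact congrArg _ h1

/-- If `u` is a monomorphism of sheaves of sets, a section of the target whose two images in the
cokernel pair agree comes from the source. -/
lemma exists_of_inl_eq_inr {X : Scheme.{u}} {F G : EtDesc.Sh X} (u : F ⟶ G) [Mono u] (U : X.Etaleᵒᵖ)
    (η : G.obj.obj U)
    (hη : (pushout.inl u u).hom.app U η = (pushout.inr u u).hom.app U η) :
    ∃ ζ : F.obj.obj U, u.hom.app U ζ = η := by
  have hpb : IsPullback u u (pushout.inl u u) (pushout.inr u u) :=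
    Adhesive.isPullback_of_isPushout_of_mono_left (IsPushout.of_hasPushout u u)
  have hpbX := hpb.map (secF X U.unop)
  obtain ⟨ζ, hζ, -⟩ := Types.exists_of_isPullback hpbX η η hη
  exact ⟨ζ, hζ⟩

end EtSecPull
end Groth.Agent.Lib.Helper13
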