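import Mathlib
import Groth.Agent.Lib.Helper13.KInjMV
import Groth.Prelude.Def_CxOX

/-!
# Mayer–Vietoris for extension by zero (helper13)

A formal argument: the Mayer–Vietoris sequence `0 → j₁₂!M₁₂ → j₁!M₁ ⊕ j₂!M₂ → M → 0` is obtained from
the (split, for injective `Q`) sequences `0 → Q → j₁⁎Q₁ ⊕ j₂⁎Q₂ → j₁₂⁎Q₁₂ → 0` by passing to
conjugate natural transformations and testing exactness against injective objects.
-/

set_option autoImplicit false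
set_option backward.isDefEq.respectTransparency false
universe v u

attribute [local instance] HasDerivedCategory.standard

namespace Groth.Agent.Lib.Helper13.ExtZeroMV

open CategoryTheory CategoryTheory.Limits Pretriangulated

section Test

variable {𝒜 : Type u} [Category.{v} 𝒜] [Abelian 𝒜] [EnoughInjectives 𝒜]

/-- short exactness can be tested by mapping into injective objects -/
lemma shortExact_of_hom_injective (S : ShortComplex 𝒜)
    (h1 : ∀ (Q : 𝒜) [Injective Q] (φ : S.X₁ ⟶ Q), ∃ ψ : S.X₂ ⟶ Q, S.f ≫ ψ = φ)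
    (h2 : ∀ (Q : 𝒜) [Injective Q] (ψ : S.X₂ ⟶ Q), S.f ≫ ψ = 0 → ∃ χ : S.X₃ ⟶ Q, S.g ≫ χ = ψ)
    (h3 : ∀ (Q : 𝒜) [Injective Q] (χ : S.X₃ ⟶ Q), S.g ≫ χ = 0 → χ = 0) : S.ShortExact := by
  have hmono : Mono S.f := by
    obtain ⟨ψ, hψ⟩ := h1 (Injective.under S.X₁) (Injective.ι S.X₁)
    exact mono_of_mono_fac hψ
  have hepi : Epi S.g := by
    apply Preadditive.epi_of_cancel_zero
    intro R χ hχ
    have h := h3 (Injective.under R) (χ ≫ Injective.ι R) (by rw [← Category.assoc, hχ, zero_comp])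
    exact (cancel_mono (Injective.ι R)).1 (by rw [h, zero_comp])
  have hex : S.Exact := by
    rw [S.exact_iff_mono_cokernel_desc]
    obtain ⟨χ, hχ⟩ := h2 (Injective.under (cokernel S.f)) (cokernel.π S.f ≫ Injective.ι _)
      (by rw [← Category.assoc, cokernel.condition, zero_comp])
    have h : cokernel.desc S.f S.g S.zero ≫ χ = Injective.ι (cokernel S.f) := by
      rw [← cancel_epi (cokernel.π S.f), ← Category.assoc, cokernel.π_desc, hχ]
    exact mono_of_mono_fac h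
  exact ShortComplex.ShortExact.mk' hex hmono hepi

end Test

section Conj

variable {C : Type*} [Category C] {D : Type*} [Category D]
  {L L' : C ⥤ D} {R R' : D ⥤ C} (adj : L ⊣ R) (adj' : L' ⊣ R') (β : R ⟶ R')

lemma homEquiv_conj {X : C} {Y : D} (f : L.obj X ⟶ Y) :
    adj'.homEquiv X Y (((conjugateEquiv adj adj').symm β).app X ≫ f) =
      adj.homEquiv X Y f ≫ β.app Y := by
  have h := unit_conjugateEquiv_symm adj adj' β X
  rw [Adjunction.homEquiv_unit, Adjunction.homEquiv_unit, Functor.map_comp, ← Category.assoc, ← h,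
    Category.assoc, Category.assoc, β.naturality]

end Conj

section Abstract

variable {𝒜 : Type u} [Category.{v} 𝒜] [Abelian 𝒜] [EnoughInjectives 𝒜]
  {L₀ L₁ L₂ R₀ R₁ R₂ : 𝒜 ⥤ 𝒜} [L₀.Additive] [L₁.Additive] [L₂.Additive]
  (adj₀ : L₀ ⊣ R₀) (adj₁ : L₁ ⊣ R₁) (adj₂ : L₂ ⊣ R₂)
  (u₁ : 𝟭 𝒜 ⟶ R₁) (u₂ : 𝟭 𝒜 ⟶ R₂) (r₁ : R₁ ⟶ R₀) (r₂ : R₂ ⟶ R₀)

/-- conjugate of `r₁` -/
noncomputable def a₁ : L₀ ⟶ L₁ := (conjugateEquiv adj₁ adj₀).symm r₁
/-- conjugate of `r₂` -/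
noncomputable def a₂ : L₀ ⟶ L₂ := (conjugateEquiv adj₂ adj₀).symm r₂
/-- conjugate of `u₁` -/
noncomputable def b₁ : L₁ ⟶ 𝟭 𝒜 := (conjugateEquiv Adjunction.id adj₁).symm u₁
/-- conjugate of `u₂` -/
noncomputable def b₂ : L₂ ⟶ 𝟭 𝒜 := (conjugateEquiv Adjunction.id adj₂).symm u₂

lemma homEquiv_a₁ {M Y : 𝒜} (f : L₁.obj M ⟶ Y) :
    adj₀.homEquiv M Y ((a₁ adj₀ adj₁ r₁).app M ≫ f) = adj₁.homEquiv M Y f ≫ r₁.app Y :=
  homEquiv_conj adj₁ adj₀ r₁ f

lemma homEquiv_a₂ {M Y : 𝒜} (f : L₂.obj M ⟶ Y) :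
    adj₀.homEquiv M Y ((a₂ adj₀ adj₂ r₂).app M ≫ f) = adj₂.homEquiv M Y f ≫ r₂.app Y :=
  homEquiv_conj adj₂ adj₀ r₂ f

lemma homEquiv_b₁ {M Y : 𝒜} (χ : M ⟶ Y) :
    adj₁.homEquiv M Y ((b₁ adj₁ u₁).app M ≫ χ) = χ ≫ u₁.app Y := by
  have h := homEquiv_conj (Adjunction.id (C := 𝒜)) adj₁ u₁ (X := M) (Y := Y) χ
  have h' : (Adjunction.id (C := 𝒜)).homEquiv M Y χ = χ := by
    rw [Adjunction.homEquiv_unit]
    simp [Adjunction.id]
  rw [h'] at h
  exact h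

lemma homEquiv_b₂ {M Y : 𝒜} (χ : M ⟶ Y) :
    adj₂.homEquiv M Y ((b₂ adj₂ u₂).app M ≫ χ) = χ ≫ u₂.app Y :=
  homEquiv_b₁ adj₂ u₂ χ

variable (hw : ∀ Q : 𝒜, u₁.app Q ≫ r₁.app Q = u₂.app Q ≫ r₂.app Q)

include hw in
lemma commSq_L (M : 𝒜) :
    CommSq ((a₁ adj₀ adj₁ r₁).app M) ((a₂ adj₀ adj₂ r₂).app M) ((b₁ adj₁ u₁).app M)
      ((b₂ adj₂ u₂).app M) where
  w := by
    apply (adj₀.homEquiv M _).injective
    have e3 : adj₁.homEquiv M M ((b₁ adj₁ u₁).app M) = u₁.app M := by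
      have := homEquiv_b₁ adj₁ u₁ (𝟙 M)
      simpa using this
    have e4 : adj₂.homEquiv M M ((b₂ adj₂ u₂).app M) = u₂.app M := by
      have := homEquiv_b₂ adj₂ u₂ (𝟙 M)
      simpa using this
    exact (homEquiv_a₁ adj₀ adj₁ r₁ ((b₁ adj₁ u₁).app M)).trans
      ((congrArg (· ≫ r₁.app M) e3).trans ((hw M).trans
        ((congrArg (· ≫ r₂.app M) e4).symm.trans
          (homEquiv_a₂ adj₀ adj₂ r₂ ((b₂ adj₂ u₂).app M)).symm)))

variable
  (hpb : ∀ (Q : 𝒜) [Injective Q], IsPullback (u₁.app Q) (u₂.app Q) (r₁.app Q) (r₂.app Q))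
  (hsplit : ∀ (Q : 𝒜) [Injective Q], ∃ (s₁ : R₀.obj Q ⟶ R₁.obj Q) (s₂ : R₀.obj Q ⟶ R₂.obj Q),
    s₁ ≫ r₁.app Q - s₂ ≫ r₂.app Q = 𝟙 _)

include hpb hsplit in
theorem shortExact_L (M : 𝒜) : (commSq_L adj₀ adj₁ adj₂ u₁ u₂ r₁ r₂ hw M).shortComplex'.ShortExact := by
  apply shortExact_of_hom_injective
  · -- (i)
    intro Q _ φ
    obtain ⟨s₁, s₂, hs⟩ := hsplit Q
    change L₀.obj M ⟶ Q at φ
    let φ' := adj₀.homEquiv M Q φ
    let ψ₁ := (adj₁.homEquiv M Q).symm (φ' ≫ s₁)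
    let ψ₂ := (adj₂.homEquiv M Q).symm (φ' ≫ s₂)
    refine ⟨biprod.desc ψ₁ (-ψ₂), ?_⟩
    change biprod.lift ((a₁ adj₀ adj₁ r₁).app M) ((a₂ adj₀ adj₂ r₂).app M) ≫
      biprod.desc ψ₁ (-ψ₂) = φ
    rw [biprod.lift_desc, Preadditive.comp_neg, ← sub_eq_add_neg]
    apply (adj₀.homEquiv M Q).injective
    rw [Adjunction.homAddEquiv_sub, homEquiv_a₁, homEquiv_a₂]
    change (adj₁.homEquiv M Q) ((adj₁.homEquiv M Q).symm (φ' ≫ s₁)) ≫ r₁.app Q -
      (adj₂.homEquiv M Q) ((adj₂.homEquiv M Q).symm (φ' ≫ s₂)) ≫ r₂.app Q = φ'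
    rw [Equiv.apply_symm_apply, Equiv.apply_symm_apply, Category.assoc, Category.assoc,
      ← Preadditive.comp_sub, hs, Category.comp_id]
  · -- (ii)
    intro Q _ ψ hψ
    change L₁.obj M ⊞ L₂.obj M ⟶ Q at ψ
    change biprod.lift ((a₁ adj₀ adj₁ r₁).app M) ((a₂ adj₀ adj₂ r₂).app M) ≫ ψ = 0 at hψ
    let ψ₁ := biprod.inl ≫ ψ
    let ψ₂ := biprod.inr ≫ ψ
    have hsum : (a₁ adj₀ adj₁ r₁).app M ≫ ψ₁ + (a₂ adj₀ adj₂ r₂).app M ≫ ψ₂ = 0 := by
      rw [← hψ, biprod.lift_eq, Preadditive.add_comp, Category.assoc, Category.assoc]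
    let x := adj₁.homEquiv M Q ψ₁
    let y := -(adj₂.homEquiv M Q ψ₂)
    have hxy : x ≫ r₁.app Q = y ≫ r₂.app Q := by
      change adj₁.homEquiv M Q ψ₁ ≫ r₁.app Q = (-(adj₂.homEquiv M Q ψ₂)) ≫ r₂.app Q
      rw [← homEquiv_a₁ adj₀ adj₁ r₁, Preadditive.neg_comp, ← homEquiv_a₂ adj₀ adj₂ r₂,
        ← Adjunction.homAddEquiv_neg]
      congr 1
      exact eq_neg_of_add_eq_zero_left hsum
    refine ⟨(hpb Q).lift x y hxy, ?_⟩
    change biprod.desc ((b₁ adj₁ u₁).app M) (-(b₂ adj₂ u₂).app M) ≫ (hpb Q).lift x y hxy = ψ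
    apply biprod.hom_ext'
    · rw [biprod.inl_desc_assoc]
      apply (adj₁.homEquiv M Q).injective
      rw [homEquiv_b₁, IsPullback.lift_fst]
    · rw [biprod.inr_desc_assoc, Preadditive.neg_comp]
      apply (adj₂.homEquiv M Q).injective
      rw [Adjunction.homAddEquiv_neg, homEquiv_b₂, IsPullback.lift_snd]
      exact neg_neg _
  · -- (iii)
    intro Q _ χ hχ
    change M ⟶ Q at χ
    change biprod.desc ((b₁ adj₁ u₁).app M) (-(b₂ adj₂ u₂).app M) ≫ χ = 0 at hχ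
    have h1 : (b₁ adj₁ u₁).app M ≫ χ = 0 := by
      have := biprod.inl ≫= hχ
      rwa [biprod.inl_desc_assoc, comp_zero] at this
    have h2 : (b₂ adj₂ u₂).app M ≫ χ = 0 := by
      have := biprod.inr ≫= hχ
      rw [biprod.inr_desc_assoc, comp_zero, Preadditive.neg_comp, neg_eq_zero] at this
      exact this
    have h1' : χ ≫ u₁.app Q = 0 := by
      rw [← homEquiv_b₁ adj₁ u₁, h1, Adjunction.homAddEquiv_zero]
    have h2' : χ ≫ u₂.app Q = 0 := by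
      rw [← homEquiv_b₂ adj₂ u₂, h2, Adjunction.homAddEquiv_zero]
    apply (hpb Q).hom_ext
    · rw [h1', zero_comp]
    · rw [h2', zero_comp]

end Abstract

section Cx

variable {A : Type u} [Category.{v} A] [Abelian A]
  {Φ₀ Φ₁ Φ₂ : A ⥤ A} [Φ₀.Additive] [Φ₁.Additive] [Φ₂.Additive]
  (a₁ : Φ₀ ⟶ Φ₁) (a₂ : Φ₀ ⟶ Φ₂) (b₁ : Φ₁ ⟶ 𝟭 A) (b₂ : Φ₂ ⟶ 𝟭 A) (I : CochainComplex A ℤ)
  (hsq : ∀ n, CommSq (a₁.app (I.X n)) (a₂.app (I.X n)) (b₁.app (I.X n)) (b₂.app (I.X n)))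

/-- the map of complexes induced by a natural transformation to the identity functor -/
noncomputable def toId {Φ : A ⥤ A} [Φ.Additive] (b : Φ ⟶ 𝟭 A) (I : CochainComplex A ℤ) :
    (Φ.mapHomologicalComplex (ComplexShape.up ℤ)).obj I ⟶ I where
  f n := b.app (I.X n)
  comm' i j _ := (b.naturality (I.d i j)).symm

/-- the Mayer–Vietoris short complex of complexes -/
noncomputable def mvSC' : ShortComplex (CochainComplex A ℤ) where
  X₁ := (Φ₀.mapHomologicalComplex (ComplexShape.up ℤ)).obj I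
  X₂ := (Φ₁.mapHomologicalComplex (ComplexShape.up ℤ)).obj I ⊞
    (Φ₂.mapHomologicalComplex (ComplexShape.up ℤ)).obj I
  X₃ := I
  f := biprod.lift ((NatTrans.mapHomologicalComplex a₁ (ComplexShape.up ℤ)).app I)
    ((NatTrans.mapHomologicalComplex a₂ (ComplexShape.up ℤ)).app I)
  g := biprod.desc (toId b₁ I) (-(toId b₂ I))
  zero := by
    rw [biprod.lift_desc]
    ext n
    have := (hsq n).w
    simp [toId, this]

lemma mvSC'_shortExact (hS : ∀ n, (hsq n).shortComplex'.ShortExact) :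
    (mvSC' a₁ a₂ b₁ b₂ I hsq).ShortExact := by
  refine HomologicalComplex.shortExact_of_degreewise_shortExact _ (fun n => ?_)
  have e : (mvSC' a₁ a₂ b₁ b₂ I hsq).map (HomologicalComplex.eval A (ComplexShape.up ℤ) n) ≅
      (hsq n).shortComplex' := by
    refine ShortComplex.isoMk (Iso.refl _)
      ((HomologicalComplex.eval A (ComplexShape.up ℤ) n).mapBiprod _ _) (Iso.refl _) ?_ ?_
    · exact (Category.id_comp _).trans
        (KInjMV.aux_lift ((NatTrans.mapHomologicalComplex a₁ (ComplexShape.up ℤ)).app I)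
          ((NatTrans.mapHomologicalComplex a₂ (ComplexShape.up ℤ)).app I) n).symm
    · rw [← Iso.eq_inv_comp]
      apply biprod.hom_ext'
      · simp [mvSC', toId]
      · simp [mvSC', toId]
  exact ShortComplex.shortExact_of_iso e.symm (hS n)

include a₁ a₂ b₁ b₂ hsq in
theorem exists_triangle' [HasDerivedCategory.{max u v} A]
    (hS : ∀ n, (hsq n).shortComplex'.ShortExact) :
    ∃ (a : DerivedCategory.Q.obj ((Φ₀.mapHomologicalComplex (ComplexShape.up ℤ)).obj I) ⟶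
          DerivedCategory.Q.obj ((Φ₁.mapHomologicalComplex (ComplexShape.up ℤ)).obj I) ⊞
            DerivedCategory.Q.obj ((Φ₂.mapHomologicalComplex (ComplexShape.up ℤ)).obj I))
      (b : DerivedCategory.Q.obj ((Φ₁.mapHomologicalComplex (ComplexShape.up ℤ)).obj I) ⊞
            DerivedCategory.Q.obj ((Φ₂.mapHomologicalComplex (ComplexShape.up ℤ)).obj I) ⟶
          DerivedCategory.Q.obj I)
      (c : DerivedCategory.Q.obj I ⟶
          (DerivedCategory.Q.obj ((Φ₀.mapHomologicalComplex (ComplexShape.up ℤ)).obj I))⟦(1 : ℤ)⟧),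
      Triangle.mk a b c ∈ distTriang (DerivedCategory A) := by
  haveI : PreservesBinaryBiproducts (DerivedCategory.Q : CochainComplex A ℤ ⥤ _) :=
    preservesBinaryBiproducts_of_preservesBiproducts _
  exact KInjMV.exists_triangle_of_iso _
    (DerivedCategory.triangleOfSES_distinguished (mvSC'_shortExact a₁ a₂ b₁ b₂ I hsq hS))
    (Iso.refl _) (DerivedCategory.Q.mapBiprod _ _) (Iso.refl _)

end Cx

end Groth.Agent.Lib.Helper13.ExtZeroMV
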