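import Mathlib
import Groth.Agent.Lib.Helper13.ExtZeroMV
import Groth.Agent.Lib.Helper13.KInjSch

/-!
# Mayer–Vietoris triangle for extension by zero on a scheme (helper13)
-/

set_option autoImplicit false
set_option backward.isDefEq.respectTransparency false
universe u

attribute [local instance] HasDerivedCategory.standard

namespace Groth.Agent.Lib.Helper13.ExtZeroMVSch

open CategoryTheory CategoryTheory.Limits AlgebraicGeometry Pretriangulated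
open AlgebraicGeometry.Scheme.Modules
open Groth.Agent.Lib.Helper13 Groth.Agent.Lib.Helper13.RelMVMod

variable {X : Scheme.{u}}

/-- `j_! j^*` -/
noncomputable abbrev Φ (W : X.Opens) : X.Modules ⥤ X.Modules :=
  restrictFunctor W.ι ⋙ CxOX.extZero W.ι

/-- `j_! j^* ⊣ j_* j^*` -/
noncomputable def adjΦ (W : X.Opens) : Φ W ⊣ H W :=
  (restrictAdjunction W.ι).comp (CxOX.extZeroAdj W.ι)

lemma exists_split (U V : X.Opens) (hUV : U ⊔ V = ⊤) (Q : X.Modules) [Injective Q] :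
    ∃ (s₁ : (H (U ⊓ V)).obj Q ⟶ (H U).obj Q) (s₂ : (H (U ⊓ V)).obj Q ⟶ (H V).obj Q),
      s₁ ≫ (rhoH (inf_le_left : U ⊓ V ≤ U)).app Q -
        s₂ ≫ (rhoH (inf_le_right : U ⊓ V ≤ V)).app Q = 𝟙 _ := by
  have hpb := KInjMV.isPullback_H U V hUV Q
  haveI : Epi ((rhoH (inf_le_left : U ⊓ V ≤ U)).app Q) :=
    KInjMV.epi_rhoH_of_injective _ Q inferInstance
  have hS := KInjMV.shortExact_shortComplex' hpb
  haveI : Injective hpb.shortComplex'.X₁ := (inferInstance : Injective Q)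
  let sp := hS.splittingOfInjective
  refine ⟨sp.s ≫ biprod.fst, sp.s ≫ biprod.snd, ?_⟩
  have h2 : (sp.s ≫ biprod.fst) ≫ (rhoH (inf_le_left : U ⊓ V ≤ U)).app Q -
      (sp.s ≫ biprod.snd) ≫ (rhoH (inf_le_right : U ⊓ V ≤ V)).app Q =
      sp.s ≫ hpb.shortComplex'.g := by
    simp [biprod.desc_eq, sub_eq_add_neg]
  rw [h2]
  exact sp.s_g

/-- `Q(j_! j^* I) ≅ j_!((Q I)|_W)` compatible with an isomorphism `Q I ≅ E`. -/
noncomputable def isoΦ (W : X.Opens) (I : CochainComplex X.Modules ℤ) {E : DCoh.D X}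
    (e : DerivedCategory.Q.obj I ≅ E) :
    DerivedCategory.Q.obj (((Φ W).mapHomologicalComplex (ComplexShape.up ℤ)).obj I) ≅
      (CxOX.extZeroD W.ι).obj ((DCoh.restrictD W.ι).obj E) :=
  DerivedCategory.Q.mapIso (HomologicalComplex.Hom.isoOfComponents (fun _ => Iso.refl _)
      (fun i j _ => by simp)) ≪≫
    ((CxOX.extZero W.ι).mapDerivedCategoryFactors.app
      (((restrictFunctor W.ι).mapHomologicalComplex (ComplexShape.up ℤ)).obj I)).symm ≪≫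
    (CxOX.extZeroD W.ι).mapIso (((restrictFunctor W.ι).mapDerivedCategoryFactors.app I).symm ≪≫
      (DCoh.restrictD W.ι).mapIso e)

theorem exists_triangle (U V : X.Opens) (hUV : U ⊔ V = ⊤) (E : DCoh.D X) :
    ∃ (a : (CxOX.extZeroD (U ⊓ V).ι).obj ((DCoh.restrictD (U ⊓ V).ι).obj E) ⟶
        ((CxOX.extZeroD U.ι).obj ((DCoh.restrictD U.ι).obj E) ⊞
          (CxOX.extZeroD V.ι).obj ((DCoh.restrictD V.ι).obj E)))
      (b : ((CxOX.extZeroD U.ι).obj ((DCoh.restrictD U.ι).obj E) ⊞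
          (CxOX.extZeroD V.ι).obj ((DCoh.restrictD V.ι).obj E)) ⟶ E)
      (c : E ⟶ ((CxOX.extZeroD (U ⊓ V).ι).obj ((DCoh.restrictD (U ⊓ V).ι).obj E))⟦(1 : ℤ)⟧),
      Triangle.mk a b c ∈ distTriang (DCoh.D X) := by
  haveI : EnoughInjectives X.Modules := ModGrothendieck.enoughInjectives X.ringCatSheaf
  let I := DerivedCategory.Q.objPreimage E
  let e : DerivedCategory.Q.obj I ≅ E := DerivedCategory.Q.objObjPreimageIso E
  have hw : ∀ Q : X.Modules, (η U).app Q ≫ (rhoH (inf_le_left : U ⊓ V ≤ U)).app Q =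
      (η V).app Q ≫ (rhoH (inf_le_right : U ⊓ V ≤ V)).app Q :=
    fun Q => (KInjMV.isPullback_H U V hUV Q).w
  have hS := fun n : ℤ => ExtZeroMV.shortExact_L (adjΦ (U ⊓ V)) (adjΦ U) (adjΦ V) (η U) (η V)
    (rhoH (inf_le_left : U ⊓ V ≤ U)) (rhoH (inf_le_right : U ⊓ V ≤ V)) hw
    (fun Q _ => KInjMV.isPullback_H U V hUV Q) (fun Q _ => exists_split U V hUV Q) (I.X n)
  obtain ⟨a, b, c, hT⟩ := ExtZeroMV.exists_triangle'
    (ExtZeroMV.a₁ (adjΦ (U ⊓ V)) (adjΦ U) (rhoH (inf_le_left : U ⊓ V ≤ U)))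
    (ExtZeroMV.a₂ (adjΦ (U ⊓ V)) (adjΦ V) (rhoH (inf_le_right : U ⊓ V ≤ V)))
    (ExtZeroMV.b₁ (adjΦ U) (η U)) (ExtZeroMV.b₂ (adjΦ V) (η V)) I
    (fun n => ExtZeroMV.commSq_L (adjΦ (U ⊓ V)) (adjΦ U) (adjΦ V) (η U) (η V)
      (rhoH (inf_le_left : U ⊓ V ≤ U)) (rhoH (inf_le_right : U ⊓ V ≤ V)) hw (I.X n)) hS
  exact KInjMV.exists_triangle_of_iso _ hT (isoΦ (U ⊓ V) I e)
    (biprod.mapIso (isoΦ U I e) (isoΦ V I e)) e

end Groth.Agent.Lib.Helper13.ExtZeroMVSch
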