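import Groth.Agent.Lib.Helper2.Aff.QcqsMV

/-!
# Functorial Mayer–Vietoris triangle (helper13, for helper2's S1000)
-/

set_option autoImplicit false
set_option linter.style.haveILetI false
set_option backward.isDefEq.respectTransparency false
universe v₁ v₂ u₁ u₂ u
open CategoryTheory CategoryTheory.Limits AlgebraicGeometry TopologicalSpace Opposite
  CategoryTheory.Pretriangulated

attribute [local instance] HasDerivedCategory.standard

namespace Groth.Agent.Lib.Helper13.FMV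

section Tri

variable {C : Type*} [Category C] [Preadditive C] [HasZeroObject C] [HasShift C ℤ]
  [∀ n : ℤ, (shiftFunctor C n).Additive] [Pretriangulated C]

lemma transported_distinguished (T : Triangle C) (hT : T ∈ distTriang C) {X₁ X₂ X₃ : C}
    (e₁ : T.obj₁ ≅ X₁) (e₂ : T.obj₂ ≅ X₂) (e₃ : T.obj₃ ≅ X₃) :
    Triangle.mk (e₁.inv ≫ T.mor₁ ≫ e₂.hom) (e₂.inv ≫ T.mor₂ ≫ e₃.hom)
      (e₃.inv ≫ T.mor₃ ≫ e₁.hom⟦(1 : ℤ)⟧') ∈ distTriang C := by
  refine isomorphic_distinguished _ hT _ (Triangle.isoMk _ _ e₁.symm e₂.symm e₃.symm ?_ ?_ ?_)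
  · simp
  · simp
  · simp [← Functor.map_comp]

lemma transported_squares {T T' : Triangle C} (m : T' ⟶ T) {X₁ X₂ X₃ X₁' X₂' X₃' : C}
    (e₁ : T.obj₁ ≅ X₁) (e₂ : T.obj₂ ≅ X₂) (e₃ : T.obj₃ ≅ X₃)
    (e₁' : T'.obj₁ ≅ X₁') (e₂' : T'.obj₂ ≅ X₂') (e₃' : T'.obj₃ ≅ X₃')
    (g₁ : X₁' ⟶ X₁) (g₂ : X₂' ⟶ X₂) (g₃ : X₃' ⟶ X₃)
    (h₁ : e₁'.hom ≫ g₁ = m.hom₁ ≫ e₁.hom) (h₂ : e₂'.hom ≫ g₂ = m.hom₂ ≫ e₂.hom)
    (h₃ : e₃'.hom ≫ g₃ = m.hom₃ ≫ e₃.hom) :
    (e₁'.inv ≫ T'.mor₁ ≫ e₂'.hom) ≫ g₂ = g₁ ≫ (e₁.inv ≫ T.mor₁ ≫ e₂.hom) ∧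
    (e₂'.inv ≫ T'.mor₂ ≫ e₃'.hom) ≫ g₃ = g₂ ≫ (e₂.inv ≫ T.mor₂ ≫ e₃.hom) ∧
    (e₃'.inv ≫ T'.mor₃ ≫ e₁'.hom⟦(1 : ℤ)⟧') ≫ g₁⟦(1 : ℤ)⟧' =
      g₃ ≫ (e₃.inv ≫ T.mor₃ ≫ e₁.hom⟦(1 : ℤ)⟧') := by
  have k₁ : e₁'.inv ≫ m.hom₁ = g₁ ≫ e₁.inv := by
    rw [Iso.inv_comp_eq, ← Category.assoc, h₁, Category.assoc, Iso.hom_inv_id, Category.comp_id]
  have k₂ : e₂'.inv ≫ m.hom₂ = g₂ ≫ e₂.inv := by
    rw [Iso.inv_comp_eq, ← Category.assoc, h₂, Category.assoc, Iso.hom_inv_id, Category.comp_id]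
  have k₃ : e₃'.inv ≫ m.hom₃ = g₃ ≫ e₃.inv := by
    rw [Iso.inv_comp_eq, ← Category.assoc, h₃, Category.assoc, Iso.hom_inv_id, Category.comp_id]
  refine ⟨?_, ?_, ?_⟩
  · rw [Category.assoc, Category.assoc, h₂, ← Category.assoc T'.mor₁, m.comm₁, Category.assoc,
      ← Category.assoc e₁'.inv, k₁, Category.assoc]
  · rw [Category.assoc, Category.assoc, h₃, ← Category.assoc T'.mor₂, m.comm₂, Category.assoc,
      ← Category.assoc e₂'.inv, k₂, Category.assoc]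
  · rw [Category.assoc, Category.assoc, ← Functor.map_comp, h₁, Functor.map_comp,
      ← Category.assoc T'.mor₃, m.comm₃, Category.assoc,
      ← Category.assoc e₃'.inv, k₃, Category.assoc]

end Tri

section Lift

variable {A : Type u₁} [Category.{v₁} A] [Abelian A]

lemma exists_lift (I' I : CochainComplex A ℤ) (hI : I.IsKInjective)
    (ψ : DerivedCategory.Q.obj I' ⟶ DerivedCategory.Q.obj I) :
    ∃ φ : I' ⟶ I, DerivedCategory.Q.map φ = ψ := by
  haveI := hI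
  obtain ⟨g, hg⟩ := (CochainComplex.IsKInjective.Qh_map_bijective
    ((HomotopyCategory.quotient _ _).obj I') I).surjective
      ((DerivedCategory.quotientCompQhIso A).hom.app I' ≫ ψ ≫
        (DerivedCategory.quotientCompQhIso A).inv.app I)
  obtain ⟨φ, rfl⟩ := (HomotopyCategory.quotient _ _).map_surjective g
  refine ⟨φ, ?_⟩
  have h := (DerivedCategory.quotientCompQhIso A).hom.naturality φ
  rw [Functor.comp_map, hg] at h
  simp only [Category.assoc, Iso.inv_hom_id_app, Category.comp_id] at h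
  exact ((cancel_epi _).1 h).symm

end Lift

section General

open Groth.Agent.Lib.Helper13.KInjMV

variable {A : Type u₁} [Category.{v₁} A] [Abelian A] {B : Type u₂} [Category.{v₂} B] [Abelian B]
  {Φ₀ Φ₁ Φ₂ Φ₃ : A ⥤ B} [Φ₀.Additive] [Φ₁.Additive] [Φ₂.Additive] [Φ₃.Additive]
  (a₁ : Φ₀ ⟶ Φ₁) (a₂ : Φ₀ ⟶ Φ₂) (b₁ : Φ₁ ⟶ Φ₃) (b₂ : Φ₂ ⟶ Φ₃)

/-- the morphism of Mayer–Vietoris short complexes induced by a chain map -/
noncomputable def mvSCMap {I' I : CochainComplex A ℤ} (φ : I' ⟶ I)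
    (hpb' : ∀ n, IsPullback (a₁.app (I'.X n)) (a₂.app (I'.X n)) (b₁.app (I'.X n))
      (b₂.app (I'.X n)))
    (hpb : ∀ n, IsPullback (a₁.app (I.X n)) (a₂.app (I.X n)) (b₁.app (I.X n)) (b₂.app (I.X n))) :
    mvSC a₁ a₂ b₁ b₂ I' hpb' ⟶ mvSC a₁ a₂ b₁ b₂ I hpb where
  τ₁ := (Φ₀.mapHomologicalComplex (ComplexShape.up ℤ)).map φ
  τ₂ := biprod.map ((Φ₁.mapHomologicalComplex (ComplexShape.up ℤ)).map φ)
    ((Φ₂.mapHomologicalComplex (ComplexShape.up ℤ)).map φ)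
  τ₃ := (Φ₃.mapHomologicalComplex (ComplexShape.up ℤ)).map φ
  comm₁₂ := by
    dsimp only [mvSC]
    apply biprod.hom_ext
    · simp only [Category.assoc, biprod.lift_fst, biprod.map_fst, biprod.lift_fst_assoc]
      exact (NatTrans.mapHomologicalComplex a₁ (ComplexShape.up ℤ)).naturality φ
    · simp only [Category.assoc, biprod.lift_snd, biprod.map_snd, biprod.lift_snd_assoc]
      exact (NatTrans.mapHomologicalComplex a₂ (ComplexShape.up ℤ)).naturality φ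
  comm₂₃ := by
    dsimp only [mvSC]
    apply biprod.hom_ext'
    · simp only [biprod.inl_map_assoc, biprod.inl_desc, biprod.inl_desc_assoc]
      exact (NatTrans.mapHomologicalComplex b₁ (ComplexShape.up ℤ)).naturality φ
    · simp only [biprod.inr_map_assoc, biprod.inr_desc, biprod.inr_desc_assoc,
        Preadditive.comp_neg, Preadditive.neg_comp, neg_inj]
      exact (NatTrans.mapHomologicalComplex b₂ (ComplexShape.up ℤ)).naturality φ

end General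

section Sch

open Groth.Agent.Lib.Helper2.Aff.Qcqs Groth.Agent.Lib.Helper13.KInjMV
  Groth.Agent.Lib.Helper13.RelMVMod AlgebraicGeometry.Scheme.Modules
  Groth.Agent.Lib.Helper13.KInjCompute

variable {X Y : Scheme.{u}}

local notation "cc" => ComplexShape.up ℤ

lemma isoRestrict_naturality (W : X.Opens) {B : Type u₂} [Category.{v₂} B] [Abelian B]
    (F : (W : Scheme.{u}).Modules ⥤ B) [F.Additive]
    [(Fh F).HasRightDerivedFunctor
      (HomotopyCategory.quasiIso (W : Scheme.{u}).Modules (ComplexShape.up ℤ))]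
    [PreservesFiniteLimits (Scheme.Modules.restrictFunctor W.ι)]
    (I' I : CochainComplex X.Modules ℤ) (hI' : I'.IsKInjective) (hI : I.IsKInjective)
    {E' E : DCoh.D X}
    (e' : E' ≅ DerivedCategory.Q.obj I') (e : E ≅ DerivedCategory.Q.obj I) (u : E' ⟶ E)
    (φ : I' ⟶ I) (hφ : e'.hom ≫ DerivedCategory.Q.map φ = u ≫ e.hom) :
    (isoRestrict W F I' hI' e').hom ≫ DerivedCategory.Q.map
        (((Scheme.Modules.restrictFunctor W.ι ⋙ F).mapHomologicalComplex cc).map φ) =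
      (RF F).map ((DCoh.restrictD W.ι).map u) ≫ (isoRestrict W F I hI e).hom := by
  have h1 : (DCoh.restrictD W.ι).map u ≫ (DCoh.restrictD W.ι).map e.hom ≫
      (Scheme.Modules.restrictFunctor W.ι).mapDerivedCategoryFactors.hom.app I =
      (DCoh.restrictD W.ι).map e'.hom ≫
        (Scheme.Modules.restrictFunctor W.ι).mapDerivedCategoryFactors.hom.app I' ≫
        DerivedCategory.Q.map
          (((Scheme.Modules.restrictFunctor W.ι).mapHomologicalComplex cc).map φ) := by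
    rw [← Functor.map_comp_assoc, ← hφ, Functor.map_comp_assoc]
    congr 1
    exact (Scheme.Modules.restrictFunctor W.ι).mapDerivedCategoryFactors.hom.naturality φ
  have h2 := iso_naturality F (Groth.Agent.Lib.Helper13.KInjSch.hasKInj (W : Scheme.{u}))
    (Groth.Agent.Lib.Helper13.KInjSch.isKInjective_restrict W I' hI')
    (Groth.Agent.Lib.Helper13.KInjSch.isKInjective_restrict W I hI)
    (((Scheme.Modules.restrictFunctor W.ι).mapHomologicalComplex cc).map φ)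
  have h3 : DerivedCategory.Q.map ((F.mapHomologicalComplex cc).map
        (((Scheme.Modules.restrictFunctor W.ι).mapHomologicalComplex cc).map φ)) ≫
      DerivedCategory.Q.map (HomologicalComplex.Hom.isoOfComponents
        (C₁ := (F.mapHomologicalComplex cc).obj
          (((Scheme.Modules.restrictFunctor W.ι).mapHomologicalComplex cc).obj I))
        (C₂ := ((Scheme.Modules.restrictFunctor W.ι ⋙ F).mapHomologicalComplex cc).obj I)
        (fun _ => Iso.refl _) (fun i j _ => by simp)).hom =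
      DerivedCategory.Q.map (HomologicalComplex.Hom.isoOfComponents
        (C₁ := (F.mapHomologicalComplex cc).obj
          (((Scheme.Modules.restrictFunctor W.ι).mapHomologicalComplex cc).obj I'))
        (C₂ := ((Scheme.Modules.restrictFunctor W.ι ⋙ F).mapHomologicalComplex cc).obj I')
        (fun _ => Iso.refl _) (fun i j _ => by simp)).hom ≫
      DerivedCategory.Q.map
        (((Scheme.Modules.restrictFunctor W.ι ⋙ F).mapHomologicalComplex cc).map φ) := by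
    rw [← Functor.map_comp, ← Functor.map_comp]
    congr 1
    ext n
    simp
  dsimp only [isoRestrict, Iso.trans_hom, Functor.mapIso_hom, Iso.app_hom]
  simp only [Category.assoc]
  rw [← h3, ← reassoc_of% h2, ← Functor.map_comp_assoc, ← Functor.map_comp_assoc]
  simp only [Category.assoc]
  rw [← h1]

/-- the comparison iso used in `Qcqs.exists_mv_triangle` -/
noncomputable def e2 (f : X ⟶ Y) (W : X.Opens) [DCoh.HasRpush (W.ι ≫ f)]
    (I : CochainComplex X.Modules ℤ) (hI : I.IsKInjective) {E : DCoh.D X}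
    (e : E ≅ DerivedCategory.Q.obj I) :
    DerivedCategory.Q.obj (((H W ⋙ pushforward f).mapHomologicalComplex cc).obj I) ≅ RW f W E :=
  DerivedCategory.Q.mapIso ((NatIso.mapHomologicalComplex
      (Functor.associator _ _ _ ≪≫ Functor.isoWhiskerLeft (restrictFunctor W.ι)
        (pushforwardComp W.ι f)) cc).app I) ≪≫
    (isoRestrict W (pushforward (W.ι ≫ f)) I hI e).symm

lemma e2_naturality (f : X ⟶ Y) (W : X.Opens) [DCoh.HasRpush (W.ι ≫ f)]
    (I' I : CochainComplex X.Modules ℤ) (hI' : I'.IsKInjective) (hI : I.IsKInjective)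
    {E' E : DCoh.D X}
    (e' : E' ≅ DerivedCategory.Q.obj I') (e : E ≅ DerivedCategory.Q.obj I) (u : E' ⟶ E)
    (φ : I' ⟶ I) (hφ : e'.hom ≫ DerivedCategory.Q.map φ = u ≫ e.hom) :
    (e2 f W I' hI' e').hom ≫ (DCoh.Rpush (W.ι ≫ f)).map ((DCoh.restrictD W.ι).map u) =
      DerivedCategory.Q.map (((H W ⋙ pushforward f).mapHomologicalComplex cc).map φ) ≫
        (e2 f W I hI e).hom := by
  have hn := isoRestrict_naturality W (pushforward (W.ι ≫ f)) I' I hI' hI e' e u φ hφ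
  have hn' : DerivedCategory.Q.map
        (((Scheme.Modules.restrictFunctor W.ι ⋙ pushforward (W.ι ≫ f)).mapHomologicalComplex
          cc).map φ) ≫ (isoRestrict W (pushforward (W.ι ≫ f)) I hI e).inv =
      (isoRestrict W (pushforward (W.ι ≫ f)) I' hI' e').inv ≫
        (RF (pushforward (W.ι ≫ f))).map ((DCoh.restrictD W.ι).map u) := by
    rw [Iso.comp_inv_eq, Category.assoc, Iso.eq_inv_comp]
    exact hn
  dsimp only [e2, Iso.trans_hom, Iso.symm_hom, Functor.mapIso_hom, Iso.app_hom]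
  rw [Category.assoc]
  erw [← hn']
  rw [← Category.assoc, ← Category.assoc, ← Functor.map_comp, ← Functor.map_comp]
  congr 2

lemma biprod_map_comp {C : Type*} [Category C] [HasZeroMorphisms C] [HasBinaryBiproducts C]
    {A₁ B₁ A₂ B₂ A₃ B₃ : C} (f : A₁ ⟶ A₂) (g : B₁ ⟶ B₂) (f' : A₂ ⟶ A₃) (g' : B₂ ⟶ B₃) :
    biprod.map f g ≫ biprod.map f' g' = biprod.map (f ≫ f') (g ≫ g') := by
  apply biprod.hom_ext <;> simp

lemma mapBiprod_hom_naturality {A : Type u₁} [Category.{v₁} A] [Abelian A]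
    {K K' L L' : CochainComplex A ℤ} (x : K ⟶ K') (y : L ⟶ L')
    [PreservesBinaryBiproducts (DerivedCategory.Q : CochainComplex A ℤ ⥤ _)] :
    (DerivedCategory.Q.mapBiprod K L).hom ≫
        biprod.map (DerivedCategory.Q.map x) (DerivedCategory.Q.map y) =
      DerivedCategory.Q.map (biprod.map x y) ≫ (DerivedCategory.Q.mapBiprod K' L').hom := by
  apply biprod.hom_ext
  · simp [← Functor.map_comp]
  · simp [← Functor.map_comp]

/-- functorial Mayer–Vietoris: for a family of maps `u i : Es i ⟶ E` the MV triangles can be chosen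
compatibly -/
theorem exists_mv_triangle_family (f : X ⟶ Y) (W₁ W₂ : X.Opens)
    [DCoh.HasRpush ((W₁ ⊔ W₂).ι ≫ f)] [DCoh.HasRpush (W₁.ι ≫ f)] [DCoh.HasRpush (W₂.ι ≫ f)]
    [DCoh.HasRpush ((W₁ ⊓ W₂).ι ≫ f)] {ι : Type u} (E : DCoh.D X) (Es : ι → DCoh.D X)
    (u : ∀ i, Es i ⟶ E) :
    ∃ (a : RW f (W₁ ⊔ W₂) E ⟶ RW f W₁ E ⊞ RW f W₂ E)
      (b : RW f W₁ E ⊞ RW f W₂ E ⟶ RW f (W₁ ⊓ W₂) E)
      (c : RW f (W₁ ⊓ W₂) E ⟶ (RW f (W₁ ⊔ W₂) E)⟦(1 : ℤ)⟧),
      Pretriangulated.Triangle.mk a b c ∈ distTriang _ ∧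
      ∀ i, ∃ (a' : RW f (W₁ ⊔ W₂) (Es i) ⟶ RW f W₁ (Es i) ⊞ RW f W₂ (Es i))
        (b' : RW f W₁ (Es i) ⊞ RW f W₂ (Es i) ⟶ RW f (W₁ ⊓ W₂) (Es i))
        (c' : RW f (W₁ ⊓ W₂) (Es i) ⟶ (RW f (W₁ ⊔ W₂) (Es i))⟦(1 : ℤ)⟧),
        Pretriangulated.Triangle.mk a' b' c' ∈ distTriang _ ∧
        a' ≫ biprod.map ((DCoh.Rpush (W₁.ι ≫ f)).map ((DCoh.restrictD W₁.ι).map (u i)))
            ((DCoh.Rpush (W₂.ι ≫ f)).map ((DCoh.restrictD W₂.ι).map (u i))) =
          (DCoh.Rpush ((W₁ ⊔ W₂).ι ≫ f)).map ((DCoh.restrictD (W₁ ⊔ W₂).ι).map (u i)) ≫ a ∧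
        b' ≫ (DCoh.Rpush ((W₁ ⊓ W₂).ι ≫ f)).map ((DCoh.restrictD (W₁ ⊓ W₂).ι).map (u i)) =
          biprod.map ((DCoh.Rpush (W₁.ι ≫ f)).map ((DCoh.restrictD W₁.ι).map (u i)))
            ((DCoh.Rpush (W₂.ι ≫ f)).map ((DCoh.restrictD W₂.ι).map (u i))) ≫ b ∧
        c' ≫ ((DCoh.Rpush ((W₁ ⊔ W₂).ι ≫ f)).map
            ((DCoh.restrictD (W₁ ⊔ W₂).ι).map (u i)))⟦(1 : ℤ)⟧' =
          (DCoh.Rpush ((W₁ ⊓ W₂).ι ≫ f)).map ((DCoh.restrictD (W₁ ⊓ W₂).ι).map (u i)) ≫ c := by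
  obtain ⟨I, hI, hInj, ⟨e⟩⟩ := KInjCompute.exists_model
    (Groth.Agent.Lib.Helper13.KInjSch.hasKInjInj X) E
  let a₁ := Functor.whiskerRight (rhoH (le_sup_left : W₁ ≤ W₁ ⊔ W₂)) (pushforward f)
  let a₂ := Functor.whiskerRight (rhoH (le_sup_right : W₂ ≤ W₁ ⊔ W₂)) (pushforward f)
  let b₁ := Functor.whiskerRight (rhoH (inf_le_left : W₁ ⊓ W₂ ≤ W₁)) (pushforward f)
  let b₂ := Functor.whiskerRight (rhoH (inf_le_right : W₁ ⊓ W₂ ≤ W₂)) (pushforward f)
  have hpb : ∀ (J : CochainComplex X.Modules ℤ) (n : ℤ),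
      IsPullback (a₁.app (J.X n)) (a₂.app (J.X n)) (b₁.app (J.X n)) (b₂.app (J.X n)) :=
    fun J n => (isPullback_rhoH W₁ W₂ (J.X n)).map (pushforward f)
  have hepi : ∀ (J : CochainComplex X.Modules ℤ), (∀ n, Injective (J.X n)) →
      ∀ n, Epi (b₁.app (J.X n)) :=
    fun J hJ n => epi_pushforward_rhoH_of_injective f _ (J.X n) (hJ n)
  haveI : PreservesBinaryBiproducts
      (DerivedCategory.Q : CochainComplex Y.Modules ℤ ⥤ _) :=
    preservesBinaryBiproducts_of_preservesBiproducts _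
  have hS := mvSC_shortExact a₁ a₂ b₁ b₂ I (hpb I) (hepi I hInj)
  let E₁ := e2 f (W₁ ⊔ W₂) I hI e
  let E₂ := DerivedCategory.Q.mapBiprod
      (((H W₁ ⋙ pushforward f).mapHomologicalComplex cc).obj I)
      (((H W₂ ⋙ pushforward f).mapHomologicalComplex cc).obj I) ≪≫
    biprod.mapIso (e2 f W₁ I hI e) (e2 f W₂ I hI e)
  let E₃ := e2 f (W₁ ⊓ W₂) I hI e
  refine ⟨_, _, _, transported_distinguished _
    (DerivedCategory.triangleOfSES_distinguished hS) E₁ E₂ E₃, fun i => ?_⟩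
  obtain ⟨I', hI', hInj', ⟨e'⟩⟩ := KInjCompute.exists_model
    (Groth.Agent.Lib.Helper13.KInjSch.hasKInjInj X) (Es i)
  obtain ⟨φ, hφ⟩ := exists_lift I' I hI (e'.inv ≫ u i ≫ e.hom)
  have hφ' : e'.hom ≫ DerivedCategory.Q.map φ = u i ≫ e.hom := by
    rw [hφ, Iso.hom_inv_id_assoc]
  have hS' := mvSC_shortExact a₁ a₂ b₁ b₂ I' (hpb I') (hepi I' hInj')
  let E₁' := e2 f (W₁ ⊔ W₂) I' hI' e'
  let E₂' := DerivedCategory.Q.mapBiprod
      (((H W₁ ⋙ pushforward f).mapHomologicalComplex cc).obj I')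
      (((H W₂ ⋙ pushforward f).mapHomologicalComplex cc).obj I') ≪≫
    biprod.mapIso (e2 f W₁ I' hI' e') (e2 f W₂ I' hI' e')
  let E₃' := e2 f (W₁ ⊓ W₂) I' hI' e'
  obtain ⟨s1, s2, s3⟩ := transported_squares
    (DerivedCategory.triangleOfSES.map hS' hS (mvSCMap a₁ a₂ b₁ b₂ φ (hpb I') (hpb I)))
    E₁ E₂ E₃ E₁' E₂' E₃'
    ((DCoh.Rpush ((W₁ ⊔ W₂).ι ≫ f)).map ((DCoh.restrictD (W₁ ⊔ W₂).ι).map (u i)))
    (biprod.map ((DCoh.Rpush (W₁.ι ≫ f)).map ((DCoh.restrictD W₁.ι).map (u i)))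
      ((DCoh.Rpush (W₂.ι ≫ f)).map ((DCoh.restrictD W₂.ι).map (u i))))
    ((DCoh.Rpush ((W₁ ⊓ W₂).ι ≫ f)).map ((DCoh.restrictD (W₁ ⊓ W₂).ι).map (u i)))
    (e2_naturality f (W₁ ⊔ W₂) I' I hI' hI e' e (u i) φ hφ')
    (by
      dsimp only [E₂, E₂', Iso.trans_hom, biprod.mapIso_hom]
      rw [DerivedCategory.triangleOfSES.map_hom₂]
      dsimp only [mvSCMap]
      rw [biprod.mapIso_hom, biprod.mapIso_hom, Category.assoc, biprod_map_comp,
        e2_naturality f W₁ I' I hI' hI e' e (u i) φ hφ',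
        e2_naturality f W₂ I' I hI' hI e' e (u i) φ hφ', ← biprod_map_comp,
        ← Category.assoc, mapBiprod_hom_naturality, Category.assoc])
    (e2_naturality f (W₁ ⊓ W₂) I' I hI' hI e' e (u i) φ hφ')
  exact ⟨_, _, _, transported_distinguished _
    (DerivedCategory.triangleOfSES_distinguished hS') E₁' E₂' E₃', s1, s2, s3⟩

end Sch

end Groth.Agent.Lib.Helper13.FMV
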