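import Mathlib
import Groth.Prelude
import Groth.Agent.Lib.Helper1.FEtEqualizer

set_option autoImplicit false
set_option linter.style.haveILetI false
universe u
open AlgebraicGeometry CategoryTheory CategoryTheory.Limits Pi1

namespace Groth.Agent.Lib.Helper13.FaithMeet

/-- If the range of a morphism meets every connected component of the target, restriction of finite
étale covers along it is faithful. -/
theorem faithful_of_meets {X Y : Scheme.{u}} (i : Y ⟶ X)
    (h : ∀ x : X, (connectedComponent x ∩ Set.range i.base).Nonempty) :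
    (FEt.restrict i).Faithful := by
  classical
  refine ⟨fun {Y₁ Y₂} a b hab => ?_⟩
  obtain ⟨U, hU, hsub, hUab⟩ := Groth.Agent.Lib.Helper1.FEt.exists_clopen_of_restrict_map_eq i a b hab
  apply hUab
  have hfin : IsFinite Y₁.hom := Y₁.prop.1
  have het : Etale Y₁.hom := Y₁.prop.2
  by_contra hne
  obtain ⟨y, hy⟩ : ∃ y, y ∉ U := by
    by_contra hcon
    push_neg at hcon
    exact hne (Set.eq_univ_of_forall hcon)
  have hU' : IsClopen Uᶜ := hU.compl
  have himg : IsClopen (Y₁.hom.base '' Uᶜ) :=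
    ⟨(Scheme.Hom.isClosedMap Y₁.hom) _ hU'.1, (Scheme.Hom.isOpenMap Y₁.hom) _ hU'.2⟩
  have hsubc : connectedComponent (Y₁.hom.base y) ⊆ Y₁.hom.base '' Uᶜ :=
    himg.connectedComponent_subset ⟨y, hy, rfl⟩
  obtain ⟨x, hxc, ⟨z, rfl⟩⟩ := h (Y₁.hom.base y)
  obtain ⟨y', hy', hy'x⟩ := hsubc hxc
  exact hy' (hsub ⟨z, hy'x.symm⟩)

/-- In a Noetherian local ring, a prime `p` not containing `f ∈ 𝔪` with `dim A/p ≥ 2` is contained in a
non-maximal prime containing `f`. -/
theorem exists_prime_of_dim {A : Type u} [CommRing A] [IsNoetherianRing A] [IsLocalRing A] (f : A)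
    (hf : f ∈ IsLocalRing.maximalIdeal A) (p : Ideal A) [hp : p.IsPrime] (hfp : f ∉ p)
    (hdim : (2 : WithBot ℕ∞) ≤ ringKrullDim (A ⧸ p)) :
    ∃ q : Ideal A, q.IsPrime ∧ p ≤ q ∧ f ∈ q ∧ q ≠ IsLocalRing.maximalIdeal A := by
  classical
  haveI : IsLocalRing (A ⧸ p) := .of_surjective' _ Ideal.Quotient.mk_surjective
  haveI : IsDomain (A ⧸ p) := Ideal.Quotient.isDomain p
  set fb : A ⧸ p := Ideal.Quotient.mk p f with hfb
  have hfb0 : fb ≠ 0 := by
    rw [hfb, Ne, Ideal.Quotient.eq_zero_iff_mem]; exact hfp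
  have hfbm : fb ∈ IsLocalRing.maximalIdeal (A ⧸ p) := by
    rw [IsLocalRing.mem_maximalIdeal, mem_nonunits_iff]
    intro hu
    obtain ⟨g, hg⟩ := hu.exists_right_inv
    obtain ⟨g', rfl⟩ := Ideal.Quotient.mk_surjective g
    rw [hfb, ← map_mul, ← map_one (Ideal.Quotient.mk p), Ideal.Quotient.eq] at hg
    have hpm : p ≤ IsLocalRing.maximalIdeal A := IsLocalRing.le_maximalIdeal hp.ne_top
    have h1 : f * g' ∈ IsLocalRing.maximalIdeal A := Ideal.mul_mem_right _ _ hf
    have h2 : (1 : A) ∈ IsLocalRing.maximalIdeal A := by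
      have := (IsLocalRing.maximalIdeal A).sub_mem h1 (hpm hg)
      simpa using this
    exact (Ideal.ne_top_iff_one _).mp (IsLocalRing.maximalIdeal.isMaximal A).ne_top h2
  have hdimC := ringKrullDim_quotient_span_singleton_succ_eq_ringKrullDim_of_mem_nonZeroDivisors
    (mem_nonZeroDivisors_of_ne_zero hfb0) hfbm
  have h1 : (1 : WithBot ℕ∞) ≤ ringKrullDim ((A ⧸ p) ⧸ Ideal.span {fb}) := by
    rw [← hdimC] at hdim
    generalize ringKrullDim ((A ⧸ p) ⧸ Ideal.span {fb}) = d at hdim ⊢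
    induction d using WithBot.recBotCoe with
    | bot => simp at hdim
    | coe n =>
      induction n using ENat.recTopCoe with
      | top => exact WithBot.coe_le_coe.mpr le_top
      | coe m =>
        have h2 : ((2 : ℕ) : WithBot ℕ∞) ≤ ((m + 1 : ℕ) : WithBot ℕ∞) := by
          simpa using hdim
        have h3 : (2 : ℕ) ≤ m + 1 := by exact_mod_cast h2
        have h4 : (1 : ℕ) ≤ m := by omega
        exact_mod_cast h4
  obtain ⟨Q₀, Q₁, hQ⟩ := Order.one_le_krullDim_iff.mp h1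
  let φ : A →+* (A ⧸ p) ⧸ Ideal.span {fb} :=
    (Ideal.Quotient.mk (Ideal.span {fb})).comp (Ideal.Quotient.mk p)
  have hφ : Function.Surjective φ :=
    Ideal.Quotient.mk_surjective.comp Ideal.Quotient.mk_surjective
  refine ⟨Q₀.asIdeal.comap φ, Ideal.comap_isPrime φ _, ?_, ?_, ?_⟩
  · intro a ha
    rw [Ideal.mem_comap]
    have : φ a = 0 := by
      simp only [φ, RingHom.comp_apply]
      rw [Ideal.Quotient.eq_zero_iff_mem.mpr ha, map_zero]
    rw [this]; exact Ideal.zero_mem _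
  · rw [Ideal.mem_comap]
    have : φ f = 0 := by
      simp only [φ, RingHom.comp_apply]
      exact Ideal.Quotient.eq_zero_iff_mem.mpr (Ideal.subset_span rfl)
    rw [this]; exact Ideal.zero_mem _
  · intro hq
    have hlt : Q₀.asIdeal < Q₁.asIdeal := hQ
    obtain ⟨c, hc1, hc0⟩ := SetLike.exists_of_lt hlt
    obtain ⟨a, rfl⟩ := hφ c
    have ha : a ∉ Q₀.asIdeal.comap φ := hc0
    have ha1 : a ∈ Q₁.asIdeal.comap φ := hc1
    have hne : Q₁.asIdeal.comap φ ≠ ⊤ := (Ideal.comap_isPrime φ _).ne_top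
    exact ha (hq ▸ IsLocalRing.le_maximalIdeal hne ha1)

end Groth.Agent.Lib.Helper13.FaithMeet
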