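import Mathlib
import Groth.Prelude.Def_PerfD
import Groth.Agent.Lib.Helper3.QCExact
import Groth.Agent.Lib.Helper17.GammaFun

/-!
# Global sections on one-point schemes and the Euler–Poincaré principle (helper13)

* `DimFn`: an additive "dimension" function on an abelian category (additive on short exact
  sequences whose middle term is "finite"); `DimFn.euler_poincare`: for a bounded complex with
  finite terms, the alternating sum of the dimensions of the cohomology objects equals the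
  alternating sum of the dimensions of the terms.
* `IsPt Z`: `Z` is a one-point scheme whose ring of global functions is a field; then the global
  sections functor `evT Z` on `Z.Modules` is exact (`IsPt.preservesFiniteColimits_evT`), and
  `IsPt.dimFn` is the dimension of global sections.
* `isPt_spec_residueField`: `Spec κ(x)` is such a scheme.
-/

set_option autoImplicit false
set_option backward.isDefEq.respectTransparency false
universe u v w

namespace Groth.Agent.Lib.Helper13.PtEval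

open CategoryTheory CategoryTheory.Limits AlgebraicGeometry TopologicalSpace Opposite

/-! ### linear algebra -/

lemma finrank_ses {R : Type*} [Field R] {M₁ M₂ M₃ : Type*} [AddCommGroup M₁] [AddCommGroup M₂]
    [AddCommGroup M₃] [Module R M₁] [Module R M₂] [Module R M₃]
    (f : M₁ →ₗ[R] M₂) (g : M₂ →ₗ[R] M₃) (hf : Function.Injective f) (hg : Function.Surjective g)
    (hex : LinearMap.range f = LinearMap.ker g) (h2 : Module.Finite R M₂) :
    Module.Finite R M₁ ∧ Module.Finite R M₃ ∧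
      Module.finrank R M₂ = Module.finrank R M₁ + Module.finrank R M₃ := by
  have h1 := LinearMap.finrank_range_add_finrank_ker g
  rw [LinearMap.range_eq_top.2 hg, finrank_top, ← hex, LinearMap.finrank_range_of_inj hf] at h1
  exact ⟨Module.Finite.of_injective f hf, Module.Finite.of_surjective g hg, by omega⟩

lemma finrank_ses' {R : Type*} [Ring R] (hR : IsField R) {M₁ M₂ M₃ : Type*} [AddCommGroup M₁]
    [AddCommGroup M₂] [AddCommGroup M₃] [Module R M₁] [Module R M₂] [Module R M₃]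
    (f : M₁ →ₗ[R] M₂) (g : M₂ →ₗ[R] M₃) (hf : Function.Injective f) (hg : Function.Surjective g)
    (hex : LinearMap.range f = LinearMap.ker g) (h2 : Module.Finite R M₂) :
    Module.Finite R M₁ ∧ Module.Finite R M₃ ∧
      Module.finrank R M₂ = Module.finrank R M₁ + Module.finrank R M₃ := by
  letI := hR.toField
  exact finrank_ses f g hf hg hex h2

lemma hasFiniteSupport_of_Icc (w : ℤ → ℤ) (a b : ℤ)
    (hw : ∀ j, ¬ (a ≤ j ∧ j ≤ b) → w j = 0) : Function.HasFiniteSupport w := by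
  refine (Set.finite_Icc a b).subset (fun j hj => ?_)
  by_contra h
  exact hj (hw j (fun h' => h ⟨h'.1, h'.2⟩))

/-! ### additive functions on abelian categories -/

/-- A dimension function on an abelian category: `d` is additive on short exact sequences whose
middle term satisfies the finiteness condition `P`, which then passes to the outer terms. -/
structure DimFn (𝒜 : Type w) [Category.{v} 𝒜] [Abelian 𝒜] where
  d : 𝒜 → ℤ
  P : 𝒜 → Prop
  ses : ∀ (S : ShortComplex 𝒜), S.ShortExact → P S.X₂ →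
    P S.X₁ ∧ P S.X₃ ∧ d S.X₂ = d S.X₁ + d S.X₃
  zero : ∀ M : 𝒜, IsZero M → d M = 0

namespace DimFn

variable {𝒜 : Type w} [Category.{v} 𝒜] [Abelian 𝒜] (D : DimFn 𝒜)

lemma four_term {A B K Q : 𝒜} (f : A ⟶ B) (k : K ⟶ A) (wk : k ≫ f = 0)
    (hk : IsLimit (KernelFork.ofι k wk)) (c : B ⟶ Q) (wc : f ≫ c = 0)
    (hc : IsColimit (CokernelCofork.ofπ c wc)) (hA : D.P A) (hB : D.P B) :
    D.P K ∧ D.P Q ∧ D.d K - D.d A + D.d B - D.d Q = 0 := by
  have w1 : k ≫ Abelian.factorThruImage f = 0 := by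
    rw [← cancel_mono (Abelian.image.ι f), Category.assoc, Abelian.image.fac, wk, zero_comp]
  have w2 : Abelian.image.ι f ≫ c = 0 := by
    rw [← cancel_epi (Abelian.factorThruImage f), ← Category.assoc, Abelian.image.fac, wc,
      comp_zero]
  have hS1 : (ShortComplex.mk k (Abelian.factorThruImage f) w1).ShortExact := by
    have hm : Mono k := mono_of_isLimit_fork hk
    refine ShortComplex.ShortExact.mk' (ShortComplex.exact_of_f_is_kernel _ ?_) hm
      (inferInstanceAs (Epi (Abelian.factorThruImage f)))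
    exact isKernelOfComp (Abelian.image.ι f) f hk w1 (Abelian.image.fac f)
  have hS2 : (ShortComplex.mk (Abelian.image.ι f) c w2).ShortExact := by
    have he : Epi c := epi_of_isColimit_cofork hc
    refine ShortComplex.ShortExact.mk' (ShortComplex.exact_of_g_is_cokernel _ ?_)
      (inferInstanceAs (Mono (Abelian.image.ι f))) he
    exact isCokernelOfComp (Abelian.factorThruImage f) f hc w2 (Abelian.image.fac f)
  have e1 : D.d A = D.d K + D.d (Abelian.image f) := (D.ses _ hS1 hA).2.2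
  have e2 : D.d B = D.d (Abelian.image f) + D.d Q := (D.ses _ hS2 hB).2.2
  have hK : D.P K := (D.ses _ hS1 hA).1
  have hQ : D.P Q := (D.ses _ hS2 hB).2.1
  exact ⟨hK, hQ, by omega⟩

variable (K : CochainComplex 𝒜 ℤ)

lemma P_opcycles (hK : ∀ j, D.P (K.X j)) (j : ℤ) : D.P (K.opcycles j) :=
  (D.four_term (K.d (j - 1) j) (kernel.ι _) (kernel.condition _) (kernelIsKernel _)
    (K.pOpcycles j) (K.d_pOpcycles (j - 1) j) (K.opcyclesIsCokernel (j - 1) j (by simp))
    (hK _) (hK _)).2.1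

lemma homology_rel (hK : ∀ j, D.P (K.X j)) (j : ℤ) :
    D.P (K.homology j) ∧ D.d (K.homology j) =
      D.d (K.opcycles j) - D.d (K.X (j + 1)) + D.d (K.opcycles (j + 1)) := by
  have w : K.fromOpcycles j (j + 1) ≫ K.pOpcycles (j + 1) = 0 := by
    rw [← cancel_epi (K.pOpcycles j)]
    simp
  have hc : IsColimit (CokernelCofork.ofπ (K.pOpcycles (j + 1)) w) :=
    isCokernelOfComp (K.pOpcycles j) (K.d j (j + 1))
      (K.opcyclesIsCokernel j (j + 1) (by simp)) w (K.p_fromOpcycles j (j + 1))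
  have h := D.four_term (K.fromOpcycles j (j + 1)) (K.homologyι j)
    (K.homologyι_comp_fromOpcycles j (j + 1)) (K.homologyIsKernel j (j + 1) (by simp))
    (K.pOpcycles (j + 1)) w hc (D.P_opcycles K hK j) (hK _)
  refine ⟨h.1, ?_⟩
  have h3 := h.2.2
  omega

theorem euler_poincare (a b : ℤ) (hv : ∀ j, ¬ (a ≤ j ∧ j ≤ b) → IsZero (K.X j))
    (hK : ∀ j, D.P (K.X j)) :
    ∑ᶠ j : ℤ, ((j.negOnePow : ℤˣ) : ℤ) * D.d (K.homology j) =
      ∑ᶠ j : ℤ, ((j.negOnePow : ℤˣ) : ℤ) * D.d (K.X j) := by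
  obtain ⟨u, hu⟩ : ∃ u : ℤ → ℤ, u = fun j => ((j.negOnePow : ℤˣ) : ℤ) * D.d (K.opcycles j) :=
    ⟨_, rfl⟩
  obtain ⟨x, hx⟩ : ∃ x : ℤ → ℤ, x = fun j => ((j.negOnePow : ℤˣ) : ℤ) * D.d (K.X j) :=
    ⟨_, rfl⟩
  have hu0 : ∀ j, ¬ (a ≤ j ∧ j ≤ b) → u j = 0 := fun j hj => by
    rw [hu]
    show ((j.negOnePow : ℤˣ) : ℤ) * D.d (K.opcycles j) = 0
    rw [D.zero _ (IsZero.of_epi (K.pOpcycles j) (hv j hj)), mul_zero]
  have hx0 : ∀ j, ¬ (a ≤ j ∧ j ≤ b) → x j = 0 := fun j hj => by
    rw [hx]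
    show ((j.negOnePow : ℤˣ) : ℤ) * D.d (K.X j) = 0
    rw [D.zero _ (hv j hj), mul_zero]
  have key : ∀ j, ((j.negOnePow : ℤˣ) : ℤ) * D.d (K.homology j) =
      (u j + x (j + 1)) - u (j + 1) := by
    intro j
    have h := (D.homology_rel K hK j).2
    have hs : (((j + 1).negOnePow : ℤˣ) : ℤ) = -((j.negOnePow : ℤˣ) : ℤ) := by
      rw [Int.negOnePow_succ, Units.val_neg]
    rw [hu, hx]
    show ((j.negOnePow : ℤˣ) : ℤ) * D.d (K.homology j) =
      (((j.negOnePow : ℤˣ) : ℤ) * D.d (K.opcycles j) +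
        (((j + 1).negOnePow : ℤˣ) : ℤ) * D.d (K.X (j + 1))) -
        (((j + 1).negOnePow : ℤˣ) : ℤ) * D.d (K.opcycles (j + 1))
    rw [hs, h]
    ring
  have fu1 : Function.HasFiniteSupport (fun j => u (j + 1)) :=
    hasFiniteSupport_of_Icc _ (a - 1) (b - 1) (fun j hj => hu0 (j + 1) (by omega))
  have fux : Function.HasFiniteSupport (fun j => u j + x (j + 1)) :=
    hasFiniteSupport_of_Icc _ (a - 1) b (fun j hj => by
      show u j + x (j + 1) = 0
      rw [hu0 j (by omega), hx0 (j + 1) (by omega), add_zero])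
  have fu : Function.HasFiniteSupport u := hasFiniteSupport_of_Icc u a b hu0
  have fx1 : Function.HasFiniteSupport (fun j => x (j + 1)) :=
    hasFiniteSupport_of_Icc _ (a - 1) (b - 1) (fun j hj => hx0 (j + 1) (by omega))
  have eu : ∑ᶠ j : ℤ, u (j + 1) = ∑ᶠ j : ℤ, u j :=
    finsum_comp_equiv (Equiv.addRight (1 : ℤ)) (f := u)
  have ex : ∑ᶠ j : ℤ, x (j + 1) = ∑ᶠ j : ℤ, x j :=
    finsum_comp_equiv (Equiv.addRight (1 : ℤ)) (f := x)
  have e1 : ∑ᶠ j : ℤ, ((j.negOnePow : ℤˣ) : ℤ) * D.d (K.homology j) =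
      ∑ᶠ j : ℤ, ((u j + x (j + 1)) - u (j + 1)) := finsum_congr key
  have e2 : ∑ᶠ j : ℤ, ((u j + x (j + 1)) - u (j + 1)) =
      ∑ᶠ j : ℤ, (u j + x (j + 1)) - ∑ᶠ j : ℤ, u (j + 1) := finsum_sub_distrib fux fu1
  have e3 : ∑ᶠ j : ℤ, (u j + x (j + 1)) = ∑ᶠ j : ℤ, u j + ∑ᶠ j : ℤ, x (j + 1) :=
    finsum_add_distrib fu fx1
  have e4 : ∑ᶠ j : ℤ, ((j.negOnePow : ℤˣ) : ℤ) * D.d (K.X j) = ∑ᶠ j : ℤ, x j := by
    rw [hx]
  rw [e1, e2, e3, eu, ex, e4]
  ring

end DimFn

/-! ### one-point schemes -/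

instance additive_toPresheafOfModules (Z : Scheme.{u}) :
    (Scheme.Modules.toPresheafOfModules Z).Additive := ⟨fun {_ _ _ _} => rfl⟩

/-- the global sections functor on modules -/
noncomputable abbrev evT (Z : Scheme.{u}) : Z.Modules ⥤ ModuleCat.{u} (Coh.Γtop Z) :=
  Scheme.Modules.toPresheafOfModules Z ⋙
    PresheafOfModules.evaluation.{u} Z.ringCatSheaf.obj (op ⊤)

/-- a scheme with exactly one point whose ring of global functions is a field -/
structure IsPt (Z : Scheme.{u}) : Prop where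
  isField : IsField (Coh.Γtop Z)
  eq_top : ∀ (W : Z.Opens) (z : Z), z ∈ W → W = ⊤
  nonempty : Nonempty Z

variable {Z : Scheme.{u}}

lemma IsPt.surjective_of_epi (hZ : IsPt Z) {G H : Z.Modules} (φ : G ⟶ H) [Epi φ]
    (s : Γ(H, ⊤)) : ∃ t : Γ(G, ⊤), φ.app ⊤ t = s := by
  obtain ⟨z⟩ := hZ.nonempty
  obtain ⟨W', hW', hz, t, ht⟩ :=
    Groth.Agent.Lib.Helper3.QCExact.exists_local_lift φ ⊤ s z trivial
  obtain rfl := hZ.eq_top W' z hz
  refine ⟨t, ?_⟩
  rw [ht]
  have h1 : homOfLE hW' = 𝟙 (⊤ : Z.Opens) := Subsingleton.elim _ _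
  rw [h1, op_id, CategoryTheory.Functor.map_id]
  rfl

lemma IsPt.preservesFiniteColimits_evT (hZ : IsPt Z) : PreservesFiniteColimits (evT Z) := by
  rw [Functor.preservesFiniteColimits_iff_forall_exact_map_and_epi]
  intro S hS
  haveI := hS.mono_f
  haveI := hS.epi_g
  refine ⟨hS.exact.map_of_mono_of_preservesKernel (evT Z) hS.mono_f inferInstance, ?_⟩
  rw [ModuleCat.epi_iff_surjective]
  intro s
  obtain ⟨t, ht⟩ := hZ.surjective_of_epi S.g s
  exact ⟨t, ht⟩

/-- the dimension of global sections on a one-point scheme -/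
noncomputable def IsPt.dimFn (hZ : IsPt Z) : DimFn Z.Modules where
  d M := (Module.finrank (Coh.Γtop Z) (M.val.obj (op ⊤)) : ℤ)
  P M := Module.Finite (Coh.Γtop Z) (M.val.obj (op ⊤))
  ses S hS h2 := by
    haveI := hZ.preservesFiniteColimits_evT
    have hS' := hS.map_of_exact (evT Z)
    obtain ⟨h1, h3, e⟩ := finrank_ses' hZ.isField (S.map (evT Z)).f.hom (S.map (evT Z)).g.hom
      hS'.moduleCat_injective_f hS'.moduleCat_surjective_g hS'.exact.moduleCat_range_eq_ker h2
    refine ⟨h1, h3, ?_⟩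
    have e' : Module.finrank (Coh.Γtop Z) (S.X₂.val.obj (op ⊤)) =
      Module.finrank (Coh.Γtop Z) (S.X₁.val.obj (op ⊤)) +
        Module.finrank (Coh.Γtop Z) (S.X₃.val.obj (op ⊤)) := e
    show ((Module.finrank (Coh.Γtop Z) (S.X₂.val.obj (op ⊤)) : ℕ) : ℤ) =
      ((Module.finrank (Coh.Γtop Z) (S.X₁.val.obj (op ⊤)) : ℕ) : ℤ) +
        ((Module.finrank (Coh.Γtop Z) (S.X₃.val.obj (op ⊤)) : ℕ) : ℤ)
    rw [e']
    exact Nat.cast_add _ _
  zero M hM := by
    have h0 : IsZero ((evT Z).obj M) := Functor.map_isZero (evT Z) hM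
    haveI : Subsingleton (M.val.obj (op ⊤)) := ModuleCat.subsingleton_of_isZero h0
    haveI : Nontrivial (Coh.Γtop Z) := hZ.isField.nontrivial
    show ((Module.finrank (Coh.Γtop Z) (M.val.obj (op ⊤)) : ℕ) : ℤ) = 0
    rw [Module.finrank_zero_of_subsingleton]
    exact Nat.cast_zero

theorem IsPt.euler_poincare (hZ : IsPt Z) (C : CochainComplex Z.Modules ℤ) (a b : ℤ)
    (hv : ∀ j, ¬ (a ≤ j ∧ j ≤ b) → IsZero (C.X j))
    (hC : ∀ j, Module.Finite (Coh.Γtop Z) ((C.X j).val.obj (op ⊤))) :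
    ∑ᶠ j : ℤ, ((j.negOnePow : ℤˣ) : ℤ) *
        (Module.finrank (Coh.Γtop Z) ((C.homology j).val.obj (op ⊤)) : ℤ) =
      ∑ᶠ j : ℤ, ((j.negOnePow : ℤˣ) : ℤ) *
        (Module.finrank (Coh.Γtop Z) ((C.X j).val.obj (op ⊤)) : ℤ) :=
  hZ.dimFn.euler_poincare C a b hv hC

lemma finrank_eq_of_iso {M N : Z.Modules} (e : M ≅ N) :
    Module.finrank (Coh.Γtop Z) (M.val.obj (op ⊤)) =
      Module.finrank (Coh.Γtop Z) (N.val.obj (op ⊤)) :=
  LinearEquiv.finrank_eq ((evT Z).mapIso e).toLinearEquiv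

lemma finite_of_iso {M N : Z.Modules} (e : M ≅ N)
    (h : Module.Finite (Coh.Γtop Z) (M.val.obj (op ⊤))) :
    Module.Finite (Coh.Γtop Z) (N.val.obj (op ⊤)) := by
  haveI : Module.Finite (Coh.Γtop Z) ((evT Z).obj M) := h
  exact Module.Finite.equiv ((evT Z).mapIso e).toLinearEquiv

lemma finite_freeMod (Z : Scheme.{u}) (n : ℕ) :
    Module.Finite (Coh.Γtop Z) ((FlatMod.freeMod Z n).val.obj (op ⊤)) := by
  show Module.Finite Γ(Z, ⊤) Γ(FlatMod.freeMod Z n, ⊤)
  exact Module.Finite.equiv (Groth.Agent.Lib.Helper17.GammaFun.secEquiv Z n)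

lemma IsPt.finrank_freeMod (hZ : IsPt Z) (n : ℕ) :
    Module.finrank (Coh.Γtop Z) ((FlatMod.freeMod Z n).val.obj (op ⊤)) = n := by
  haveI : Nontrivial Γ(Z, ⊤) := hZ.isField.nontrivial
  show Module.finrank Γ(Z, ⊤) Γ(FlatMod.freeMod Z n, ⊤) = n
  rw [← (Groth.Agent.Lib.Helper17.GammaFun.secEquiv Z n).finrank_eq, Module.finrank_fin_fun]

/-- the spectrum of a residue field is a one-point scheme -/
lemma isPt_spec_residueField (X : Scheme.{u}) (x : X) : IsPt (Spec (X.residueField x)) where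
  isField := by
    show IsField Γ(Spec (X.residueField x), ⊤)
    exact MulEquiv.isField (Field.toIsField (X.residueField x))
      (Scheme.ΓSpecIso (X.residueField x)).commRingCatIsoToRingEquiv.toMulEquiv
  eq_top W z hz := by
    refine TopologicalSpace.Opens.ext ?_
    rw [TopologicalSpace.Opens.coe_top]
    refine Set.eq_univ_of_forall fun w => ?_
    rw [Subsingleton.elim w z]
    exact hz
  nonempty := ⟨default⟩

end Groth.Agent.Lib.Helper13.PtEval
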