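import Mathlib
import Groth.Agent.Lib.Helper13.PtEval
import Groth.Agent.Lib.Helper13.PerfFree
import Groth.Agent.Lib.Helper2.Stk.PerfPull
import Groth.Agent.Lib.Helper2.Stk.LpullOpen
import Groth.Agent.Lib.Helper5.FinLocFreeSections
import Groth.Agent.Lib.Helper3.PbBasic

/-!
# Derived fibres of perfect complexes and the Euler characteristic (helper13)

* `exists_fibre_iso`: if `E|_V ≅ P` with `P` strictly perfect, then for `y ∈ V` the derived fibre
  `L i_y^* E` is the termwise pullback of `P` to `Spec κ(y)`.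
* `eulerChar_eq`: if moreover the terms of `P` are free of ranks `n j`, then
  `χ_E(y) = Σ (-1)^j n j`.
* `eulerChar_isLocallyConstant`: the Euler characteristic of a perfect object is locally constant.
-/

set_option autoImplicit false
set_option backward.isDefEq.respectTransparency false
universe u

namespace Groth.Agent.Lib.Helper13.FibreEuler

open CategoryTheory CategoryTheory.Limits AlgebraicGeometry TopologicalSpace Opposite
open Groth.Agent.Lib.Helper13 Groth.Agent.Lib.Helper13.PtEval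
open Groth.Agent.Lib.Helper2.Stk
attribute [local instance] HasDerivedCategory.standard

/-- the pullback of `O^n` is `O^n` -/
noncomputable def pullbackFreeModIso {X Y : Scheme.{u}} (f : X ⟶ Y) (n : ℕ) :
    (Scheme.Modules.pullback f).obj (FlatMod.freeMod Y n) ≅ FlatMod.freeMod X n :=
  PreservesCoproduct.iso (Scheme.Modules.pullback f) (fun _ : Fin n => Coh.structureModule Y) ≪≫
    Sigma.mapIso (fun _ => Groth.Agent.Lib.Helper3.PbBasic.pbUnit f)

variable {X : Scheme.{u}}

/-- the derived fibre at `y ∈ V` of an object which is strictly perfect on `V` -/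
theorem exists_fibre_iso (E : DCoh.D X) (V : X.Opens)
    (P : CochainComplex (V : Scheme.{u}).Modules ℤ) (hP : DCoh.IsStrictlyPerfect P)
    (e : (DCoh.restrictD V.ι).obj E ≅ DerivedCategory.Q.obj P) (y : X) (hy : y ∈ V)
    [DCoh.HasLpull (X.fromSpecResidueField y)] :
    ∃ g : Spec (X.residueField y) ⟶ (V : Scheme.{u}),
      Nonempty ((DCoh.Lpull (X.fromSpecResidueField y)).obj E ≅
        DerivedCategory.Q.obj ((pullC g).obj P)) := by
  have hr : Set.range (X.fromSpecResidueField y) ⊆ Set.range V.ι := by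
    rw [Scheme.range_fromSpecResidueField, Scheme.Opens.range_ι]
    exact Set.singleton_subset_iff.2 hy
  obtain ⟨g, hg⟩ : ∃ g : Spec (X.residueField y) ⟶ (V : Scheme.{u}),
      g ≫ V.ι = X.fromSpecResidueField y :=
    ⟨IsOpenImmersion.lift V.ι (X.fromSpecResidueField y) hr, IsOpenImmersion.lift_fac _ _ hr⟩
  haveI := hasLpull g
  haveI := hasLpull V.ι
  haveI := hasLpull (g ≫ V.ι)
  obtain ⟨e1⟩ := nonempty_Lpull_congr hg.symm E
  obtain ⟨e3⟩ := nonempty_Lpull_openImmersion_iso V.ι E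
  exact ⟨g, ⟨e1 ≪≫ ((LpullComp g V.ι).app E).symm ≪≫ (DCoh.Lpull g).mapIso (e3 ≪≫ e) ≪≫
    LpullIso g P (kflat_of_isStrictlyPerfect P hP)⟩⟩

/-- the Betti numbers of the derived fibre -/
theorem exists_betti_eq (E : DCoh.D X) (V : X.Opens)
    (P : CochainComplex (V : Scheme.{u}).Modules ℤ) (hP : DCoh.IsStrictlyPerfect P)
    (e : (DCoh.restrictD V.ι).obj E ≅ DerivedCategory.Q.obj P) (y : X) (hy : y ∈ V)
    [DCoh.HasLpull (X.fromSpecResidueField y)] :
    ∃ g : Spec (X.residueField y) ⟶ (V : Scheme.{u}), ∀ j : ℤ, PerfD.betti E y j =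
      Module.finrank (Coh.Γtop (Spec (X.residueField y)))
        ((((pullC g).obj P).homology j).val.obj (op ⊤)) := by
  obtain ⟨g, ⟨ι⟩⟩ := exists_fibre_iso E V P hP e y hy
  refine ⟨g, fun j => ?_⟩
  unfold PerfD.betti
  exact finrank_eq_of_iso ((DerivedCategory.homologyFunctor _ j).mapIso ι ≪≫
    (DerivedCategory.homologyFunctorFactors _ j).app _)

theorem eulerChar_eq (E : DCoh.D X) (V : X.Opens)
    (P : CochainComplex (V : Scheme.{u}).Modules ℤ) (a b : ℤ) (hv : DCoh.VanishesOutside P a b)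
    (n : ℤ → ℕ) (hn : ∀ i, Nonempty (P.X i ≅ FlatMod.freeMod (V : Scheme.{u}) (n i)))
    (e : (DCoh.restrictD V.ι).obj E ≅ DerivedCategory.Q.obj P) (y : X) (hy : y ∈ V)
    [DCoh.HasLpull (X.fromSpecResidueField y)] :
    PerfD.eulerChar E y = ∑ᶠ j : ℤ, ((j.negOnePow : ℤˣ) : ℤ) * (n j : ℤ) := by
  have hP : DCoh.IsStrictlyPerfect P := ⟨⟨a, b, hv⟩, fun i =>
    Groth.Agent.Lib.Helper5.isFinLocFree_of_iso (hn i).some.symm
      (PerfFree.isFinLocFree_freeMod _ _)⟩
  obtain ⟨g, hg⟩ := exists_betti_eq E V P hP e y hy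
  have hZ := isPt_spec_residueField X y
  obtain ⟨C, hC⟩ : ∃ C : CochainComplex (Spec (X.residueField y)).Modules ℤ,
      C = (pullC g).obj P := ⟨_, rfl⟩
  rw [← hC] at hg
  have iC : ∀ j, C.X j ≅ FlatMod.freeMod (Spec (X.residueField y)) (n j) := fun j => by
    rw [hC]
    exact (Scheme.Modules.pullback g).mapIso (hn j).some ≪≫ pullbackFreeModIso g (n j)
  have hfin : ∀ j, Module.Finite (Coh.Γtop (Spec (X.residueField y)))
      ((C.X j).val.obj (op ⊤)) := fun j =>
    finite_of_iso (iC j).symm (finite_freeMod _ (n j))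
  have hrk : ∀ j, Module.finrank (Coh.Γtop (Spec (X.residueField y)))
      ((C.X j).val.obj (op ⊤)) = n j := fun j =>
    (finrank_eq_of_iso (iC j)).trans (hZ.finrank_freeMod (n j))
  have hvC : ∀ j, ¬ (a ≤ j ∧ j ≤ b) → IsZero (C.X j) := fun j hj => by
    rw [hC]
    exact Functor.map_isZero (Scheme.Modules.pullback g) (hv j (by omega))
  have EP := hZ.euler_poincare C a b hvC hfin
  have h1 : PerfD.eulerChar E y = ∑ᶠ j : ℤ, ((j.negOnePow : ℤˣ) : ℤ) *
      (Module.finrank (Coh.Γtop (Spec (X.residueField y)))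
        ((C.homology j).val.obj (op ⊤)) : ℤ) := by
    unfold PerfD.eulerChar
    exact finsum_congr (fun j => by rw [hg j])
  rw [h1, EP]
  exact finsum_congr (fun j => by rw [hrk j])

theorem eulerChar_isLocallyConstant (X : Scheme.{u})
    [∀ x : X, DCoh.HasLpull (X.fromSpecResidueField x)]
    (E : DCoh.D X) (hE : DCoh.IsPerfect E) :
    IsLocallyConstant (fun x : X => PerfD.eulerChar E x) := by
  rw [IsLocallyConstant.iff_exists_open]
  intro x
  obtain ⟨V, hxV, hV⟩ := (PerfFree.isPerfect_iff_locally_free E).1 hE x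
  obtain ⟨P, a, b, hv, hfree, ⟨e₀⟩⟩ :=
    hV (DerivedCategory.Q.objPreimage E) ⟨DerivedCategory.Q.objObjPreimageIso E⟩
  choose n hn using hfree
  have e : (DCoh.restrictD V.ι).obj E ≅ DerivedCategory.Q.obj P :=
    (DCoh.restrictD V.ι).mapIso (DerivedCategory.Q.objObjPreimageIso E).symm ≪≫
      (Scheme.Modules.restrictFunctor V.ι).mapDerivedCategoryFactors.app _ ≪≫ e₀
  refine ⟨V, V.2, hxV, fun y hy => ?_⟩
  show PerfD.eulerChar E y = PerfD.eulerChar E x
  rw [eulerChar_eq E V P a b hv n hn e y hy, eulerChar_eq E V P a b hv n hn e x hxV]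

end Groth.Agent.Lib.Helper13.FibreEuler
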