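import Mathlib
import Groth.Agent.Lib.Helper13.FibreEuler
import Groth.Agent.Lib.Helper13.PCohTri
import Groth.Agent.Lib.Helper2.Stk.DerivedTri
import Groth.Agent.Lib.Helper7.FibDim
import Groth.Agent.Lib.Helper17.PbNat
import Groth.Agent.Lib.Helper3.QCProps
import Groth.Agent.Lib.Helper3.QCExact
import Groth.Agent.Lib.Helper3.LocFreeCrit

/-!
# Upper semicontinuity of the Betti numbers of the derived fibres (helper13)

* `finrank_tensor_eq_fibDim`: `dim_L (L ⊗_A W) = dim_{κ(p)} (κ(p) ⊗_A W)` for a field `L` over `A`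
  with `p = ker (A → L)`.
* `fibre_sections`: for a one-point affine scheme `g : Z ⟶ Y` landing in an affine open `U` and a
  quasi-coherent module `N`, `dim Γ(Z, g^* N)` is the fibre dimension of `Γ(N, U)` at the prime of
  `g z`.
* `betti_pullback_eq`: the Betti number of the pullback of a complex with finite locally free terms
  in terms of fibre dimensions of the cokernels of the differentials.
* `isOpen_betti_lt`: if `E` is `(p-1)`-pseudo-coherent then `x ↦ β_p(x)` is upper semicontinuous.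
-/

set_option autoImplicit false
set_option backward.isDefEq.respectTransparency false
universe u

namespace Groth.Agent.Lib.Helper13.FibreUSC

open CategoryTheory CategoryTheory.Limits AlgebraicGeometry TopologicalSpace Opposite TensorProduct
open Groth.Agent.Lib.Helper13 Groth.Agent.Lib.Helper13.PtEval
  Groth.Agent.Lib.Helper13.FibreEuler Groth.Agent.Lib.Helper13.PCohTri
open Groth.Agent.Lib.Helper2.Stk Groth.Agent.Lib.Helper3 Groth.Agent.Lib.Helper7
  Groth.Agent.Lib.Helper17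
attribute [local instance] HasDerivedCategory.standard

/-! ### algebra -/

lemma finrank_tensor_eq_fibDim {A : Type u} [CommRing A] (W : Type u) [AddCommGroup W]
    [Module A W] (L : Type u) [CommRing L] (hL : IsField L) [Algebra A L]
    (p : PrimeSpectrum A) (hp : p.asIdeal = RingHom.ker (algebraMap A L)) :
    Module.finrank L (L ⊗[A] W) = fibDim W p := by
  haveI : Nontrivial L := hL.nontrivial
  have h2 : p.asIdeal.primeCompl ≤ (IsUnit.submonoid L).comap (algebraMap A L) := by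
    intro a ha
    have hne : algebraMap A L a ≠ 0 := fun h0 => ha (by rw [hp]; exact RingHom.mem_ker.2 h0)
    obtain ⟨b, hb⟩ := hL.mul_inv_cancel hne
    show IsUnit (algebraMap A L a)
    exact isUnit_iff_exists_inv.2 ⟨b, hb⟩
  let ψ : p.asIdeal.ResidueField →+* L :=
    Ideal.ResidueField.lift p.asIdeal (algebraMap A L) hp.le h2
  letI : Algebra p.asIdeal.ResidueField L := ψ.toAlgebra
  haveI : IsScalarTower A p.asIdeal.ResidueField L := IsScalarTower.of_algebraMap_eq (fun a =>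
    (Ideal.ResidueField.lift_algebraMap p.asIdeal (algebraMap A L) hp.le h2 a).symm)
  rw [← (TensorProduct.AlgebraTensorModule.cancelBaseChange A p.asIdeal.ResidueField L L
    W).finrank_eq, Module.finrank_baseChange]
  rfl

/-! ### sections of the pullback to a point -/

section PointDatum

variable {Y Z : Scheme.{u}}

/-- the linear map on sections over `U` induced by a morphism of modules -/
noncomputable def appLin {M N : Y.Modules} (φ : M ⟶ N) (U : Y.Opens) :
    Γ(M, U) →ₗ[Γ(Y, U)] Γ(N, U) where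
  toFun := φ.app U
  map_add' := fun a b => map_add _ a b
  map_smul' := fun r x => Scheme.Modules.Hom.app_smul φ r x

theorem fibre_sections (hZ : IsPt Z) [IsAffine Z] (g : Z ⟶ Y) (z : Z) {U : Y.Opens}
    (hU : IsAffineOpen U) (hz : g z ∈ U) (N : Y.Modules) [N.IsQuasicoherent] :
    Module.finrank (Coh.Γtop Z) (((Scheme.Modules.pullback g).obj N).val.obj (op ⊤)) =
        fibDim Γ(N, U) (hU.primeIdealOf ⟨g z, hz⟩) ∧
      (Module.Finite Γ(Y, U) Γ(N, U) →
        Module.Finite (Coh.Γtop Z) (((Scheme.Modules.pullback g).obj N).val.obj (op ⊤))) := by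
  have e : (⊤ : Z.Opens) ≤ g ⁻¹ᵁ U := (hZ.eq_top (g ⁻¹ᵁ U) z hz).ge
  have hT : IsAffineOpen (⊤ : Z.Opens) := isAffineOpen_top Z
  letI alg : Algebra Γ(Y, U) Γ(Z, ⊤) := (g.appLE U ⊤ e).hom.toAlgebra
  letI mod : Module Γ(Y, U) Γ((Scheme.Modules.pullback g).obj N, ⊤) :=
    Module.compHom _ (g.appLE U ⊤ e).hom
  obtain ⟨hst, β, hβ, -⟩ := PbNat.isBaseChange_secMap g hU hT e N
  have hL : IsField Γ(Z, ⊤) := hZ.isField
  have hbot : (hT.primeIdealOf ⟨z, trivial⟩).asIdeal = ⊥ := by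
    letI := hL.toField
    exact (Ideal.eq_bot_or_top _).resolve_right (hT.primeIdealOf ⟨z, trivial⟩).isPrime.ne_top
  have hp : (hU.primeIdealOf ⟨g z, hz⟩).asIdeal =
      RingHom.ker (algebraMap Γ(Y, U) Γ(Z, ⊤)) := by
    have h1 := IsAffineOpen.comap_primeIdealOf_appLE (f := g) (x := z) U hU ⊤ hT e trivial
    rw [← h1]
    show Ideal.comap (g.appLE U ⊤ e).hom (hT.primeIdealOf ⟨z, trivial⟩).asIdeal = _
    rw [hbot]
    rfl
  constructor
  · show Module.finrank Γ(Z, ⊤) Γ((Scheme.Modules.pullback g).obj N, ⊤) = _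
    rw [← hβ.equiv.finrank_eq]
    exact finrank_tensor_eq_fibDim Γ(N, U) Γ(Z, ⊤) hL (hU.primeIdealOf ⟨g z, hz⟩) hp
  · intro hfin
    show Module.Finite Γ(Z, ⊤) Γ((Scheme.Modules.pullback g).obj N, ⊤)
    exact Module.Finite.equiv hβ.equiv

/-- pullback commutes with the cokernels of the differentials -/
noncomputable def opcyclesPullIso (g : Z ⟶ Y) (P : CochainComplex Y.Modules ℤ) (j : ℤ) :
    ((pullC g).obj P).opcycles j ≅ (Scheme.Modules.pullback g).obj (P.opcycles j) :=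
  IsColimit.coconePointUniqueUpToIso
    (((pullC g).obj P).opcyclesIsCokernel (j - 1) j (by simp))
    ((CokernelCofork.ofπ (P.pOpcycles j) (P.d_pOpcycles (j - 1) j)).mapIsColimit
      (P.opcyclesIsCokernel (j - 1) j (by simp)) (Scheme.Modules.pullback g))

lemma isQuasicoherent_opcycles (P : CochainComplex Y.Modules ℤ)
    (hfl : ∀ i, FlatMod.IsFinLocFree (P.X i)) (j : ℤ) :
    SheafOfModules.IsQuasicoherent (R := Y.ringCatSheaf) (P.opcycles j) := by
  haveI := LocFreeCrit.isQuasicoherent_of_isFinLocFree (hfl (j - 1))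
  haveI := LocFreeCrit.isQuasicoherent_of_isFinLocFree (hfl j)
  have hc := QCProps.isQuasicoherent_cokernel (P.d (j - 1) j)
  have e : cokernel (P.d (j - 1) j) ≅ P.opcycles j :=
    IsColimit.coconePointUniqueUpToIso (cokernelIsCokernel (P.d (j - 1) j))
      (P.opcyclesIsCokernel (j - 1) j (by simp))
  exact (SheafOfModules.isQuasicoherent Y.ringCatSheaf).prop_of_iso e hc

lemma finite_opcycles (P : CochainComplex Y.Modules ℤ)
    (hfl : ∀ i, FlatMod.IsFinLocFree (P.X i)) (j : ℤ) {U : Y.Opens} (hU : IsAffineOpen U) :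
    Module.Finite Γ(Y, U) Γ(P.opcycles j, U) := by
  haveI := LocFreeCrit.isQuasicoherent_of_isFinLocFree (hfl j)
  haveI := isQuasicoherent_opcycles P hfl j
  have hs := (QCExact.epi_iff_surjective_on_affines (P.pOpcycles j)).1 inferInstance U hU
  haveI := (LocFreeCrit.finite_projective_sections (hfl j) hU).1
  exact Module.Finite.of_surjective (appLin (P.pOpcycles j) U) hs

/-- the algebraic Betti function on the spectrum of the sections over an affine open -/
noncomputable def bettiFn (P : CochainComplex Y.Modules ℤ) (p : ℤ) (U : Y.Opens)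
    (q : PrimeSpectrum Γ(Y, U)) : ℤ :=
  (fibDim Γ(P.opcycles p, U) q : ℤ) - (fibDim Γ(P.X (p + 1), U) q : ℤ) +
    (fibDim Γ(P.opcycles (p + 1), U) q : ℤ)

theorem betti_pullback_eq (hZ : IsPt Z) [IsAffine Z] (g : Z ⟶ Y) (z : Z) {U : Y.Opens}
    (hU : IsAffineOpen U) (hz : g z ∈ U) (P : CochainComplex Y.Modules ℤ)
    (hfl : ∀ i, FlatMod.IsFinLocFree (P.X i)) (p : ℤ) :
    (Module.finrank (Coh.Γtop Z) ((((pullC g).obj P).homology p).val.obj (op ⊤)) : ℤ) =
      bettiFn P p U (hU.primeIdealOf ⟨g z, hz⟩) := by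
  obtain ⟨C, hC⟩ : ∃ C : CochainComplex Z.Modules ℤ, C = (pullC g).obj P := ⟨_, rfl⟩
  rw [← hC]
  have hfinC : ∀ j, hZ.dimFn.P (C.X j) := fun j => by
    haveI := LocFreeCrit.isQuasicoherent_of_isFinLocFree (hfl j)
    rw [hC]
    exact (fibre_sections hZ g z hU hz (P.X j)).2
      (LocFreeCrit.finite_projective_sections (hfl j) hU).1
  have e1 : ∀ j, hZ.dimFn.d (C.opcycles j) =
      (fibDim Γ(P.opcycles j, U) (hU.primeIdealOf ⟨g z, hz⟩) : ℤ) := fun j => by
    haveI := isQuasicoherent_opcycles P hfl j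
    show ((Module.finrank (Coh.Γtop Z) ((C.opcycles j).val.obj (op ⊤)) : ℕ) : ℤ) = _
    rw [hC, finrank_eq_of_iso (opcyclesPullIso g P j),
      (fibre_sections hZ g z hU hz (P.opcycles j)).1]
  have e2 : hZ.dimFn.d (C.X (p + 1)) =
      (fibDim Γ(P.X (p + 1), U) (hU.primeIdealOf ⟨g z, hz⟩) : ℤ) := by
    haveI := LocFreeCrit.isQuasicoherent_of_isFinLocFree (hfl (p + 1))
    rw [hC]
    show ((Module.finrank (Coh.Γtop Z)
      (((Scheme.Modules.pullback g).obj (P.X (p + 1))).val.obj (op ⊤)) : ℕ) : ℤ) = _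
    rw [(fibre_sections hZ g z hU hz (P.X (p + 1))).1]
  have h := (hZ.dimFn.homology_rel C hfinC p).2
  rw [e1 p, e2, e1 (p + 1)] at h
  exact h

lemma bettiFn_le_nhds (P : CochainComplex Y.Modules ℤ)
    (hfl : ∀ i, FlatMod.IsFinLocFree (P.X i)) (p : ℤ) {U : Y.Opens} (hU : IsAffineOpen U)
    (q₀ : PrimeSpectrum Γ(Y, U)) :
    ∃ O : Set (PrimeSpectrum Γ(Y, U)), IsOpen O ∧ q₀ ∈ O ∧
      ∀ q ∈ O, bettiFn P p U q ≤ bettiFn P p U q₀ := by
  haveI := finite_opcycles P hfl p hU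
  haveI := finite_opcycles P hfl (p + 1) hU
  obtain ⟨h3f, h3p⟩ := LocFreeCrit.finite_projective_sections (hfl (p + 1)) hU
  obtain ⟨O₁, hO₁, hq₁, hle₁⟩ := fibDim_le_nhds Γ(P.opcycles p, U) q₀
  obtain ⟨O₂, hO₂, hq₂, hle₂⟩ := fibDim_le_nhds Γ(P.opcycles (p + 1), U) q₀
  haveI := h3f
  haveI := h3p
  haveI : Module.FinitePresentation Γ(Y, U) Γ(P.X (p + 1), U) :=
    Module.finitePresentation_of_projective _ _
  have hlc := Module.isLocallyConstant_rankAtStalk (R := Γ(Y, U)) (M := Γ(P.X (p + 1), U))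
  have hO₃ := hlc.isOpen_fiber (Module.rankAtStalk Γ(P.X (p + 1), U) q₀)
  have hfd : ∀ q : PrimeSpectrum Γ(Y, U), fibDim Γ(P.X (p + 1), U) q =
      Module.rankAtStalk Γ(P.X (p + 1), U) q := fun q =>
    (Module.rankAtStalk_eq (M := Γ(P.X (p + 1), U)) q).symm
  refine ⟨(O₁ ∩ O₂) ∩ {q | Module.rankAtStalk Γ(P.X (p + 1), U) q =
      Module.rankAtStalk Γ(P.X (p + 1), U) q₀}, (hO₁.inter hO₂).inter hO₃,
    ⟨⟨hq₁, hq₂⟩, rfl⟩, fun q hq => ?_⟩
  have a1 := hle₁ q hq.1.1
  have a2 := hle₂ q hq.1.2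
  have a3 : fibDim Γ(P.X (p + 1), U) q = fibDim Γ(P.X (p + 1), U) q₀ := by
    rw [hfd, hfd]
    exact hq.2
  unfold bettiFn
  rw [a3]
  omega

end PointDatum

/-! ### the derived fibres -/

variable {X : Scheme.{u}}

theorem exists_betti_eq_of_good (E : DCoh.D X) (V : X.Opens)
    (P : CochainComplex (V : Scheme.{u}).Modules ℤ) (hP : DCoh.IsStrictlyPerfect P)
    (α : DerivedCategory.Q.obj P ⟶ (DCoh.restrictD V.ι).obj E) (m : ℤ)
    (hα : GoodMap.Good m α) (p : ℤ) (hp : m < p) (y : X) (hy : y ∈ V)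
    [DCoh.HasLpull (X.fromSpecResidueField y)] :
    ∃ g : Spec (X.residueField y) ⟶ (V : Scheme.{u}),
      g ≫ V.ι = X.fromSpecResidueField y ∧
      PerfD.betti E y p = Module.finrank (Coh.Γtop (Spec (X.residueField y)))
        ((((pullC g).obj P).homology p).val.obj (op ⊤)) := by
  have hr : Set.range (X.fromSpecResidueField y) ⊆ Set.range V.ι := by
    rw [Scheme.range_fromSpecResidueField, Scheme.Opens.range_ι]
    exact Set.singleton_subset_iff.2 hy
  obtain ⟨g, hg⟩ : ∃ g : Spec (X.residueField y) ⟶ (V : Scheme.{u}),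
      g ≫ V.ι = X.fromSpecResidueField y :=
    ⟨IsOpenImmersion.lift V.ι (X.fromSpecResidueField y) hr, IsOpenImmersion.lift_fac _ _ hr⟩
  haveI := hasLpull g
  haveI := hasLpull V.ι
  haveI := hasLpull (g ≫ V.ι)
  obtain ⟨e1⟩ := nonempty_Lpull_congr hg.symm E
  obtain ⟨e3⟩ := nonempty_Lpull_openImmersion_iso V.ι E
  have ι₀ : (DCoh.Lpull (X.fromSpecResidueField y)).obj E ≅
      (DCoh.Lpull g).obj ((DCoh.restrictD V.ι).obj E) :=
    e1 ≪≫ ((LpullComp g V.ι).app E).symm ≪≫ (DCoh.Lpull g).mapIso e3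
  obtain ⟨cs, tri⟩ := exists_isTriangulated_Lpull g
  letI := cs
  haveI := tri
  have hgood := Groth.Agent.Lib.Helper2.RightTri.pcoh_map (DCoh.Lpull g)
    (fun C m hC => isZero_homology_Lpull g C m hC) α m hα.1 hα.2
  haveI : IsIso ((DerivedCategory.homologyFunctor _ p).map ((DCoh.Lpull g).map α)) :=
    hgood.1 p hp
  refine ⟨g, hg, ?_⟩
  unfold PerfD.betti
  exact finrank_eq_of_iso ((DerivedCategory.homologyFunctor _ p).mapIso ι₀ ≪≫
    (asIso ((DerivedCategory.homologyFunctor _ p).map ((DCoh.Lpull g).map α))).symm ≪≫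
    (DerivedCategory.homologyFunctor _ p).mapIso
      (LpullIso g P (kflat_of_isStrictlyPerfect P hP)) ≪≫
    (DerivedCategory.homologyFunctorFactors _ p).app _)

theorem betti_eq_bettiFn (E : DCoh.D X) (V : X.Opens)
    (P : CochainComplex (V : Scheme.{u}).Modules ℤ) (hP : DCoh.IsStrictlyPerfect P)
    (α : DerivedCategory.Q.obj P ⟶ (DCoh.restrictD V.ι).obj E) (m : ℤ)
    (hα : GoodMap.Good m α) (p : ℤ) (hp : m < p) (U : (V : Scheme.{u}).Opens)
    (hU : IsAffineOpen U) (y : X) (hy : y ∈ V) (hyU : (⟨y, hy⟩ : (V : Scheme.{u})) ∈ U)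
    [DCoh.HasLpull (X.fromSpecResidueField y)] :
    (PerfD.betti E y p : ℤ) = bettiFn P p U (hU.primeIdealOf ⟨⟨y, hy⟩, hyU⟩) := by
  obtain ⟨g, hg, hb⟩ := exists_betti_eq_of_good E V P hP α m hα p hp y hy
  have hZ := isPt_spec_residueField X y
  have hz : g default = (⟨y, hy⟩ : (V : Scheme.{u})) := by
    apply Subtype.ext
    show V.ι (g default) = y
    rw [← Scheme.Hom.comp_apply, hg, Scheme.fromSpecResidueField_apply]
  have hz' : g default ∈ U := by
    rw [hz]
    exact hyU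
  have h := betti_pullback_eq hZ g default hU hz' P hP.2 p
  rw [hb, h]
  rw [show (⟨g default, hz'⟩ : U) = ⟨⟨y, hy⟩, hyU⟩ from Subtype.ext hz]

theorem isOpen_betti_lt (X : Scheme.{u}) [∀ x : X, DCoh.HasLpull (X.fromSpecResidueField x)]
    (E : DCoh.D X) (p : ℤ) (hE : DCoh.IsPseudoCoherentD (p - 1) E) (n : ℕ) :
    IsOpen {x : X | PerfD.betti E x p < n} := by
  rw [isOpen_iff_forall_mem_open]
  intro x₀ hx₀
  obtain ⟨V, hxV, P, α, hP, hα⟩ := (isPC_iff (p - 1) E).1 hE x₀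
  obtain ⟨U, hU, hxU⟩ := QCProps.exists_affine_nbhd (X := (V : Scheme.{u})) ⟨x₀, hxV⟩
  obtain ⟨O, hO, hq₀, hle⟩ :=
    bettiFn_le_nhds P hP.2 p hU (hU.primeIdealOf ⟨⟨x₀, hxV⟩, hxU⟩)
  have hb₀ := betti_eq_bettiFn E V P hP α (p - 1) hα p (by omega) U hU x₀ hxV hxU
  have hT : Continuous (fun u : (U : Scheme.{u}) => hU.primeIdealOf u) :=
    hU.isoSpec.hom.continuous
  refine ⟨V.ι '' (U.ι '' ((fun u : (U : Scheme.{u}) => hU.primeIdealOf u) ⁻¹' O)), ?_, ?_, ?_⟩
  · rintro _ ⟨_, ⟨u, hu, rfl⟩, rfl⟩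
    show PerfD.betti E (V.ι (U.ι u)) p < n
    have hb := betti_eq_bettiFn E V P hP α (p - 1) hα p (by omega) U hU (V.ι (U.ι u))
      (U.ι u).2 u.2
    have h1 : bettiFn P p U (hU.primeIdealOf u) ≤ _ := hle _ hu
    have h2 : (PerfD.betti E (V.ι (U.ι u)) p : ℤ) ≤ (PerfD.betti E x₀ p : ℤ) := by
      rw [hb, hb₀]
      exact h1
    have hx₀' : PerfD.betti E x₀ p < n := hx₀
    omega
  · exact V.ι.isOpenEmbedding.isOpenMap _ (U.ι.isOpenEmbedding.isOpenMap _ (hO.preimage hT))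
  · exact ⟨⟨x₀, hxV⟩, ⟨⟨⟨x₀, hxV⟩, hxU⟩, hq₀, rfl⟩, rfl⟩

end Groth.Agent.Lib.Helper13.FibreUSC
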