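import Mathlib
import Groth.Prelude
import Groth.Agent.Lib.Helper13.CompCount
import Groth.Agent.Lib.Helper13.SteinEt
import Groth.Agent.Lib.Helper17.SchDenseChart
import Groth.Agent.Lib.Helper7.LocFreePn
import Groth.Agent.Lib.Helper7.CurvePair
import Groth.Agent.Lib.Helper3.InvAmple
import Groth.Agent.Lib.Helper3.QCProps

/-!
# Finite flat covers with `H⁰(coker(O_Y → ρ_* O_X)) = 0` are geometrically connected (helper13)
-/

set_option autoImplicit false
set_option linter.style.haveILetI false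
universe u
open CategoryTheory CategoryTheory.Limits AlgebraicGeometry TopologicalSpace Opposite TensorProduct

namespace Groth.Agent.Lib.Helper13.FinCovConn

open Groth.Agent.Lib.Helper3 Groth.Agent.Lib.Helper3.InvGen

/-- `h⁰(O_Y) = 1` for a proper, geometrically connected and geometrically reduced scheme over a
field. -/
theorem finrank_gamma_eq_one (k : Type u) [Field k] {Y : Scheme.{u}}
    (g : Y ⟶ Spec (CommRingCat.of k)) [IsProper g] [GeometricallyConnected g]
    [GeometricallyReduced g] :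
    letI : Algebra k Γ(Y, ⊤) := (Coh.toGlobal g).toAlgebra
    Module.finrank k Γ(Y, ⊤) = 1 := by
  letI : Algebra k Γ(Y, ⊤) := (Coh.toGlobal g).toAlgebra
  obtain ⟨a, ha⟩ : ∃ a : Spec (CommRingCat.of (SeparableClosure k)) ⟶ Spec (CommRingCat.of k),
      a = Spec.map (CommRingCat.ofHom (algebraMap k (SeparableClosure k))) := ⟨_, rfl⟩
  have H : IsPullback (pullback.fst g a) (pullback.snd g a) g a := IsPullback.of_hasPullback g a
  haveI : ConnectedSpace ↥(pullback g a) :=
    GeometricallyConnected.geometrically_connectedSpace (f := g) a _ _ H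
  have h1 := CompCount.enatCard_connectedComponents_eq_finrank (pullback.snd g a)
  have h2 := CompCount.finrank_gamma_baseChange g (by rw [← ha]; exact H)
  have h3 : ENat.card (_root_.ConnectedComponents ↥(pullback g a)) = 1 := by
    rw [ENat.card_eq_one_iff_unique]
    exact ⟨⟨⟨ConnectedComponents.mk (Nonempty.some inferInstance)⟩,
      fun _ => Subsingleton.elim _ _⟩⟩
  rw [h3] at h1
  rw [← h2]
  exact_mod_cast h1.symm

theorem surjective_toGlobal (k : Type u) [Field k] {Y : Scheme.{u}}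
    (g : Y ⟶ Spec (CommRingCat.of k)) [IsProper g] [GeometricallyConnected g]
    [GeometricallyReduced g] : Function.Surjective (Coh.toGlobal g) := by
  letI : Algebra k Γ(Y, ⊤) := (Coh.toGlobal g).toAlgebra
  have h := finrank_gamma_eq_one k g
  haveI : Nontrivial Γ(Y, ⊤) := Module.nontrivial_of_finrank_pos (R := k) (by rw [h]; exact one_pos)
  have h1 : Function.Surjective (algebraMap k Γ(Y, ⊤)) := by
    rw [Algebra.surjective_algebraMap_iff]
    exact (Subalgebra.bot_eq_top_of_finrank_eq_one h).symm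
  exact h1

/-- every global function on `X` comes from `Y` when `H⁰` of the cokernel vanishes. -/
theorem exists_appTop_eq {X Y : Scheme.{u}} (ρ : X ⟶ Y) [Flat ρ] [Surjective ρ]
    (h0 : Subsingleton (Coh.HH Y (cokernel (ClSub.unitToPush ρ)) 0)) (s : Γ(X, ⊤)) :
    ∃ t : Γ(Y, ⊤), ρ.appTop t = s := by
  haveI : Mono (ClSub.unitToPush ρ) := by
    rw [QCProps.mono_iff_app_injective]
    intro W a b hab
    exact Groth.Agent.Lib.Helper17.SchDenseChart.app_injective_of_flat_of_surjective ρ W hab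
  obtain ⟨M, hM⟩ : ∃ M : Y.Modules,
      M = (Scheme.Modules.pushforward ρ).obj (Coh.structureModule X) := ⟨_, rfl⟩
  let s' : Γ((Scheme.Modules.pushforward ρ).obj (Coh.structureModule X), ⊤) := s
  let σ := InvAmple.globalHom _ s'
  have hσ : σ ≫ cokernel.π (ClSub.unitToPush ρ) = 0 :=
    Groth.Agent.Lib.Helper7.LocFreePn.hom_unit_eq_zero _ h0 _
  let τ := Abelian.monoLift (ClSub.unitToPush ρ) σ hσ
  have hτ : τ ≫ ClSub.unitToPush ρ = σ := Abelian.monoLift_comp _ _ _
  refine ⟨InvGen.toFun ⊤ (InvGen.sec τ ⊤), ?_⟩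
  have h1 : InvGen.sec (τ ≫ ClSub.unitToPush ρ) ⊤ = s' := by
    rw [hτ]; exact Groth.Agent.Lib.Helper7.CurvePair.sec_globalHom_top _ s'
  rw [InvGen.sec_comp] at h1
  exact h1

theorem main (k : Type u) [Field k] (X Y : Scheme.{u}) (g : Y ⟶ Spec (CommRingCat.of k))
    (ρ : X ⟶ Y) [IsProper g] [GeometricallyConnected g] [GeometricallyReduced g]
    [IsFinite ρ] [Flat ρ] [Surjective ρ]
    (h0 : Subsingleton (Coh.HH Y (cokernel (ClSub.unitToPush ρ)) 0)) :
    GeometricallyConnected (ρ ≫ g) := by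
  obtain ⟨q, hq⟩ : ∃ q : X ⟶ Spec (CommRingCat.of k), q = ρ ≫ g := ⟨_, rfl⟩
  haveI : IsProper q := by rw [hq]; infer_instance
  rw [← hq]
  have hsurj : Function.Surjective (Coh.toGlobal q) := by
    intro s
    obtain ⟨t, ht⟩ := exists_appTop_eq ρ h0 s
    obtain ⟨c, hc⟩ := surjective_toGlobal k g t
    refine ⟨c, ?_⟩
    rw [← ht, ← hc, hq]
    unfold Coh.toGlobal
    rw [Scheme.Hom.comp_appTop]
    rfl
  haveI : Nonempty Y := by
    haveI : Surjective g := inferInstance
    obtain ⟨y, -⟩ := ‹Surjective g›.surj (⟨⊥, Ideal.isPrime_bot⟩ : Spec (CommRingCat.of k))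
    exact ⟨y⟩
  haveI : Nonempty X := by
    obtain ⟨x, -⟩ := ‹Surjective ρ›.surj (Nonempty.some ‹Nonempty Y›)
    exact ⟨x⟩
  haveI hnt : Nontrivial Γ(X, ⊤) :=
    @Scheme.component_nontrivial X ⊤ ⟨⟨Nonempty.some ‹Nonempty X›, trivial⟩⟩
  haveI : Nontrivial (Coh.Γtop X) := hnt
  have hinj : Function.Injective (Coh.toGlobal q) := RingHom.injective _
  haveI : IsIso ((Scheme.ΓSpecIso (CommRingCat.of k)).inv ≫ q.appTop) := by
    rw [ConcreteCategory.isIso_iff_bijective]
    exact ⟨hinj, hsurj⟩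
  haveI : IsIso (SteinEt.πB q) := by
    unfold SteinEt.πB
    infer_instance
  rw [← SteinEt.toSpecΓ_πB q]
  exact (MorphismProperty.cancel_right_of_respectsIso @GeometricallyConnected _ _).mpr
    (SteinEt.geometricallyConnected_toSpecΓ k q)

end Groth.Agent.Lib.Helper13.FinCovConn
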