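import Mathlib
import Groth.Prelude.Def_PerfAux

/-!
# R3 for helper2 (S1003): bijectivity of `PerfAux.homSumToHomCoprod` is the finite-sum property
-/

set_option autoImplicit false
universe w v u
open CategoryTheory CategoryTheory.Limits

namespace Groth.Agent.Lib.Helper13.FinSumBij

variable {D : Type u} [Category.{v} D] [Preadditive D]

theorem bijective_iff_forall_finSum (K : D) {ι : Type w} (X : ι → D) [HasCoproduct X] :
    Function.Bijective (PerfAux.homSumToHomCoprod K X) ↔
      ∀ φ : K ⟶ ∐ X, ∃ (F : Finset ι) (g : ∀ i, K ⟶ X i), φ = ∑ i ∈ F, g i ≫ Sigma.ι X i := by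
  classical
  have hof : ∀ (k : ι) (g : K ⟶ X k),
      PerfAux.homSumToHomCoprod K X (DirectSum.of (fun k => K ⟶ X k) k g) = g ≫ Sigma.ι X k := by
    intro k g
    unfold PerfAux.homSumToHomCoprod
    rw [DirectSum.toAddMonoid_of]
    rfl
  let π : ∀ j, ∐ X ⟶ X j := fun j =>
    Sigma.desc (fun i => if h : i = j then eqToHom (congrArg X h) else 0)
  have hιπ : ∀ i j, Sigma.ι X i ≫ π j = if h : i = j then eqToHom (congrArg X h) else 0 :=
    fun i j => Sigma.ι_desc _ _
  have hcomp : ∀ (x : DirectSum ι fun i => K ⟶ X i) (j : ι),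
      PerfAux.homSumToHomCoprod K X x ≫ π j = x j := by
    intro x j
    induction x using DirectSum.induction_on with
    | zero => simp
    | of k g =>
      rw [hof, Category.assoc, hιπ]
      by_cases h : k = j
      · subst h
        rw [dif_pos rfl, eqToHom_refl, Category.comp_id, DirectSum.of_eq_same]
      · rw [dif_neg h, comp_zero, DirectSum.of_eq_of_ne _ _ _ (Ne.symm h)]
    | add x y hx hy => rw [map_add, Preadditive.add_comp, hx, hy, DirectSum.add_apply]
  have hinj : Function.Injective (PerfAux.homSumToHomCoprod K X) := by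
    rw [injective_iff_map_eq_zero]
    intro x hx
    refine DFinsupp.ext (fun j => ?_)
    rw [← hcomp, hx, zero_comp]
    rfl
  constructor
  · intro hb φ
    obtain ⟨x, rfl⟩ := hb.2 φ
    refine ⟨DFinsupp.support x, fun i => x i, ?_⟩
    conv_lhs => rw [← DirectSum.sum_support_of x]
    rw [map_sum]
    exact Finset.sum_congr rfl (fun i _ => hof i (x i))
  · intro h
    refine ⟨hinj, fun φ => ?_⟩
    obtain ⟨F, g, rfl⟩ := h φ
    refine ⟨∑ i ∈ F, DirectSum.of (fun k => K ⟶ X k) i (g i), ?_⟩
    rw [map_sum]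
    exact Finset.sum_congr rfl (fun i _ => hof i (g i))

end Groth.Agent.Lib.Helper13.FinSumBij
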