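import Mathlib
import Groth.Agent.Lib.Helper13.SheafHomExact

/-!
# Ext sheaves via a resolution by modules with exact internal hom (helper13)

On a small ringed site: if `E_• → F → 0` is a resolution such that every `ℋ(E_j, -)` is exact, then
`ℰxt^i(F, G) ≅ H^i(ℋ(E_•, G))`.
-/

set_option autoImplicit false
universe u v u₁ v₁

open CategoryTheory CategoryTheory.Limits Opposite

noncomputable section

namespace Groth.Agent.Lib.Helper13.FlfResolution

open Groth.Agent.Lib.Helper13 Groth.Agent.Lib.Helper13.SheafHomExact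

section Homology

variable {B : Type u₁} [Category.{v₁} B] [Abelian B]

theorem nonempty_homology_iso_cokernel (S : ShortComplex B) {Z : B} (m : Z ⟶ S.X₂) [Mono m]
    (wm : m ≫ S.g = 0) (hm : (ShortComplex.mk m S.g wm).Exact) (a : S.X₁ ⟶ Z)
    (ha : a ≫ m = S.f) : Nonempty (S.homology ≅ cokernel a) := by
  haveI : Mono (ShortComplex.mk m S.g wm).f := ‹Mono m›
  have hi : IsLimit (KernelFork.ofι m wm) := hm.fIsKernel
  let f' : S.X₁ ⟶ Z := hi.lift (KernelFork.ofι S.f S.zero)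
  have hf' : f' = a := by
    rw [← cancel_mono m, ha]
    exact hi.fac (KernelFork.ofι S.f S.zero) WalkingParallelPair.zero
  let h : S.LeftHomologyData :=
    { K := Z
      H := cokernel f'
      i := m
      π := cokernel.π f'
      wi := wm
      hi := hi
      wπ := cokernel.condition f'
      hπ := cokernelIsCokernel f' }
  exact ⟨h.homologyIso ≪≫ cokernelIsoOfEq hf'⟩

end Homology

variable {C : Type u} [SmallCategory C] {J : GrothendieckTopology C} {O : Sheaf J CommRingCat.{u}}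

/-- every module has an internal hom -/
local instance hsh (N : ModSite.Mod O) : ModSite.HasSheafHom N := ModSiteTensor.hasSheafHom O N

theorem pfc_of_epi (M : ModSite.Mod O)
    (h : ∀ {B B' : ModSite.Mod O} (g : B ⟶ B'), Epi g → Epi ((ModSite.sheafHom M).map g)) :
    PreservesFiniteColimits (ModSite.sheafHom M) := by
  have hfl := pfl_sheafHom M
  refine ((Functor.preservesFiniteColimits_tfae (ModSite.sheafHom M)).out 0 3).mp ?_
  intro S hS
  have := (Functor.preservesFiniteLimits_iff_forall_exact_map_and_mono (ModSite.sheafHom M)).mp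
    hfl S hS
  exact ⟨this.1, h S.g hS.epi_g⟩

variable (G : ModSite.Mod O) (E : ChainComplex (ModSite.Mod O) ℕ)

/-- the short complex `ℋ(E_n,G) → ℋ(E_{n+1},G) → ℋ(E_{n+2},G)` -/
def Hsc (n : ℕ) : ShortComplex (ModSite.Mod O) :=
  ShortComplex.mk ((ExtSupp.sheafHomMap (E.d (n + 1) n)).app G)
    ((ExtSupp.sheafHomMap (E.d (n + 2) (n + 1))).app G)
    (by rw [sheafHomMap_comp_app, E.d_comp_d, sheafHomMap_zero_app])

/-- the syzygy -/
abbrev K' (j : ℕ) : ModSite.Mod O := cokernel (E.d (j + 2) (j + 1))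

abbrev p' (j : ℕ) : E.X (j + 1) ⟶ K' E j := cokernel.π _

abbrev ι (j : ℕ) : K' E j ⟶ E.X j := cokernel.desc _ (E.d (j + 1) j) (E.d_comp_d _ _ _)

lemma p'_ι (j : ℕ) : p' E j ≫ ι E j = E.d (j + 1) j := cokernel.π_desc _ _ _

lemma mono_ι (j : ℕ) (hex : E.ExactAt (j + 1)) : Mono (ι E j) := by
  have h := (E.exactAt_iff' (j + 2) (j + 1) j (by simp) (by simp)).1 hex
  exact (ShortComplex.exact_iff_mono_cokernel_desc _).1 h

lemma w_ι (j : ℕ) {K : ModSite.Mod O} (p : E.X j ⟶ K) (hp : E.d (j + 1) j ≫ p = 0) :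
    ι E j ≫ p = 0 := by
  rw [← cancel_epi (p' E j), ← Category.assoc, p'_ι, hp, comp_zero]

lemma shortExact_ι (j : ℕ) (hex : E.ExactAt (j + 1)) {K : ModSite.Mod O} (p : E.X j ⟶ K) [Epi p]
    (hp : E.d (j + 1) j ≫ p = 0) (hpe : (ShortComplex.mk (E.d (j + 1) j) p hp).Exact) :
    (ShortComplex.mk (ι E j) p (w_ι E j p hp)).ShortExact := by
  haveI := mono_ι E j hex
  refine ShortComplex.ShortExact.mk' ?_ (mono_ι E j hex) ‹Epi p›
  let φ : ShortComplex.mk (E.d (j + 1) j) p hp ⟶ ShortComplex.mk (ι E j) p (w_ι E j p hp) :=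
    { τ₁ := p' E j
      τ₂ := 𝟙 _
      τ₃ := 𝟙 _
      comm₁₂ := by
        dsimp
        rw [p'_ι, Category.comp_id]
      comm₂₃ := by
        dsimp
        rw [Category.id_comp, Category.comp_id] }
  haveI : Epi φ.τ₁ := inferInstanceAs (Epi (p' E j))
  haveI : IsIso φ.τ₂ := inferInstanceAs (IsIso (𝟙 _))
  haveI : Mono φ.τ₃ := inferInstanceAs (Mono (𝟙 _))
  exact (ShortComplex.exact_iff_of_epi_of_isIso_of_mono φ).1 hpe

theorem Hsc_homology (j : ℕ) :
    Nonempty ((Hsc G E j).homology ≅ cokernel ((ExtSupp.sheafHomMap (ι E j)).app G)) := by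
  have hmono : Mono ((ExtSupp.sheafHomMap (p' E j)).app G) := mono_sheafHomMap_app (p' E j) G
  have ha : (ExtSupp.sheafHomMap (ι E j)).app G ≫ (ExtSupp.sheafHomMap (p' E j)).app G =
      (Hsc G E j).f := by
    rw [sheafHomMap_comp_app, p'_ι]
    rfl
  exact @nonempty_homology_iso_cokernel _ _ _ (Hsc G E j) _
    ((ExtSupp.sheafHomMap (p' E j)).app G) hmono
    (by
      change (ExtSupp.sheafHomMap (p' E j)).app G ≫
        (ExtSupp.sheafHomMap (E.d (j + 2) (j + 1))).app G = 0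
      rw [sheafHomMap_comp_app, cokernel.condition, sheafHomMap_zero_app])
    (exact_sheafHomMap (E.d (j + 2) (j + 1)) (p' E j) (cokernel.condition _)
      (ShortComplex.exact_cokernel _) G)
    ((ExtSupp.sheafHomMap (ι E j)).app G) ha

variable [HasInjectiveResolutions (ModSite.Mod O)]

theorem claim (hex : ∀ j : ℕ, E.ExactAt (j + 1))
    (hE : ∀ j : ℕ, PreservesFiniteColimits (ModSite.sheafHom (E.X j))) (i : ℕ) :
    ∀ (j : ℕ) (K : ModSite.Mod O) (p : E.X j ⟶ K) [Epi p] (hp : E.d (j + 1) j ≫ p = 0)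
      (_ : (ShortComplex.mk (E.d (j + 1) j) p hp).Exact),
      Nonempty ((ModSite.extSh K (i + 1)).obj G ≅ (Hsc G E (j + i)).homology) := by
  induction i with
  | zero =>
    intro j K p _ hp hpe
    obtain ⟨e1⟩ := nonempty_cokernel_iso (ι E j) p (w_ι E j p hp)
      (shortExact_ι E j (hex j) p hp hpe) (hE j) G
    obtain ⟨e2⟩ := Hsc_homology G E j
    exact ⟨(e2 ≪≫ e1).symm⟩
  | succ i ih =>
    intro j K p _ hp hpe
    obtain ⟨e1⟩ := nonempty_extSh_iso (ι E j) p (w_ι E j p hp)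
      (shortExact_ι E j (hex j) p hp hpe) (hE j) i G
    obtain ⟨e2⟩ := ih (j + 1) (K' E j) (p' E j) (cokernel.condition _)
      (ShortComplex.exact_cokernel _)
    have h : j + 1 + i = j + (i + 1) := by omega
    rw [← h]
    exact ⟨e1.symm ≪≫ e2⟩

theorem main (F : ModSite.Mod O) (π : E.X 0 ⟶ F) [Epi π] (hπ : E.d 1 0 ≫ π = 0)
    (hex0 : (ShortComplex.mk (E.d 1 0) π hπ).Exact) (hex : ∀ j : ℕ, E.ExactAt (j + 1))
    (hE : ∀ j : ℕ, PreservesFiniteColimits (ModSite.sheafHom (E.X j)))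
    (C : CochainComplex (ModSite.Mod O) ℕ)
    (e : ∀ j : ℕ, C.X j ≅ (ModSite.sheafHom (E.X j)).obj G)
    (hC : ∀ j : ℕ, C.d j (j + 1) ≫ (e (j + 1)).hom =
      (e j).hom ≫ (ExtSupp.sheafHomMap (E.d (j + 1) j)).app G)
    (i : ℕ) :
    Nonempty (C.homology i ≅ (ModSite.extSh F i).obj G) := by
  cases i with
  | zero =>
    have hC' : C.d 0 1 = (e 0).hom ≫ (ExtSupp.sheafHomMap (E.d 1 0)).app G ≫ (e 1).inv := by
      rw [← Category.assoc, ← hC, Category.assoc, Iso.hom_inv_id, Category.comp_id]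
    let S := C.sc' 0 0 1
    let iso0 : C.homology 0 ≅ S.homology :=
      ShortComplex.homologyMapIso (C.isoSc' 0 0 1 (by simp) (by simp))
    haveI : Mono ((ExtSupp.sheafHomMap π).app G) := mono_sheafHomMap_app π G
    let m : (ModSite.sheafHom F).obj G ⟶ S.X₂ := (ExtSupp.sheafHomMap π).app G ≫ (e 0).inv
    haveI : Mono m := mono_comp _ _
    have hz : (ExtSupp.sheafHomMap π).app G ≫ (ExtSupp.sheafHomMap (E.d 1 0)).app G = 0 := by
      rw [sheafHomMap_comp_app, hπ, sheafHomMap_zero_app]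
    have wm : m ≫ S.g = 0 := by
      change ((ExtSupp.sheafHomMap π).app G ≫ (e 0).inv) ≫ C.d 0 1 = 0
      rw [hC', Category.assoc, Iso.inv_hom_id_assoc, reassoc_of% hz, zero_comp]
    have hm : (ShortComplex.mk m S.g wm).Exact := by
      refine ShortComplex.exact_of_iso ?_
        (exact_sheafHomMap (E.d 1 0) π hπ hex0 G)
      refine ShortComplex.isoMk (Iso.refl _) (e 0).symm (e 1).symm ?_ ?_
      · dsimp
        rw [Category.id_comp]
      · change (e 0).inv ≫ C.d 0 1 = (ExtSupp.sheafHomMap (E.d 1 0)).app G ≫ (e 1).inv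
        rw [hC', Iso.inv_hom_id_assoc]
    have ha : (0 : S.X₁ ⟶ (ModSite.sheafHom F).obj G) ≫ m = S.f := by
      rw [zero_comp]
      exact (C.shape 0 0 (by simp)).symm
    obtain ⟨e3⟩ := nonempty_homology_iso_cokernel S m wm hm 0 ha
    haveI := pfl_sheafHom F
    exact ⟨iso0 ≪≫ e3 ≪≫ cokernelZeroIsoTarget ≪≫
      ((ModSite.sheafHom F).rightDerivedZeroIsoSelf.app G).symm⟩
  | succ i =>
    have h := claim G E hex hE i 0 F π hπ hex0
    rw [Nat.zero_add] at h
    obtain ⟨e1⟩ := h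
    let S := C.sc' i (i + 1) (i + 2)
    let iso0 : C.homology (i + 1) ≅ S.homology :=
      ShortComplex.homologyMapIso (C.isoSc' i (i + 1) (i + 2) (by simp) (by simp))
    let iso1 : S ≅ Hsc G E i :=
      ShortComplex.isoMk (e i) (e (i + 1)) (e (i + 2)) (hC i).symm (hC (i + 1)).symm
    exact ⟨iso0 ≪≫ ShortComplex.homologyMapIso iso1 ≪≫ e1.symm⟩

end Groth.Agent.Lib.Helper13.FlfResolution
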