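import Mathlib
import Groth.Prelude
import Groth.Agent.Lib.Helper13.RigidGC

/-!
# The ring of formal functions along a connected closed subscheme of a proper scheme over an
algebraically closed field is local with residue field `k`.
-/

set_option autoImplicit false
set_option linter.style.haveILetI false
set_option maxHeartbeats 1600000
universe u
open CategoryTheory CategoryTheory.Limits AlgebraicGeometry TopologicalSpace Opposite

namespace Groth.Agent.Lib.Helper13.FormalLocal

section Lim

variable {R : ℕ → CommRingCat.{u}} (f : ∀ n, R (n + 1) ⟶ R n)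

/-- the projection of the limit onto the `n`-th term, with the expected type. -/
noncomputable def proj (n : ℕ) : ↑(limit (Functor.ofOpSequence f)) →+* ↑(R n) :=
  (limit.π (Functor.ofOpSequence f) (op n)).hom

lemma proj_compat (n : ℕ) (x : ↑(limit (Functor.ofOpSequence f))) :
    (f n).hom (proj f (n + 1) x) = proj f n x := by
  have h := limit.w (Functor.ofOpSequence f) (homOfLE (Nat.le_add_right n 1)).op
  rw [Functor.ofOpSequence_map_homOfLE_succ] at h
  exact congrArg (fun φ => φ.hom x) h

/-- an element of a sequential limit of commutative rings all of whose components are units is a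
unit. -/
theorem isUnit_of_forall_isUnit (a : ↑(limit (Functor.ofOpSequence f)))
    (h : ∀ n, IsUnit (proj f n a)) : IsUnit a := by
  choose v hv using fun n => (isUnit_iff_exists_inv.1 (h n))
  have hvc : ∀ n, (f n).hom (v (n + 1)) = v n := by
    intro n
    have h1 : proj f n a * (f n).hom (v (n + 1)) = 1 := by
      rw [← proj_compat f n a, ← map_mul, hv (n + 1), map_one]
    calc (f n).hom (v (n + 1)) = (f n).hom (v (n + 1)) * (proj f n a * v n) := by
          rw [hv n, mul_one]
      _ = (proj f n a * (f n).hom (v (n + 1))) * v n := by ring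
      _ = v n := by rw [h1, one_mul]
  let ψ : ∀ n, Polynomial ↑(limit (Functor.ofOpSequence f)) →+* ↑(R n) := fun n =>
    Polynomial.eval₂RingHom (proj f n) (v n)
  have hψ : ∀ n, (f n).hom.comp (ψ (n + 1)) = ψ n := by
    intro n
    apply Polynomial.ringHom_ext
    · intro x
      simp only [ψ, RingHom.comp_apply, Polynomial.coe_eval₂RingHom, Polynomial.eval₂_C]
      exact proj_compat f n x
    · simp only [ψ, RingHom.comp_apply, Polynomial.coe_eval₂RingHom, Polynomial.eval₂_X]
      exact hvc n
  let c : Cone (Functor.ofOpSequence f) :=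
    { pt := CommRingCat.of (Polynomial ↑(limit (Functor.ofOpSequence f)))
      π := NatTrans.ofOpSequence (fun n => CommRingCat.ofHom (ψ n)) (fun n => by
        rw [Functor.ofOpSequence_map_homOfLE_succ]
        simp only [Functor.const_obj_obj, Functor.const_obj_map, Category.id_comp]
        apply CommRingCat.hom_ext
        show ψ n = (f n).hom.comp (ψ (n + 1))
        exact (hψ n).symm) }
  have hb : ∀ n, proj f n ((limit.lift (Functor.ofOpSequence f) c).hom Polynomial.X) = v n := by
    intro n
    have h1 := limit.lift_π c (op n)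
    have h2 := congrArg (fun φ => φ.hom Polynomial.X) h1
    have h3 : proj f n ((limit.lift (Functor.ofOpSequence f) c).hom Polynomial.X) =
        (ψ n) Polynomial.X := h2
    rw [h3]
    simp only [ψ, Polynomial.coe_eval₂RingHom, Polynomial.eval₂_X]
  refine isUnit_iff_exists_inv.2 ⟨(limit.lift (Functor.ofOpSequence f) c).hom Polynomial.X, ?_⟩
  apply Concrete.limit_ext
  rintro ⟨n⟩
  show proj f n (a * _) = proj f n 1
  rw [map_mul, hb n, hv n, map_one]

end Lim

section Main

variable (k : Type u) [Field k] [IsAlgClosed k] (X : Scheme.{u})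
  [X.Over (Spec (CommRingCat.of k))] [IsProper (X ↘ (Spec (CommRingCat.of k)))]
  (𝓘 : X.IdealSheafData)

lemma connectedSpace_subscheme (hY : _root_.IsConnected (𝓘.support : Set X)) (m : ℕ) :
    ConnectedSpace ↥(𝓘 ^ (m + 1)).subscheme := by
  rw [connectedSpace_iff_univ]
  have hr : Set.range (𝓘 ^ (m + 1)).subschemeι.base = (𝓘.support : Set X) := by
    rw [Scheme.IdealSheafData.range_subschemeι, Scheme.IdealSheafData.support_pow_succ]
  have hemb : Topology.IsEmbedding (𝓘 ^ (m + 1)).subschemeι.base :=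
    (𝓘 ^ (m + 1)).subschemeι.isEmbedding
  constructor
  · obtain ⟨x, hx⟩ := hY.nonempty
    rw [← hr] at hx
    obtain ⟨z, -⟩ := hx
    exact ⟨z, Set.mem_univ z⟩
  · rw [← hemb.isInducing.isPreconnected_image, Set.image_univ, hr]
    exact hY.isPreconnected

lemma mem_basicOpen_multiset_prod {Z : Scheme.{u}} (z : Z) (s : Multiset Γ(Z, ⊤))
    (h : ∀ t ∈ s, z ∈ Z.basicOpen t) : z ∈ Z.basicOpen s.prod := by
  induction s using Multiset.induction_on with
  | empty =>
    rw [Multiset.prod_zero, Scheme.basicOpen_of_isUnit _ isUnit_one]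
    trivial
  | cons t s ih =>
    rw [Multiset.prod_cons, Scheme.basicOpen_mul]
    exact ⟨h t (Multiset.mem_cons_self t s), ih fun t' ht' => h t' (Multiset.mem_cons_of_mem ht')⟩

/-- a global function on a nonempty universally closed scheme over an algebraically closed field takes
a value in `k` at any given point. -/
lemma exists_const_not_mem_basicOpen {Z : Scheme.{u}} (q : Z ⟶ Spec (CommRingCat.of k))
    [UniversallyClosed q] (a : Γ(Z, ⊤)) (z : Z) :
    ∃ c : k, z ∉ Z.basicOpen (a - q.appTop.hom ((Scheme.ΓSpecIso (CommRingCat.of k)).inv.hom c)) := by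
  let F : CommRingCat.of k ⟶ Γ(Z, ⊤) := (Scheme.ΓSpecIso (CommRingCat.of k)).inv ≫ q.appTop
  have hFint : F.hom.IsIntegral := by
    apply RingHom.isIntegral_respectsIso.2
      (e := (Scheme.ΓSpecIso _).symm.commRingCatIsoToRingEquiv)
    exact isIntegral_appTop_of_universallyClosed q
  obtain ⟨P, hPm, hP0⟩ := hFint a
  have hsplit : P = (P.roots.map fun r => Polynomial.X - Polynomial.C r).prod :=
    (IsAlgClosed.splits P).eq_prod_roots_of_monic hPm
  have h0 : (P.roots.map fun r => a - F.hom r).prod = 0 := by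
    have h1 : Polynomial.eval₂ F.hom a P = 0 := hP0
    rw [hsplit] at h1
    have h2 : Polynomial.eval₂ F.hom a
        (P.roots.map fun r => Polynomial.X - Polynomial.C r).prod =
        ((P.roots.map fun r => Polynomial.X - Polynomial.C r).map
          (Polynomial.eval₂RingHom F.hom a)).prod :=
      map_multiset_prod (Polynomial.eval₂RingHom F.hom a) _
    rw [h2, Multiset.map_map] at h1
    have h3 : (fun r => a - F.hom r) =
        (⇑(Polynomial.eval₂RingHom F.hom a) ∘ fun r => Polynomial.X - Polynomial.C r) := by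
      funext r
      simp
    rw [h3]
    exact h1
  by_contra hcon
  push Not at hcon
  have h4 : z ∈ Z.basicOpen (P.roots.map fun r => a - F.hom r).prod := by
    apply mem_basicOpen_multiset_prod
    intro t ht
    obtain ⟨r, -, rfl⟩ := Multiset.mem_map.1 ht
    exact hcon r
  rw [h0, Scheme.basicOpen_zero] at h4
  exact h4

/-- the rings `Γ(Y_m, O)`. -/
noncomputable abbrev RR (m : ℕ) : CommRingCat.{u} := Γ((𝓘 ^ (m + 1)).subscheme, ⊤)

/-- the restriction maps. -/
noncomputable abbrev fm (m : ℕ) : RR X 𝓘 (m + 1) ⟶ RR X 𝓘 m :=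
  (Scheme.IdealSheafData.inclusion (Lef.pow_succ_le 𝓘 m)).appTop

/-- the main statement. -/
theorem main11393 (hY : _root_.IsConnected (𝓘.support : Set X)) :
    IsLocalRing ↑(limit (Functor.ofOpSequence
        (X := fun m : ℕ => Γ((𝓘 ^ (m + 1)).subscheme, ⊤))
        (fun m : ℕ => (Scheme.IdealSheafData.inclusion (Lef.pow_succ_le 𝓘 m)).appTop))) ∧
      ∀ a : ↑(limit (Functor.ofOpSequence
        (X := fun m : ℕ => Γ((𝓘 ^ (m + 1)).subscheme, ⊤))
        (fun m : ℕ => (Scheme.IdealSheafData.inclusion (Lef.pow_succ_le 𝓘 m)).appTop))),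
        ∃ c : k, ∀ m : ℕ, IsNilpotent (Sub.sub (α := ↑Γ((𝓘 ^ (m + 1)).subscheme, ⊤))
          ((limit.π (Functor.ofOpSequence
              (X := fun m : ℕ => Γ((𝓘 ^ (m + 1)).subscheme, ⊤))
              (fun m : ℕ => (Scheme.IdealSheafData.inclusion (Lef.pow_succ_le 𝓘 m)).appTop)) (Opposite.op m)).hom a)
          (((𝓘 ^ (m + 1)).subschemeι ≫ (X ↘ Spec (CommRingCat.of k))).appTop.hom
            ((Scheme.ΓSpecIso (CommRingCat.of k)).inv.hom c))) := by
  -- notation
  let inc : ∀ m : ℕ, (𝓘 ^ (m + 1)).subscheme ⟶ (𝓘 ^ (m + 2)).subscheme := fun m =>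
    Scheme.IdealSheafData.inclusion (Lef.pow_succ_le 𝓘 m)
  let str : ∀ m : ℕ, (𝓘 ^ (m + 1)).subscheme ⟶ Spec (CommRingCat.of k) := fun m =>
    (𝓘 ^ (m + 1)).subschemeι ≫ (X ↘ Spec (CommRingCat.of k))
  let cst : ∀ m : ℕ, k → Γ((𝓘 ^ (m + 1)).subscheme, ⊤) := fun m c =>
    (str m).appTop.hom ((Scheme.ΓSpecIso (CommRingCat.of k)).inv.hom c)
  haveI hconn : ∀ m, ConnectedSpace ↥(𝓘 ^ (m + 1)).subscheme :=
    connectedSpace_subscheme X 𝓘 hY
  have hstr : ∀ m, inc m ≫ str (m + 1) = str m := by
    intro m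
    show Scheme.IdealSheafData.inclusion (Lef.pow_succ_le 𝓘 m) ≫
      (𝓘 ^ (m + 2)).subschemeι ≫ (X ↘ Spec (CommRingCat.of k)) = _
    rw [← Category.assoc, Scheme.IdealSheafData.inclusion_subschemeι]
  have hcst : ∀ m c, (fm X 𝓘 m).hom (cst (m + 1) c) = cst m c := by
    intro m c
    have h1 : (str (m + 1)).appTop ≫ (inc m).appTop = (str m).appTop := by
      rw [← Scheme.Hom.comp_appTop, hstr]
    exact congrArg (fun φ => φ.hom ((Scheme.ΓSpecIso (CommRingCat.of k)).inv.hom c)) h1
  have hcstmap : ∀ m, ∀ c d : k, cst m (c + d) = cst m c + cst m d := by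
    intro m c d
    simp only [cst, map_add]
  -- the value of an element
  have key : ∀ a : ↑(limit (Functor.ofOpSequence (fm X 𝓘))),
      ∃ c : k, ∀ m : ℕ, IsNilpotent (proj (fm X 𝓘) m a - cst m c) := by
    intro a
    obtain ⟨y0⟩ : Nonempty ↥(𝓘 ^ (0 + 1)).subscheme := (hconn 0).toNonempty
    obtain ⟨c, hc⟩ := exists_const_not_mem_basicOpen k (str 0) (proj (fm X 𝓘) 0 a) y0
    refine ⟨c, fun m => ?_⟩
    have hpt : ∃ ym : ↥(𝓘 ^ (m + 1)).subscheme,
        ym ∉ (𝓘 ^ (m + 1)).subscheme.basicOpen (proj (fm X 𝓘) m a - cst m c) := by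
      induction m with
      | zero => exact ⟨y0, hc⟩
      | succ m ih =>
        obtain ⟨ym, hym⟩ := ih
        refine ⟨(inc m).base ym, fun hmem => hym ?_⟩
        have h3 : ym ∈ (inc m) ⁻¹ᵁ
            (𝓘 ^ (m + 1 + 1)).subscheme.basicOpen (proj (fm X 𝓘) (m + 1) a - cst (m + 1) c) := hmem
        rw [Scheme.preimage_basicOpen] at h3
        have h4 : (inc m).app ⊤ (proj (fm X 𝓘) (m + 1) a - cst (m + 1) c) =
            proj (fm X 𝓘) m a - cst m c := by
          show (fm X 𝓘 m).hom (proj (fm X 𝓘) (m + 1) a - cst (m + 1) c) = _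
          rw [map_sub, proj_compat (fm X 𝓘) m a, hcst]
        rw [h4] at h3
        exact h3
    obtain ⟨ym, hym⟩ := hpt
    exact RigidGC.isNilpotent_of_not_mem_basicOpen (str m) _ ym hym
  refine ⟨?_, fun a => ?_⟩
  · -- local ring
    haveI : Nontrivial ↑(limit (Functor.ofOpSequence (fm X 𝓘))) := by
      refine ⟨⟨0, 1, fun h01 => ?_⟩⟩
      have h1 := congrArg (proj (fm X 𝓘) 0) h01
      rw [map_zero, map_one] at h1
      obtain ⟨y0⟩ : Nonempty ↥(𝓘 ^ (0 + 1)).subscheme := (hconn 0).toNonempty
      have h2 : y0 ∈ (𝓘 ^ (0 + 1)).subscheme.basicOpen (1 : Γ((𝓘 ^ (0 + 1)).subscheme, ⊤)) := by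
        rw [Scheme.basicOpen_of_isUnit _ isUnit_one]
        trivial
      rw [← h1, Scheme.basicOpen_zero] at h2
      exact h2
    apply IsLocalRing.of_isUnit_or_isUnit_one_sub_self
    intro a
    obtain ⟨c, hc⟩ := key a
    by_cases hc0 : c = 0
    · right
      apply isUnit_of_forall_isUnit
      intro m
      have h1 : IsNilpotent (proj (fm X 𝓘) m a) := by
        have h2 := hc m
        have h3 : cst m c = 0 := by
          simp only [cst, hc0, map_zero]
        rwa [h3, sub_zero] at h2
      rw [map_sub, map_one]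
      exact h1.isUnit_one_sub
    · left
      apply isUnit_of_forall_isUnit
      intro m
      have hu : IsUnit (cst m c) := by
        have h1 : IsUnit c := IsUnit.mk0 c hc0
        exact (h1.map _).map _
      have h2 : proj (fm X 𝓘) m a = cst m c + (proj (fm X 𝓘) m a - cst m c) := by ring
      rw [h2]
      exact (hc m).isUnit_add_left_of_commute hu (Commute.all _ _)
  · obtain ⟨c, hc⟩ := key a
    exact ⟨c, fun m => hc m⟩

end Main

end Groth.Agent.Lib.Helper13.FormalLocal
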