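/-
Helper13 library: the fppf topology is generated by Zariski covers and affine quasi-finite fppf
singletons (uses the quasi-finite refinement S2735).
-/
import Groth.Agent.S2735
import Mathlib

set_option autoImplicit false
set_option linter.style.haveILetI false
open CategoryTheory CategoryTheory.Limits AlgebraicGeometry Opposite
universe u w

namespace Groth.Agent.Lib.Helper13.FppfQF

abbrev P' : MorphismProperty Scheme.{u} := @Flat ⊓ @LocallyOfFinitePresentation ⊓ @LocallyQuasiFinite
abbrev P0 : MorphismProperty Scheme.{u} := @Flat ⊓ @LocallyOfFinitePresentation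

instance lfpMul : MorphismProperty.IsMultiplicative
    (@LocallyOfFinitePresentation : MorphismProperty Scheme.{u}) where
  id_mem _ := inferInstance
  comp_mem f g hf hg := by
    haveI : LocallyOfFinitePresentation f := hf
    haveI : LocallyOfFinitePresentation g := hg
    infer_instance


theorem fppf_eq : Scheme.fppfTopology.{u} = Scheme.propQCTopology P0.{u} := by
  have : Scheme.fppfPrecoverage.{u} = Scheme.propQCPrecoverage P0.{u} := by
    refine le_antisymm (le_inf ?_ le_rfl) inf_le_right
    exact Scheme.precoverage_le_qcPrecoverage_of_isOpenMap fun X Y f ⟨_, _⟩ ↦ f.isOpenMap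
  unfold Scheme.fppfTopology Scheme.propQCTopology
  rw [this]

theorem main (F : Scheme.{u}ᵒᵖ ⥤ Type w) :
    Presheaf.IsSheaf Scheme.fppfTopology F ↔
      Presheaf.IsSheaf Scheme.zariskiTopology F ∧
        ∀ (T S : Scheme.{u}) [IsAffine T] [IsAffine S] (f : T ⟶ S)
          [Flat f] [Surjective f] [LocallyOfFinitePresentation f] [LocallyQuasiFinite f],
          Presieve.IsSheafFor F (Presieve.singleton f) := by
  rw [isSheaf_iff_isSheaf_of_type, isSheaf_iff_isSheaf_of_type]
  constructor
  · intro hF
    refine ⟨Presieve.isSheaf_of_le _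
      (Precoverage.toGrothendieck_mono Scheme.zariskiPrecoverage_le_fppfPrecoverage) hF, ?_⟩
    intro T S _ _ f _ _ _ _
    apply hF.isSheafFor
    apply Precoverage.generate_mem_toGrothendieck
    change Presieve.singleton f ∈ Scheme.precoverage P0.{u} S
    rw [Scheme.singleton_mem_precoverage_iff]
    exact ⟨f.surjective, ‹Flat f›, ‹LocallyOfFinitePresentation f›⟩
  · rintro ⟨hzar, hqf⟩
    have hF' : Presieve.IsSheaf (Scheme.propQCTopology P'.{u}) F := by
      rw [isSheaf_type_propQCTopology_iff]
      refine ⟨hzar, fun {R S} φ hφ hs => ?_⟩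
      haveI : Flat (Spec.map φ) := hφ.1.1
      haveI : LocallyOfFinitePresentation (Spec.map φ) := hφ.1.2
      haveI : LocallyQuasiFinite (Spec.map φ) := hφ.2
      exact hqf _ _ (Spec.map φ)
    rw [fppf_eq, isSheaf_type_propQCTopology_iff]
    refine ⟨hzar, fun {R S} φ hφ hs => ?_⟩
    haveI : Flat (Spec.map φ) := hφ.1
    haveI : LocallyOfFinitePresentation (Spec.map φ) := hφ.2
    obtain ⟨S'', g, h, hgh, hgfl, hgfp, hgqf, hgs, haff⟩ := Groth.Agent.S2735.result (Spec.map φ)
    haveI : IsAffine S'' := haff inferInstance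
    have hmem : Sieve.generate (Presieve.singleton g) ∈ Scheme.propQCTopology P'.{u} (Spec R) :=
      Scheme.Hom.generate_singleton_mem_propQCTopology g ⟨⟨hgfl, hgfp⟩, hgqf⟩
    rw [Presieve.isSheafFor_iff_generate]
    refine Presieve.isSheafFor_subsieve_aux F (S := Sieve.generate (Presieve.singleton g)) ?_
      ((Presieve.isSheafFor_iff_generate _).1 (hF'.isSheafFor _ hmem)) ?_
    · intro Y ψ hψ
      obtain ⟨Z, a, b, hb, rfl⟩ := hψ
      obtain ⟨⟩ := hb
      exact ⟨_, a ≫ h, Spec.map φ, Presieve.singleton.mk, by rw [Category.assoc, hgh]⟩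
    · intro Y ψ _
      refine (hF'.isSheafFor _ ?_).isSeparatedFor
      rw [Sieve.generate_sieve]
      exact (Scheme.propQCTopology P'.{u}).pullback_stable ψ hmem

end Groth.Agent.Lib.Helper13.FppfQF
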