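import Mathlib
import Groth.Agent.Lib.Helper13.FunctorLES

/-!
# Helper13: the long exact sequence of right derived functors for a short exact sequence of
functors, objectwise exactness statements (complement to `FunctorLES`)
-/

set_option autoImplicit false
open CategoryTheory CategoryTheory.Limits

namespace Groth.Agent.Lib.Helper13.FunctorLES

universe v v' u u'

section Aux

variable {B : Type u'} [Category.{v'} B] [Abelian B]

lemma exact_transport {X₁ X₂ X₃ Y₁ Y₂ Y₃ : B} (a₁ : X₁ ≅ Y₁) (a₂ : X₂ ≅ Y₂) (a₃ : X₃ ≅ Y₃)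
    (f : Y₁ ⟶ Y₂) (g : Y₂ ⟶ Y₃) (w : f ≫ g = 0) (h : (ShortComplex.mk f g w).Exact)
    (f' : X₁ ⟶ X₂) (g' : X₂ ⟶ X₃) (hf : f' = a₁.hom ≫ f ≫ a₂.inv)
    (hg : g' = a₂.hom ≫ g ≫ a₃.inv) :
    ∃ w' : f' ≫ g' = 0, (ShortComplex.mk f' g' w').Exact := by
  subst hf hg
  have w' : (a₁.hom ≫ f ≫ a₂.inv) ≫ a₂.hom ≫ g ≫ a₃.inv = 0 := by
    simp only [Category.assoc, Iso.inv_hom_id_assoc]
    rw [reassoc_of% w, zero_comp, comp_zero]
  refine ⟨w', ShortComplex.exact_of_iso ?_ h⟩
  refine (ShortComplex.isoMk a₁ a₂ a₃ ?_ ?_).symm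
  · simp only [Category.assoc, Iso.inv_hom_id, Category.comp_id]
  · simp only [Category.assoc, Iso.inv_hom_id, Category.comp_id]

lemma zero_nat_aux {P P' Q R S T : B} (t : P ⟶ Q) (a : Q ≅ R) (hm : R ⟶ S) (b : T ≅ S)
    (g : P ⟶ P') (t' : P' ⟶ T) (r : Q ⟶ T) (hr : r = a.hom ≫ hm ≫ b.inv)
    (h1 : g ≫ (t' ≫ b.hom) = (t ≫ a.hom) ≫ hm) : t ≫ r = g ≫ t' := by
  subst hr
  rw [← cancel_mono b.hom]
  simp only [Category.assoc, Iso.inv_hom_id, Category.comp_id]
  simpa only [Category.assoc] using h1.symm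

end Aux

variable {A : Type u} [Category.{v} A] [Abelian A] [HasInjectiveResolutions A]
  {B : Type u'} [Category.{v'} B] [Abelian B]

section Nat

variable {F G : A ⥤ B} [F.Additive] [G.Additive] (γ : F ⟶ G)

/-- naturality of `toRightDerivedZero` in the functor -/
lemma toRightDerivedZero_naturality (X : A) :
    F.toRightDerivedZero.app X ≫ (NatTrans.rightDerived γ 0).app X =
      γ.app X ≫ G.toRightDerivedZero.app X :=
  zero_nat_aux _ _ _ _ _ _ _
    (InjectiveResolution.rightDerived_app_eq γ (injectiveResolution X) 0) (cmp_naturality γ X)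

lemma mono_rightDerived_zero_app [PreservesFiniteLimits F] [PreservesFiniteLimits G] (X : A)
    [Mono (γ.app X)] : Mono ((NatTrans.rightDerived γ 0).app X) := by
  have h := toRightDerivedZero_naturality γ X
  have h2 : (NatTrans.rightDerived γ 0).app X =
      inv (F.toRightDerivedZero.app X) ≫ γ.app X ≫ G.toRightDerivedZero.app X := by
    rw [← h, IsIso.inv_hom_id_assoc]
  rw [h2]
  infer_instance

end Nat

variable {F₁ F₂ F₃ : A ⥤ B} [F₁.Additive] [F₂.Additive] [F₃.Additive] (α : F₁ ⟶ F₂) (β : F₂ ⟶ F₃)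
  (hαβ : α ≫ β = 0)
  (hex : ∀ (I : A), Injective I →
    (ShortComplex.mk (α.app I) (β.app I) (app_zero α β hαβ I)).ShortExact)

include hex in
lemma exact₂ (q : ℕ) (X : A) :
    ∃ w : (NatTrans.rightDerived α q).app X ≫ (NatTrans.rightDerived β q).app X = 0,
      (ShortComplex.mk ((NatTrans.rightDerived α q).app X) ((NatTrans.rightDerived β q).app X)
        w).Exact :=
  exact_transport ((injectiveResolution X).isoRightDerivedObj F₁ q)
    ((injectiveResolution X).isoRightDerivedObj F₂ q)
    ((injectiveResolution X).isoRightDerivedObj F₃ q) _ _ _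
    ((shortExact_res α β hαβ hex X).homology_exact₂ q) _ _
    (InjectiveResolution.rightDerived_app_eq α (injectiveResolution X) q)
    (InjectiveResolution.rightDerived_app_eq β (injectiveResolution X) q)

lemma exact₃ (q : ℕ) (X : A) :
    ∃ w : (NatTrans.rightDerived β q).app X ≫ (δNat α β hαβ hex q).app X = 0,
      (ShortComplex.mk ((NatTrans.rightDerived β q).app X) ((δNat α β hαβ hex q).app X)
        w).Exact :=
  exact_transport ((injectiveResolution X).isoRightDerivedObj F₂ q)
    ((injectiveResolution X).isoRightDerivedObj F₃ q)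
    ((injectiveResolution X).isoRightDerivedObj F₁ (q + 1)) _ _ _
    ((shortExact_res α β hαβ hex X).homology_exact₃ q (q + 1) rfl) _ _
    (InjectiveResolution.rightDerived_app_eq β (injectiveResolution X) q) rfl

lemma exact₁ (q : ℕ) (X : A) :
    ∃ w : (δNat α β hαβ hex q).app X ≫ (NatTrans.rightDerived α (q + 1)).app X = 0,
      (ShortComplex.mk ((δNat α β hαβ hex q).app X) ((NatTrans.rightDerived α (q + 1)).app X)
        w).Exact :=
  exact_transport ((injectiveResolution X).isoRightDerivedObj F₃ q)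
    ((injectiveResolution X).isoRightDerivedObj F₁ (q + 1))
    ((injectiveResolution X).isoRightDerivedObj F₂ (q + 1)) _ _ _
    ((shortExact_res α β hαβ hex X).homology_exact₁ q (q + 1) rfl) _ _ rfl
    (InjectiveResolution.rightDerived_app_eq α (injectiveResolution X) (q + 1))

end Groth.Agent.Lib.Helper13.FunctorLES
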