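/-
Helper13 library: geometric fibres of the classifying object of a proper scheme over a field in the
stack of curves, unfolded to cartesian squares of schemes (following helper1's S17309), plus
invariance of the dimension under field extension in `IsPullback` form (helper12).
-/
import Mathlib
import Groth.Prelude.Def_StCurv2
import Groth.Agent.Lib.Helper12.BaseChange

set_option autoImplicit false
set_option linter.style.haveILetI false
universe u
open CategoryTheory CategoryTheory.Limits AlgebraicGeometry CurvSt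

namespace Groth.Agent.Lib.Helper13.GeomFibField

/-- `GeomFib` of the classifying object of `X / k`, unfolded to cartesian squares of schemes. -/
theorem geomFib_iff (S : Scheme.{u}) (k : Type u) [Field k] (t : Spec (CommRingCat.of k) ⟶ S)
    (X : Scheme.{u}) (p : X ⟶ Spec (CommRingCat.of k))
    (P : ∀ (Ω : Type u) [Field Ω] [IsAlgClosed Ω] (X' : Scheme.{u}),
      (X' ⟶ Spec (CommRingCat.of Ω)) → Prop) :
    CurvSt.GeomFib (fun Ω _ _ X' q _ => P Ω X' q)
        ((CurvSt.toSpFam S 0).obj ⟨Over.mk t, X, p, Fin.elim0, fun i => i.elim0⟩) ↔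
      ∀ (Ω : Type u) [Field Ω] [IsAlgClosed Ω]
        (t' : Spec (CommRingCat.of Ω) ⟶ Spec (CommRingCat.of k)) (X' : Scheme.{u}) (a : X' ⟶ X)
        (q : X' ⟶ Spec (CommRingCat.of Ω)), IsPullback a q p t' → P Ω X' q := by
  constructor
  · intro h Ω _ _ t' X' a q hbig
    let A : CurvSt.SpFamObj S 0 :=
      (CurvSt.toSpFam S 0).obj ⟨Over.mk t, X, p, Fin.elim0, fun i => i.elim0⟩
    have hw : a ≫ p ≫ t = (q ≫ t') ≫ t := by
      rw [← Category.assoc, hbig.w]
    let i' : A.ptOver (q ≫ t') ⟶ Over.mk (p ≫ t) := Over.homMk a hw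
    have hover : IsPullback i' (A.fibHom t' q)
        (Over.homMk p rfl : Over.mk (p ≫ t) ⟶ Over.mk t) (A.ptHom t') :=
      IsPullback.of_map (Over.forget S) (Over.OverMorphism.ext hbig.w) hbig
    exact h Ω t' X' q ((AlgSp.yon S).map i') (hover.map (AlgSp.yon S))
  · intro h Ω _ _ t' X' q i hP
    obtain ⟨i', rfl⟩ := (AlgSp.yon S).map_surjective i
    have comm : i' ≫ (Over.homMk p rfl : Over.mk (p ≫ t) ⟶ Over.mk t) =
        SpFamObj.fibHom ((CurvSt.toSpFam S 0).obj
            ⟨Over.mk t, X, p, Fin.elim0, fun i => i.elim0⟩) t' q ≫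
          SpFamObj.ptHom ((CurvSt.toSpFam S 0).obj
            ⟨Over.mk t, X, p, Fin.elim0, fun i => i.elim0⟩) t' := by
      apply (AlgSp.yon S).map_injective
      rw [Functor.map_comp]
      exact hP.w.trans ((AlgSp.yon S).map_comp _ _).symm
    have h1 := IsPullback.of_map (AlgSp.yon S) comm hP
    have h2 := h1.map (Over.forget S)
    exact h Ω t' X' i'.left q h2

/-- The dimension is invariant under base change along a field extension. -/
theorem dim_of_isPullback_field {Z Z' : Scheme.{u}} (k K : Type u)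
    [Field k] [Field K] (φ : k →+* K) (p : Z ⟶ Spec (CommRingCat.of k)) [LocallyOfFiniteType p]
    (a : Z' ⟶ Z) (b : Z' ⟶ Spec (CommRingCat.of K))
    (h : IsPullback a b p (Spec.map (CommRingCat.ofHom φ))) :
    topologicalKrullDim Z' = topologicalKrullDim Z := by
  letI : Algebra k K := φ.toAlgebra
  letI : Z.Over (Spec (CommRingCat.of k)) := ⟨p⟩
  haveI : LocallyOfFiniteType (Z ↘ Spec (CommRingCat.of k)) := ‹LocallyOfFiniteType p›
  have e : Z' ≅ Curv2.bc k Z K := h.isoPullback
  rw [← Groth.Agent.Lib.Helper12.BaseChange.topologicalKrullDim_bc k Z K]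
  exact IsHomeomorph.topologicalKrullDim_eq _ (Scheme.homeoOfIso e).isHomeomorph

/-- same, for an arbitrary morphism `Spec K ⟶ Spec k`. -/
theorem dim_of_isPullback_field' {Z Z' : Scheme.{u}} (k K : Type u)
    [Field k] [Field K] (y : Spec (CommRingCat.of K) ⟶ Spec (CommRingCat.of k))
    (p : Z ⟶ Spec (CommRingCat.of k)) [LocallyOfFiniteType p]
    (a : Z' ⟶ Z) (b : Z' ⟶ Spec (CommRingCat.of K)) (h : IsPullback a b p y) :
    topologicalKrullDim Z' = topologicalKrullDim Z := by
  obtain ⟨φ, rfl⟩ := Spec.map_surjective y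
  exact dim_of_isPullback_field k K φ.hom p a b h

/-- S17310. -/
theorem main_connected (S : Scheme.{u}) (k : Type u) [Field k] (t : Spec (CommRingCat.of k) ⟶ S)
    (X : Scheme.{u}) (p : X ⟶ Spec (CommRingCat.of k)) [IsProper p] :
    CurvSt.GeomFib (fun _ _ _ X' _ _ => IsReduced X' ∧ ConnectedSpace ↥X' ∧
        topologicalKrullDim ↥X' = 1)
      ((CurvSt.toSpFam S 0).obj ⟨Over.mk t, X, p, Fin.elim0, fun i => i.elim0⟩) ↔
      GeometricallyReduced p ∧ GeometricallyConnected p ∧ topologicalKrullDim ↥X = 1 := by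
  refine (geomFib_iff S k t X p
    (fun _ _ _ X' _ => IsReduced X' ∧ ConnectedSpace ↥X' ∧ topologicalKrullDim ↥X' = 1)).trans ?_
  constructor
  · intro H
    -- common construction: pass to the algebraic closure
    have key : ∀ (K : Type u) [Field K] (y : Spec (CommRingCat.of K) ⟶ Spec (CommRingCat.of k))
        (Z : Scheme.{u}) (fst : Z ⟶ X) (snd : Z ⟶ Spec (CommRingCat.of K)),
        IsPullback fst snd p y → IsReduced Z ∧ ConnectedSpace ↥Z := by
      intro K _ y Z fst snd hsq
      let Ω := AlgebraicClosure K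
      let g : Spec (CommRingCat.of Ω) ⟶ Spec (CommRingCat.of K) :=
        Spec.map (CommRingCat.ofHom (algebraMap K Ω))
      let Z' := Limits.pullback snd g
      let q : Z' ⟶ Spec (CommRingCat.of Ω) := Limits.pullback.snd snd g
      have hbig : IsPullback (Limits.pullback.fst snd g ≫ fst) q p (g ≫ y) :=
        (IsPullback.of_hasPullback snd g).paste_horiz hsq
      obtain ⟨hred, hconn, -⟩ := H Ω (g ≫ y) Z' _ q hbig
      haveI : Subsingleton ↥(Spec (CommRingCat.of K)) :=
        inferInstanceAs (Subsingleton (PrimeSpectrum K))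
      haveI : Flat snd := inferInstance
      haveI : Surjective g := ⟨fun x => ⟨default, Subsingleton.elim _ _⟩⟩
      haveI : IsSchemeTheoreticallyDominant g := .of_isDominant g
      refine ⟨IsSchemeTheoreticallyDominant.isReduced (Limits.pullback.fst snd g), ?_⟩
      haveI := hconn
      exact (Limits.pullback.fst snd g).surjective.connectedSpace
        (Limits.pullback.fst snd g).continuous
    refine ⟨⟨fun K _ y Z fst snd hsq => (key K y Z fst snd hsq).1⟩,
      ⟨fun K _ y Z fst snd hsq => (key K y Z fst snd hsq).2⟩, ?_⟩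
    let Ω := AlgebraicClosure k
    let y : Spec (CommRingCat.of Ω) ⟶ Spec (CommRingCat.of k) :=
      Spec.map (CommRingCat.ofHom (algebraMap k Ω))
    have hsq := IsPullback.of_hasPullback p y
    obtain ⟨-, -, hdim⟩ := H Ω y _ _ _ hsq
    rw [← dim_of_isPullback_field' k Ω y p _ _ hsq]
    exact hdim
  · rintro ⟨hR, hC, hD⟩ Ω _ _ t' X' a q hsq
    refine ⟨hR.geometrically_isReduced t' a q hsq, hC.geometrically_connectedSpace t' a q hsq, ?_⟩
    rw [dim_of_isPullback_field' k Ω t' p a q hsq]
    exact hD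

end Groth.Agent.Lib.Helper13.GeomFibField
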