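/-
Helper13 library: the non-smooth locus of a proper scheme over a field is finite iff it is so after
base change to algebraically closed fields (S17311).
-/
import Mathlib
import Groth.Agent.Lib.Helper13.GeomFibField
import Groth.Agent.Lib.Helper8.SmoothLocusBC

set_option autoImplicit false
set_option linter.style.haveILetI false
universe u
open CategoryTheory CategoryTheory.Limits AlgebraicGeometry CurvSt

namespace Groth.Agent.Lib.Helper13.GeomFibSmooth

/-- the "non-smooth set" in the form of the statement is the complement of the smooth locus. -/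
theorem nonsmooth_eq {X Y : Scheme.{u}} (p : X ⟶ Y) [LocallyOfFinitePresentation p] :
    {x : ↥X | ¬ ∃ U : X.Opens, x ∈ U ∧ Smooth (U.ι ≫ p)} = ((p.smoothLocus : Set X))ᶜ := by
  ext x
  simp only [Set.mem_ofPred_eq, Set.mem_compl_iff, SetLike.mem_coe, not_iff_not]
  constructor
  · rintro ⟨U, hxU, hU⟩
    have h1 : (U.ι ≫ p).smoothLocus = ⊤ := Scheme.Hom.smoothLocus_eq_top _
    rw [← Scheme.Hom.preimage_smoothLocus_eq] at h1
    have h2 : (⟨x, hxU⟩ : U) ∈ U.ι ⁻¹ᵁ p.smoothLocus := by rw [h1]; trivial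
    exact h2
  · intro hx
    refine ⟨p.smoothLocus, hx, ?_⟩
    rw [← Scheme.Hom.smoothLocus_eq_top_iff, ← Scheme.Hom.preimage_smoothLocus_eq]
    exact Scheme.Opens.ι_preimage_self _

/-- finite closed subsets stay finite after base change along a field extension (proper case). -/
theorem finite_preimage_of_isPullback {X X' : Scheme.{u}} (k Ω : Type u) [Field k] [Field Ω]
    (p : X ⟶ Spec (CommRingCat.of k)) [IsProper p]
    (t' : Spec (CommRingCat.of Ω) ⟶ Spec (CommRingCat.of k))
    (a : X' ⟶ X) (q : X' ⟶ Spec (CommRingCat.of Ω)) (hsq : IsPullback a q p t')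
    (N : Set X) (hNc : IsClosed N) (hN : N.Finite) : (a ⁻¹' N).Finite := by
  let I := Scheme.IdealSheafData.vanishingIdeal ⟨N, hNc⟩
  let ι := I.subschemeι
  have hrange : Set.range ι = N := by
    rw [Scheme.IdealSheafData.range_subschemeι, Scheme.IdealSheafData.coe_support_vanishingIdeal]
    rfl
  haveI : Finite ↥I.subscheme := by
    haveI : Finite ↥N := hN
    refine Finite.of_injective (fun y => (⟨ι y, hrange ▸ ⟨y, rfl⟩⟩ : N)) ?_
    intro y₁ y₂ h
    exact ι.isEmbedding.injective (congrArg Subtype.val h)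
  haveI : LocallyQuasiFinite (ι ≫ p) :=
    LocallyQuasiFinite.of_finite_preimage_singleton _ fun _ => Set.toFinite _
  haveI : IsFinite (ι ≫ p) := IsFinite.of_isProper_of_locallyQuasiFinite _
  -- fibre product V = X' ×_X Y
  have hV := IsPullback.of_hasPullback a ι
  have hbig : IsPullback (pullback.snd a ι) (pullback.fst a ι ≫ q) (ι ≫ p) t' :=
    hV.flip.paste_vert hsq
  haveI : IsFinite (pullback.fst a ι ≫ q) :=
    MorphismProperty.of_isPullback (P := @IsFinite) hbig inferInstance
  haveI : Subsingleton ↥(Spec (CommRingCat.of Ω)) :=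
    inferInstanceAs (Subsingleton (PrimeSpectrum Ω))
  have hfinV : Finite ↥(pullback a ι) := by
    have h1 := Scheme.Hom.finite_preimage_singleton (pullback.fst a ι ≫ q) default
    have h2 : (pullback.fst a ι ≫ q) ⁻¹' {default} = Set.univ := by
      ext v
      simp only [Set.mem_preimage, Set.mem_singleton_iff, Set.mem_univ, iff_true]
      exact Subsingleton.elim _ _
    rw [h2] at h1
    exact Set.finite_univ_iff.1 h1
  have hr : a ⁻¹' N = Set.range (pullback.fst a ι) := by
    rw [Scheme.Pullback.range_fst, hrange]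
  rw [hr]
  exact Set.finite_range _

/-- S17311. -/
theorem main_nonsmooth (S : Scheme.{u}) (k : Type u) [Field k] (t : Spec (CommRingCat.of k) ⟶ S)
    (X : Scheme.{u}) (p : X ⟶ Spec (CommRingCat.of k)) [IsProper p] :
    CurvSt.GeomFib (fun _ _ _ X' q _ =>
        Set.Finite {x : ↥X' | ¬ ∃ U : X'.Opens, x ∈ U ∧ Smooth (U.ι ≫ q)})
      ((CurvSt.toSpFam S 0).obj ⟨Over.mk t, X, p, Fin.elim0, fun i => i.elim0⟩) ↔
      Set.Finite {x : ↥X | ¬ ∃ U : X.Opens, x ∈ U ∧ Smooth (U.ι ≫ p)} := by
  refine (Groth.Agent.Lib.Helper13.GeomFibField.geomFib_iff S k t X p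
    (fun _ _ _ X' q => Set.Finite {x : ↥X' | ¬ ∃ U : X'.Opens, x ∈ U ∧ Smooth (U.ι ≫ q)})).trans ?_
  haveI hpfp : LocallyOfFinitePresentation p :=
    LocallyOfFinitePresentation.iff_locallyOfFiniteType.2 inferInstance
  -- the comparison of non-smooth sets
  have hcmp : ∀ (Ω : Type u) [Field Ω]
      (t' : Spec (CommRingCat.of Ω) ⟶ Spec (CommRingCat.of k)) (X' : Scheme.{u}) (a : X' ⟶ X)
      (q : X' ⟶ Spec (CommRingCat.of Ω)), IsPullback a q p t' →
      {x : ↥X' | ¬ ∃ U : X'.Opens, x ∈ U ∧ Smooth (U.ι ≫ q)} =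
        a ⁻¹' {x : ↥X | ¬ ∃ U : X.Opens, x ∈ U ∧ Smooth (U.ι ≫ p)} := by
    intro Ω _ t' X' a q hsq
    haveI : LocallyOfFinitePresentation q :=
      MorphismProperty.of_isPullback (P := @LocallyOfFinitePresentation) hsq hpfp
    haveI : Flat t' := by
      obtain ⟨φ, rfl⟩ := Spec.map_surjective t'
      rw [Flat.SpecMap_iff]
      algebraize [φ.hom]
      change Module.Flat _ _
      infer_instance
    rw [nonsmooth_eq q, nonsmooth_eq p, Set.preimage_compl]
    congr 1
    ext x'
    exact Groth.Agent.Lib.Helper8.SmoothLocusBC.mem_smoothLocus_iff_of_isPullback p t' q a hsq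
      (Or.inr inferInstance) x'
  constructor
  · intro H
    let Ω := AlgebraicClosure k
    let y : Spec (CommRingCat.of Ω) ⟶ Spec (CommRingCat.of k) :=
      Spec.map (CommRingCat.ofHom (algebraMap k Ω))
    have hsq := IsPullback.of_hasPullback p y
    have h1 := H Ω y _ _ _ hsq
    rw [hcmp Ω y _ _ _ hsq] at h1
    haveI : Subsingleton ↥(Spec (CommRingCat.of k)) :=
      inferInstanceAs (Subsingleton (PrimeSpectrum k))
    haveI : Surjective y := ⟨fun x => ⟨default, Subsingleton.elim _ _⟩⟩
    have hsurj : Function.Surjective (pullback.fst p y) := (pullback.fst p y).surjective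
    have := h1.image (pullback.fst p y)
    rwa [Set.image_preimage_eq _ hsurj] at this
  · intro hN Ω _ _ t' X' a q hsq
    rw [hcmp Ω t' X' a q hsq]
    refine finite_preimage_of_isPullback k Ω p t' a q hsq _ ?_ hN
    rw [nonsmooth_eq p]
    exact p.smoothLocus.2.isClosed_compl

end Groth.Agent.Lib.Helper13.GeomFibSmooth
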