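import Mathlib
import Groth.Agent.Lib.Helper13.SuppOpen
import Groth.Agent.Lib.Helper13.AdjHC
import Groth.Agent.Lib.Helper13.KInjDerived

/-!
# Glueing objects of the derived category over two opens (helper13)

Given `A ∈ D(O_U)`, `B ∈ D(O_V)` and an isomorphism of their restrictions to `U ∩ V`, we construct
`F ∈ D(O_X)` with `F|_U ≅ A` and `F|_V ≅ B`, as the cone of
`j_{W!}(A|_W) ⟶ j_{U!} A ⊕ j_{V!} B`.
-/

set_option autoImplicit false
set_option backward.isDefEq.respectTransparency false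
universe u

attribute [local instance] HasDerivedCategory.standard

namespace Groth.Agent.Lib.Helper13.GlueOpens

open CategoryTheory CategoryTheory.Limits AlgebraicGeometry Pretriangulated
open AlgebraicGeometry.Scheme.Modules
open Groth.Agent.Lib.Helper13

section Tri

variable {𝒯 : Type*} [Category 𝒯] [Preadditive 𝒯] [HasZeroObject 𝒯] [HasShift 𝒯 ℤ]
  [∀ n : ℤ, (shiftFunctor 𝒯 n).Additive] [Pretriangulated 𝒯]

/-- In a distinguished triangle `P ⟶ M ⟶ S ⟶`, if `M` is a biproduct of `Q` and `R` and the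
component `P ⟶ R` is an isomorphism, then `Q ⟶ M ⟶ S` is an isomorphism. -/
lemma isIso_of_triangle_split (T : Triangle 𝒯) (hT : T ∈ distTriang 𝒯) {Q R : 𝒯}
    (i : Q ⟶ T.obj₂) (p : T.obj₂ ⟶ Q) (j : R ⟶ T.obj₂) (q : T.obj₂ ⟶ R)
    (hip : i ≫ p = 𝟙 Q) (hiq : i ≫ q = 0) (htot : p ≫ i + q ≫ j = 𝟙 T.obj₂)
    (hfq : IsIso (T.mor₁ ≫ q)) : IsIso (i ≫ T.mor₂) := by
  obtain ⟨ρ, hρ⟩ : ∃ ρ : T.obj₂ ⟶ T.obj₁, ρ = q ≫ inv (T.mor₁ ≫ q) := ⟨_, rfl⟩
  have hfρ : T.mor₁ ≫ ρ = 𝟙 T.obj₁ := by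
    rw [hρ, ← Category.assoc, IsIso.hom_inv_id]
  have hρt : ρ ≫ (T.mor₁ ≫ q) = q := by
    rw [hρ, Category.assoc, IsIso.inv_hom_id, Category.comp_id]
  have hiρ : i ≫ ρ = 0 := by
    rw [hρ, ← Category.assoc, hiq, zero_comp]
  have hfg : T.mor₁ ≫ T.mor₂ = 0 := comp_distTriang_mor_zero₁₂ _ hT
  have hh : T.mor₃ = 0 := by
    have h31 : T.mor₃ ≫ T.mor₁⟦(1 : ℤ)⟧' = 0 := comp_distTriang_mor_zero₃₁ _ hT
    have h1 : T.mor₃ ≫ (T.mor₁ ≫ ρ)⟦(1 : ℤ)⟧' = T.mor₃ := by
      rw [hfρ, CategoryTheory.Functor.map_id, Category.comp_id]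
    rw [← h1, Functor.map_comp, ← Category.assoc, h31, zero_comp]
  obtain ⟨s, hs⟩ := Triangle.coyoneda_exact₃ _ hT (𝟙 T.obj₃) (by rw [hh, comp_zero])
  have hsg : s ≫ T.mor₂ = 𝟙 T.obj₃ := hs.symm
  obtain ⟨s', hs'⟩ : ∃ s' : T.obj₃ ⟶ T.obj₂, s' = s - s ≫ ρ ≫ T.mor₁ := ⟨_, rfl⟩
  have hs'g : s' ≫ T.mor₂ = 𝟙 T.obj₃ := by
    rw [hs', Preadditive.sub_comp, Category.assoc, Category.assoc, hfg, comp_zero, comp_zero,
      sub_zero, hsg]
  have hs'ρ : s' ≫ ρ = 0 := by
    rw [hs', Preadditive.sub_comp, Category.assoc, Category.assoc, hfρ, Category.comp_id, sub_self]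
  have hs'q : s' ≫ q = 0 := by
    rw [← hρt, ← Category.assoc, hs'ρ, zero_comp]
  have hω : T.mor₂ ≫ s' = 𝟙 T.obj₂ - ρ ≫ T.mor₁ := by
    have hfω : T.mor₁ ≫ (𝟙 T.obj₂ - ρ ≫ T.mor₁ - T.mor₂ ≫ s') = 0 := by
      rw [Preadditive.comp_sub, Preadditive.comp_sub, Category.comp_id,
        ← Category.assoc T.mor₁ ρ T.mor₁, hfρ, Category.id_comp,
        ← Category.assoc T.mor₁ T.mor₂ s', hfg, zero_comp, sub_self, sub_zero]
    obtain ⟨ω', hω'⟩ := Triangle.yoneda_exact₂ _ hT _ hfω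
    have h2 : s' ≫ (𝟙 T.obj₂ - ρ ≫ T.mor₁ - T.mor₂ ≫ s') = 0 := by
      rw [Preadditive.comp_sub, Preadditive.comp_sub, Category.comp_id,
        ← Category.assoc s' ρ T.mor₁, hs'ρ, zero_comp,
        ← Category.assoc s' T.mor₂ s', hs'g, Category.id_comp, sub_zero, sub_self]
    have h3 : ω' = 0 := by
      rw [hω', ← Category.assoc, hs'g, Category.id_comp] at h2
      exact h2
    rw [h3, comp_zero] at hω'
    exact (sub_eq_zero.1 hω').symm
  refine ⟨⟨s' ≫ p, ?_, ?_⟩⟩
  · rw [Category.assoc, ← Category.assoc T.mor₂, hω, Preadditive.sub_comp, Preadditive.comp_sub,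
      Category.id_comp, hip, Category.assoc, ← Category.assoc i, hiρ, zero_comp, sub_zero]
  · have hpi : p ≫ i = 𝟙 T.obj₂ - q ≫ j := eq_sub_of_add_eq htot
    rw [Category.assoc, ← Category.assoc p, hpi, Preadditive.sub_comp, Preadditive.comp_sub,
      Category.id_comp, hs'g, Category.assoc, ← Category.assoc s', hs'q, zero_comp, sub_zero]

end Tri

section Gen

lemma bijective_precomp {C : Type*} [Category C] {A B : C} (u : A ⟶ B) [IsIso u] (T : C) :
    Function.Bijective (fun f : B ⟶ T => u ≫ f) :=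
  ⟨fun _ _ h => (cancel_epi u).1 h, fun y => ⟨inv u ≫ y, by simp⟩⟩

lemma bijective_postcomp {C : Type*} [Category C] {A B : C} (u : A ⟶ B) [IsIso u] (T : C) :
    Function.Bijective (fun f : T ⟶ A => f ≫ u) :=
  ⟨fun _ _ h => (cancel_mono u).1 h, fun y => ⟨y ≫ inv u, by simp⟩⟩

end Gen

section Sch

variable {X : Scheme.{u}}

/-- `(j_{U*} T)|_V` is in the essential image of `k_*` for `k : W ⟶ V`, `U ∩ V ⊆ W ⊆ V`; hence the
unit is an isomorphism on it. -/
lemma isIso_unit_restrict_push (U V W : X.Opens) (hWV : W ≤ V) (hUVW : U ⊓ V ≤ W)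
    (T : (U : Scheme.{u}).Modules) :
    IsIso ((restrictAdjunction (X.homOfLE hWV)).unit.app
      ((restrictFunctor V.ι).obj ((pushforward U.ι).obj T))) := by
  have hrange : Set.range ((U.ι ⁻¹ᵁ V).ι ≫ U.ι) ⊆ Set.range W.ι := by
    rintro _ ⟨z, rfl⟩
    rw [Scheme.Opens.range_ι, Scheme.Hom.comp_apply]
    apply hUVW
    show _ ∈ ((U ⊓ V : X.Opens) : Set X)
    rw [TopologicalSpace.Opens.coe_inf]
    exact ⟨((U.ι ⁻¹ᵁ V).ι z).2, z.2⟩
  obtain ⟨m', hm'⟩ : ∃ m' : ((U.ι ⁻¹ᵁ V : (U : Scheme.{u}).Opens) : Scheme.{u}) ⟶ (W : Scheme.{u}),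
      m' ≫ W.ι = (U.ι ⁻¹ᵁ V).ι ≫ U.ι :=
    ⟨IsOpenImmersion.lift W.ι _ hrange, IsOpenImmersion.lift_fac _ _ _⟩
  have hm : m' ≫ X.homOfLE hWV = U.ι ∣_ V := by
    rw [← cancel_mono V.ι, Category.assoc, Scheme.homOfLE_ι, hm', morphismRestrict_ι]
  let i : (restrictFunctor V.ι).obj ((pushforward U.ι).obj T) ≅
      (pushforward (X.homOfLE hWV)).obj
        ((pushforward m').obj ((restrictFunctor (U.ι ⁻¹ᵁ V).ι).obj T)) :=
    (KInjDerived.pushRestrictIso U.ι V).app T ≪≫ (pushforwardCongr hm.symm).app _ ≪≫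
      ((pushforwardComp m' (X.homOfLE hWV)).app _).symm
  exact (restrictAdjunction (X.homOfLE hWV)).isIso_unit_app_of_iso i

lemma bijective_restrict_map_extZero (V : X.Opens) (N : (V : Scheme.{u}).Modules)
    (S : X.Modules) :
    Function.Bijective (fun h : (CxOX.extZero V.ι).obj N ⟶ S => (restrictFunctor V.ι).map h) := by
  haveI := SuppOpen.isIso_extZeroAdj_unit V
  haveI : IsIso ((CxOX.extZeroAdj V.ι).unit.app N) := inferInstance
  have h1 : (fun h : (CxOX.extZero V.ι).obj N ⟶ S => (restrictFunctor V.ι).map h) =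
      (fun f => inv ((CxOX.extZeroAdj V.ι).unit.app N) ≫ f) ∘
        ((CxOX.extZeroAdj V.ι).homEquiv N S) := by
    funext h
    simp only [Function.comp_apply, Adjunction.homEquiv_unit, IsIso.inv_hom_id_assoc]
  rw [h1]
  exact (bijective_precomp _ _).comp ((CxOX.extZeroAdj V.ι).homEquiv N S).bijective

lemma bijective_restrict_map_of_isIso_unit {Y Y' : Scheme.{u}} (k : Y' ⟶ Y) [IsOpenImmersion k]
    (N' S' : Y.Modules) [IsIso ((restrictAdjunction k).unit.app S')] :
    Function.Bijective (fun h : N' ⟶ S' => (restrictFunctor k).map h) := by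
  have h1 : (fun h : N' ⟶ S' => (restrictFunctor k).map h) =
      ((restrictAdjunction k).homEquiv N' ((restrictFunctor k).obj S')).symm ∘
        (fun h => h ≫ (restrictAdjunction k).unit.app S') := by
    funext h
    rw [Function.comp_apply, Equiv.eq_symm_apply, Adjunction.homEquiv_unit]
    exact ((restrictAdjunction k).unit.naturality h).symm
  rw [h1]
  exact (Equiv.bijective _).comp (bijective_postcomp _ _)

lemma bijective_restrict_map (U V W : X.Opens) (hWV : W ≤ V) (hUVW : U ⊓ V ≤ W)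
    (N : (V : Scheme.{u}).Modules) (T : (U : Scheme.{u}).Modules) :
    Function.Bijective (fun h : (CxOX.extZero V.ι).obj N ⟶ (pushforward U.ι).obj T =>
      (restrictFunctor W.ι).map h) := by
  let ρ : restrictFunctor W.ι ≅ restrictFunctor V.ι ⋙ restrictFunctor (X.homOfLE hWV) :=
    restrictFunctorCongr (X.homOfLE_ι hWV).symm ≪≫ restrictFunctorComp (X.homOfLE hWV) V.ι
  haveI := isIso_unit_restrict_push U V W hWV hUVW T
  have h1 : (fun h : (CxOX.extZero V.ι).obj N ⟶ (pushforward U.ι).obj T =>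
        (restrictFunctor W.ι).map h) =
      (fun f => ρ.hom.app _ ≫ f ≫ ρ.inv.app _) ∘
      (fun h => (restrictFunctor (X.homOfLE hWV)).map h) ∘
      (fun h => (restrictFunctor V.ι).map h) := by
    funext h
    have hnat := ρ.hom.naturality h
    have h2 : (restrictFunctor W.ι).map h = ρ.hom.app _ ≫
        (restrictFunctor V.ι ⋙ restrictFunctor (X.homOfLE hWV)).map h ≫ ρ.inv.app _ := by
      rw [← Category.assoc, ← hnat, Category.assoc, Iso.hom_inv_id_app, Category.comp_id]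
    exact h2
  rw [h1]
  refine Function.Bijective.comp ?_ (Function.Bijective.comp
    (bijective_restrict_map_of_isIso_unit _ _ _) (bijective_restrict_map_extZero V N _))
  exact (bijective_precomp (ρ.hom.app _) _).comp (bijective_postcomp (ρ.inv.app _) _)

/-- For `N` on `V`, the counit `j_{W!}((j_{V!}N)|_W) ⟶ j_{V!}N` restricts to an isomorphism on `U`
when `U ∩ V ⊆ W ⊆ V`. -/
lemma isIso_restrict_counit (U V W : X.Opens) (hWV : W ≤ V) (hUVW : U ⊓ V ≤ W)
    (N : (V : Scheme.{u}).Modules) :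
    IsIso ((restrictFunctor U.ι).map
      ((CxOX.extZeroAdj W.ι).counit.app ((CxOX.extZero V.ι).obj N))) := by
  apply isIso_of_coyoneda_map_bijective
  intro T
  obtain ⟨ε, hε⟩ : ∃ ε : (CxOX.extZero W.ι).obj ((restrictFunctor W.ι).obj
      ((CxOX.extZero V.ι).obj N)) ⟶ (CxOX.extZero V.ι).obj N,
      ε = (CxOX.extZeroAdj W.ι).counit.app ((CxOX.extZero V.ι).obj N) := ⟨_, rfl⟩
  rw [← hε]
  have hcomp : ∀ x : (restrictFunctor U.ι).obj ((CxOX.extZero V.ι).obj N) ⟶ T,
      (CxOX.extZeroAdj W.ι).homEquiv _ _ ((restrictAdjunction U.ι).homEquiv _ _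
        ((restrictFunctor U.ι).map ε ≫ x)) =
      (restrictFunctor W.ι).map ((restrictAdjunction U.ι).homEquiv _ _ x) := by
    intro x
    rw [(restrictAdjunction U.ι).homEquiv_naturality_left ε x, Adjunction.homEquiv_unit,
      Functor.map_comp, ← Category.assoc]
    have h2 : (CxOX.extZeroAdj W.ι).unit.app
        ((restrictFunctor W.ι).obj ((CxOX.extZero V.ι).obj N)) ≫
        (restrictFunctor W.ι).map ε = 𝟙 _ := by
      rw [hε]
      exact (CxOX.extZeroAdj W.ι).right_triangle_components ((CxOX.extZero V.ι).obj N)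
    rw [h2]
    exact Category.id_comp _
  have hΦ := bijective_restrict_map U V W hWV hUVW N T
  have key : Function.Bijective
      (⇑(((restrictAdjunction U.ι).homEquiv ((CxOX.extZero W.ι).obj ((restrictFunctor W.ι).obj
          ((CxOX.extZero V.ι).obj N))) T).trans
        ((CxOX.extZeroAdj W.ι).homEquiv ((restrictFunctor W.ι).obj ((CxOX.extZero V.ι).obj N))
          ((pushforward U.ι).obj T))) ∘
      fun x : (restrictFunctor U.ι).obj ((CxOX.extZero V.ι).obj N) ⟶ T =>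
        (restrictFunctor U.ι).map ε ≫ x) := by
    have h3 : (⇑(((restrictAdjunction U.ι).homEquiv ((CxOX.extZero W.ι).obj
          ((restrictFunctor W.ι).obj ((CxOX.extZero V.ι).obj N))) T).trans
        ((CxOX.extZeroAdj W.ι).homEquiv ((restrictFunctor W.ι).obj ((CxOX.extZero V.ι).obj N))
          ((pushforward U.ι).obj T))) ∘
      fun x : (restrictFunctor U.ι).obj ((CxOX.extZero V.ι).obj N) ⟶ T =>
        (restrictFunctor U.ι).map ε ≫ x) =
      (fun h : (CxOX.extZero V.ι).obj N ⟶ (pushforward U.ι).obj T =>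
        (restrictFunctor W.ι).map h) ∘
      ⇑((restrictAdjunction U.ι).homEquiv ((CxOX.extZero V.ι).obj N) T) := funext hcomp
    rw [h3]
    exact hΦ.comp (Equiv.bijective _)
  exact ((Equiv.bijective _).of_comp_iff' _).1 key

/-- `j_! K` termwise -/
noncomputable abbrev LC (V : X.Opens) (K : CochainComplex (V : Scheme.{u}).Modules ℤ) :
    CochainComplex X.Modules ℤ :=
  ((CxOX.extZero V.ι).mapHomologicalComplex (ComplexShape.up ℤ)).obj K

/-- termwise counit `j_{W!}(L|_W) ⟶ L` as a chain map -/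
noncomputable abbrev εC (W : X.Opens) (L : CochainComplex X.Modules ℤ) :
    ((CxOX.extZero W.ι).mapHomologicalComplex (ComplexShape.up ℤ)).obj
      (((restrictFunctor W.ι).mapHomologicalComplex (ComplexShape.up ℤ)).obj L) ⟶ L :=
  (AdjHC.adjHC (CxOX.extZeroAdj W.ι) (ComplexShape.up ℤ)).counit.app L

lemma isIso_restrictD_map_Q_εC (U V W : X.Opens) (hWV : W ≤ V) (hUVW : U ⊓ V ≤ W)
    (K : CochainComplex (V : Scheme.{u}).Modules ℤ) :
    IsIso ((DCoh.restrictD U.ι).map (DerivedCategory.Q.map (εC W (LC V K)))) := by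
  have hφ : IsIso (((restrictFunctor U.ι).mapHomologicalComplex (ComplexShape.up ℤ)).map
      (εC W (LC V K))) := by
    haveI : ∀ n, IsIso ((((restrictFunctor U.ι).mapHomologicalComplex (ComplexShape.up ℤ)).map
        (εC W (LC V K))).f n) := fun n => isIso_restrict_counit U V W hWV hUVW (K.X n)
    exact HomologicalComplex.Hom.isIso_of_components _
  have hnat := (restrictFunctor U.ι).mapDerivedCategoryFactors_hom_naturality (εC W (LC V K))
  haveI : IsIso ((DCoh.restrictD U.ι).map (DerivedCategory.Q.map (εC W (LC V K))) ≫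
      (restrictFunctor U.ι).mapDerivedCategoryFactors.hom.app (LC V K)) := by
    rw [hnat]
    infer_instance
  exact IsIso.of_isIso_comp_right _
    ((restrictFunctor U.ι).mapDerivedCategoryFactors.hom.app (LC V K))

/-- `(j_{U!} M)|_W ≅ M|_W` for `W ⊆ U` -/
noncomputable def σ (U W : X.Opens) (hWU : W ≤ U) :
    CxOX.extZero U.ι ⋙ restrictFunctor W.ι ≅ restrictFunctor (X.homOfLE hWU) :=
  haveI := SuppOpen.isIso_extZeroAdj_unit U
  Functor.isoWhiskerLeft (CxOX.extZero U.ι)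
      (restrictFunctorCongr (X.homOfLE_ι hWU).symm ≪≫ restrictFunctorComp (X.homOfLE hWU) U.ι) ≪≫
    (Functor.associator _ _ _).symm ≪≫
    Functor.isoWhiskerRight (asIso (CxOX.extZeroAdj U.ι).unit).symm
      (restrictFunctor (X.homOfLE hWU)) ≪≫
    Functor.leftUnitor _

noncomputable def σC (U W : X.Opens) (hWU : W ≤ U)
    (K : CochainComplex (U : Scheme.{u}).Modules ℤ) :
    ((restrictFunctor W.ι).mapHomologicalComplex (ComplexShape.up ℤ)).obj (LC U K) ≅
      ((restrictFunctor (X.homOfLE hWU)).mapHomologicalComplex (ComplexShape.up ℤ)).obj K :=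
  HomologicalComplex.Hom.isoOfComponents (fun n => (σ U W hWU).app (K.X n))
    (fun i j _ => ((σ U W hWU).hom.naturality (K.d i j)).symm)

noncomputable def isoW (U W : X.Opens) (hWU : W ≤ U)
    (K : CochainComplex (U : Scheme.{u}).Modules ℤ) {A : DCoh.D (U : Scheme.{u})}
    (e : DerivedCategory.Q.obj K ≅ A) :
    DerivedCategory.Q.obj
      (((restrictFunctor W.ι).mapHomologicalComplex (ComplexShape.up ℤ)).obj (LC U K)) ≅
      (DCoh.restrictD (X.homOfLE hWU)).obj A :=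
  DerivedCategory.Q.mapIso (σC U W hWU K) ≪≫
    ((restrictFunctor (X.homOfLE hWU)).mapDerivedCategoryFactors.app K).symm ≪≫
    (DCoh.restrictD (X.homOfLE hWU)).mapIso e

theorem exists_glue (U V : X.Opens)
    (A : DCoh.D (U : Scheme.{u})) (B : DCoh.D (V : Scheme.{u}))
    (c : (DCoh.restrictD (X.homOfLE (inf_le_left : U ⊓ V ≤ U))).obj A ≅
      (DCoh.restrictD (X.homOfLE (inf_le_right : U ⊓ V ≤ V))).obj B) :
    ∃ F : DCoh.D X, Nonempty ((DCoh.restrictD U.ι).obj F ≅ A) ∧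
      Nonempty ((DCoh.restrictD V.ι).obj F ≅ B) := by
  obtain ⟨KA, ⟨eA⟩⟩ : ∃ KA : CochainComplex (U : Scheme.{u}).Modules ℤ,
      Nonempty (DerivedCategory.Q.obj KA ≅ A) := ⟨_, ⟨DerivedCategory.Q.objObjPreimageIso A⟩⟩
  obtain ⟨KB, ⟨eB⟩⟩ : ∃ KB : CochainComplex (V : Scheme.{u}).Modules ℤ,
      Nonempty (DerivedCategory.Q.obj KB ≅ B) := ⟨_, ⟨DerivedCategory.Q.objObjPreimageIso B⟩⟩
  let ĉ : DerivedCategory.Q.obj (((restrictFunctor (U ⊓ V).ι).mapHomologicalComplex
        (ComplexShape.up ℤ)).obj (LC U KA)) ≅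
      DerivedCategory.Q.obj (((restrictFunctor (U ⊓ V).ι).mapHomologicalComplex
        (ComplexShape.up ℤ)).obj (LC V KB)) :=
    isoW U (U ⊓ V) inf_le_left KA eA ≪≫ c ≪≫ (isoW V (U ⊓ V) inf_le_right KB eB).symm
  let θ : DerivedCategory.Q.obj (((CxOX.extZero (U ⊓ V).ι).mapHomologicalComplex
        (ComplexShape.up ℤ)).obj (((restrictFunctor (U ⊓ V).ι).mapHomologicalComplex
          (ComplexShape.up ℤ)).obj (LC U KA))) ≅
      DerivedCategory.Q.obj (((CxOX.extZero (U ⊓ V).ι).mapHomologicalComplex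
        (ComplexShape.up ℤ)).obj (((restrictFunctor (U ⊓ V).ι).mapHomologicalComplex
          (ComplexShape.up ℤ)).obj (LC V KB))) :=
    ((CxOX.extZero (U ⊓ V).ι).mapDerivedCategoryFactors.app _).symm ≪≫
      (CxOX.extZeroD (U ⊓ V).ι).mapIso ĉ ≪≫
      (CxOX.extZero (U ⊓ V).ι).mapDerivedCategoryFactors.app _
  obtain ⟨α₀, hα₀⟩ : ∃ α₀, α₀ = DerivedCategory.Q.map (εC (U ⊓ V) (LC U KA)) := ⟨_, rfl⟩
  obtain ⟨β₀, hβ₀⟩ : ∃ β₀, β₀ = θ.hom ≫ DerivedCategory.Q.map (εC (U ⊓ V) (LC V KB)) :=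
    ⟨_, rfl⟩
  obtain ⟨f, hf⟩ : ∃ f, f = biprod.lift α₀ β₀ := ⟨_, rfl⟩
  have hfst : f ≫ biprod.fst = α₀ := by rw [hf, biprod.lift_fst]
  have hsnd : f ≫ biprod.snd = β₀ := by rw [hf, biprod.lift_snd]
  obtain ⟨F, g, h, hT⟩ := distinguished_cocone_triangle f
  refine ⟨F, ?_, ?_⟩
  · have hTU := (DCoh.restrictD U.ι).map_distinguished _ hT
    have hβ : IsIso (((DCoh.restrictD U.ι).mapTriangle.obj (Triangle.mk f g h)).mor₁ ≫
        (DCoh.restrictD U.ι).map biprod.snd) := by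
      change IsIso ((DCoh.restrictD U.ι).map f ≫ (DCoh.restrictD U.ι).map biprod.snd)
      rw [← Functor.map_comp, hsnd, hβ₀, Functor.map_comp]
      haveI := isIso_restrictD_map_Q_εC U V (U ⊓ V) inf_le_right le_rfl KB
      infer_instance
    have htot : (DCoh.restrictD U.ι).map
          (biprod.fst : DerivedCategory.Q.obj (LC U KA) ⊞ DerivedCategory.Q.obj (LC V KB) ⟶ _) ≫
          (DCoh.restrictD U.ι).map biprod.inl +
        (DCoh.restrictD U.ι).map biprod.snd ≫ (DCoh.restrictD U.ι).map biprod.inr = 𝟙 _ := by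
      rw [← Functor.map_comp, ← Functor.map_comp, ← Functor.map_add, biprod.total,
        CategoryTheory.Functor.map_id]
    have hiso := isIso_of_triangle_split _ hTU ((DCoh.restrictD U.ι).map biprod.inl)
      ((DCoh.restrictD U.ι).map biprod.fst) ((DCoh.restrictD U.ι).map biprod.inr)
      ((DCoh.restrictD U.ι).map biprod.snd)
      (by rw [← Functor.map_comp, biprod.inl_fst, CategoryTheory.Functor.map_id])
      (by rw [← Functor.map_comp, biprod.inl_snd, Functor.map_zero])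
      htot hβ
    obtain ⟨e2⟩ := SuppOpen.nonempty_restrictD_extZeroD_iso U A
    exact ⟨(@asIso _ _ _ _ _ hiso).symm ≪≫
      (DCoh.restrictD U.ι).mapIso (((CxOX.extZero U.ι).mapDerivedCategoryFactors.app KA).symm ≪≫
        (CxOX.extZeroD U.ι).mapIso eA) ≪≫ e2⟩
  · have hTV := (DCoh.restrictD V.ι).map_distinguished _ hT
    have hα : IsIso (((DCoh.restrictD V.ι).mapTriangle.obj (Triangle.mk f g h)).mor₁ ≫
        (DCoh.restrictD V.ι).map biprod.fst) := by
      change IsIso ((DCoh.restrictD V.ι).map f ≫ (DCoh.restrictD V.ι).map biprod.fst)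
      rw [← Functor.map_comp, hfst, hα₀]
      exact isIso_restrictD_map_Q_εC V U (U ⊓ V) inf_le_left (inf_comm V U).le KA
    have htot : (DCoh.restrictD V.ι).map
          (biprod.snd : DerivedCategory.Q.obj (LC U KA) ⊞ DerivedCategory.Q.obj (LC V KB) ⟶ _) ≫
          (DCoh.restrictD V.ι).map biprod.inr +
        (DCoh.restrictD V.ι).map biprod.fst ≫ (DCoh.restrictD V.ι).map biprod.inl = 𝟙 _ := by
      rw [← Functor.map_comp, ← Functor.map_comp, ← Functor.map_add, add_comm, biprod.total,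
        CategoryTheory.Functor.map_id]
    have hiso := isIso_of_triangle_split _ hTV ((DCoh.restrictD V.ι).map biprod.inr)
      ((DCoh.restrictD V.ι).map biprod.snd) ((DCoh.restrictD V.ι).map biprod.inl)
      ((DCoh.restrictD V.ι).map biprod.fst)
      (by rw [← Functor.map_comp, biprod.inr_snd, CategoryTheory.Functor.map_id])
      (by rw [← Functor.map_comp, biprod.inr_fst, Functor.map_zero])
      htot hα
    obtain ⟨e2⟩ := SuppOpen.nonempty_restrictD_extZeroD_iso V B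
    exact ⟨(@asIso _ _ _ _ _ hiso).symm ≪≫
      (DCoh.restrictD V.ι).mapIso (((CxOX.extZero V.ι).mapDerivedCategoryFactors.app KB).symm ≪≫
        (CxOX.extZeroD V.ι).mapIso eB) ≪≫ e2⟩

end Sch

end Groth.Agent.Lib.Helper13.GlueOpens
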