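import Groth.Agent.Lib.Helper13.H0LocConst

/-!
# Upper semicontinuity of `h⁰(X_s, O_{X_s})` for flat proper finitely presented families over an
arbitrary base (helper13)
-/

set_option autoImplicit false
set_option linter.style.haveILetI false

open CategoryTheory AlgebraicGeometry Topology TopologicalSpace Limits

universe u

namespace Groth.Agent.Lib.Helper13.H0Usc

open Groth.Agent.Lib.Helper13.H0LocConst

/-- `{s | h⁰(X_s, O) < n}` is open. -/
theorem isOpen_setOf_finrank_lt {X S : Scheme.{u}} (f : X ⟶ S) [IsProper f] [Flat f]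
    [LocallyOfFinitePresentation f] (n : ℕ) :
    IsOpen {s : S | Module.finrank (S.residueField s) Γ(f.fiber s, ⊤) < n} := by
  rw [isOpen_iff_forall_mem_open]
  intro s hs
  obtain ⟨W, hW, hsW, -⟩ := exists_isAffineOpen_mem_and_subset (x := s) (U := ⊤) trivial
  haveI : IsAffine W.toScheme := hW
  obtain ⟨S₀, X₀, f₀, γ, γ', hS₀a, hS₀n, hsq, hfl, hpr, hfp⟩ :=
    Groth.Agent.Lib.Helper12.FlatProperApprox.exists_model W hW (f ∣_ W)
  haveI := hfl
  haveI := hpr
  haveI := hS₀n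
  haveI : IsLocallyNoetherian S₀ := inferInstance
  have hsq2 : IsPullback (f ⁻¹ᵁ W).ι (f ∣_ W) f W.ι := (isPullback_morphismRestrict f W).flip
  have hcmp : ∀ w : W.toScheme,
      Module.finrank (S.residueField (W.ι w)) Γ(f.fiber (W.ι w), ⊤) =
        CohIII.fiberRank f₀ (Coh.structureModule X₀) 0 (γ w) := by
    intro w
    rw [fiberRank_eq_finrank,
      ← Groth.Agent.Lib.Helper13.CBCUnivG.finrank_fiber_eq_of_isPullback hsq w,
      Groth.Agent.Lib.Helper13.CBCUnivG.finrank_fiber_eq_of_isPullback hsq2 w]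
  have hF : Coh.IsCoh (Coh.structureModule X₀) :=
    Groth.Agent.Lib.Helper23.T2.isCoh_structureModule X₀
  have hflO : FlatMod.IsFlatOver f₀ (Coh.structureModule X₀) :=
    Groth.Agent.Lib.Helper13.CBCEtStalk.isFlatOver_structureModule f₀
  have hcl : IsClosed {t : S₀ | n ≤ CohIII.fiberRank f₀ (Coh.structureModule X₀) 0 t} :=
    Groth.Agent.Lib.Helper13.CBCUsc.isClosed_setOf_le_fiberRank f₀ _ hF hflO 0 n
  obtain ⟨s', hs'⟩ : ∃ s' : W.toScheme, W.ι s' = s := ⟨⟨s, hsW⟩, rfl⟩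
  refine ⟨W.ι '' (γ ⁻¹' {t : S₀ | n ≤ CohIII.fiberRank f₀ (Coh.structureModule X₀) 0 t}ᶜ), ?_,
    W.ι.isOpenEmbedding.isOpenMap _ (hcl.isOpen_compl.preimage γ.continuous), ⟨s', ?_, hs'⟩⟩
  · rintro _ ⟨w, hw, rfl⟩
    show Module.finrank (S.residueField (W.ι w)) Γ(f.fiber (W.ι w), ⊤) < n
    rw [hcmp w]
    exact not_le.mp hw
  · show ¬ (n ≤ CohIII.fiberRank f₀ (Coh.structureModule X₀) 0 (γ s'))
    rw [← hcmp s', hs']
    exact not_le.mpr hs

/-- `h⁰` of a nonempty proper fibre is positive. -/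
theorem one_le_finrank {X S : Scheme.{u}} (f : X ⟶ S) [IsProper f] (s : S)
    [Nonempty ↥(f.fiber s)] : 1 ≤ Module.finrank (S.residueField s) Γ(f.fiber s, ⊤) := by
  letI over' : (f.fiber s).Over (Spec (CommRingCat.of ↑(S.residueField s))) :=
    ⟨f.fiberToSpecResidueField s⟩
  haveI hp : IsProper ((f.fiber s) ↘ Spec (CommRingCat.of ↑(S.residueField s))) :=
    (inferInstance : IsProper (pullback.snd f (S.fromSpecResidueField s)))
  have e2 : Coh.HH (f.fiber s) (Coh.structureModule (f.fiber s)) 0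
      ≃ₗ[↑(S.residueField s)] Γ(f.fiber s, ⊤) :=
    Groth.Agent.Lib.Helper23.GeomH0.H0structEquiv ↑(S.residueField s) (f.fiber s)
  haveI : Module.Finite ↑(S.residueField s)
      (Coh.HH (f.fiber s) (Coh.structureModule (f.fiber s)) 0) :=
    Groth.Agent.Lib.Helper23.T2.finite_HH ↑(S.residueField s) _
      (Groth.Agent.Lib.Helper23.T2.isCoh_structureModule (f.fiber s)) 0
  haveI : Module.Finite ↑(S.residueField s) Γ(f.fiber s, ⊤) := Module.Finite.equiv e2
  obtain ⟨x₀⟩ := (inferInstance : Nonempty ↥(f.fiber s))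
  haveI : Nonempty (⊤ : (f.fiber s).Opens) := ⟨⟨x₀, trivial⟩⟩
  haveI : Nontrivial Γ(f.fiber s, ⊤) := Scheme.component_nontrivial (f.fiber s) ⊤
  exact Module.finrank_pos

/-- `hRank` in degree `0` of the structure sheaf of a fibre. -/
theorem hRank_eq_finrank {X S : Scheme.{u}} (f : X ⟶ S) (s : S) :
    Models.hRank ↥(S.residueField s) (f.fiber s) (f.fiberToSpecResidueField s)
      (Coh.structureModule (f.fiber s)) 0 =
      Module.finrank (S.residueField s) Γ(f.fiber s, ⊤) := by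
  letI over' : (f.fiber s).Over (Spec (CommRingCat.of ↑(S.residueField s))) :=
    ⟨f.fiberToSpecResidueField s⟩
  have e2 : Coh.HH (f.fiber s) (Coh.structureModule (f.fiber s)) 0
      ≃ₗ[↑(S.residueField s)] Γ(f.fiber s, ⊤) :=
    Groth.Agent.Lib.Helper23.GeomH0.H0structEquiv ↑(S.residueField s) (f.fiber s)
  exact e2.finrank_eq

end Groth.Agent.Lib.Helper13.H0Usc
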