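import Groth.Agent.Lib.Helper13.CechTop
import Groth.Agent.Lib.Helper13.CechLocal

/-!
# Reduction of `H¹`-vanishing to subsheaves containing finitely many local sections

`subsingleton_HU_top`: let `F` be an abelian sheaf on a space, `U i` a cover by opens on which
`H¹(U i, F) = 0`.  Assume that for each family `c i j ∈ F(U i ∩ U j)` there is a subsheaf `F' ⊆ F`
with `H¹(X, F') = 0` containing all `c i j`.  Then `H¹(X, F) = 0`.
-/

set_option autoImplicit false
universe u
open CategoryTheory CategoryTheory.Limits Opposite TopologicalSpace CategoryTheory.Abelian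

noncomputable section

namespace Groth.Agent.Lib.Helper13.H1Trick

open CechSheaf CechTop CechLocal

variable {X : TopCat.{u}}

/-- surjectivity on sections over `U` from `H¹(U, S.X₁) = 0`. -/
theorem sections_surjective_of_HU {S : ShortComplex (CohTop.Ab X)} (hS : S.ShortExact)
    (U : Opens X) (h : Subsingleton (CohTop.HU S.X₁ 1 U)) :
    Function.Surjective (S.g.hom.app (op U)) := by
  intro q
  let J := Opens.grothendieckTopology X
  let φ := CohFree.ofSect J U S.X₃ q
  have h0 : (Ext.mk₀ φ).comp hS.extClass (zero_add 1) = 0 :=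
    @Subsingleton.elim (CohTop.HU S.X₁ 1 U) h _ _
  obtain ⟨x₂, hx₂⟩ := Ext.covariant_sequence_exact₃ _ hS (Ext.mk₀ φ) (zero_add 1) h0
  obtain ⟨ψ, rfl⟩ := (Ext.mk₀_bijective _ _).surjective x₂
  rw [Ext.mk₀_comp_mk₀] at hx₂
  have hψ : ψ ≫ S.g = φ := (Ext.mk₀_bijective _ _).injective hx₂
  refine ⟨CohFree.evalGen J U S.X₂ ψ, ?_⟩
  have h1 : (S.g.hom.app (op U)).hom (CohFree.evalGen J U S.X₂ ψ) =
      CohFree.evalGen J U S.X₃ (ψ ≫ S.g) := rfl
  rw [h1, hψ]
  exact CohFree.evalGen_ofSect J U S.X₃ q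

/-- `H¹(U, S.X₁) = 0` from surjectivity on sections when the middle term is injective. -/
theorem subsingleton_HU_of_sections_surjective {S : ShortComplex (CohTop.Ab X)}
    (hS : S.ShortExact) [Injective S.X₂] (U : Opens X)
    (h : Function.Surjective (S.g.hom.app (op U))) : Subsingleton (CohTop.HU S.X₁ 1 U) := by
  have key : ∀ x : Ext (CohCx.freeSheaf (Opens.grothendieckTopology X) U) S.X₁ 1, x = 0 := by
    intro x
    have hx0 : x.comp (Ext.mk₀ S.f) (add_zero 1) = 0 := Ext.eq_zero_of_injective _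
    obtain ⟨x₃, hx₃⟩ := Ext.covariant_sequence_exact₁ _ hS x hx0 (zero_add 1)
    obtain ⟨φ, rfl⟩ := (Ext.mk₀_bijective _ _).surjective x₃
    obtain ⟨ψ, hψ⟩ := exists_lift_freeSheaf U h φ
    rw [← hx₃, ← hψ, ← Ext.mk₀_comp_mk₀, Ext.comp_assoc_of_second_deg_zero, hS.comp_extClass,
      Ext.comp_zero]
  exact ⟨fun a b => (key a).trans (key b).symm⟩

theorem subsingleton_HU_top {ι : Type u} (F : CohTop.Ab X) (U : ι → Opens X)
    (hcov : (⊤ : Opens X) ≤ ⨆ i, U i)
    (hU : ∀ i, Subsingleton (CohTop.HU F 1 (U i)))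
    (hF' : ∀ c : ∀ i j, F.obj.obj (op (U i ⊓ U j)), ∃ (F' : CohTop.Ab X) (a : F' ⟶ F),
        Mono a ∧ Subsingleton (CohTop.HU F' 1 ⊤) ∧
        ∀ i j, ∃ c' : F'.obj.obj (op (U i ⊓ U j)),
          (a.hom.app (op (U i ⊓ U j))).hom c' = c i j) :
    Subsingleton (CohTop.HU F 1 ⊤) := by
  let S : ShortComplex (CohTop.Ab X) :=
    ShortComplex.mk (Injective.ι F) (cokernel.π (Injective.ι F)) (cokernel.condition _)
  have hS : S.ShortExact := { exact := ShortComplex.exact_cokernel (Injective.ι F) }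
  haveI : Injective S.X₂ := inferInstanceAs (Injective (Injective.under F))
  refine subsingleton_HU_of_sections_surjective hS ⊤ ?_
  intro q
  have hloc : ∀ i, ∃ m : S.X₂.obj.obj (op (U i)),
      (S.g.hom.app (op (U i))).hom m = r S.X₃.obj (le_top : U i ≤ ⊤) q :=
    fun i => sections_surjective_of_HU hS (U i) (hU i) _
  choose m hm using hloc
  have hd : ∀ i j, ∃ c : F.obj.obj (op (U i ⊓ U j)), (S.f.hom.app (op (U i ⊓ U j))).hom c =
      r S.X₂.obj (inf_le_left : U i ⊓ U j ≤ U i) (m i) -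
        r S.X₂.obj (inf_le_right : U i ⊓ U j ≤ U j) (m j) := by
    intro i j
    apply sections_exact hS
    rw [map_sub, ← r_naturality, ← r_naturality, hm, hm, r_r, r_r, sub_self]
  choose c hc using hd
  obtain ⟨F', a, hmono, hH1, hc'⟩ := hF' c
  choose c' hc' using hc'
  haveI := hmono
  haveI : Mono S.f := hS.mono_f
  let f' : F' ⟶ S.X₂ := a ≫ S.f
  haveI : Mono f' := mono_comp a S.f
  let S' : ShortComplex (CohTop.Ab X) :=
    ShortComplex.mk f' (cokernel.π f') (cokernel.condition f')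
  have hS' : S'.ShortExact := { exact := ShortComplex.exact_cokernel f' }
  let p : S'.X₃ ⟶ S.X₃ := cokernel.desc f' S.g (by rw [Category.assoc, S.zero, comp_zero])
  have hp : S'.g ≫ p = S.g := cokernel.π_desc f' S.g _
  have hpapp : ∀ (W : Opens X) (y : S.X₂.obj.obj (op W)),
      (p.hom.app (op W)).hom ((S'.g.hom.app (op W)).hom y) = (S.g.hom.app (op W)).hom y := by
    intro W y
    rw [← hp]
    rfl
  let t : ∀ i, S'.X₃.obj.obj (op (U i)) := fun i => (S'.g.hom.app (op (U i))).hom (m i)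
  have hcompat : TopCat.Presheaf.IsCompatible S'.X₃.obj U t := by
    intro i j
    change r S'.X₃.obj (inf_le_left : U i ⊓ U j ≤ U i) (t i) =
      r S'.X₃.obj (inf_le_right : U i ⊓ U j ≤ U j) (t j)
    rw [r_naturality, r_naturality, ← sub_eq_zero, ← map_sub, ← hc i j, ← hc' i j]
    exact sections_zero hS' (U i ⊓ U j) (c' i j)
  obtain ⟨t', ht', -⟩ := TopCat.Sheaf.existsUnique_gluing' S'.X₃ U ⊤
    (fun i => homOfLE le_top) hcov t hcompat
  obtain ⟨m', hm'⟩ := sections_surjective_of_HU hS' ⊤ hH1 t'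
  refine ⟨m', ?_⟩
  rw [← hpapp, hm']
  apply TopCat.Sheaf.eq_of_locally_eq' S.X₃ U ⊤ (fun i => homOfLE le_top) hcov
  intro i
  change r S.X₃.obj (le_top : U i ≤ ⊤) ((p.hom.app (op ⊤)).hom t') =
    r S.X₃.obj (le_top : U i ≤ ⊤) q
  rw [r_naturality, ← hm i]
  have h2 : r S'.X₃.obj (le_top : U i ≤ ⊤) t' = t i := ht' i
  rw [h2, hpapp]

end Groth.Agent.Lib.Helper13.H1Trick
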