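import Mathlib
import Groth.Prelude.Def_ArtFun6
import Groth.Prelude.Def_ArtFun2
import Groth.Agent.Lib.Helper19.ArtFunBasic

/-!
# D4 for helper18's S12265: the functor `h_O` satisfies `H0` and `Heps` (indeed it is left exact) (helper13)
-/

set_option autoImplicit false
universe u
open CategoryTheory CategoryTheory.Limits

namespace Groth.Agent.Lib.Helper13.HRH0Heps

open ArtFun ArtFun.Art

variable {Λ : Type u} {k : Type u} [CommRing Λ] [Field k] [Algebra Λ k]

/-- `h_R` turns every fibre-product square into a fibre product of sets. -/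
theorem cmp_hR_bijective (R : Type u) [CommRing R] [Algebra Λ R] (resR : R →ₐ[Λ] k)
    {B A A' A'' : Art Λ k} {p' : B ⟶ A'} {p'' : B ⟶ A''} {f' : A' ⟶ A} {f'' : A'' ⟶ A}
    (h : IsFibreProd p' p'' f' f'') : Function.Bijective (cmp (hR R resR) h) := by
  constructor
  · intro z₁ z₂ hz
    have h1 : HomSet.map p' z₁ = HomSet.map p' z₂ := congrArg (fun w => w.1.1) hz
    have h2 : HomSet.map p'' z₁ = HomSet.map p'' z₂ := congrArg (fun w => w.1.2) hz
    apply Subtype.ext
    apply AlgHom.ext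
    intro x
    exact h.inj _ _ (AlgHom.congr_fun (congrArg Subtype.val h1) x)
      (AlgHom.congr_fun (congrArg Subtype.val h2) x)
  · rintro ⟨⟨φ', φ''⟩, hφ⟩
    have hφ' : f'.toAlgHom.comp φ'.1 = f''.toAlgHom.comp φ''.1 := congrArg Subtype.val hφ
    obtain ⟨ψ, h1, h2⟩ :=
      Groth.Agent.Lib.Helper19.ArtFunBasic.exists_lift_of_isFibreProd h φ'.1 φ''.1 hφ'
    have hres : B.res.comp ψ = resR := by
      rw [← p'.res_comp, AlgHom.comp_assoc, h1, φ'.2]
    refine ⟨⟨ψ, hres⟩, ?_⟩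
    apply FibProd.ext
    · exact Subtype.ext h1
    · exact Subtype.ext h2

theorem h0_hR (R : Type u) [CommRing R] [Algebra Λ R] (resR : R →ₐ[Λ] k) :
    H0 (hR R resR) := by
  refine ⟨⟨⟨resR, AlgHom.id_comp _⟩⟩, ⟨fun φ ψ => ?_⟩⟩
  apply Subtype.ext
  have h1 : φ.1 = resR := (AlgHom.id_comp _).symm.trans φ.2
  have h2 : ψ.1 = resR := (AlgHom.id_comp _).symm.trans ψ.2
  exact h1.trans h2.symm

theorem heps_hR (R : Type u) [CommRing R] [Algebra Λ R] (resR : R →ₐ[Λ] k) :
    Heps (hR R resR) :=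
  fun _ _ _ _ h => cmp_hR_bijective R resR h

theorem isLeftExact_hR (R : Type u) [CommRing R] [Algebra Λ R] (resR : R →ₐ[Λ] k) :
    IsLeftExact (hR R resR) :=
  fun _ _ _ _ _ _ _ _ h => cmp_hR_bijective R resR h

/-- D4: `h_O` satisfies `H0` and `Heps`. -/
theorem h0_heps_hR {k : Type u} [Field k] (O : Type u) [CommRing O] [Algebra k O]
    (resO : O →ₐ[k] k) :
    ArtFun.H0 (ArtFun.hR O resO) ∧ ArtFun.Heps (ArtFun.hR O resO) :=
  ⟨h0_hR O resO, heps_hR O resO⟩

end Groth.Agent.Lib.Helper13.HRH0Heps
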