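import Mathlib
import Groth.Agent.Lib.Helper13.HensProper
import Groth.Agent.Lib.Helper1.PPBCRing
import Groth.Agent.Lib.Helper26.HenselIdemAdjoin

/-!
# A proper scheme over a Noetherian ring forming a henselian couple is proper over a henselian pair

If `f : X ⟶ Spec A` is proper, `A` Noetherian, and `(X, X₀ = f⁻¹ V(I))` is a henselian couple, then with
`C = Γ(X, ⊤)` and `I' = I C` the pair `(C, I')` is henselian, `X ⟶ Spec C` is proper and
`X₀ = X ×_{Spec C} Spec (C / I')`.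
-/

set_option autoImplicit false
set_option maxHeartbeats 400000
set_option linter.style.haveILetI false
universe u

namespace Groth.Agent.Lib.Helper13.HensProperConv

open CategoryTheory Limits AlgebraicGeometry
open Groth.Agent.Lib.Helper13.HensProper

section Top

variable {P Q P₀ Q₀ : Type*} [TopologicalSpace P] [TopologicalSpace Q] [TopologicalSpace P₀]
  [TopologicalSpace Q₀]

/-- **Topological lemma (converse direction).** Unique lifting of clopens descends along a closed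
surjection with connected fibres. -/
theorem existsUnique_clopen_descend (h : P → Q) (hc : Continuous h) (hcl : IsClosedMap h)
    (hconn : ∀ q, IsConnected (h ⁻¹' {q}))
    (a : P₀ → P) (hac : Continuous a) (b : Q₀ → Q) (hb : Topology.IsClosedEmbedding b)
    (hr : Set.range a = h ⁻¹' Set.range b)
    (hlift : ∀ V : Set P₀, IsClopen V → ∃! U : Set P, IsClopen U ∧ a ⁻¹' U = V)
    (V' : Set Q₀) (hV' : IsClopen V') : ∃! U' : Set Q, IsClopen U' ∧ b ⁻¹' U' = V' := by
  have hpc : ∀ q, IsPreconnected (h ⁻¹' {q}) := fun q => (hconn q).isPreconnected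
  have hsurj : Function.Surjective h := fun q => by
    obtain ⟨p, hp⟩ := (hconn q).nonempty
    exact ⟨p, hp⟩
  have hlifta : ∀ q₀ : Q₀, ∃ p₀ : P₀, h (a p₀) = b q₀ := by
    intro q₀
    obtain ⟨p, hp⟩ := hsurj (b q₀)
    have : p ∈ Set.range a := by rw [hr]; exact ⟨q₀, hp.symm⟩
    obtain ⟨p₀, rfl⟩ := this
    exact ⟨p₀, hp⟩
  have hliftb : ∀ p₀ : P₀, ∃ q₀ : Q₀, b q₀ = h (a p₀) := by
    intro p₀
    have : a p₀ ∈ h ⁻¹' Set.range b := by rw [← hr]; exact ⟨p₀, rfl⟩
    exact this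
  -- the pulled back clopen
  have hmemV : ∀ (W : Set Q₀) (p₀ : P₀) (q₀ : Q₀), b q₀ = h (a p₀) →
      (p₀ ∈ (fun p₀ => h (a p₀)) ⁻¹' (b '' W) ↔ q₀ ∈ W) := by
    intro W p₀ q₀ hq₀
    constructor
    · rintro ⟨q₁, hq₁, hq₁'⟩
      have : q₁ = q₀ := hb.injective (hq₁'.trans hq₀.symm)
      rw [← this]; exact hq₁
    · intro hq
      exact ⟨q₀, hq, hq₀⟩
  have hVclosed : ∀ W : Set Q₀, IsClosed W → IsClosed ((fun p₀ => h (a p₀)) ⁻¹' (b '' W)) :=
    fun W hW => (hb.isClosedMap _ hW).preimage (hc.comp hac)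
  have hcompl : ((fun p₀ => h (a p₀)) ⁻¹' (b '' V'))ᶜ = (fun p₀ => h (a p₀)) ⁻¹' (b '' V'ᶜ) := by
    ext p₀
    obtain ⟨q₀, hq₀⟩ := hliftb p₀
    rw [Set.mem_compl_iff, hmemV V' p₀ q₀ hq₀, hmemV V'ᶜ p₀ q₀ hq₀, Set.mem_compl_iff]
  have hV : IsClopen ((fun p₀ => h (a p₀)) ⁻¹' (b '' V')) := by
    refine ⟨hVclosed V' hV'.isClosed, ?_⟩
    rw [← isClosed_compl_iff, hcompl]
    exact hVclosed _ hV'.compl.isClosed
  -- a clopen `U'` of `Q` restricts to `V'` iff its preimage restricts to `V`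
  have hpre : ∀ U' : Set Q, b ⁻¹' U' = V' →
      a ⁻¹' (h ⁻¹' U') = (fun p₀ => h (a p₀)) ⁻¹' (b '' V') := by
    intro U' hU'
    ext p₀
    obtain ⟨q₀, hq₀⟩ := hliftb p₀
    rw [hmemV V' p₀ q₀ hq₀, ← hU']
    simp only [Set.mem_preimage, hq₀]
  obtain ⟨U, ⟨hUclopen, hU⟩, hUuniq⟩ := hlift _ hV
  have hUimg : b ⁻¹' (h '' U) = V' := by
    ext q₀
    constructor
    · rintro ⟨p, hp, hpq⟩
      have : p ∈ Set.range a := by rw [hr]; exact ⟨q₀, hpq.symm⟩
      obtain ⟨p₀, rfl⟩ := this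
      have hp₀ : p₀ ∈ a ⁻¹' U := hp
      rw [hU] at hp₀
      exact (hmemV V' p₀ q₀ hpq.symm).mp hp₀
    · intro hq
      obtain ⟨p₀, hp₀⟩ := hlifta q₀
      have : p₀ ∈ a ⁻¹' U := by
        rw [hU]; exact (hmemV V' p₀ q₀ hp₀.symm).mpr hq
      exact ⟨a p₀, this, hp₀⟩
  refine ⟨h '' U, ⟨isClopen_image h hcl hsurj hpc hUclopen, hUimg⟩, ?_⟩
  rintro U₂ ⟨hU₂, hU₂V⟩
  have h1 : h ⁻¹' U₂ = U := hUuniq _ ⟨hU₂.preimage hc, hpre U₂ hU₂V⟩
  rw [← h1, Set.image_preimage_eq _ hsurj]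

end Top

section Scheme

variable (A : Type u) [CommRing A] (I : Ideal A) {X : Scheme.{u}}
  (f : X ⟶ Spec (CommRingCat.of A))

/-- The structure map `A ⟶ Γ(X, ⊤)`. -/
noncomputable def φ : CommRingCat.of A ⟶ Γ(X, ⊤) :=
  (Scheme.ΓSpecIso (CommRingCat.of A)).inv ≫ f.appTop

/-- The extended ideal `I Γ(X, ⊤)`. -/
noncomputable def I' : Ideal (Γ(X, ⊤) : Type u) := I.map (φ A f).hom

lemma toSpecΓ_φ : X.toSpecΓ ≫ Spec.map (φ A f) = f := by
  unfold φ
  rw [Spec.map_comp, ← Scheme.toSpecΓ_naturality_assoc, toSpecΓ_SpecMap_ΓSpecIso_inv,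
    Category.comp_id]

lemma range_i0 :
    Set.range (pullback.fst f (Spec.map (CommRingCat.ofHom (Ideal.Quotient.mk I)))) =
      X.toSpecΓ ⁻¹' Set.range (Spec.map (CommRingCat.ofHom (Ideal.Quotient.mk (I' A I f)))) := by
  ext x
  rw [Scheme.Pullback.range_fst, Set.mem_preimage, Set.mem_preimage, mem_range_SpecMap_mk]
  erw [mem_range_SpecMap_mk (R := Γ(X, ⊤)) (I' A I f) (X.toSpecΓ x)]
  have h6 : f x = (Spec.map (φ A f)) (X.toSpecΓ x) := by
    conv_lhs => rw [← toSpecΓ_φ A f]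
    rfl
  rw [h6]
  exact (Ideal.map_le_iff_le_comap).symm

lemma range_fst_fst {D : CommRingCat.{u}} (α : Γ(X, ⊤) ⟶ D) :
    Set.range (pullback.fst (pullback.fst X.toSpecΓ (Spec.map α))
        (pullback.fst f (Spec.map (CommRingCat.ofHom (Ideal.Quotient.mk I))))) =
      (pullback.snd X.toSpecΓ (Spec.map α)) ⁻¹' Set.range (pullback.fst (Spec.map α)
        (Spec.map (CommRingCat.ofHom (Ideal.Quotient.mk (I' A I f))))) := by
  rw [Scheme.Pullback.range_fst (f := pullback.fst X.toSpecΓ (Spec.map α)), range_i0 A I f,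
    Scheme.Pullback.range_fst (f := Spec.map α)]
  ext y
  simp only [Set.mem_preimage]
  have hw : X.toSpecΓ (pullback.fst X.toSpecΓ (Spec.map α) y) =
      (Spec.map α) (pullback.snd X.toSpecΓ (Spec.map α) y) := by
    have := congrArg (fun ψ : pullback X.toSpecΓ (Spec.map α) ⟶ Spec Γ(X, ⊤) => ψ y)
      (pullback.condition (f := X.toSpecΓ) (g := Spec.map α))
    simpa using this
  rw [hw]

/-- The henselian couple hypothesis on `(X, X₀)`. -/
def IsHensCouple : Prop :=
  ∀ (Y : Scheme.{u}) (g : Y ⟶ X), IsFinite g →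
    ∀ V : Set ↥(pullback g (pullback.fst f
      (Spec.map (CommRingCat.ofHom (Ideal.Quotient.mk I))))), IsClopen V →
      ∃! U : Set ↥Y, IsClopen U ∧ (pullback.fst g (pullback.fst f
        (Spec.map (CommRingCat.ofHom (Ideal.Quotient.mk I))))).base ⁻¹' U = V

variable {A I f}

/-- Step 1: `I Γ(X, ⊤)` is contained in the Jacobson radical. -/
theorem I'_le_jacobson [IsNoetherianRing A] [IsProper f] (hX : IsHensCouple A I f) :
    I' A I f ≤ Ideal.jacobson ⊥ := by
  rw [Ideal.jacobson, le_sInf_iff]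
  rintro m ⟨-, hm⟩
  by_contra hnot
  obtain ⟨-, -, hprop, hnoeth, hconn⟩ := toSpecΓ_props A f
  obtain ⟨pm, hpm⟩ : ∃ pm : Spec Γ(X, ⊤), pm.asIdeal = m := ⟨⟨m, hm.isPrime⟩, rfl⟩
  obtain ⟨x, hx⟩ := (hconn pm).nonempty
  obtain ⟨α, hα⟩ : ∃ α : Γ(X, ⊤) ⟶ CommRingCat.of ((Γ(X, ⊤) : Type u) ⧸ m),
    α = CommRingCat.ofHom (Ideal.Quotient.mk m) := ⟨_, rfl⟩
  haveI : IsClosedImmersion (Spec.map α) := by
    rw [hα]; exact IsClosedImmersion.spec_of_surjective _ Ideal.Quotient.mk_surjective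
  have hg : IsFinite (pullback.fst X.toSpecΓ (Spec.map α)) := inferInstance
  -- the fibre is nonempty
  have hpm' : pm ∈ Set.range (Spec.map α) := by
    rw [hα]
    erw [mem_range_SpecMap_mk (R := Γ(X, ⊤)) m pm]
    rw [hpm]
  obtain ⟨z, hz⟩ := hpm'
  obtain ⟨y, -, -⟩ := Scheme.Pullback.exists_preimage_pullback (f := X.toSpecΓ)
    (g := Spec.map α) x z (hx.trans hz.symm)
  -- but its reduction is empty
  have hempty : IsEmpty ↥(pullback (pullback.fst X.toSpecΓ (Spec.map α))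
      (pullback.fst f (Spec.map (CommRingCat.ofHom (Ideal.Quotient.mk I))))) := by
    constructor
    intro y₀
    have h1 : (pullback.fst (pullback.fst X.toSpecΓ (Spec.map α))
        (pullback.fst f (Spec.map (CommRingCat.ofHom (Ideal.Quotient.mk I))))) y₀ ∈
        Set.range (pullback.fst (pullback.fst X.toSpecΓ (Spec.map α))
        (pullback.fst f (Spec.map (CommRingCat.ofHom (Ideal.Quotient.mk I))))) := ⟨y₀, rfl⟩
    rw [range_fst_fst A I f α, Set.mem_preimage, Scheme.Pullback.range_fst (f := Spec.map α),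
      Set.mem_preimage] at h1
    obtain ⟨w, hw⟩ : ∃ w, w = (pullback.snd X.toSpecΓ (Spec.map α))
      ((pullback.fst (pullback.fst X.toSpecΓ (Spec.map α))
        (pullback.fst f (Spec.map (CommRingCat.ofHom (Ideal.Quotient.mk I))))) y₀) := ⟨_, rfl⟩
    rw [← hw] at h1
    erw [mem_range_SpecMap_mk (R := Γ(X, ⊤)) (I' A I f) ((Spec.map α) w)] at h1
    have h2 : m ≤ ((Spec.map α) w).asIdeal := by
      intro s hs
      change α.hom s ∈ w.asIdeal
      rw [hα]
      change Ideal.Quotient.mk m s ∈ w.asIdeal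
      rw [Ideal.Quotient.eq_zero_iff_mem.mpr hs]
      exact zero_mem _
    have h3 : m = ((Spec.map α) w).asIdeal :=
      hm.eq_of_le ((Spec.map α) w).isPrime.ne_top h2
    exact hnot (h3 ▸ h1)
  obtain ⟨U, -, huniq⟩ := hX _ (pullback.fst X.toSpecΓ (Spec.map α)) hg ∅ isClopen_empty
  have e1 := huniq ∅ ⟨isClopen_empty, Set.preimage_empty⟩
  have e2 := huniq Set.univ ⟨isClopen_univ, Set.eq_empty_of_isEmpty _⟩
  have e3 : (∅ : Set ↥(pullback X.toSpecΓ (Spec.map α))) = Set.univ := e1.trans e2.symm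
  have : y ∈ (∅ : Set ↥(pullback X.toSpecΓ (Spec.map α))) := by rw [e3]; trivial
  exact this

/-- Step 2: for a finite flat `Γ(X, ⊤)`-algebra `D`, clopens of `Spec (D / I' D)` lift uniquely to
`Spec D`. -/
theorem existsUnique_clopen_of_flat [IsNoetherianRing A] [IsProper f] (hX : IsHensCouple A I f)
    (D : Type u) [CommRing D] [Algebra (Γ(X, ⊤) : Type u) D] [Module.Finite (Γ(X, ⊤) : Type u) D]
    [Module.Flat (Γ(X, ⊤) : Type u) D] :
    ∀ V' : Set ↥(pullback (Spec.map (CommRingCat.ofHom (algebraMap (Γ(X, ⊤) : Type u) D)))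
        (Spec.map (CommRingCat.ofHom (Ideal.Quotient.mk (I' A I f))))), IsClopen V' →
      ∃! U' : Set ↥(Spec (CommRingCat.of D)), IsClopen U' ∧
        (pullback.fst (Spec.map (CommRingCat.ofHom (algebraMap (Γ(X, ⊤) : Type u) D)))
          (Spec.map (CommRingCat.ofHom (Ideal.Quotient.mk (I' A I f))))).base ⁻¹' U' = V' := by
  obtain ⟨-, -, hprop, hnoeth, -⟩ := toSpecΓ_props A f
  haveI := hprop
  haveI := hnoeth
  obtain ⟨α, hα⟩ : ∃ α : Γ(X, ⊤) ⟶ CommRingCat.of D,
    α = CommRingCat.ofHom (algebraMap (Γ(X, ⊤) : Type u) D) := ⟨_, rfl⟩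
  rw [← hα]
  have hfin : IsFinite (Spec.map α) := by
    rw [hα]
    exact (IsFinite.SpecMap_iff _).mpr (RingHom.finite_algebraMap.mpr inferInstance)
  haveI : Flat (Spec.map α) := by
    rw [hα]
    exact HasRingHomProperty.Spec_iff.2 (RingHom.flat_algebraMap_iff.2 inferInstance)
  haveI : IsIso (X.toSpecΓ.app ⊤) := by
    have : X.toSpecΓ.app ⊤ = (Scheme.ΓSpecIso Γ(X, ⊤)).hom := Scheme.toSpecΓ_appTop X
    rw [this]; infer_instance
  have hiso : IsIso ((pullback.snd X.toSpecΓ (Spec.map α)).app ⊤) :=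
    Groth.Agent.Lib.Helper13.ZariskiConn.isIso_app_of_flat_baseChange
      (IsPullback.of_hasPullback X.toSpecΓ (Spec.map α)) (isAffineOpen_top _) (isAffineOpen_top _)
      (fun _ _ => trivial) inferInstance
  haveI : IsNoetherianRing D := by
    haveI : IsNoetherian (Γ(X, ⊤) : Type u) D := isNoetherian_of_isNoetherianRing_of_finite _ _
    exact isNoetherian_of_tower (Γ(X, ⊤) : Type u) inferInstance
  have hconn : ∀ q : Spec (CommRingCat.of D),
      _root_.IsConnected ((pullback.snd X.toSpecΓ (Spec.map α)) ⁻¹' {q}) := fun q =>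
    Groth.Agent.Lib.Helper13.ZariskiConn.isConnected_preimage_singleton
      (pullback.snd X.toSpecΓ (Spec.map α)) q (isAffineOpen_top _) trivial hiso
  haveI : IsClosedImmersion (Spec.map (CommRingCat.ofHom (Ideal.Quotient.mk (I' A I f)))) :=
    IsClosedImmersion.spec_of_surjective _ Ideal.Quotient.mk_surjective
  intro V' hV'
  exact existsUnique_clopen_descend (pullback.snd X.toSpecΓ (Spec.map α))
    (pullback.snd X.toSpecΓ (Spec.map α)).continuous
    (pullback.snd X.toSpecΓ (Spec.map α)).isClosedMap hconn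
    (pullback.fst (pullback.fst X.toSpecΓ (Spec.map α))
      (pullback.fst f (Spec.map (CommRingCat.ofHom (Ideal.Quotient.mk I)))))
    (Scheme.Hom.continuous _)
    (pullback.fst (Spec.map α) (Spec.map (CommRingCat.ofHom (Ideal.Quotient.mk (I' A I f)))))
    (Scheme.Hom.isClosedEmbedding _) (range_fst_fst A I f α)
    (hX _ (pullback.fst X.toSpecΓ (Spec.map α)) inferInstance) V' hV'

end Scheme

section Translate

open Groth.Agent.Lib.Helper24.HensCouple Groth.Agent.Lib.Helper24.ClopenIdem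

/-- Unique lifting of clopens along `Spec (B / I B) ⟶ Spec B` gives bijectivity on idempotents
(extracted from helper24's `henselian_of_clopen_lift`). -/
theorem bijOn_of_clopen_lift (A : Type u) [CommRing A] (I : Ideal A) (B : Type u) [CommRing B]
    [Algebra A B]
    (H : ∀ V : Set ↥(pullback (Spec.map (CommRingCat.ofHom (algebraMap A B)))
        (Spec.map (CommRingCat.ofHom (Ideal.Quotient.mk I)))), IsClopen V →
      ∃! U : Set ↥(Spec (CommRingCat.of B)), IsClopen U ∧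
        (pullback.fst (Spec.map (CommRingCat.ofHom (algebraMap A B)))
          (Spec.map (CommRingCat.ofHom (Ideal.Quotient.mk I)))).base ⁻¹' U = V) :
    Set.BijOn (Ideal.Quotient.mk (Ideal.map (algebraMap A B) I))
      {e : B | IsIdempotentElem e} {e | IsIdempotentElem e} := by
  obtain ⟨α, hα⟩ : ∃ α : CommRingCat.of A ⟶ CommRingCat.of B,
    α = CommRingCat.ofHom (algebraMap A B) := ⟨_, rfl⟩
  rw [← hα] at H
  have h1 := (clopen_lift_iff_bijOn (pullback.fst (Spec.map α)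
    (Spec.map (CommRingCat.ofHom (Ideal.Quotient.mk I))))).mp H
  obtain ⟨hsurj, hker⟩ := fst_appTop_surjective_ker A I (Spec.map α)
  obtain ⟨θ, hθ⟩ : ∃ θ : CommRingCat.of B ⟶ Γ(Spec (CommRingCat.of B), ⊤),
    θ = (Scheme.ΓSpecIso (CommRingCat.of B)).inv := ⟨_, rfl⟩
  have hθbij : Function.Bijective θ.hom := by
    rw [hθ]; exact ConcreteCategory.bijective_of_isIso _
  have hnat : (Scheme.ΓSpecIso (CommRingCat.of A)).inv ≫ (Spec.map α).appTop = α ≫ θ := by
    rw [hθ]; exact (Scheme.ΓSpecIso_inv_naturality α).symm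
  rw [hnat] at hker
  obtain ⟨φ, hφ⟩ : ∃ φ : Γ(Spec (CommRingCat.of B), ⊤) →+*
      Γ(pullback (Spec.map α) (Spec.map (CommRingCat.ofHom (Ideal.Quotient.mk I))), ⊤),
    φ = (pullback.fst (Spec.map α)
      (Spec.map (CommRingCat.ofHom (Ideal.Quotient.mk I)))).appTop.hom := ⟨_, rfl⟩
  rw [← hφ] at h1 hsurj hker
  have hψsurj : Function.Surjective (φ.comp θ.hom) := by
    rw [RingHom.coe_comp]; exact hsurj.comp hθbij.2
  have hψker : RingHom.ker (φ.comp θ.hom) = I.map (algebraMap A B) := by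
    ext b
    rw [RingHom.mem_ker, RingHom.comp_apply, ← RingHom.mem_ker, hker, CommRingCat.hom_comp,
      ← Ideal.map_map, hα]
    constructor
    · intro hb
      obtain ⟨x, hx, hxb⟩ := (Ideal.mem_map_iff_of_surjective θ.hom hθbij.2).mp hb
      rw [← hθbij.1 hxb]
      exact hx
    · intro hb
      exact Ideal.mem_map_of_mem _ hb
  have hθidem : Set.BijOn θ.hom {e | IsIdempotentElem e} {e | IsIdempotentElem e} := by
    refine ⟨fun u hu => IsIdempotentElem.map hu _, hθbij.1.injOn, ?_⟩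
    intro w hw
    obtain ⟨b, rfl⟩ := hθbij.2 w
    refine ⟨b, ?_, rfl⟩
    apply hθbij.1
    rw [map_mul]
    exact hw
  have hψbij : Set.BijOn (φ.comp θ.hom) {e | IsIdempotentElem e} {e | IsIdempotentElem e} := by
    rw [RingHom.coe_comp]
    exact h1.comp hθidem
  exact (bijOn_idem_iff_of_ker _ hψsurj _ hψker).mp hψbij

end Translate

section Main

variable {A : Type u} [CommRing A] [IsNoetherianRing A] {I : Ideal A} {X : Scheme.{u}}
  {f : X ⟶ Spec (CommRingCat.of A)} [IsProper f]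

/-- `(Γ(X, ⊤), I Γ(X, ⊤))` is a henselian pair. -/
theorem henselianRing_I' (hX : IsHensCouple A I f) :
    HenselianRing (Γ(X, ⊤) : Type u) (I' A I f) := by
  refine Groth.Agent.Lib.Helper26.HenselIdemAdjoin.henselianRing_of_surjOn_adjoinRoot _
    (I'_le_jacobson hX) ?_
  intro P hP
  haveI : Module.Finite (Γ(X, ⊤) : Type u) (AdjoinRoot P) := hP.finite_adjoinRoot
  haveI : Module.Free (Γ(X, ⊤) : Type u) (AdjoinRoot P) := hP.free_adjoinRoot
  exact (bijOn_of_clopen_lift (Γ(X, ⊤) : Type u) (I' A I f) (AdjoinRoot P)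
    (existsUnique_clopen_of_flat hX (AdjoinRoot P))).surjOn

/-- S17965. -/
theorem main17965
    (hX : ∀ (Y : Scheme.{u}) (g : Y ⟶ X), IsFinite g →
      ∀ V : Set ↥(pullback g (pullback.fst f
        (Spec.map (CommRingCat.ofHom (Ideal.Quotient.mk I))))), IsClopen V →
        ∃! U : Set ↥Y, IsClopen U ∧ (pullback.fst g (pullback.fst f
          (Spec.map (CommRingCat.ofHom (Ideal.Quotient.mk I))))).base ⁻¹' U = V) :
    ∃ (A' : Type u) (_ : CommRing A') (I' : Ideal A') (_ : HenselianRing A' I')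
      (_ : IsNoetherianRing A')
      (f' : X ⟶ Spec (CommRingCat.of A')) (_ : IsProper f')
      (t : pullback f (Spec.map (CommRingCat.ofHom (Ideal.Quotient.mk I))) ⟶
        Spec (CommRingCat.of (A' ⧸ I'))),
      IsPullback (pullback.fst f (Spec.map (CommRingCat.ofHom (Ideal.Quotient.mk I)))) t f'
        (Spec.map (CommRingCat.ofHom (Ideal.Quotient.mk I'))) := by
  obtain ⟨-, -, hprop, hnoeth, -⟩ := toSpecΓ_props A f
  refine ⟨(Γ(X, ⊤) : Type u), inferInstance, I' A I f, henselianRing_I' hX, hnoeth, X.toSpecΓ,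
    hprop, ?_⟩
  have hq : Function.Surjective (CommRingCat.ofHom (Ideal.Quotient.mk I)) :=
    Ideal.Quotient.mk_surjective
  have hq' : Function.Surjective (CommRingCat.ofHom (Ideal.Quotient.mk (I' A I f))) :=
    Ideal.Quotient.mk_surjective
  have hker : RingHom.ker (CommRingCat.ofHom (Ideal.Quotient.mk (I' A I f))).hom =
      Ideal.map (φ A f).hom (RingHom.ker (CommRingCat.ofHom (Ideal.Quotient.mk I)).hom) := by
    change RingHom.ker (Ideal.Quotient.mk (I' A I f)) =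
      Ideal.map (φ A f).hom (RingHom.ker (Ideal.Quotient.mk I))
    rw [Ideal.mk_ker, Ideal.mk_ker]
    rfl
  obtain ⟨T, hT⟩ := Groth.Agent.Lib.Helper1.PPBCRing.exists_T (γ := φ A f)
    (q' := CommRingCat.ofHom (Ideal.Quotient.mk (I' A I f))) hq hker
  have hpo := Groth.Agent.Lib.Helper1.PPBCRing.isPushout_quot hq hq' hker T hT
  have hR := (isPullback_SpecMap_of_isPushout _ _ _ _ hpo).flip
  have hs : IsPullback (pullback.fst f (Spec.map (CommRingCat.ofHom (Ideal.Quotient.mk I))))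
      (pullback.snd f (Spec.map (CommRingCat.ofHom (Ideal.Quotient.mk I))))
      (X.toSpecΓ ≫ Spec.map (φ A f)) (Spec.map (CommRingCat.ofHom (Ideal.Quotient.mk I))) := by
    rw [toSpecΓ_φ]
    exact IsPullback.of_hasPullback _ _
  exact ⟨_, IsPullback.of_bot' hs hR⟩

end Main

end Groth.Agent.Lib.Helper13.HensProperConv
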