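import Mathlib
import Groth.Prelude
import Groth.Agent.S0283

/-!
# Descent of `X`-morphisms to a finite étale cover along a universal homeomorphism (helper13)
-/

set_option autoImplicit false
set_option linter.style.haveILetI false
universe u
open CategoryTheory CategoryTheory.Limits AlgebraicGeometry

namespace Groth.Agent.Lib.Helper13.HomotSeqA

/-- An `X`-morphism `X' ⟶ U` into a finite étale `X`-scheme descends along a universal homeomorphism
`w : X' ⟶ X''` of `X`-schemes. -/
theorem exists_descent {X' X'' X : Scheme.{u}} (w : X' ⟶ X'') [IsIntegralHom w]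
    [UniversallyInjective w] [Surjective w] (q : X'' ⟶ X) (U : FEt.Cat X) (a : X' ⟶ U.left)
    (ha : a ≫ U.hom = w ≫ q) :
    ∃ b : X'' ⟶ U.left, b ≫ U.hom = q ∧ w ≫ b = a := by
  obtain ⟨hfull, -⟩ := Groth.Agent.S0283.result w
  let T : FEt.Cat X'' := MorphismProperty.Over.mk ⊤ (𝟙 X'') ⟨inferInstance, inferInstance⟩
  let Us : FEt.Cat X'' := (FEt.restrict q).obj U
  have hUs : Us.hom = pullback.snd U.hom q := rfl
  have h1 : (pullback.snd (𝟙 X'') w ≫ a) ≫ U.hom = (pullback.snd (𝟙 X'') w ≫ w) ≫ q := by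
    rw [Category.assoc, Category.assoc, ha]
  let l1 : pullback (𝟙 X'') w ⟶ pullback U.hom q :=
    pullback.lift (pullback.snd (𝟙 X'') w ≫ a) (pullback.snd (𝟙 X'') w ≫ w) h1
  have h2 : l1 ≫ pullback.snd U.hom q = pullback.snd (𝟙 X'') w ≫ w := pullback.lift_snd _ _ _
  let l2 : pullback (𝟙 X'') w ⟶ pullback (pullback.snd U.hom q) w :=
    pullback.lift l1 (pullback.snd (𝟙 X'') w) h2
  have h3 : l2 ≫ pullback.snd (pullback.snd U.hom q) w = pullback.snd (𝟙 X'') w :=
    pullback.lift_snd _ _ _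
  let φ : (FEt.restrict w).obj T ⟶ (FEt.restrict w).obj Us :=
    MorphismProperty.Over.homMk l2 h3 trivial
  obtain ⟨ψ, hψ⟩ := hfull.map_surjective φ
  obtain ⟨b0, hb0⟩ : ∃ b0 : X'' ⟶ pullback U.hom q, b0 = ψ.left := ⟨ψ.left, rfl⟩
  have hψw : b0 ≫ pullback.snd U.hom q = 𝟙 X'' := by
    rw [hb0]; exact MorphismProperty.Over.w ψ
  have e1 : ((FEt.restrict w).map ψ).left = l2 := congrArg (fun m => m.left) hψ
  have e2 : ((FEt.restrict w).map ψ).left ≫ pullback.fst (pullback.snd U.hom q) w =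
      pullback.fst (𝟙 X'') w ≫ ψ.left := by
    unfold FEt.restrict
    rw [MorphismProperty.Over.pullback_map_left]
    exact pullback.lift_fst _ _ _
  have h5 : l2 ≫ pullback.fst (pullback.snd U.hom q) w = pullback.fst (𝟙 X'') w ≫ b0 :=
    ((congrArg (fun m => m ≫ pullback.fst (pullback.snd U.hom q) w) e1).symm).trans
      (e2.trans (congrArg (fun m => pullback.fst (𝟙 X'') w ≫ m) hb0.symm))
  have h6 : l2 ≫ pullback.fst (pullback.snd U.hom q) w = l1 := pullback.lift_fst _ _ _
  refine ⟨b0 ≫ pullback.fst U.hom q, ?_, ?_⟩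
  · rw [Category.assoc, pullback.condition, ← Category.assoc, hψw, Category.id_comp]
  · have h5' : l1 = pullback.fst (𝟙 X'') w ≫ b0 := h6.symm.trans h5
    -- precompose with the section `X' ⟶ pullback (𝟙 X'') w`
    let s : X' ⟶ pullback (𝟙 X'') w := pullback.lift w (𝟙 X') (by simp)
    have hs1 : s ≫ pullback.fst (𝟙 X'') w = w := pullback.lift_fst _ _ _
    have hs2 : s ≫ pullback.snd (𝟙 X'') w = 𝟙 X' := pullback.lift_snd _ _ _
    have h7 : s ≫ l1 ≫ pullback.fst U.hom q = a := by
      rw [pullback.lift_fst, ← Category.assoc, hs2, Category.id_comp]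
    rw [← h7, h5', Category.assoc, ← Category.assoc s, hs1]

end Groth.Agent.Lib.Helper13.HomotSeqA
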