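import Mathlib
import Groth.Prelude
import Groth.Agent.Lib.Helper16.SepLimit
import Groth.Agent.Lib.Helper11.UHRing
import Groth.Agent.S0415

/-!
# Field-theoretic inputs for the homotopy exact sequence (helper13)
-/

set_option autoImplicit false
set_option linter.style.haveILetI false
universe u
open CategoryTheory CategoryTheory.Limits AlgebraicGeometry Opposite

namespace Groth.Agent.Lib.Helper13.HomotSeqB

open Groth.Helper16.SepLimit

/-- `Spec` of a finite separable field extension is finite étale. -/
theorem finite_etale_of_finite_separable (k E : Type u) [Field k] [Field E] [Algebra k E]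
    [FiniteDimensional k E] [Algebra.IsSeparable k E] :
    IsFinite (Spec.map (CommRingCat.ofHom (algebraMap k E))) ∧
      Etale (Spec.map (CommRingCat.ofHom (algebraMap k E))) := by
  constructor
  · rw [IsFinite.SpecMap_iff]
    show (algebraMap k E).Finite
    exact RingHom.finite_algebraMap.mpr inferInstance
  · rw [HasRingHomProperty.Spec_iff (P := @Etale)]
    show (algebraMap k E).Etale
    rw [RingHom.etale_algebraMap]
    haveI : Algebra.FormallyEtale k E := Algebra.FormallyEtale.of_isSeparable k E
    haveI : Algebra.FinitePresentation k E := Algebra.FinitePresentation.of_finiteType.mp inferInstance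
    exact {}

/-- `Spec` of a field extension is surjective. -/
instance surjective_Spec_field (k K : Type u) [Field k] [Field K] [Algebra k K] :
    Surjective (Spec.map (CommRingCat.ofHom (algebraMap k K))) :=
  ⟨fun _ => ⟨(⟨⊥, Ideal.isPrime_bot⟩ : PrimeSpectrum K),
    Subsingleton.elim (α := PrimeSpectrum k) _ _⟩⟩

variable {k : Type u} [Field k] {X : Scheme.{u}} (f : X ⟶ Spec (CommRingCat.of k))

/-- `X_K ⟶ X` is surjective. -/
instance surjective_fst (K : Type u) [Field K] [Algebra k K] :
    Surjective (pullback.fst f (Spec.map (CommRingCat.ofHom (algebraMap k K)))) :=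
  MorphismProperty.pullback_fst (P := @Surjective) _ _ inferInstance

variable (K : Type u) [Field K] [Algebra k K] (L : IntermediateField k K)

/-- the canonical map `X_K ⟶ X_L` for an intermediate field `L`. -/
noncomputable def toL : XK K f ⟶ XK L f :=
  pullback.map f (Spec.map (CommRingCat.ofHom (algebraMap k K))) f
    (Spec.map (CommRingCat.ofHom (algebraMap k L))) (𝟙 X)
    (Spec.map (CommRingCat.ofHom (algebraMap L K))) (𝟙 _) (by simp)
    (by
      rw [Category.comp_id, ← Spec.map_comp]
      rfl)

@[reassoc]
theorem toL_fst : toL f K L ≫ pullback.fst _ _ = pullback.fst _ _ := by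
  unfold toL pullback.map
  rw [pullback.lift_fst, Category.comp_id]

@[reassoc]
theorem toL_snd : toL f K L ≫ pullback.snd _ _ =
    pullback.snd _ _ ≫ Spec.map (CommRingCat.ofHom (algebraMap L K)) := by
  unfold toL pullback.map
  rw [pullback.lift_snd]

theorem isPullback_toL :
    IsPullback (toL f K L) (pullback.snd f (Spec.map (CommRingCat.ofHom (algebraMap k K))))
      (pullback.snd f (Spec.map (CommRingCat.ofHom (algebraMap k L))))
      (Spec.map (CommRingCat.ofHom (algebraMap L K))) := by
  refine IsPullback.of_right ?_ (toL_snd f K L)
    (IsPullback.of_hasPullback f (Spec.map (CommRingCat.ofHom (algebraMap k L))))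
  rw [toL_fst, ← Spec.map_comp]
  exact IsPullback.of_hasPullback _ _

/-- for `K/k` algebraic and `L` the separable closure of `k` in `K`, `X_K ⟶ X_L` is a universal
homeomorphism. -/
theorem univHomeo_toL_separableClosure [Algebra.IsAlgebraic k K] :
    IsIntegralHom (toL f K (separableClosure k K)) ∧
      UniversallyInjective (toL f K (separableClosure k K)) ∧
      Surjective (toL f K (separableClosure k K)) := by
  rw [← Groth.Agent.S0415.result]
  haveI : IsPurelyInseparable (separableClosure k K) K := separableClosure.isPurelyInseparable k K
  have hUH : Groth.Agent.Lib.Helper11.UHRing.UH (algebraMap (separableClosure k K) K) := by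
    refine ⟨?_, ?_, ?_⟩
    · intro x
      haveI : Algebra.IsIntegral (separableClosure k K) K := inferInstance
      exact Algebra.IsIntegral.isIntegral (R := separableClosure k K) x
    · rw [(RingHom.injective_iff_ker_eq_bot _).mp (algebraMap (separableClosure k K) K).injective]
      exact bot_le
    · intro F _ g₁ g₂ h
      exact IsPurelyInseparable.injective_comp_algebraMap (separableClosure k K) K F h
  have h1 : FlatMor.IsUnivHomeo
      (Spec.map (CommRingCat.ofHom (algebraMap (separableClosure k K) K))) :=
    (Groth.Agent.Lib.Helper11.UHRing.isUnivHomeo_SpecMap_iff _).mpr hUH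
  haveI : (FlatMor.IsUnivHomeo.{u}).IsStableUnderBaseChange := by
    unfold FlatMor.IsUnivHomeo; infer_instance
  exact MorphismProperty.of_isPullback (P := FlatMor.IsUnivHomeo)
    (isPullback_toL f K (separableClosure k K)).flip h1

end Groth.Agent.Lib.Helper13.HomotSeqB
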