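import Mathlib
import Groth.Prelude
import Groth.Agent.Lib.Helper13.HomotSeqA
import Groth.Agent.Lib.Helper13.HomotSeqB

/-!
# Sections over the algebraic closure come from a finite separable level (helper13)
-/

set_option autoImplicit false
set_option linter.style.haveILetI false
universe u
open CategoryTheory CategoryTheory.Limits AlgebraicGeometry Opposite

namespace Groth.Agent.Lib.Helper13.HomotSeqC

open Groth.Helper16.SepLimit Groth.Agent.Lib.Helper13.HomotSeqB

variable {k : Type u} [Field k] {X : Scheme.{u}} (f : X ⟶ Spec (CommRingCat.of k))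

section Level

variable {K : Type u} [Field K] [Algebra k K]

/-- the structure maps `X_E ⟶ X` as a natural transformation. -/
noncomputable def tX : D (K := K) f ⟶ (Functor.const _).obj X where
  app E := pullback.fst f (Spec.map (algE k K E.unop))
  naturality E E' a := by
    exact (trans_fst f _).trans (Category.comp_id _).symm

variable [Algebra.IsIntegral k K] [CompactSpace X] [QuasiSeparatedSpace X]

/-- an `X`-morphism from `X_K` to a finite étale `X`-scheme comes from a finite level. -/
theorem exists_finite_level (U : FEt.Cat X) (b : XK K f ⟶ U.left)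
    (hb : b ≫ U.hom = pullback.fst f (Spec.map (CommRingCat.ofHom (algebraMap k K)))) :
    ∃ (E : FinSub k K) (g : XE f E ⟶ U.left), toE f E ≫ g = b ∧
      g ≫ U.hom = pullback.fst f (Spec.map (algE k K E)) := by
  haveI : Etale U.hom := U.prop.2
  haveI : LocallyOfFinitePresentation U.hom := inferInstance
  obtain ⟨E, g, h1, h2⟩ := Scheme.exists_π_app_comp_eq_of_locallyOfFinitePresentation
    (D (K := K) f) (tX f) U.hom (cone f) (isLimitCone f) b (by
      ext E
      rw [NatTrans.comp_app, Functor.const_map_app]
      exact (toE_fst f E.unop).trans hb.symm)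
  exact ⟨E.unop, g, h1, h2⟩

end Level

/-- the finite étale `k`-scheme `Spec E` for a finite separable extension `E`. -/
noncomputable def specFEt (E : Type u) [Field E] [Algebra k E] [FiniteDimensional k E]
    [Algebra.IsSeparable k E] : FEt.Cat (Spec (CommRingCat.of k)) :=
  MorphismProperty.Over.mk ⊤ (Spec.map (CommRingCat.ofHom (algebraMap k E)))
    ⟨(finite_etale_of_finite_separable k E).1, (finite_etale_of_finite_separable k E).2⟩

variable [CompactSpace X] [QuasiSeparatedSpace X]

/-- a section of a finite étale cover over the algebraic closure is dominated by a morphism from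
`X ×_k V` for a finite étale `k`-scheme `V`. -/
theorem exists_level_of_section (U : FEt.Cat X)
    (a : pullback f (Spec.map (CommRingCat.ofHom (algebraMap k (AlgebraicClosure k)))) ⟶ U.left)
    (ha : a ≫ U.hom =
      pullback.fst f (Spec.map (CommRingCat.ofHom (algebraMap k (AlgebraicClosure k))))) :
    ∃ (V : FEt.Cat (Spec (CommRingCat.of k))) (e : (FEt.restrict f).obj V ⟶ U),
      Set.range a.base ⊆ Set.range e.left.base := by
  obtain ⟨L, hL⟩ : ∃ L : IntermediateField k (AlgebraicClosure k),
      L = separableClosure k (AlgebraicClosure k) := ⟨_, rfl⟩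
  obtain ⟨hw1, hw2, hw3⟩ := univHomeo_toL_separableClosure f (AlgebraicClosure k)
  rw [← hL] at hw1 hw2 hw3
  haveI := hw1
  haveI := hw2
  haveI := hw3
  obtain ⟨b, hb1, hb2⟩ := Groth.Agent.Lib.Helper13.HomotSeqA.exists_descent
    (toL f (AlgebraicClosure k) L)
    (pullback.fst f (Spec.map (CommRingCat.ofHom (algebraMap k L)))) U a
    (by rw [ha, toL_fst])
  haveI : Algebra.IsSeparable k L := by rw [hL]; infer_instance
  haveI : Algebra.IsIntegral k L := inferInstance
  obtain ⟨E, g, hg1, hg2⟩ := exists_finite_level (K := L) f U b hb1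
  haveI : FiniteDimensional k E.1 := E.2
  haveI : Algebra.IsSeparable k E.1 := Algebra.isSeparable_tower_bot_of_isSeparable k E.1 L
  let V : FEt.Cat (Spec (CommRingCat.of k)) := specFEt (k := k) E.1
  have hV : V.hom = Spec.map (algE k L E) := rfl
  obtain ⟨g', hg'⟩ : ∃ g' : pullback f V.hom ⟶ U.left, g' = g := ⟨g, rfl⟩
  have hg2' : g' ≫ U.hom = pullback.fst f V.hom := by rw [hg']; exact hg2
  let el : pullback V.hom f ⟶ U.left := (pullbackSymmetry V.hom f).hom ≫ g'
  have hel : el ≫ U.hom = pullback.snd V.hom f := by
    show ((pullbackSymmetry V.hom f).hom ≫ g') ≫ U.hom = _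
    rw [Category.assoc, hg2']
    exact pullbackSymmetry_hom_comp_fst _ _
  let e : (FEt.restrict f).obj V ⟶ U := MorphismProperty.Over.homMk el hel trivial
  refine ⟨V, e, ?_⟩
  rintro _ ⟨x, rfl⟩
  have h3 : a = toL f (AlgebraicClosure k) L ≫ toE f E ≫ g := by rw [hg1, hb2]
  refine ⟨(pullbackSymmetry V.hom f).inv ((toL f (AlgebraicClosure k) L ≫ toE f E) x), ?_⟩
  have h4 : e.left = el := rfl
  rw [h4, h3]
  show ((pullbackSymmetry V.hom f).inv ≫ (pullbackSymmetry V.hom f).hom ≫ g').base _ = _
  rw [Iso.inv_hom_id_assoc, hg']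
  rfl

end Groth.Agent.Lib.Helper13.HomotSeqC
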