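import Mathlib
import Groth.Prelude
import Groth.Agent.Lib.Helper13.HomotSeqC
import Groth.Agent.S0284
import Groth.Agent.S0285

/-!
# Exactness of the homotopy sequence at `π₁(X)`, functor form (helper13)
-/

set_option autoImplicit false
set_option linter.style.haveILetI false
universe u
open CategoryTheory CategoryTheory.Limits AlgebraicGeometry Opposite

namespace Groth.Agent.Lib.Helper13.HomotSeqD

open Groth.Agent.Lib.Helper13.HomotSeqB Groth.Agent.Lib.Helper13.HomotSeqC

theorem main (k : Type u) [Field k] {X : Scheme.{u}} (f : X ⟶ Spec (CommRingCat.of k))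
    [CompactSpace X] [QuasiSeparatedSpace X] (U : FEt.Cat X)
    (hU : Pi1.IsSplit ((FEt.restrict (pullback.fst f
      (Spec.map (CommRingCat.ofHom (algebraMap k (AlgebraicClosure k)))))).obj U)) :
    ∃ (V : FEt.Cat (Spec (CommRingCat.of k))) (e : (FEt.restrict f).obj V ⟶ U),
      Surjective e.left := by
  obtain ⟨p, hp⟩ : ∃ p : pullback f (Spec.map (CommRingCat.ofHom
      (algebraMap k (AlgebraicClosure k)))) ⟶ X,
      p = pullback.fst f (Spec.map (CommRingCat.ofHom (algebraMap k (AlgebraicClosure k)))) :=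
    ⟨_, rfl⟩
  rw [← hp] at hU
  obtain ⟨ι, hfin, eiso, hsec⟩ := hU
  haveI := hfin
  obtain ⟨eh, heh⟩ : ∃ eh : pullback U.hom p ⟶ ∐ fun _ : ι => pullback f (Spec.map
      (CommRingCat.ofHom (algebraMap k (AlgebraicClosure k)))), eh = eiso.hom := ⟨_, rfl⟩
  obtain ⟨ei, hei⟩ : ∃ ei : (∐ fun _ : ι => pullback f (Spec.map
      (CommRingCat.ofHom (algebraMap k (AlgebraicClosure k))))) ⟶ pullback U.hom p,
      ei = eiso.inv := ⟨_, rfl⟩
  have hie : eh ≫ ei = 𝟙 _ := by rw [heh, hei]; exact eiso.hom_inv_id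
  have hsec' : ∀ i : ι, Sigma.ι (fun _ : ι => pullback f (Spec.map
      (CommRingCat.ofHom (algebraMap k (AlgebraicClosure k))))) i ≫ ei ≫ pullback.snd U.hom p =
      𝟙 _ := by
    intro i; rw [hei]; exact hsec i
  let a : ι → (pullback f (Spec.map (CommRingCat.ofHom (algebraMap k (AlgebraicClosure k)))) ⟶
      U.left) := fun i => Sigma.ι (fun _ : ι => pullback f (Spec.map
      (CommRingCat.ofHom (algebraMap k (AlgebraicClosure k))))) i ≫ ei ≫ pullback.fst U.hom p
  have ha : ∀ i, a i ≫ U.hom = p := by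
    intro i
    show (Sigma.ι (fun _ : ι => pullback f (Spec.map
      (CommRingCat.ofHom (algebraMap k (AlgebraicClosure k))))) i ≫ ei ≫ pullback.fst U.hom p) ≫ U.hom = p
    rw [Category.assoc, Category.assoc, pullback.condition, ← Category.assoc ei,
      ← Category.assoc, hsec' i, Category.id_comp]
  have key : ∀ i, ∃ (V : FEt.Cat (Spec (CommRingCat.of k))) (e : (FEt.restrict f).obj V ⟶ U),
      Set.range (a i).base ⊆ Set.range e.left.base := fun i =>
    exists_level_of_section f U (a i) (by rw [ha i, hp])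
  choose V e hVe using key
  haveI hc1 : HasFiniteColimits (FEt.Cat (Spec (CommRingCat.of k))) :=
    (Groth.Agent.S0284.result (Spec (CommRingCat.of k))).2
  haveI hc2 : HasFiniteColimits (FEt.Cat X) := (Groth.Agent.S0284.result X).2
  haveI hc3 : PreservesFiniteColimits (FEt.restrict f) := (Groth.Agent.S0285.result f).2
  haveI : HasFiniteCoproducts (FEt.Cat (Spec (CommRingCat.of k))) := inferInstance
  haveI : HasFiniteCoproducts (FEt.Cat X) := inferInstance
  haveI : PreservesFiniteCoproducts (FEt.restrict f) := inferInstance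
  haveI : HasCoproduct V := inferInstance
  haveI : HasCoproduct fun i => (FEt.restrict f).obj (V i) := inferInstance
  haveI : PreservesColimit (Discrete.functor V) (FEt.restrict f) := inferInstance
  let eTot : (FEt.restrict f).obj (∐ V) ⟶ U :=
    (PreservesCoproduct.iso (FEt.restrict f) V).hom ≫ Sigma.desc e
  have hfac : ∀ i, (FEt.restrict f).map (Sigma.ι V i) ≫ eTot = e i := by
    intro i
    have h1 : (FEt.restrict f).map (Sigma.ι V i) =
        Sigma.ι (fun i => (FEt.restrict f).obj (V i)) i ≫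
          (PreservesCoproduct.iso (FEt.restrict f) V).inv := by
      rw [PreservesCoproduct.inv_hom]
      exact (ι_comp_sigmaComparison (FEt.restrict f) V i).symm
    show (FEt.restrict f).map (Sigma.ι V i) ≫
      (PreservesCoproduct.iso (FEt.restrict f) V).hom ≫ Sigma.desc e = e i
    rw [h1, Category.assoc, Iso.inv_hom_id_assoc, Sigma.ι_desc]
  refine ⟨∐ V, eTot, ⟨fun u => ?_⟩⟩
  haveI : Surjective p := by rw [hp]; infer_instance
  haveI : Surjective (pullback.fst U.hom p) :=
    MorphismProperty.pullback_fst (P := @Surjective) _ _ inferInstance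
  obtain ⟨u', hu'⟩ := (pullback.fst U.hom p).surjective u
  obtain ⟨⟨i, x⟩, hx⟩ := (sigmaMk (fun _ : ι => pullback f (Spec.map
      (CommRingCat.ofHom (algebraMap k (AlgebraicClosure k)))))).surjective (eh u')
  rw [sigmaMk_mk] at hx
  have h2 : (a i) x = u := by
    show (Sigma.ι (fun _ : ι => pullback f (Spec.map
      (CommRingCat.ofHom (algebraMap k (AlgebraicClosure k))))) i ≫ ei ≫ pullback.fst U.hom p) x = u
    rw [Scheme.Hom.comp_apply, hx, ← Scheme.Hom.comp_apply, ← Category.assoc, hie,
      Category.id_comp, hu']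
  obtain ⟨y, hy⟩ := hVe i ⟨x, h2⟩
  refine ⟨((FEt.restrict f).map (Sigma.ι V i)).left y, ?_⟩
  have h3 : ((FEt.restrict f).map (Sigma.ι V i)).left ≫ eTot.left = (e i).left :=
    congrArg (fun m => m.left) (hfac i)
  rw [← Scheme.Hom.comp_apply, h3]
  exact hy

end Groth.Agent.Lib.Helper13.HomotSeqD
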