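import Mathlib
import Groth.Prelude
import Groth.Agent.Lib.Helper22.Frob

/-!
# Frobenius descent of finite étale covers (helper13)

If `i : X' ⟶ X''` admits `G : X'' ⟶ X'` with `i ≫ G` a power of the absolute Frobenius of `X'`, every
finite étale cover of `X'` is the restriction along `i` of a finite étale cover of `X''`.
-/

set_option autoImplicit false
set_option linter.style.haveILetI false
universe u
open CategoryTheory CategoryTheory.Limits AlgebraicGeometry

namespace Groth.Agent.Lib.Helper13.HomotSeqE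

open FrobSch Groth.Agent.Lib.Helper22.Frob

variable (p : ℕ) [Fact p.Prime]

/-- the relative Frobenius of an étale morphism is an isomorphism. -/
theorem isIso_relFrob_of_etale {Z S : Scheme.{u}} [IsCharP S p] (q : Z ⟶ S) [Etale q] :
    IsIso (relFrob q p) := by
  have h2 : relFrob q p ≫ pullback.snd q (frob S p) = q := relFrob_snd q p
  haveI : Etale (relFrob q p ≫ pullback.snd q (frob S p)) := by rw [h2]; infer_instance
  haveI : Etale (relFrob q p) :=
    MorphismProperty.of_postcomp (W := @Etale) (W' := @Etale) (relFrob q p)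
      (pullback.snd q (frob S p)) inferInstance inferInstance
  haveI : Surjective (pullback.diagonal (relFrob q p)) :=
    (UniversallyInjective.iff_diagonal _).mp inferInstance
  haveI : IsIso (pullback.diagonal (relFrob q p)) :=
    (isIso_iff_isOpenImmersion_and_surjective _).mpr ⟨inferInstance, inferInstance⟩
  haveI : Mono (relFrob q p) := (pullback.isIso_diagonal_iff (f := relFrob q p)).mp inferInstance
  haveI : IsOpenImmersion (relFrob q p) := IsOpenImmersion.of_flat_of_mono _
  exact (isIso_iff_isOpenImmersion_and_surjective _).mpr ⟨inferInstance, inferInstance⟩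

/-- pulling back a finite étale cover along the absolute Frobenius gives an isomorphic cover. -/
theorem nonempty_restrict_frob_iso {X : Scheme.{u}} [IsCharP X p] (W : FEt.Cat X) :
    Nonempty ((FEt.restrict (frob X p)).obj W ≅ W) := by
  obtain ⟨Z, q, hq, rfl⟩ : ∃ (Z : Scheme.{u}) (q : Z ⟶ X) (hq : FEt.prop q),
      W = MorphismProperty.Over.mk ⊤ q hq := ⟨W.left, W.hom, W.prop, rfl⟩
  haveI : Etale q := hq.2
  let e : Z ≅ pullback q (frob X p) :=
    @asIso _ _ _ _ (relFrob q p) (isIso_relFrob_of_etale p q)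
  have he : e.hom ≫ pullback.snd q (frob X p) = q := relFrob_snd q p
  exact ⟨(MorphismProperty.Over.isoMk e he).symm⟩

/-- the `(n+1)`-st power of the absolute Frobenius. -/
noncomputable def frobPow (X : Scheme.{u}) [IsCharP X p] : ℕ → (X ⟶ X)
  | 0 => frob X p
  | n + 1 => frobPow X n ≫ frob X p

theorem frobPow_comp {X Y : Scheme.{u}} [IsCharP X p] [IsCharP Y p] (f : X ⟶ Y) (n : ℕ) :
    frobPow p X n ≫ f = f ≫ frobPow p Y n := by
  induction n with
  | zero => exact frob_comp p f
  | succ n ih =>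
    show (frobPow p X n ≫ frob X p) ≫ f = f ≫ frobPow p Y n ≫ frob Y p
    rw [Category.assoc, frob_comp p f, ← Category.assoc, ih, Category.assoc]

theorem nonempty_restrict_frobPow_iso {X : Scheme.{u}} [IsCharP X p] (W : FEt.Cat X) (n : ℕ) :
    Nonempty ((FEt.restrict (frobPow p X n)).obj W ≅ W) := by
  induction n with
  | zero => exact nonempty_restrict_frob_iso p W
  | succ n ih =>
    obtain ⟨e1⟩ := nonempty_restrict_frob_iso p W
    obtain ⟨e2⟩ := ih
    let e0 : FEt.restrict (frobPow p X n ≫ frob X p) ≅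
        FEt.restrict (frob X p) ⋙ FEt.restrict (frobPow p X n) :=
      MorphismProperty.Over.pullbackComp (frobPow p X n) (frob X p)
    exact ⟨e0.app W ≪≫ (FEt.restrict (frobPow p X n)).mapIso e1 ≪≫ e2⟩

/-- **Frobenius descent.** -/
theorem exists_descent_of_frobPow {X' X'' : Scheme.{u}} [IsCharP X' p] (i : X' ⟶ X'')
    (G : X'' ⟶ X') (n : ℕ) (h : i ≫ G = frobPow p X' n) (W : FEt.Cat X') :
    ∃ W' : FEt.Cat X'', Nonempty ((FEt.restrict i).obj W' ≅ W) := by
  obtain ⟨e2⟩ := nonempty_restrict_frobPow_iso p W n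
  let e0 : FEt.restrict (frobPow p X' n) ≅ FEt.restrict G ⋙ FEt.restrict i :=
    MorphismProperty.Over.pullbackComp i G (frobPow p X' n) h.symm
  exact ⟨(FEt.restrict G).obj W, ⟨(e0.app W).symm ≪≫ e2⟩⟩

/-- descent along a morphism with a retraction-like inverse. -/
theorem exists_descent_of_isIso {X' X'' : Scheme.{u}} (i : X' ⟶ X'') [IsIso i] (W : FEt.Cat X') :
    ∃ W' : FEt.Cat X'', Nonempty ((FEt.restrict i).obj W' ≅ W) := by
  let e0 : FEt.restrict (𝟙 X') ≅ FEt.restrict (inv i) ⋙ FEt.restrict i :=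
    MorphismProperty.Over.pullbackComp i (inv i) (𝟙 X') (IsIso.hom_inv_id i).symm
  obtain ⟨Z, q, hq, rfl⟩ : ∃ (Z : Scheme.{u}) (q : Z ⟶ X') (hq : FEt.prop q),
      W = MorphismProperty.Over.mk ⊤ q hq := ⟨W.left, W.hom, W.prop, rfl⟩
  let e : pullback q (𝟙 X') ≅ Z :=
    @asIso _ _ _ _ (pullback.fst q (𝟙 X')) (pullback_fst_iso_of_right_iso q (𝟙 X'))
  have he : e.hom ≫ q = pullback.snd q (𝟙 X') := by
    show pullback.fst q (𝟙 X') ≫ q = pullback.snd q (𝟙 X')
    rw [pullback.condition, Category.comp_id]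
  let e1 : (FEt.restrict (𝟙 X')).obj (MorphismProperty.Over.mk ⊤ q hq) ≅
      MorphismProperty.Over.mk ⊤ q hq :=
    MorphismProperty.Over.isoMk e he
  exact ⟨(FEt.restrict (inv i)).obj (MorphismProperty.Over.mk ⊤ q hq), ⟨(e0.app _).symm ≪≫ e1⟩⟩

end Groth.Agent.Lib.Helper13.HomotSeqE
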