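import Mathlib
import Groth.Prelude
import Groth.Agent.Lib.Helper13.HomotSeqB
import Groth.Agent.Lib.Helper13.HomotSeqE
import Groth.Agent.Lib.Helper11.PerfLib

/-!
# Finite étale covers of `X_E` descend to `X_F`, `F` the separable closure of `k` in a finite
extension `E` (helper13)
-/

set_option autoImplicit false
set_option linter.style.haveILetI false
universe u
open CategoryTheory CategoryTheory.Limits AlgebraicGeometry Opposite

namespace Groth.Agent.Lib.Helper13.HomotSeqF

open FrobSch Groth.Helper16.SepLimit Groth.Agent.Lib.Helper13.HomotSeqB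
  Groth.Agent.Lib.Helper13.HomotSeqE

variable (p : ℕ) [Fact p.Prime]

/-- powers of the Frobenius of an affine scheme. -/
theorem frobPow_Spec (R : Type u) [CommRing R] [CharP R p] (n : ℕ) :
    haveI : ExpChar R p := ExpChar.prime Fact.out
    frobPow p (Spec (CommRingCat.of R)) n =
      Spec.map (CommRingCat.ofHom (iterateFrobenius R p (n + 1))) := by
  haveI : ExpChar R p := ExpChar.prime Fact.out
  induction n with
  | zero =>
    show frob (Spec (CommRingCat.of R)) p = _
    rw [Groth.Agent.Lib.Helper11.PerfLib.frob_Spec, zero_add, iterateFrobenius_one]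
  | succ n ih =>
    show frobPow p (Spec (CommRingCat.of R)) n ≫ frob (Spec (CommRingCat.of R)) p = _
    rw [ih, Groth.Agent.Lib.Helper11.PerfLib.frob_Spec, ← Spec.map_comp]
    congr 1
    apply CommRingCat.hom_ext
    ext x
    show iterateFrobenius R p (n + 1) (frobenius R p x) = iterateFrobenius R p (n + 1 + 1) x
    rw [iterateFrobenius_def, iterateFrobenius_def, frobenius_def, ← pow_mul, ← pow_succ']

variable {k : Type u} [Field k] {X : Scheme.{u}} (f : X ⟶ Spec (CommRingCat.of k))
  (E : Type u) [Field E] [Algebra k E] [FiniteDimensional k E]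

set_option maxHeartbeats 800000 in
/-- finite étale covers of `X_E` descend to `X_F` for `F` the separable closure of `k` in `E`. -/
theorem exists_descent_separableClosure [CharP k p] (W : FEt.Cat (XK E f)) :
    ∃ W' : FEt.Cat (XK (separableClosure k E) f),
      Nonempty ((FEt.restrict (toL f E (separableClosure k E))).obj W' ≅ W) := by
  have hp : p.Prime := Fact.out
  obtain ⟨F, hF⟩ : ∃ F : IntermediateField k E, F = separableClosure k E := ⟨_, rfl⟩
  rw [← hF]
  haveI : IsPurelyInseparable F E := by rw [hF]; exact separableClosure.isPurelyInseparable k E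
  haveI : FiniteDimensional F E := IntermediateField.finiteDimensional_right F
  haveI : CharP F p := charP_of_injective_algebraMap (algebraMap k F).injective p
  haveI : CharP E p := charP_of_injective_algebraMap (algebraMap k E).injective p
  haveI : ExpChar k p := ExpChar.prime Fact.out
  haveI : ExpChar F p := ExpChar.prime Fact.out
  haveI : ExpChar E p := ExpChar.prime Fact.out
  haveI : IsPurelyInseparable.HasExponent F E := IsPurelyInseparable.hasExponent_of_finiteDimensional
  obtain ⟨m, hm⟩ : ∃ m : ℕ, m = IsPurelyInseparable.exponent F E := ⟨_, rfl⟩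
  have hle : IsPurelyInseparable.exponent F E ≤ m + 1 := by rw [hm]; exact Nat.le_succ _
  obtain ⟨φ, hφ⟩ : ∃ φ : E →+* F, φ = IsPurelyInseparable.iterateFrobenius F E p hle := ⟨_, rfl⟩
  have hφ1 : ∀ a : E, algebraMap F E (φ a) = a ^ p ^ (m + 1) := by
    intro a; rw [hφ]; exact IsPurelyInseparable.algebraMap_iterateFrobenius F p hle a
  have hφ2 : ∀ a : F, φ (algebraMap F E a) = a ^ p ^ (m + 1) := by
    intro a; rw [hφ]; exact IsPurelyInseparable.iterateFrobenius_algebraMap E p hle a
  haveI : IsCharP X p := IsCharP.of_hom f p
  haveI : IsCharP (XK E f) p := IsCharP.of_hom (pullback.snd f _) p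
  haveI : IsCharP (XK F f) p := IsCharP.of_hom (pullback.snd f _) p
  -- ring identities
  have r1 : CommRingCat.ofHom (iterateFrobenius k p (m + 1)) ≫ CommRingCat.ofHom (algebraMap k F) =
      CommRingCat.ofHom (algebraMap k E) ≫ CommRingCat.ofHom φ := by
    apply CommRingCat.hom_ext
    apply RingHom.ext
    intro a
    show algebraMap k F (iterateFrobenius k p (m + 1) a) = φ (algebraMap k E a)
    rw [IsScalarTower.algebraMap_apply k F E, hφ2, iterateFrobenius_def, map_pow]
  have r2 : CommRingCat.ofHom φ ≫ CommRingCat.ofHom (algebraMap F E) =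
      CommRingCat.ofHom (iterateFrobenius E p (m + 1)) := by
    apply CommRingCat.hom_ext
    apply RingHom.ext
    intro a
    show algebraMap F E (φ a) = iterateFrobenius E p (m + 1) a
    rw [hφ1, iterateFrobenius_def]
  -- the morphism `G`
  have hcompat : (pullback.fst f (Spec.map (CommRingCat.ofHom (algebraMap k F))) ≫ frobPow p X m) ≫ f =
      (pullback.snd f (Spec.map (CommRingCat.ofHom (algebraMap k F))) ≫
        Spec.map (CommRingCat.ofHom φ)) ≫ Spec.map (CommRingCat.ofHom (algebraMap k E)) := by
    rw [Category.assoc, frobPow_comp p f m, ← Category.assoc, pullback.condition, Category.assoc,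
      frobPow_Spec, ← Spec.map_comp, r1, Spec.map_comp, Category.assoc]
  let G : XK F f ⟶ XK E f :=
    pullback.lift (pullback.fst f (Spec.map (CommRingCat.ofHom (algebraMap k F))) ≫ frobPow p X m)
      (pullback.snd f (Spec.map (CommRingCat.ofHom (algebraMap k F))) ≫
        Spec.map (CommRingCat.ofHom φ)) hcompat
  have hG : toL f E F ≫ G = frobPow p (XK E f) m := by
    apply pullback.hom_ext
    · rw [Category.assoc, pullback.lift_fst, ← Category.assoc, toL_fst,
        frobPow_comp p (pullback.fst f (Spec.map (CommRingCat.ofHom (algebraMap k E)))) m]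
    · rw [Category.assoc, pullback.lift_snd, ← Category.assoc, toL_snd, Category.assoc,
        ← Spec.map_comp, r2,
        frobPow_comp p (pullback.snd f (Spec.map (CommRingCat.ofHom (algebraMap k E)))) m,
        frobPow_Spec]
  exact exists_descent_of_frobPow p (toL f E F) G m hG W

end Groth.Agent.Lib.Helper13.HomotSeqF
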