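import Mathlib
import Groth.Prelude
import Groth.Agent.Lib.Helper13.SteinEt

/-!
# Pushing a finite étale cover forward along a finite étale morphism: the unit is a clopen immersion
(helper13)
-/

set_option autoImplicit false
set_option linter.style.haveILetI false
universe u
open CategoryTheory CategoryTheory.Limits AlgebraicGeometry

namespace Groth.Agent.Lib.Helper13.HomotSeqG

/-- Let `c : X' ⟶ X` be finite étale, `d : Xb ⟶ X'` and `p = d ≫ c`.  For a finite étale cover `W'` of
`X'`, the cover `U = (W' → X' → X)` of `X` has the property that `W' ×_{X'} Xb` embeds as an open and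
closed subscheme of `U ×_X Xb`, over `Xb`. -/
theorem exists_clopen_immersion {X X' Xb : Scheme.{u}} (c : X' ⟶ X) [IsFinite c] [Etale c]
    (d : Xb ⟶ X') (p : Xb ⟶ X) (hp : d ≫ c = p) (W' : FEt.Cat X') :
    ∃ (U : FEt.Cat X) (ι : (FEt.restrict d).obj W' ⟶ (FEt.restrict p).obj U),
      IsOpenImmersion ι.left ∧ IsClosedImmersion ι.left := by
  obtain ⟨Z, q, hq, rfl⟩ : ∃ (Z : Scheme.{u}) (q : Z ⟶ X') (hq : FEt.prop q),
      W' = MorphismProperty.Over.mk ⊤ q hq := ⟨W'.left, W'.hom, W'.prop, rfl⟩
  haveI : IsFinite q := hq.1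
  haveI : Etale q := hq.2
  let U : FEt.Cat X := MorphismProperty.Over.mk ⊤ (q ≫ c) ⟨inferInstance, inferInstance⟩
  -- the unit `η : W' ⟶ c^* U`
  let ηl : Z ⟶ pullback (q ≫ c) c := pullback.lift (𝟙 Z) q (by simp)
  have hη1 : ηl ≫ pullback.fst (q ≫ c) c = 𝟙 Z := pullback.lift_fst _ _ _
  have hη2 : ηl ≫ pullback.snd (q ≫ c) c = q := pullback.lift_snd _ _ _
  haveI : Etale (pullback.fst (q ≫ c) c) := inferInstance
  haveI : IsFinite (pullback.fst (q ≫ c) c) := inferInstance
  haveI hoi : IsOpenImmersion ηl :=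
    Groth.Agent.Lib.Helper13.SteinEt.isOpenImmersion_of_section (pullback.fst (q ≫ c) c) ηl hη1
  haveI hci : IsClosedImmersion ηl := by
    haveI : IsClosedImmersion (ηl ≫ pullback.fst (q ≫ c) c) := by rw [hη1]; infer_instance
    exact IsClosedImmersion.of_comp ηl (pullback.fst (q ≫ c) c)
  let η : MorphismProperty.Over.mk ⊤ q hq ⟶ (FEt.restrict c).obj U :=
    MorphismProperty.Over.homMk ηl hη2 trivial
  -- base change along `d`
  let A : FEt.Cat X' := (FEt.restrict c).obj U
  have hA : A.hom = pullback.snd (q ≫ c) c := rfl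
  obtain ⟨m, hm⟩ : ∃ m : pullback q d ⟶ pullback (pullback.snd (q ≫ c) c) d,
      m = ((FEt.restrict d).map η).left := ⟨_, rfl⟩
  have hm1 : m ≫ pullback.fst (pullback.snd (q ≫ c) c) d = pullback.fst q d ≫ ηl := by
    rw [hm]
    unfold FEt.restrict
    rw [MorphismProperty.Over.pullback_map_left]
    exact pullback.lift_fst _ _ _
  have hm2 : m ≫ pullback.snd (pullback.snd (q ≫ c) c) d = pullback.snd q d := by
    rw [hm]
    unfold FEt.restrict
    rw [MorphismProperty.Over.pullback_map_left]
    exact pullback.lift_snd _ _ _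
  have sq : IsPullback m (pullback.fst q d) (pullback.fst (pullback.snd (q ≫ c) c) d) ηl := by
    have big : IsPullback (m ≫ pullback.snd (pullback.snd (q ≫ c) c) d) (pullback.fst q d) d
        (ηl ≫ pullback.snd (q ≫ c) c) := by
      rw [hm2, hη2]
      exact (IsPullback.of_hasPullback q d).flip
    exact IsPullback.of_right big hm1
      (IsPullback.of_hasPullback (pullback.snd (q ≫ c) c) d).flip
  haveI hmo : IsOpenImmersion m :=
    MorphismProperty.of_isPullback (P := @IsOpenImmersion) sq.flip hoi
  haveI hmc : IsClosedImmersion m :=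
    MorphismProperty.of_isPullback (P := @IsClosedImmersion) sq.flip hci
  -- compare `d^* c^* U` with `p^* U`
  let e0 : FEt.restrict p ≅ FEt.restrict c ⋙ FEt.restrict d :=
    MorphismProperty.Over.pullbackComp d c p hp.symm
  let ι : (FEt.restrict d).obj (MorphismProperty.Over.mk ⊤ q hq) ⟶ (FEt.restrict p).obj U :=
    (FEt.restrict d).map η ≫ (e0.app U).inv
  refine ⟨U, ι, ?_, ?_⟩
  · have h1 : ι.left = ((FEt.restrict d).map η).left ≫ ((e0.app U).inv).left := rfl
    haveI : IsIso ((e0.app U).inv).left :=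
      inferInstanceAs (IsIso ((MorphismProperty.Over.forget _ _ _ ⋙
        CategoryTheory.Over.forget _).map (e0.app U).inv))
    haveI : IsOpenImmersion ((FEt.restrict d).map η).left := hm ▸ hmo
    rw [h1]
    infer_instance
  · have h1 : ι.left = ((FEt.restrict d).map η).left ≫ ((e0.app U).inv).left := rfl
    haveI : IsIso ((e0.app U).inv).left :=
      inferInstanceAs (IsIso ((MorphismProperty.Over.forget _ _ _ ⋙
        CategoryTheory.Over.forget _).map (e0.app U).inv))
    haveI : IsClosedImmersion ((FEt.restrict d).map η).left := hm ▸ hmc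
    rw [h1]
    infer_instance

end Groth.Agent.Lib.Helper13.HomotSeqG
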