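import Mathlib
import Groth.Prelude
import Groth.Agent.Lib.Helper13.HomotSeqF
import Groth.Agent.Lib.Helper13.HomotSeqG
import Groth.Agent.S12073

/-!
# Injectivity of `π₁(X_{k̄}) → π₁(X)`, functor form (helper13)
-/

set_option autoImplicit false
set_option linter.style.haveILetI false
universe u
open CategoryTheory CategoryTheory.Limits AlgebraicGeometry Opposite

namespace Groth.Agent.Lib.Helper13.HomotSeqH

open Groth.Helper16.SepLimit Groth.Agent.Lib.Helper13.HomotSeqB

variable {k : Type u} [Field k] {X : Scheme.{u}} (f : X ⟶ Spec (CommRingCat.of k))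
  [CompactSpace X] [QuasiSeparatedSpace X]

/-- every finite étale cover of `X_{k̄}` comes from a finite separable level. -/
theorem exists_separable_level (V : FEt.Cat (XK (AlgebraicClosure k) f)) :
    ∃ (F : Type u) (_ : Field F) (_ : Algebra k F) (_ : FiniteDimensional k F)
      (_ : Algebra.IsSeparable k F) (d : XK (AlgebraicClosure k) f ⟶ XK F f)
      (_ : d ≫ pullback.fst f (Spec.map (CommRingCat.ofHom (algebraMap k F))) =
        pullback.fst f (Spec.map (CommRingCat.ofHom (algebraMap k (AlgebraicClosure k)))))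
      (W' : FEt.Cat (XK F f)), Nonempty ((FEt.restrict d).obj W' ≅ V) := by
  obtain ⟨i, Vi, ⟨e⟩⟩ := (Groth.Agent.S12073.result (D (K := AlgebraicClosure k) f) (cone f)
    (isLimitCone f)).1 V
  obtain ⟨E, rfl⟩ : ∃ E : FinSub k (AlgebraicClosure k), i = op E := ⟨i.unop, rfl⟩
  haveI : FiniteDimensional k E.1 := E.2
  obtain ⟨Vi', hVi'⟩ : ∃ Vi' : FEt.Cat (XK E.1 f), Vi' = Vi := ⟨Vi, rfl⟩
  obtain ⟨tE, htE⟩ : ∃ tE : XK (AlgebraicClosure k) f ⟶ XK E.1 f, tE = toE f E := ⟨_, rfl⟩
  have e' : (FEt.restrict tE).obj Vi' ≅ V := by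
    rw [htE, hVi']
    exact e
  have htE1 : tE ≫ pullback.fst f (Spec.map (CommRingCat.ofHom (algebraMap k E.1))) =
      pullback.fst f (Spec.map (CommRingCat.ofHom (algebraMap k (AlgebraicClosure k)))) := by
    rw [htE]; exact toE_fst f E
  obtain ⟨p, hp⟩ := CharP.exists k
  rcases CharP.char_is_prime_or_zero k p with hprime | hzero
  · haveI : Fact p.Prime := ⟨hprime⟩
    obtain ⟨W', ⟨e2⟩⟩ :=
      Groth.Agent.Lib.Helper13.HomotSeqF.exists_descent_separableClosure p f E.1 Vi'
    let e0 : FEt.restrict (tE ≫ toL f E.1 (separableClosure k E.1)) ≅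
        FEt.restrict (toL f E.1 (separableClosure k E.1)) ⋙ FEt.restrict tE :=
      MorphismProperty.Over.pullbackComp tE (toL f E.1 (separableClosure k E.1))
    refine ⟨separableClosure k E.1, inferInstance, inferInstance, inferInstance, inferInstance,
      tE ≫ toL f E.1 (separableClosure k E.1), ?_, W',
      ⟨e0.app W' ≪≫ (FEt.restrict tE).mapIso e2 ≪≫ e'⟩⟩
    rw [Category.assoc, toL_fst, htE1]
  · subst hzero
    haveI : CharZero k := CharP.charP_to_charZero k
    haveI : Algebra.IsSeparable k E.1 := Algebra.IsAlgebraic.isSeparable_of_perfectField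
    exact ⟨E.1, inferInstance, inferInstance, inferInstance, inferInstance, tE, htE1, Vi', ⟨e'⟩⟩

theorem main (V : FEt.Cat (pullback f (Spec.map (CommRingCat.ofHom
      (algebraMap k (AlgebraicClosure k)))))) :
    ∃ (U : FEt.Cat X) (ι : V ⟶ (FEt.restrict (pullback.fst f (Spec.map (CommRingCat.ofHom
      (algebraMap k (AlgebraicClosure k)))))).obj U),
      IsOpenImmersion ι.left ∧ IsClosedImmersion ι.left := by
  obtain ⟨F, _, _, _, _, d, hd, W', ⟨e⟩⟩ := exists_separable_level f V
  haveI : IsFinite (pullback.fst f (Spec.map (CommRingCat.ofHom (algebraMap k F)))) :=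
    MorphismProperty.pullback_fst (P := @IsFinite) _ _ (finite_etale_of_finite_separable k F).1
  haveI : Etale (pullback.fst f (Spec.map (CommRingCat.ofHom (algebraMap k F)))) :=
    MorphismProperty.pullback_fst (P := @Etale) _ _ (finite_etale_of_finite_separable k F).2
  obtain ⟨U, ι, h1, h2⟩ := Groth.Agent.Lib.Helper13.HomotSeqG.exists_clopen_immersion
    (pullback.fst f (Spec.map (CommRingCat.ofHom (algebraMap k F)))) d
    (pullback.fst f (Spec.map (CommRingCat.ofHom (algebraMap k (AlgebraicClosure k))))) hd W'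
  refine ⟨U, e.inv ≫ ι, ?_, ?_⟩
  · have h3 : (e.inv ≫ ι).left = e.inv.left ≫ ι.left := rfl
    haveI : IsIso e.inv.left :=
      inferInstanceAs (IsIso ((MorphismProperty.Over.forget _ _ _ ⋙
        CategoryTheory.Over.forget _).map e.inv))
    haveI := h1
    rw [h3]
    infer_instance
  · have h3 : (e.inv ≫ ι).left = e.inv.left ≫ ι.left := rfl
    haveI : IsIso e.inv.left :=
      inferInstanceAs (IsIso ((MorphismProperty.Over.forget _ _ _ ⋙
        CategoryTheory.Over.forget _).map e.inv))
    haveI := h2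
    rw [h3]
    infer_instance

end Groth.Agent.Lib.Helper13.HomotSeqH
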