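import Mathlib
import Groth.Prelude
import Groth.Agent.Lib.Helper13.HomotSeqC
import Groth.Agent.Lib.Helper3.FEtGalois
import Groth.Agent.Lib.Helper2.GaloisHom2
import Groth.Agent.S0267
import Groth.Agent.S1187
import Groth.Agent.S0268
import Groth.Agent.S0285

/-!
# Exactness in the middle of the homotopy exact sequence over a field (helper13)

A connected finite étale cover of a geometrically connected `k`-scheme whose base change to `k̄` has a
section comes from a finite étale `k`-scheme.
-/

set_option autoImplicit false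
set_option linter.style.haveILetI false
universe u
open CategoryTheory CategoryTheory.Limits AlgebraicGeometry Pi1

namespace Groth.Agent.Lib.Helper13.HomotSeqI

open H3.FEtFib H3.FEtSplit H3.FEtGalPt H3.FEtGalois

/-- surjective morphisms of covers are surjective on geometric fibres -/
theorem surjective_fiber_map {X : Scheme.{u}} {Ω : Type u} [Field Ω] [IsSepClosed Ω]
    (ξ : Spec (CommRingCat.of Ω) ⟶ X) {A B : FEt.Cat X} (φ : A ⟶ B)
    (hφ : Function.Surjective φ.left.base) :
    Function.Surjective ((FEt.fiber ξ).map φ) := by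
  have key : ∀ b1 : Spec (CommRingCat.of Ω) ⟶ B.left, b1 ≫ B.hom = ξ →
      ∃ t : Spec (CommRingCat.of Ω) ⟶ A.left, t ≫ φ.left = b1 := by
    intro b1 _
    obtain ⟨pt⟩ := nonempty_pt (Ω := Ω)
    haveI : IsFinite φ.left := H3.FEtG3.isFinite_left φ
    haveI : Etale φ.left := H3.FEtG3.etale_left φ
    haveI : Flat φ.left := inferInstance
    have hcard := natCard_fiberObj b1 (overTarget φ) pt
    obtain ⟨a, ha⟩ := hφ (b1 pt)
    have h1 : 1 ≤ φ.left.finrank (b1 pt) := by
      rw [← ha]; exact Scheme.Hom.one_le_finrank_map φ.left a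
    have h2 : 0 < Nat.card (FEt.fiberObj b1 (overTarget φ)) := by
      rw [hcard]; exact h1
    obtain ⟨t⟩ := (Nat.card_pos_iff.mp h2).1
    exact ⟨t.1, t.2⟩
  intro b
  obtain ⟨t, ht⟩ := key b.1 b.2
  refine ⟨⟨t, ?_⟩, Subtype.ext ht⟩
  exact (congrArg (t ≫ ·) (MorphismProperty.Over.w φ).symm).trans
    ((Category.assoc _ _ _).symm.trans ((congrArg (· ≫ B.hom) ht).trans b.2))

theorem main (k : Type u) [Field k] {X : Scheme.{u}}
    (f : X ⟶ Spec (CommRingCat.of k)) [CompactSpace X] [QuasiSeparatedSpace X]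
    [ConnectedSpace ↥(pullback f (Spec.map (CommRingCat.ofHom (algebraMap k (AlgebraicClosure k)))))]
    (X' : FEt.Cat X) [ConnectedSpace X'.left]
    (σ : pullback f (Spec.map (CommRingCat.ofHom (algebraMap k (AlgebraicClosure k)))) ⟶ X'.left)
    (hσ : σ ≫ X'.hom = pullback.fst f (Spec.map (CommRingCat.ofHom (algebraMap k (AlgebraicClosure k))))) :
    ∃ S' : FEt.Cat (Spec (CommRingCat.of k)), Nonempty ((FEt.restrict f).obj S' ≅ X') := by
  obtain ⟨V, e, hrange⟩ := HomotSeqC.exists_level_of_section f X' σ hσ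
  -- `e.left` is surjective
  have hsurj : Function.Surjective e.left.base := by
    haveI : IsFinite e.left := H3.FEtG3.isFinite_left e
    haveI : Etale e.left := H3.FEtG3.etale_left e
    have hopen : IsOpen (Set.range e.left.base) := e.left.isOpenMap.isOpen_range
    have hclosed : IsClosed (Set.range e.left.base) := e.left.isClosedMap.isClosed_range
    have hne : (Set.range e.left.base).Nonempty := by
      obtain ⟨x⟩ : Nonempty ↥(pullback f
        (Spec.map (CommRingCat.ofHom (algebraMap k (AlgebraicClosure k))))) := inferInstance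
      exact ⟨σ.base x, hrange ⟨x, rfl⟩⟩
    have := IsClopen.eq_univ ⟨hclosed, hopen⟩ hne
    exact Set.range_eq_univ.mp this
  -- `X` is connected
  haveI : ConnectedSpace X := by
    have hs : Function.Surjective
        (pullback.fst f (Spec.map (CommRingCat.ofHom (algebraMap k (AlgebraicClosure k))))).base :=
      (HomotSeqB.surjective_fst f (AlgebraicClosure k)).surj
    exact hs.connectedSpace (pullback.fst f _).continuous
  -- a geometric point
  obtain ⟨x₀⟩ : Nonempty X := inferInstance
  obtain ⟨Ω, hF, hS, ξ, -⟩ := exists_geomPoint x₀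
  -- Galois structures
  letI : PreGaloisCategory (FEt.Cat X) := H3.FEtG3.preGalois X
  letI : PreGaloisCategory (FEt.Cat (Spec (CommRingCat.of k))) := H3.FEtG3.preGalois _
  haveI : ConnectedSpace ↥(Spec (CommRingCat.of k)) :=
    inferInstanceAs (ConnectedSpace (PrimeSpectrum k))
  haveI hFX : PreGaloisCategory.FiberFunctor (fibFin ξ) := fiberFunctor ξ
  haveI hFk : PreGaloisCategory.FiberFunctor (fibFin (ξ ≫ f)) := fiberFunctor (ξ ≫ f)
  haveI : GaloisCategory (FEt.Cat X) := { hasFiberFunctor := ⟨fibFin ξ, ⟨hFX⟩⟩ }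
  haveI : GaloisCategory (FEt.Cat (Spec (CommRingCat.of k))) :=
    { hasFiberFunctor := ⟨fibFin (ξ ≫ f), ⟨hFk⟩⟩ }
  obtain ⟨hfull, hfaith⟩ := Groth.Agent.S0268.result k f
  obtain ⟨hlim, hcolim⟩ := Groth.Agent.S0285.result f
  haveI := hfull
  haveI := hfaith
  haveI := hlim
  haveI := hcolim
  haveI : PreGaloisCategory.FiberFunctor (FEt.restrict f ⋙ fibFin ξ) :=
    Groth.Agent.S0267.fiberFunctorComp (FEt.restrict f) (fibFin ξ) inferInstance
  have hs := (Groth.Agent.S1187.result (FEt.restrict f) (fibFin ξ)).2 ⟨hfull, hfaith⟩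
  apply Groth.Agent.Lib.Helper2.GaloisHom.exists_iso_of_ker_trivial_of_surjective
    (FEt.restrict f) (fibFin ξ) hs
  intro τ hτ x
  obtain ⟨v, hv⟩ : ∃ v : (fibFin ξ).obj ((FEt.restrict f).obj V), (fibFin ξ).map e v = x := by
    obtain ⟨v, hv⟩ := surjective_fiber_map ξ e hsurj x
    exact ⟨v, hv⟩
  rw [← hv, PreGaloisCategory.mulAction_naturality]
  congr 1
  exact (Groth.Agent.Lib.Helper2.GaloisHom.mem_ker_autWhisker_iff _ _ τ).1 hτ V v

end Groth.Agent.Lib.Helper13.HomotSeqI
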