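import Mathlib
import Groth.Prelude
import Groth.Agent.Lib.Helper13.HomotSeqI
import Groth.Agent.S13506
import Groth.Agent.S14461
import Groth.Agent.S0239

/-!
# Exactness in the middle of the homotopy exact sequence over a complete local ring (helper13)
-/

set_option autoImplicit false
set_option linter.style.haveILetI false
universe u
open CategoryTheory CategoryTheory.Limits AlgebraicGeometry Pi1

namespace Groth.Agent.Lib.Helper13.HomotSeqJ

/-- bijectivity on connected components is invariant under precomposition with an isomorphism -/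
theorem bijective_cc_of_iso {P Q Z : Scheme.{u}} (e : P ≅ Q) (ψ : Q ⟶ Z) (φ : P ⟶ Z)
    (he : e.hom ≫ ψ = φ)
    (h : Function.Bijective ψ.continuous.connectedComponentsMap) :
    Function.Bijective φ.continuous.connectedComponentsMap := by
  subst he
  have hcomp : ∀ x : P, (e.hom ≫ ψ).base x = ψ.base (e.hom.base x) := fun x => rfl
  constructor
  · intro a b hab
    obtain ⟨x, rfl⟩ := ConnectedComponents.surjective_coe a
    obtain ⟨y, rfl⟩ := ConnectedComponents.surjective_coe b
    have h1 : (ConnectedComponents.mk ((e.hom ≫ ψ).base x) : _root_.ConnectedComponents Z) =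
        ConnectedComponents.mk ((e.hom ≫ ψ).base y) := hab
    rw [hcomp, hcomp] at h1
    have h2 : (ConnectedComponents.mk (e.hom.base x) : _root_.ConnectedComponents Q) =
        ConnectedComponents.mk (e.hom.base y) := h.1 h1
    have h3 : e.hom.base x ∈ connectedComponent (e.hom.base y) :=
      ConnectedComponents.coe_eq_coe'.1 h2
    have h4 : (Scheme.homeoOfIso e).symm (e.hom.base x) ∈
        connectedComponent ((Scheme.homeoOfIso e).symm (e.hom.base y)) :=
      (Scheme.homeoOfIso e).symm.continuous.image_connectedComponent_subset _ ⟨_, h3, rfl⟩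
    have hx : (Scheme.homeoOfIso e).symm (e.hom.base x) = x :=
      (Scheme.homeoOfIso e).symm_apply_apply x
    have hy : (Scheme.homeoOfIso e).symm (e.hom.base y) = y :=
      (Scheme.homeoOfIso e).symm_apply_apply y
    rw [hx, hy] at h4
    have hy' := h4
    exact ConnectedComponents.coe_eq_coe'.2 hy'
  · intro c
    obtain ⟨w, hw⟩ := h.2 c
    obtain ⟨w', rfl⟩ := ConnectedComponents.surjective_coe w
    refine ⟨ConnectedComponents.mk (e.inv.base w'), ?_⟩
    have h1 : e.hom.base (e.inv.base w') = w' := by
      rw [← Scheme.Hom.comp_apply, e.inv_hom_id]; rfl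
    show (ConnectedComponents.mk ((e.hom ≫ ψ).base (e.inv.base w')) : _root_.ConnectedComponents Z) = c
    rw [hcomp, h1]
    exact hw

/-- bijectivity of `π₀` for the closed fibre of a finite étale cover of a proper scheme -/
theorem bijective_cc (A : Type u) [CommRing A] [IsNoetherianRing A] (I : Ideal A)
    [IsAdicComplete I A] {X : Scheme.{u}} (f : X ⟶ Spec (CommRingCat.of A)) [IsProper f]
    (Y : FEt.Cat X) :
    Function.Bijective (pullback.fst Y.hom
      (pullback.fst f (Spec.map (CommRingCat.ofHom (Ideal.Quotient.mk I))))).continuous.connectedComponentsMap := by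
  haveI : IsFinite Y.hom := Y.prop.1
  haveI : IsProper (Y.hom ≫ f) := inferInstance
  exact bijective_cc_of_iso
    (pullbackRightPullbackFstIso f (Spec.map (CommRingCat.ofHom (Ideal.Quotient.mk I))) Y.hom) _ _
    (pullbackRightPullbackFstIso_hom_fst _ _ _)
    (Groth.Agent.S13506.result A I (Y.hom ≫ f))

/-- a space with exactly one connected component is connected -/
theorem connectedSpace_of_bijective {P Z : Type*} [TopologicalSpace P] [TopologicalSpace Z]
    [ConnectedSpace Z] {φ : P → Z} (hφ : Continuous φ)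
    (h : Function.Bijective hφ.connectedComponentsMap) : ConnectedSpace P := by
  obtain ⟨z⟩ : Nonempty Z := inferInstance
  obtain ⟨c, -⟩ := h.2 (ConnectedComponents.mk z)
  obtain ⟨p, -⟩ := ConnectedComponents.surjective_coe c
  haveI : Nonempty P := ⟨p⟩
  haveI : PreconnectedSpace P := by
    rw [preconnectedSpace_iff_connectedComponent]
    intro x
    refine Set.eq_univ_of_forall fun y => ?_
    have : (ConnectedComponents.mk y : _root_.ConnectedComponents P) = ConnectedComponents.mk x :=
      h.1 (Subsingleton.elim _ _)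
    exact ConnectedComponents.coe_eq_coe'.1 this
  exact { toPreconnectedSpace := inferInstance, toNonempty := inferInstance }

theorem main (A : Type u) [CommRing A]
    [IsNoetherianRing A] [IsLocalRing A] [IsAdicComplete (IsLocalRing.maximalIdeal A) A]
    {X : Scheme.{u}} (f : X ⟶ Spec (CommRingCat.of A)) [IsProper f]
    (ξ : Spec (CommRingCat.of (AlgebraicClosure (IsLocalRing.ResidueField A))) ⟶ Spec (CommRingCat.of A))
    (hξ : ξ = Spec.map (CommRingCat.ofHom (algebraMap (IsLocalRing.ResidueField A)
      (AlgebraicClosure (IsLocalRing.ResidueField A)))) ≫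
        Spec.map (CommRingCat.ofHom (IsLocalRing.residue A)))
    [ConnectedSpace ↥(pullback f ξ)] (X' : FEt.Cat X) [ConnectedSpace X'.left]
    (σ : pullback f ξ ⟶ X'.left) (hσ : σ ≫ X'.hom = pullback.fst f ξ) :
    ∃ T : FEt.Cat (Spec (CommRingCat.of A)), Nonempty ((FEt.restrict f).obj T ≅ X') := by
  subst hξ
  let j : Spec (CommRingCat.of (IsLocalRing.ResidueField A)) ⟶ Spec (CommRingCat.of A) :=
    Spec.map (CommRingCat.ofHom (IsLocalRing.residue A))
  let g : Spec (CommRingCat.of (AlgebraicClosure (IsLocalRing.ResidueField A))) ⟶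
      Spec (CommRingCat.of (IsLocalRing.ResidueField A)) :=
    Spec.map (CommRingCat.ofHom (algebraMap (IsLocalRing.ResidueField A)
      (AlgebraicClosure (IsLocalRing.ResidueField A))))
  haveI : IsClosedImmersion j :=
    IsClosedImmersion.spec_of_surjective _ Ideal.Quotient.mk_surjective
  let i : pullback f j ⟶ X := pullback.fst f j
  let f₀ : pullback f j ⟶ Spec (CommRingCat.of (IsLocalRing.ResidueField A)) := pullback.snd f j
  have hcond : i ≫ f = f₀ ≫ j := pullback.condition
  haveI : CompactSpace ↥(pullback f j) := QuasiCompact.compactSpace_of_compactSpace f₀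
  haveI : QuasiSeparatedSpace ↥(pullback f j) := quasiSeparatedSpace_of_quasiSeparated f₀
  let eP : pullback f₀ g ≅ pullback f (g ≫ j) := pullbackLeftPullbackSndIso f j g
  haveI : ConnectedSpace ↥(pullback f₀ g) :=
    (Scheme.homeoOfIso eP).symm.surjective.connectedSpace (Scheme.homeoOfIso eP).symm.continuous
  -- `i^*` is fully faithful
  haveI : IsLocallyNoetherian X := LocallyOfFiniteType.isLocallyNoetherian f
  haveI : CompactSpace X := QuasiCompact.compactSpace_of_compactSpace f
  haveI : IsNoetherian X := ⟨⟩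
  haveI : IsClosedImmersion i := inferInstance
  obtain ⟨hi1, hi2⟩ := Groth.Agent.S14461.result i
    (fun Y => bijective_cc A (IsLocalRing.maximalIdeal A) f Y)
  haveI := hi1
  haveI := hi2
  -- the restriction of `X'` to the closed fibre is connected
  haveI : ConnectedSpace ↥((𝟭 Scheme).obj X'.left) := ‹ConnectedSpace X'.left›
  haveI : ConnectedSpace ↥((FEt.restrict i).obj X').left :=
    connectedSpace_of_bijective (pullback.fst X'.hom i).continuous
      (bijective_cc A (IsLocalRing.maximalIdeal A) f X')
  -- the section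
  have hc : (eP.hom ≫ σ) ≫ X'.hom = pullback.fst f₀ g ≫ i := by
    rw [Category.assoc, hσ]
    exact pullbackLeftPullbackSndIso_hom_fst f j g
  obtain ⟨σ₀, hσ₀⟩ : ∃ σ₀ : pullback f₀ g ⟶ ((FEt.restrict i).obj X').left,
      σ₀ ≫ ((FEt.restrict i).obj X').hom = pullback.fst f₀ g :=
    ⟨pullback.lift (eP.hom ≫ σ) (pullback.fst f₀ g) hc, pullback.lift_snd _ _ _⟩
  obtain ⟨S'₀, ⟨e₀⟩⟩ := Groth.Agent.Lib.Helper13.HomotSeqI.main (IsLocalRing.ResidueField A) f₀
    ((FEt.restrict i).obj X') σ₀ hσ₀
  haveI hH : (FEt.restrict j).IsEquivalence :=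
    Groth.Agent.S0239.result A (IsLocalRing.maximalIdeal A)
  let T := (FEt.restrict j).objPreimage S'₀
  let eT : (FEt.restrict j).obj T ≅ S'₀ := (FEt.restrict j).objObjPreimageIso S'₀
  let e1 : FEt.restrict (i ≫ f) ≅ FEt.restrict f ⋙ FEt.restrict i :=
    MorphismProperty.Over.pullbackComp i f
  let e2 : FEt.restrict (i ≫ f) ≅ FEt.restrict j ⋙ FEt.restrict f₀ :=
    MorphismProperty.Over.pullbackComp f₀ j (i ≫ f) hcond
  let e : FEt.restrict f ⋙ FEt.restrict i ≅ FEt.restrict j ⋙ FEt.restrict f₀ := e1.symm ≪≫ e2
  let eX : (FEt.restrict i).obj ((FEt.restrict f).obj T) ≅ (FEt.restrict i).obj X' :=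
    e.app T ≪≫ (FEt.restrict f₀).mapIso eT ≪≫ e₀
  exact ⟨T, ⟨(FEt.restrict i).preimageIso eX⟩⟩

end Groth.Agent.Lib.Helper13.HomotSeqJ
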