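import Mathlib
import Groth.Prelude
import Groth.Agent.Lib.Helper13.SteinEtMain
import Groth.Agent.Lib.Helper15.GeomFibre

/-!
# The Stein factor of a proper flat geometrically reduced morphism of finite presentation is finite
étale (helper13)
-/

set_option autoImplicit false
set_option linter.style.haveILetI false
universe u
open CategoryTheory CategoryTheory.Limits AlgebraicGeometry TopologicalSpace Opposite

namespace Groth.Agent.Lib.Helper13.SteinEtNorm

open Groth.Agent.Lib.Helper13.SteinEtMain

/-- reducedness of all geometric fibres over algebraically closed fields gives geometric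
reducedness. -/
theorem geometricallyReduced_of_algClosed {X S : Scheme.{u}} (f : X ⟶ S)
    (hred : ∀ (Ω : Type u) [Field Ω] [IsAlgClosed Ω] (σ : Spec (CommRingCat.of Ω) ⟶ S),
      IsReduced (pullback f σ)) : GeometricallyReduced f := by
  refine ⟨fun K _ y Z fst snd h => ?_⟩
  obtain ⟨a, ha⟩ : ∃ a : Spec (CommRingCat.of (AlgebraicClosure K)) ⟶ Spec (CommRingCat.of K),
      a = Spec.map (CommRingCat.ofHom (algebraMap K (AlgebraicClosure K))) := ⟨_, rfl⟩
  have big : IsPullback (pullback.fst snd a ≫ fst) (pullback.snd snd a) f (a ≫ y) :=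
    (IsPullback.of_hasPullback snd a).paste_horiz h
  haveI := hred (AlgebraicClosure K) (a ≫ y)
  haveI : IsReduced (pullback snd a) := isReduced_of_isOpenImmersion big.isoPullback.hom
  haveI : Flat a := by
    rw [ha, Flat.SpecMap_iff]
    exact RingHom.flat_algebraMap_iff.mpr inferInstance
  haveI : Subsingleton ↥(Spec (CommRingCat.of K)) :=
    inferInstanceAs (Subsingleton (PrimeSpectrum K))
  haveI : Surjective a := by
    constructor
    intro x
    exact ⟨⟨⊥, Ideal.bot_prime⟩, Subsingleton.elim _ _⟩
  haveI : Flat (pullback.fst snd a) := inferInstance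
  haveI : Surjective (pullback.fst snd a) := inferInstance
  exact Groth.Agent.Lib.Helper15.isReduced_of_flat_of_surjective (pullback.fst snd a)

/-- the integral closure in a finite étale algebra. -/
lemma props_integralClosure {A B : Type u} [CommRing A] [CommRing B] [Algebra A B]
    [Module.Finite A B] [Algebra.Etale A B] :
    (algebraMap A (integralClosure A B)).Etale ∧ (algebraMap A (integralClosure A B)).Finite := by
  have htop : integralClosure A B = ⊤ := by
    rw [integralClosure_eq_top_iff]
    infer_instance
  let e : B ≃ₐ[A] integralClosure A B :=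
    Subalgebra.topEquiv.symm.trans (Subalgebra.equivOfEq _ _ htop.symm)
  haveI : Algebra.Etale A (integralClosure A B) := Algebra.Etale.of_equiv e
  haveI : Module.Finite A (integralClosure A B) := Module.Finite.equiv e.toLinearEquiv
  exact ⟨RingHom.etale_algebraMap.mpr inferInstance, RingHom.finite_algebraMap.mpr inferInstance⟩

/-- **The Stein factor is finite étale.** -/
theorem fromNormalization_finite_etale {X S : Scheme.{u}} (f : X ⟶ S) [IsProper f] [Flat f]
    [LocallyOfFinitePresentation f] [GeometricallyReduced f] :
    IsFinite f.fromNormalization ∧ Etale f.fromNormalization := by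
  choose U hUaff hsU hUet hUfr using exists_affine_nhd f
  have hcov : ⨆ s, U s = ⊤ := by
    rw [eq_top_iff]
    intro x _
    exact Opens.mem_iSup.mpr ⟨x, hsU x⟩
  have key : ∀ s, (f.fromNormalization.app (U s)).hom.Etale ∧
      (f.fromNormalization.app (U s)).hom.Finite := by
    intro s
    letI alg : Algebra Γ(S, U s) Γ(X, f ⁻¹ᵁ U s) := (f.app (U s)).hom.toAlgebra
    obtain ⟨b⟩ := hUfr s
    haveI : Module.Finite Γ(S, U s) Γ(X, f ⁻¹ᵁ U s) := Module.Finite.of_basis b
    haveI : Algebra.Etale Γ(S, U s) Γ(X, f ⁻¹ᵁ U s) := RingHom.etale_algebraMap.mp (hUet s)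
    obtain ⟨h1, h2⟩ := props_integralClosure (A := Γ(S, U s)) (B := Γ(X, f ⁻¹ᵁ U s))
    rw [f.fromNormalization_app (hUaff s)]
    constructor
    · exact (RingHom.Etale.respectsIso.cancel_right_isIso _ _).mpr h1
    · exact (RingHom.finite_respectsIso.cancel_right_isIso _ _).mpr h2
  have key' : ∀ s (U' : S.Opens), U' = U s → (f.fromNormalization.app U').hom.Etale ∧
      (f.fromNormalization.app U').hom.Finite := by
    rintro s _ rfl
    exact key s
  constructor
  · rw [IsZariskiLocalAtTarget.iff_of_iSup_eq_top (P := @IsFinite) U hcov]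
    intro s
    haveI : IsAffine (U s).toScheme := hUaff s
    rw [HasAffineProperty.iff_of_isAffine (P := @IsFinite)]
    refine ⟨(hUaff s).preimage f.fromNormalization, ?_⟩
    rw [morphismRestrict_appTop]
    exact (RingHom.finite_respectsIso.cancel_right_isIso _ _).mpr
      (key' s _ (U s).ι_image_top).2
  · rw [IsZariskiLocalAtTarget.iff_of_iSup_eq_top (P := @Etale) U hcov]
    intro s
    haveI : IsAffine (U s).toScheme := hUaff s
    haveI : IsAffine (f.fromNormalization ⁻¹ᵁ U s).toScheme :=
      (hUaff s).preimage f.fromNormalization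
    rw [HasRingHomProperty.iff_of_isAffine (P := @Etale)]
    rw [morphismRestrict_appTop]
    exact (RingHom.Etale.respectsIso.cancel_right_isIso _ _).mpr
      (key' s _ (U s).ι_image_top).1

end Groth.Agent.Lib.Helper13.SteinEtNorm
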