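import Mathlib
import Groth.Prelude
import Groth.Agent.Lib.Helper13.SteinEtNorm
import Groth.Agent.Lib.Helper11.AA1
import Groth.Agent.Lib.Helper29.IsogFib
import Groth.Agent.Lib.Helper29.IdCompDim

/-!
# Proper smooth morphisms with a section between connected schemes have geometrically integral
fibres (helper13)
-/

set_option autoImplicit false
set_option linter.style.haveILetI false
universe u
open CategoryTheory CategoryTheory.Limits AlgebraicGeometry TopologicalSpace Opposite

namespace Groth.Agent.Lib.Helper13.SteinEtSec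

open Groth.Agent.Lib.Helper13.SteinEtMain

/-- a section of a separated morphism is a closed immersion. -/
theorem isClosedImmersion_of_section {P W : Scheme.{u}} (p : P ⟶ W) (σ : W ⟶ P)
    (h : σ ≫ p = 𝟙 W) [IsSeparated p] : IsClosedImmersion σ := by
  have : IsClosedImmersion (σ ≫ p) := by rw [h]; infer_instance
  exact IsClosedImmersion.of_comp σ p

/-- universal `O`-connectedness gives geometric connectedness. -/
theorem geometricallyConnected_of_h0 {X S : Scheme.{u}} (f : X ⟶ S) [IsProper f] [Flat f]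
    [LocallyOfFinitePresentation f]
    (h0 : ∀ s : S, Module.finrank (S.residueField s) Γ(f.fiber s, ⊤) = 1) :
    GeometricallyConnected f := by
  refine ⟨fun K _ y Z fst snd h => ?_⟩
  have hb := Groth.Agent.Lib.Helper13.CBCUnivG.bijective_app_of_isPullback f h0 h ⊤
    (isAffineOpen_top _)
  refine Groth.Agent.Lib.Helper11.AA1.connectedSpace_of_bijective snd ?_
  rw [CommRingCat.hom_comp]
  exact hb.comp (ConcreteCategory.bijective_of_isIso (Scheme.ΓSpecIso (CommRingCat.of K)).inv)

/-- if the Stein factor is trivial then `h⁰` of the fibres is `1`. -/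
theorem h0_eq_one_of_isIso {X S : Scheme.{u}} (f : X ⟶ S) [IsProper f] [Flat f]
    [LocallyOfFinitePresentation f] [GeometricallyReduced f] [IsIso f.fromNormalization]
    (s : S) : Module.finrank (S.residueField s) Γ(f.fiber s, ⊤) = 1 := by
  obtain ⟨U, hU, hsU, -, hfr⟩ := exists_affine_nhd f s
  obtain ⟨n, hn⟩ : ∃ n : ℕ, n = Module.finrank (S.residueField s) Γ(f.fiber s, ⊤) := ⟨_, rfl⟩
  rw [← hn] at hfr ⊢
  letI alg : Algebra Γ(S, U) Γ(X, f ⁻¹ᵁ U) := (f.app U).hom.toAlgebra
  obtain ⟨b⟩ := hfr
  haveI : Module.Finite Γ(S, U) Γ(X, f ⁻¹ᵁ U) := Module.Finite.of_basis b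
  haveI : Nonempty U.toScheme := ⟨⟨s, hsU⟩⟩
  haveI : Nontrivial Γ(S, U) := Scheme.component_nontrivial S U
  have htop : integralClosure Γ(S, U) Γ(X, f ⁻¹ᵁ U) = ⊤ := by
    rw [integralClosure_eq_top_iff]
    infer_instance
  -- the map to the integral closure is bijective
  have hiso : IsIso (f.fromNormalization.app U) := inferInstance
  rw [f.fromNormalization_app hU] at hiso
  haveI : IsIso (CommRingCat.ofHom (algebraMap Γ(S, U)
      (integralClosure Γ(S, U) Γ(X, f ⁻¹ᵁ U)))) := by
    haveI := hiso
    exact IsIso.of_isIso_comp_right _ (f.normalizationObjIso hU).inv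
  have hbij : Function.Bijective (algebraMap Γ(S, U)
      (integralClosure Γ(S, U) Γ(X, f ⁻¹ᵁ U))) :=
    ConcreteCategory.bijective_of_isIso (CommRingCat.ofHom (algebraMap Γ(S, U)
      (integralClosure Γ(S, U) Γ(X, f ⁻¹ᵁ U))))
  have hbij2 : Function.Bijective (algebraMap Γ(S, U) Γ(X, f ⁻¹ᵁ U)) := by
    constructor
    · intro a a' haa
      apply hbij.1
      exact Subtype.ext haa
    · intro x
      have hx : x ∈ integralClosure Γ(S, U) Γ(X, f ⁻¹ᵁ U) := by rw [htop]; trivial
      obtain ⟨a, ha⟩ := hbij.2 ⟨x, hx⟩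
      exact ⟨a, congrArg Subtype.val ha⟩
  have l : Γ(S, U) ≃ₗ[Γ(S, U)] Γ(X, f ⁻¹ᵁ U) :=
    LinearEquiv.ofBijective (Algebra.linearMap Γ(S, U) Γ(X, f ⁻¹ᵁ U)) hbij2
  have h1 : Module.finrank Γ(S, U) Γ(X, f ⁻¹ᵁ U) = 1 :=
    l.finrank_eq.symm.trans (Module.finrank_self _)
  have h2 : Module.finrank Γ(S, U) Γ(X, f ⁻¹ᵁ U) = n :=
    (Module.finrank_eq_card_basis b).trans (Fintype.card_fin n)
  exact h2.symm.trans h1

/-- **Proper smooth with a section, connected source and target: geometrically integral
fibres.** -/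
theorem geometricallyIntegral_of_section {X S : Scheme.{u}} (f : X ⟶ S) [Smooth f] [IsProper f]
    [ConnectedSpace X] [ConnectedSpace S] (σ : S ⟶ X) (hσ : σ ≫ f = 𝟙 S) :
    GeometricallyIntegral f := by
  haveI : GeometricallyReduced f := Groth.Agent.Lib.Helper29.IsogFib.geomRed_of_smooth f
  obtain ⟨hfin, het⟩ := Groth.Agent.Lib.Helper13.SteinEtNorm.fromNormalization_finite_etale f
  haveI := hfin
  haveI := het
  obtain ⟨π, hπ⟩ : ∃ π : f.normalization ⟶ S, π = f.fromNormalization := ⟨_, rfl⟩
  obtain ⟨q, hq⟩ : ∃ q : X ⟶ f.normalization, q = f.toNormalization := ⟨_, rfl⟩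
  have hqπ : q ≫ π = f := by rw [hq, hπ]; exact f.toNormalization_fromNormalization
  haveI : IsFinite π := by rw [hπ]; infer_instance
  haveI : Etale π := by rw [hπ]; infer_instance
  haveI : IsProper q := by
    haveI : IsProper (q ≫ π) := by rw [hqπ]; infer_instance
    exact IsProper.of_comp q π
  haveI : IsDominant q := by rw [hq]; infer_instance
  have hqsurj : Function.Surjective q := by
    have h1 : IsClosed (Set.range q) := q.isClosedMap.isClosed_range
    have h2 : Dense (Set.range q) := q.denseRange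
    have h3 : Set.range q = Set.univ := by rw [← h1.closure_eq]; exact h2.closure_eq
    exact Set.range_eq_univ.mp h3
  haveI : ConnectedSpace ↥f.normalization := hqsurj.connectedSpace q.continuous
  -- the section of the Stein factor
  obtain ⟨τ, hτdef⟩ : ∃ τ : S ⟶ f.normalization, τ = σ ≫ q := ⟨_, rfl⟩
  have hτ : τ ≫ π = 𝟙 S := by rw [hτdef, Category.assoc, hqπ, hσ]
  haveI : IsOpenImmersion τ :=
    Groth.Agent.Lib.Helper13.SteinEt.isOpenImmersion_of_section π τ hτ
  haveI : IsClosedImmersion τ := isClosedImmersion_of_section π τ hτ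
  have hclopen : IsClopen (Set.range τ) :=
    ⟨τ.isClosedEmbedding.isClosed_range, τ.isOpenEmbedding.isOpen_range⟩
  have hne : (Set.range τ).Nonempty := by
    obtain ⟨s⟩ := (inferInstance : Nonempty S)
    exact ⟨τ s, s, rfl⟩
  have huniv : Set.range τ = Set.univ := hclopen.eq_univ hne
  haveI : Surjective τ := ⟨Set.range_eq_univ.mp huniv⟩
  haveI : IsIso τ := (isIso_iff_isOpenImmersion_and_surjective τ).mpr ⟨inferInstance, inferInstance⟩
  have hπinv : π = inv τ := by
    rw [← cancel_epi τ, hτ, IsIso.hom_inv_id]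
  haveI : IsIso f.fromNormalization := by
    rw [← hπ, hπinv]; infer_instance
  have h0 := h0_eq_one_of_isIso f
  have hgc : GeometricallyConnected f := geometricallyConnected_of_h0 f h0
  haveI : GeometricallyIrreducible f := by
    refine ⟨fun K _ y Z p₁ p₂ h => ?_⟩
    show IrreducibleSpace ↥Z
    haveI : ConnectedSpace ↥Z := hgc.geometrically_connectedSpace y p₁ p₂ h
    haveI : Smooth p₂ := MorphismProperty.of_isPullback (P := @Smooth) h inferInstance
    obtain ⟨z⟩ := (inferInstance : Nonempty ↥Z)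
    have hirr := Groth.Agent.Lib.Helper29.IdCompDim.isIrreducible_connectedComponent K p₂ z
    rw [irreducibleSpace_def]
    change IsIrreducible (Set.univ : Set ↥Z)
    rw [← PreconnectedSpace.connectedComponent_eq_univ z]
    exact hirr
  exact GeometricallyIntegral.of_geometricallyReduced_of_geometricallyIrreducible _

end Groth.Agent.Lib.Helper13.SteinEtSec
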