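import Mathlib
import Groth.Prelude
import Groth.Agent.Lib.Helper13.SteinEtSec
import Groth.Agent.Lib.Helper13.SteinEt
import Groth.Agent.Lib.Helper17.PushIso

/-!
# The first Stein factor of a proper flat geometrically reduced family is geometrically connected
(helper13)
-/

set_option autoImplicit false
set_option linter.style.haveILetI false
universe u
open CategoryTheory CategoryTheory.Limits AlgebraicGeometry TopologicalSpace Opposite

namespace Groth.Agent.Lib.Helper13.SteinGC

open Groth.Agent.Lib.Helper13.SteinEtMain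

/-- an open immersion followed by a geometrically reduced morphism is geometrically reduced -/
theorem geometricallyReduced_comp_openImmersion {A B C : Scheme.{u}} (j : A ⟶ B)
    [IsOpenImmersion j] (p : B ⟶ C) [GeometricallyReduced p] : GeometricallyReduced (j ≫ p) := by
  refine ⟨fun K _ z Z fst snd h => ?_⟩
  haveI : IsReduced (pullback p z) :=
    GeometricallyReduced.geometrically_isReduced (f := p) _ _ _ (IsPullback.of_hasPullback _ _)
  have hcomm : (fst ≫ j) ≫ p = snd ≫ z := by
    rw [Category.assoc]; exact h.w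
  obtain ⟨l, hl⟩ : ∃ l : Z ⟶ pullback p z, l = pullback.lift (fst ≫ j) snd hcomm := ⟨_, rfl⟩
  have hl1 : l ≫ pullback.fst p z = fst ≫ j := by rw [hl]; exact pullback.lift_fst _ _ _
  have hl2 : l ≫ pullback.snd p z = snd := by rw [hl]; exact pullback.lift_snd _ _ _
  have sq : IsPullback l fst (pullback.fst p z) j := by
    have big : IsPullback (l ≫ pullback.snd p z) fst z (j ≫ p) := by
      rw [hl2]; exact h.flip
    exact IsPullback.of_right big hl1 (IsPullback.of_hasPullback p z).flip
  haveI : IsOpenImmersion l :=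
    MorphismProperty.of_isPullback (P := @IsOpenImmersion) sq.flip inferInstance
  exact isReduced_of_isOpenImmersion l

variable {Y S : Scheme.{u}} (h : Y ⟶ S) [IsProper h] [Flat h] [LocallyOfFinitePresentation h]
  [GeometricallyReduced h]

/-- the first Stein factor is proper, flat, of finite presentation, geometrically reduced -/
theorem props_toNormalization :
    IsProper h.toNormalization ∧ Flat h.toNormalization ∧
      LocallyOfFinitePresentation h.toNormalization ∧ GeometricallyReduced h.toNormalization := by
  obtain ⟨hfin, het⟩ := Groth.Agent.Lib.Helper13.SteinEtNorm.fromNormalization_finite_etale h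
  haveI := hfin
  haveI := het
  obtain ⟨ν, hν⟩ : ∃ ν : h.normalization ⟶ S, ν = h.fromNormalization := ⟨_, rfl⟩
  obtain ⟨τ, hτ⟩ : ∃ τ : Y ⟶ h.normalization, τ = h.toNormalization := ⟨_, rfl⟩
  have hτν : τ ≫ ν = h := by rw [hτ, hν]; exact h.toNormalization_fromNormalization
  haveI : IsFinite ν := by rw [hν]; infer_instance
  haveI : Etale ν := by rw [hν]; infer_instance
  rw [← hτ]
  haveI : IsProper τ := by
    haveI : IsProper (τ ≫ ν) := by rw [hτν]; infer_instance
    exact IsProper.of_comp τ ν
  obtain ⟨g, hg⟩ : ∃ g : Y ⟶ pullback h ν,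
      g = pullback.lift (𝟙 Y) τ (by rw [Category.id_comp, hτν]) := ⟨_, rfl⟩
  have hg1 : g ≫ pullback.fst h ν = 𝟙 Y := by rw [hg]; exact pullback.lift_fst _ _ _
  have hg2 : g ≫ pullback.snd h ν = τ := by rw [hg]; exact pullback.lift_snd _ _ _
  haveI : Etale (pullback.fst h ν) := inferInstance
  haveI : IsOpenImmersion g :=
    Groth.Agent.Lib.Helper13.SteinEt.isOpenImmersion_of_section (pullback.fst h ν) g hg1
  haveI : Flat (pullback.snd h ν) := inferInstance
  haveI : LocallyOfFinitePresentation (pullback.snd h ν) := inferInstance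
  haveI : GeometricallyReduced (pullback.snd h ν) := inferInstance
  refine ⟨inferInstance, ?_, ?_, ?_⟩
  · rw [← hg2]; infer_instance
  · rw [← hg2]; infer_instance
  · rw [← hg2]; exact geometricallyReduced_comp_openImmersion g (pullback.snd h ν)

/-- the structure sheaf of the Stein factor is the push-forward of the structure sheaf -/
theorem isIso_toNormalization_app (V : h.normalization.Opens) :
    IsIso (h.toNormalization.app V) := by
  choose U hUaff hsU hUet hUfr using exists_affine_nhd h
  refine Groth.Agent.Lib.Helper17.PushIso.isIso_app_of_cover h.toNormalization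
    {V' | ∃ s, V' = h.fromNormalization ⁻¹ᵁ U s} ?_ ?_ ?_ V
  · rintro _ ⟨s, rfl⟩
    exact (hUaff s).preimage h.fromNormalization
  · intro y
    exact ⟨_, ⟨h.fromNormalization y, rfl⟩, hsU _⟩
  · rintro _ ⟨s, rfl⟩
    letI alg : Algebra Γ(S, U s) Γ(Y, h ⁻¹ᵁ U s) := (h.app (U s)).hom.toAlgebra
    obtain ⟨b⟩ := hUfr s
    haveI : Module.Finite Γ(S, U s) Γ(Y, h ⁻¹ᵁ U s) := Module.Finite.of_basis b
    have htop : integralClosure Γ(S, U s) Γ(Y, h ⁻¹ᵁ U s) = ⊤ := by
      rw [integralClosure_eq_top_iff]
      infer_instance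
    rw [h.toNormalization_app_preimage ⟨U s, hUaff s⟩]
    refine @IsIso.comp_isIso _ _ _ _ _ _ _ inferInstance
      (@IsIso.comp_isIso _ _ _ _ _ _ _ ?_ inferInstance)
    rw [ConcreteCategory.isIso_iff_bijective]
    constructor
    · intro a a' haa
      exact Subtype.ext haa
    · intro x
      exact ⟨⟨x, by rw [htop]; trivial⟩, rfl⟩

/-- `h⁰` of the fibres of the first Stein factor is `1` -/
theorem h0_toNormalization (t : h.normalization) :
    haveI := (props_toNormalization h).1
    Module.finrank (h.normalization.residueField t) Γ(h.toNormalization.fiber t, ⊤) = 1 := by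
  obtain ⟨hp, hfl, hlfp, hgr⟩ := props_toNormalization h
  haveI := hp
  haveI := hfl
  haveI := hlfp
  haveI := hgr
  obtain ⟨V, hV, htV, -, hfr⟩ := exists_affine_nhd h.toNormalization t
  obtain ⟨n, hn⟩ : ∃ n : ℕ, n = Module.finrank (h.normalization.residueField t)
      Γ(h.toNormalization.fiber t, ⊤) := ⟨_, rfl⟩
  rw [← hn] at hfr ⊢
  letI alg : Algebra Γ(h.normalization, V) Γ(Y, h.toNormalization ⁻¹ᵁ V) :=
    (h.toNormalization.app V).hom.toAlgebra
  obtain ⟨b⟩ := hfr
  haveI : Nonempty V.toScheme := ⟨⟨t, htV⟩⟩
  haveI : Nontrivial Γ(h.normalization, V) := Scheme.component_nontrivial h.normalization V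
  haveI := isIso_toNormalization_app h V
  have hbij2 : Function.Bijective (algebraMap Γ(h.normalization, V)
      Γ(Y, h.toNormalization ⁻¹ᵁ V)) :=
    ConcreteCategory.bijective_of_isIso (h.toNormalization.app V)
  have l : Γ(h.normalization, V) ≃ₗ[Γ(h.normalization, V)] Γ(Y, h.toNormalization ⁻¹ᵁ V) :=
    LinearEquiv.ofBijective (Algebra.linearMap Γ(h.normalization, V)
      Γ(Y, h.toNormalization ⁻¹ᵁ V)) hbij2
  have h1 : Module.finrank Γ(h.normalization, V) Γ(Y, h.toNormalization ⁻¹ᵁ V) = 1 :=
    l.finrank_eq.symm.trans (Module.finrank_self _)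
  have h2 : Module.finrank Γ(h.normalization, V) Γ(Y, h.toNormalization ⁻¹ᵁ V) = n :=
    (Module.finrank_eq_card_basis b).trans (Fintype.card_fin n)
  exact h2.symm.trans h1

/-- **The first Stein factor is geometrically connected.** -/
theorem geometricallyConnected_toNormalization :
    GeometricallyConnected h.toNormalization := by
  obtain ⟨hp, hfl, hlfp, hgr⟩ := props_toNormalization h
  haveI := hp
  haveI := hfl
  haveI := hlfp
  exact Groth.Agent.Lib.Helper13.SteinEtSec.geometricallyConnected_of_h0 h.toNormalization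
    (fun t => h0_toNormalization h t)

end Groth.Agent.Lib.Helper13.SteinGC
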