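import Mathlib
import Groth.Prelude
import Groth.Agent.Lib.Helper13.SteinGC
import Groth.Agent.Lib.Helper13.HomotSeqI
import Groth.Agent.Lib.Helper22.SmoothRed
import Groth.Agent.Lib.Helper3.FEtCC
import Groth.Agent.S0264

/-!
# Exactness in the middle of the homotopy exact sequence over a general base (helper13)
-/

set_option autoImplicit false
set_option linter.style.haveILetI false
universe u
open CategoryTheory CategoryTheory.Limits AlgebraicGeometry Pi1

namespace Groth.Agent.Lib.Helper13.HomotSeqK

open H3.FEtFib H3.FEtSplit H3.FEtGalPt H3.FEtGalois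

/-- topological connectedness gives connectedness in the Galois category -/
theorem isConnected_of_connectedSpace {X : Scheme.{u}} [ConnectedSpace X] {Ω : Type u} [Field Ω]
    [IsSepClosed Ω] (ξ : Spec (CommRingCat.of Ω) ⟶ X) (Y : FEt.Cat X) [ConnectedSpace Y.left] :
    PreGaloisCategory.IsConnected Y := by
  letI : PreGaloisCategory (FEt.Cat X) := H3.FEtG3.preGalois X
  haveI : PreGaloisCategory.FiberFunctor (fibFin ξ) := fiberFunctor ξ
  obtain ⟨pt⟩ := nonempty_pt (Ω := Ω)
  constructor
  · intro hI
    obtain ⟨y₀⟩ : Nonempty Y.left := inferInstance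
    obtain ⟨a⟩ := nonempty_fiberObj_of_point ξ Y y₀
    have a' : (fibFin ξ).obj Y := a
    exact PreGaloisCategory.not_initial_of_inhabited (fibFin ξ) a' hI
  · intro Z i _ hZ
    have hne : Nonempty ((fibFin ξ).obj Z) :=
      (PreGaloisCategory.not_initial_iff_fiber_nonempty (fibFin ξ) Z).1 hZ
    obtain ⟨z'⟩ := hne
    obtain ⟨z, -⟩ : ∃ z : FEt.fiberObj ξ Z, z = z' := ⟨z', rfl⟩
    haveI := H3.FEtG3.isOpenImmersion_left i
    haveI := H3.FEtG3.isFinite_left i
    have hopen : IsOpen (Set.range i.left.base) := i.left.isOpenEmbedding.isOpen_range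
    have hclosed : IsClosed (Set.range i.left.base) := i.left.isClosedMap.isClosed_range
    have hne : (Set.range i.left.base).Nonempty := ⟨i.left.base (z.1.base pt), _, rfl⟩
    have huniv := IsClopen.eq_univ ⟨hclosed, hopen⟩ hne
    haveI : Surjective i.left := ⟨Set.range_eq_univ.mp huniv⟩
    haveI : IsIso i.left :=
      (isIso_iff_isOpenImmersion_and_surjective i.left).mpr ⟨inferInstance, inferInstance⟩
    exact isIso_of_isIso_left i inferInstance

/-- a proper morphism with connected geometric fibres over a connected base has connected source -/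
theorem connectedSpace_of_fibres {X S : Scheme.{u}} (f : X ⟶ S) [IsProper f] [ConnectedSpace S]
    (hfib : ∀ (Ω : Type u) [Field Ω] [IsAlgClosed Ω] (s : Spec (CommRingCat.of Ω) ⟶ S),
      ConnectedSpace ↥(pullback f s)) : ConnectedSpace X := by
  have hfibre : ∀ y : S, _root_.IsConnected (f.base ⁻¹' {y}) := by
    intro y
    obtain ⟨sy, hsy⟩ : ∃ sy : Spec (CommRingCat.of (AlgebraicClosure (S.residueField y))) ⟶ S,
        sy = Spec.map (CommRingCat.ofHom (algebraMap (S.residueField y)
          (AlgebraicClosure (S.residueField y)))) ≫ S.fromSpecResidueField y := ⟨_, rfl⟩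
    haveI := hfib (AlgebraicClosure (S.residueField y)) sy
    have hr : Set.range sy.base = {y} := by
      ext z
      constructor
      · rintro ⟨w, rfl⟩
        rw [hsy, Scheme.Hom.comp_apply]
        exact Scheme.fromSpecResidueField_apply y _
      · rintro rfl
        obtain ⟨w⟩ := nonempty_pt (Ω := AlgebraicClosure (S.residueField z))
        refine ⟨w, ?_⟩
        rw [hsy, Scheme.Hom.comp_apply]
        exact Scheme.fromSpecResidueField_apply z _
    have h1 : Set.range (pullback.fst f sy).base = f.base ⁻¹' {y} := by
      rw [Scheme.Pullback.range_fst, hr]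
    rw [← h1]
    exact isConnected_range (pullback.fst f sy).continuous
  have hsurj : Function.Surjective f.base := by
    intro y
    obtain ⟨x, hx⟩ := (hfibre y).nonempty
    exact ⟨x, hx⟩
  have hq : Topology.IsQuotientMap f.base :=
    f.isClosedMap.isQuotientMap f.continuous hsurj
  obtain ⟨y₀⟩ : Nonempty S := inferInstance
  obtain ⟨x₀, -⟩ := hsurj y₀
  haveI : Nonempty X := ⟨x₀⟩
  haveI : PreconnectedSpace X := by
    rw [preconnectedSpace_iff_connectedComponent]
    intro x
    rw [← hq.isCoinducing.preimage_connectedComponent hfibre x,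
      PreconnectedSpace.connectedComponent_eq_univ, Set.preimage_univ]
  exact { toPreconnectedSpace := inferInstance, toNonempty := inferInstance }

/-- the composite of a finite étale cover with a morphism with reduced geometric fibres is
geometrically reduced -/
theorem geometricallyReduced_comp {X S : Scheme.{u}} (f : X ⟶ S) (Y : FEt.Cat X)
    (hfib : ∀ (Ω : Type u) [Field Ω] [IsAlgClosed Ω] (s : Spec (CommRingCat.of Ω) ⟶ S),
      IsReduced (pullback f s)) : GeometricallyReduced (Y.hom ≫ f) := by
  apply Groth.Agent.Lib.Helper13.SteinEtNorm.geometricallyReduced_of_algClosed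
  intro K _ _ z
  haveI : Etale Y.hom := Y.prop.2
  haveI := hfib K z
  haveI : Etale (pullback.snd Y.hom (pullback.fst f z)) := inferInstance
  haveI : Smooth (pullback.snd Y.hom (pullback.fst f z)) := inferInstance
  haveI : IsReduced (pullback Y.hom (pullback.fst f z)) :=
    Groth.Agent.Lib.Helper22.SmoothRed.isReduced_of_smooth
      (pullback.snd Y.hom (pullback.fst f z))
  exact isReduced_of_isOpenImmersion (pullbackRightPullbackFstIso f z Y.hom).inv

end Groth.Agent.Lib.Helper13.HomotSeqK
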