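import Mathlib
import Groth.Prelude
import Groth.Agent.Lib.Helper13.HomotSeqK

/-!
# Exactness in the middle of the homotopy exact sequence over a general base: main (helper13)
-/

set_option autoImplicit false
set_option linter.style.haveILetI false
universe u
open CategoryTheory CategoryTheory.Limits AlgebraicGeometry Pi1

namespace Groth.Agent.Lib.Helper13.HomotSeqL

open H3.FEtFib H3.FEtSplit H3.FEtGalPt H3.FEtGalois
open Groth.Agent.Lib.Helper13.HomotSeqK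

/-- the case where the geometric point of the base comes from a geometric point of `X` -/
theorem main_aux {X S : Scheme.{u}} (f : X ⟶ S) [IsProper f] [Flat f]
    [LocallyOfFinitePresentation f] [ConnectedSpace S]
    (hfib : ∀ (Ω : Type u) [Field Ω] [IsAlgClosed Ω] (s : Spec (CommRingCat.of Ω) ⟶ S),
      ConnectedSpace ↥(pullback f s) ∧ IsReduced (pullback f s))
    (Y : FEt.Cat X) [ConnectedSpace Y.left] (Ω : Type u) [Field Ω] [IsAlgClosed Ω]
    (ξ : Spec (CommRingCat.of Ω) ⟶ X) (σ : pullback f (ξ ≫ f) ⟶ Y.left)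
    (hσ : σ ≫ Y.hom = pullback.fst f (ξ ≫ f)) :
    ∃ T : FEt.Cat S, Nonempty ((FEt.restrict f).obj T ≅ Y) := by
  haveI : ConnectedSpace X := connectedSpace_of_fibres f (fun K _ _ z => (hfib K z).1)
  haveI : IsFinite Y.hom := Y.prop.1
  haveI : Etale Y.hom := Y.prop.2
  -- the composite `h : Y ⟶ S`
  obtain ⟨h, hh⟩ : ∃ h : Y.left ⟶ S, h = Y.hom ≫ f := ⟨_, rfl⟩
  haveI : IsProper h := by rw [hh]; infer_instance
  haveI : Flat h := by rw [hh]; infer_instance
  haveI : LocallyOfFinitePresentation h := by rw [hh]; infer_instance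
  haveI : GeometricallyReduced h := by
    rw [hh]; exact geometricallyReduced_comp f Y (fun K _ _ z => (hfib K z).2)
  obtain ⟨hfin, het⟩ := Groth.Agent.Lib.Helper13.SteinEtNorm.fromNormalization_finite_etale h
  obtain ⟨ν, hν⟩ : ∃ ν : h.normalization ⟶ S, ν = h.fromNormalization := ⟨_, rfl⟩
  obtain ⟨τ, hτ⟩ : ∃ τ : Y.left ⟶ h.normalization, τ = h.toNormalization := ⟨_, rfl⟩
  have hτν : τ ≫ ν = Y.hom ≫ f := by
    rw [hτ, hν, ← hh]; exact h.toNormalization_fromNormalization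
  haveI : IsFinite ν := by rw [hν]; exact hfin
  haveI : Etale ν := by rw [hν]; exact het
  have hgc : GeometricallyConnected τ := by
    rw [hτ]; exact Groth.Agent.Lib.Helper13.SteinGC.geometricallyConnected_toNormalization h
  -- the cover of `S` and the comparison morphism
  obtain ⟨T, τ', hτ'ν, hgc'⟩ : ∃ (T : FEt.Cat S) (τ' : Y.left ⟶ T.left),
      τ' ≫ T.hom = Y.hom ≫ f ∧ GeometricallyConnected τ' :=
    ⟨MorphismProperty.Over.mk ⊤ ν ⟨inferInstance, inferInstance⟩, τ, hτν, hgc⟩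
  obtain ⟨c, hc1, hc2⟩ : ∃ c : Y.left ⟶ ((FEt.restrict f).obj T).left,
      c ≫ ((FEt.restrict f).obj T).hom = Y.hom ∧ c ≫ pullback.fst T.hom f = τ' :=
    ⟨pullback.lift τ' Y.hom hτ'ν, pullback.lift_snd _ _ _, pullback.lift_fst _ _ _⟩
  obtain ⟨φ, hφ⟩ : ∃ φ : Y ⟶ (FEt.restrict f).obj T, φ.left = c :=
    ⟨MorphismProperty.Over.homMk c hc1 trivial, rfl⟩
  -- the point of the fibre
  obtain ⟨x', hx'⟩ : ∃ x' : Spec (CommRingCat.of Ω) ⟶ pullback f (ξ ≫ f),
      x' = pullback.lift ξ (𝟙 _) (by rw [Category.id_comp]) := ⟨_, rfl⟩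
  have hx'1 : x' ≫ pullback.fst f (ξ ≫ f) = ξ := by rw [hx']; exact pullback.lift_fst _ _ _
  have hx'2 : x' ≫ pullback.snd f (ξ ≫ f) = 𝟙 _ := by rw [hx']; exact pullback.lift_snd _ _ _
  have ha₀ : (x' ≫ σ) ≫ Y.hom = ξ := by rw [Category.assoc, hσ, hx'1]
  -- the key claim
  have key : ∀ b : Spec (CommRingCat.of Ω) ⟶ Y.left, b ≫ Y.hom = ξ → b ≫ c = (x' ≫ σ) ≫ c →
      b = x' ≫ σ := by
    intro b hb hbc
    obtain ⟨t, ht⟩ : ∃ t : Spec (CommRingCat.of Ω) ⟶ T.left, t = (x' ≫ σ) ≫ τ' :=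
      ⟨_, rfl⟩
    have hbt : b ≫ τ' = t := by
      rw [ht, ← hc2, ← Category.assoc, hbc, Category.assoc]
    haveI : ConnectedSpace ↥(pullback τ' t) :=
      hgc'.geometrically_connectedSpace t _ _ (IsPullback.of_hasPullback τ' t)
    obtain ⟨p, hp⟩ : ∃ p : pullback τ' t ⟶ Y.left, p = pullback.fst τ' t := ⟨_, rfl⟩
    have hpcond : p ≫ τ' = pullback.snd τ' t ≫ t := by rw [hp]; exact pullback.condition
    have htν : t ≫ T.hom = ξ ≫ f := by
      rw [ht, Category.assoc, hτ'ν, ← Category.assoc, ha₀]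
    have hwc : (p ≫ Y.hom) ≫ f = pullback.snd τ' t ≫ (ξ ≫ f) := by
      rw [Category.assoc, ← hτ'ν, ← Category.assoc, hpcond, Category.assoc, htν]
    obtain ⟨w, hw⟩ : ∃ w : pullback τ' t ⟶ pullback f (ξ ≫ f),
        w = pullback.lift (p ≫ Y.hom) (pullback.snd τ' t) hwc := ⟨_, rfl⟩
    have hw1 : w ≫ pullback.fst f (ξ ≫ f) = p ≫ Y.hom := by rw [hw]; exact pullback.lift_fst _ _ _
    have hw2 : w ≫ pullback.snd f (ξ ≫ f) = pullback.snd τ' t := by
      rw [hw]; exact pullback.lift_snd _ _ _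
    have hpq : p ≫ Y.hom = (w ≫ σ) ≫ Y.hom := by rw [Category.assoc, hσ, hw1]
    -- lifts of the two points
    have lift_w : ∀ (d : Spec (CommRingCat.of Ω) ⟶ Y.left) (hd : d ≫ Y.hom = ξ) (hdt : d ≫ τ' = t),
        ∃ d' : Spec (CommRingCat.of Ω) ⟶ pullback τ' t, d' ≫ p = d ∧ d' ≫ w = x' := by
      intro d hd hdt
      refine ⟨pullback.lift d (𝟙 _) (by rw [Category.id_comp, hdt]), ?_, ?_⟩
      · rw [hp]; exact pullback.lift_fst _ _ _
      · apply pullback.hom_ext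
        · rw [Category.assoc, hw1, hx'1, ← Category.assoc, hp, pullback.lift_fst, hd]
        · rw [Category.assoc, hw2, hx'2, pullback.lift_snd]
    obtain ⟨a', ha'1, ha'2⟩ := lift_w (x' ≫ σ) ha₀ ht.symm
    obtain ⟨b', hb'1, hb'2⟩ := lift_w b hb hbt
    have hsurj : Function.Surjective a'.continuous.connectedComponentsMap := by
      intro cc
      obtain ⟨pt⟩ := nonempty_pt (Ω := Ω)
      exact ⟨_root_.ConnectedComponents.mk pt, Subsingleton.elim _ _⟩
    have hpq2 : p = w ≫ σ := by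
      refine H3.FEtCC.eq_of_comp_eq_of_surj Y.hom a' hsurj p (w ≫ σ) hpq ?_
      rw [ha'1, ← Category.assoc, ha'2]
    rw [← hb'1, hpq2, ← Category.assoc, hb'2]
  -- Galois structures
  letI : PreGaloisCategory (FEt.Cat X) := H3.FEtG3.preGalois X
  letI : PreGaloisCategory (FEt.Cat S) := H3.FEtG3.preGalois S
  haveI hFX : PreGaloisCategory.FiberFunctor (fibFin ξ) := fiberFunctor ξ
  haveI hFk : PreGaloisCategory.FiberFunctor (fibFin (ξ ≫ f)) := fiberFunctor (ξ ≫ f)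
  haveI : GaloisCategory (FEt.Cat X) := { hasFiberFunctor := ⟨fibFin ξ, ⟨hFX⟩⟩ }
  haveI : GaloisCategory (FEt.Cat S) := { hasFiberFunctor := ⟨fibFin (ξ ≫ f), ⟨hFk⟩⟩ }
  obtain ⟨hfull, hfaith⟩ := Groth.Agent.S0264.result f hfib
  obtain ⟨hlim, hcolim⟩ := Groth.Agent.S0285.result f
  haveI := hfull
  haveI := hfaith
  haveI := hlim
  haveI := hcolim
  haveI : PreGaloisCategory.FiberFunctor (FEt.restrict f ⋙ fibFin ξ) :=
    Groth.Agent.S0267.fiberFunctorComp (FEt.restrict f) (fibFin ξ) inferInstance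
  have hs := (Groth.Agent.S1187.result (FEt.restrict f) (fibFin ξ)).2 ⟨hfull, hfaith⟩
  haveI : PreGaloisCategory.IsConnected Y := isConnected_of_connectedSpace ξ Y
  obtain ⟨a₀, ha₀'⟩ : ∃ a₀ : FEt.fiberObj ξ Y, a₀.1 = x' ≫ σ := ⟨⟨x' ≫ σ, ha₀⟩, rfl⟩
  obtain ⟨z, hz⟩ : ∃ z : (fibFin ξ).obj Y, z = a₀ := ⟨a₀, rfl⟩
  refine Groth.Agent.Lib.Helper2.GaloisHom.exists_iso_of_ker_le_of_surjective
    (FEt.restrict f) (fibFin ξ) hs z ?_
  intro k hk
  rw [MulAction.mem_stabilizer_iff]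
  have h1 : (fibFin ξ).map φ (k • z) = (fibFin ξ).map φ z := by
    rw [← PreGaloisCategory.mulAction_naturality]
    exact (Groth.Agent.Lib.Helper2.GaloisHom.mem_ker_autWhisker_iff _ _ k).1 hk T _
  obtain ⟨b, hb⟩ : ∃ b : FEt.fiberObj ξ Y, b = k • z := ⟨k • z, rfl⟩
  have h2 : b.1 ≫ φ.left = a₀.1 ≫ φ.left := by
    have := congrArg Subtype.val h1
    rw [← hb, hz] at this
    exact this
  rw [hφ, ha₀'] at h2
  have h3 : b.1 = x' ≫ σ := key b.1 b.2 h2
  rw [← hb, hz]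
  exact Subtype.ext (h3.trans ha₀'.symm)

end Groth.Agent.Lib.Helper13.HomotSeqL
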