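import Mathlib
import Groth.Prelude
import Groth.Agent.Lib.Helper13.HomotSeqL

/-!
# Exactness in the middle of the homotopy exact sequence over a general base: final form (helper13)
-/

set_option autoImplicit false
set_option linter.style.haveILetI false
universe u
open CategoryTheory CategoryTheory.Limits AlgebraicGeometry Pi1

namespace Groth.Agent.Lib.Helper13.HomotSeqM

theorem main {X S : Scheme.{u}} (f : X ⟶ S) [IsProper f] [Flat f] [LocallyOfFinitePresentation f]
    [ConnectedSpace S]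
    (hfib : ∀ (Ω : Type u) [Field Ω] [IsAlgClosed Ω] (s : Spec (CommRingCat.of Ω) ⟶ S),
      ConnectedSpace ↥(pullback f s) ∧ IsReduced (pullback f s))
    (Y : FEt.Cat X) [ConnectedSpace Y.left] (Ω : Type u) [Field Ω] [IsAlgClosed Ω]
    (s : Spec (CommRingCat.of Ω) ⟶ S) (σ : pullback f s ⟶ Y.left)
    (hσ : σ ≫ Y.hom = pullback.fst f s) :
    (FEt.restrict f).essImage Y := by
  haveI := (hfib Ω s).1
  obtain ⟨x₀⟩ : Nonempty ↥(pullback f s) := inferInstance
  obtain ⟨xb, -⟩ : ∃ xb : Spec (CommRingCat.of (AlgebraicClosure ((pullback f s).residueField x₀))) ⟶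
      pullback f s, xb = Spec.map (CommRingCat.ofHom (algebraMap ((pullback f s).residueField x₀)
        (AlgebraicClosure ((pullback f s).residueField x₀)))) ≫
          (pullback f s).fromSpecResidueField x₀ := ⟨_, rfl⟩
  obtain ⟨ξ, hξ⟩ : ∃ ξ : Spec (CommRingCat.of (AlgebraicClosure
      ((pullback f s).residueField x₀))) ⟶ X, ξ = xb ≫ pullback.fst f s := ⟨_, rfl⟩
  obtain ⟨r, hr⟩ : ∃ r : Spec (CommRingCat.of (AlgebraicClosure
      ((pullback f s).residueField x₀))) ⟶ Spec (CommRingCat.of Ω), r = xb ≫ pullback.snd f s :=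
    ⟨_, rfl⟩
  have hs' : ξ ≫ f = r ≫ s := by
    rw [hξ, hr, Category.assoc, pullback.condition, Category.assoc]
  obtain ⟨m, hm⟩ : ∃ m : pullback f (ξ ≫ f) ⟶ pullback f s,
      m ≫ pullback.fst f s = pullback.fst f (ξ ≫ f) :=
    ⟨pullback.lift (pullback.fst f (ξ ≫ f)) (pullback.snd f (ξ ≫ f) ≫ r)
      (by rw [pullback.condition, Category.assoc, hs']), pullback.lift_fst _ _ _⟩
  have hσ' : (m ≫ σ) ≫ Y.hom = pullback.fst f (ξ ≫ f) := by
    rw [Category.assoc, hσ, hm]
  obtain ⟨T, ⟨e⟩⟩ := Groth.Agent.Lib.Helper13.HomotSeqL.main_aux f hfib Y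
    (AlgebraicClosure ((pullback f s).residueField x₀)) ξ (m ≫ σ) hσ'
  exact ⟨T, ⟨e⟩⟩

end Groth.Agent.Lib.Helper13.HomotSeqM
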