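import Mathlib
import Groth.Prelude
import Groth.Agent.Lib.Helper13.HomotSeqK
import Groth.Agent.S0239

/-!
# Specialisation of the fundamental group over a strictly henselian base is surjective (helper13)
-/

set_option autoImplicit false
set_option linter.style.haveILetI false
universe u
open CategoryTheory CategoryTheory.Limits AlgebraicGeometry Pi1

namespace Groth.Agent.Lib.Helper13.HomotSeqN

open H3.FEtFib H3.FEtSplit H3.FEtGalPt H3.FEtGalois
open Groth.Agent.Lib.Helper13.HomotSeqK

/-- connectedness in the Galois category gives topological connectedness -/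
theorem connectedSpace_of_isConnected {X : Scheme.{u}} [ConnectedSpace X] {Ω : Type u} [Field Ω]
    [IsSepClosed Ω] (ξ : Spec (CommRingCat.of Ω) ⟶ X) (Y : FEt.Cat X)
    (hY : PreGaloisCategory.IsConnected Y) : ConnectedSpace Y.left := by
  letI : PreGaloisCategory (FEt.Cat X) := H3.FEtG3.preGalois X
  haveI : PreGaloisCategory.FiberFunctor (fibFin ξ) := fiberFunctor ξ
  haveI := hY
  obtain ⟨pt⟩ := nonempty_pt (Ω := Ω)
  obtain ⟨a'⟩ := PreGaloisCategory.nonempty_fiber_of_isConnected (fibFin ξ) Y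
  obtain ⟨a, -⟩ : ∃ a : FEt.fiberObj ξ Y, a = a' := ⟨a', rfl⟩
  rw [connectedSpace_iff_clopen]
  refine ⟨⟨a.1.base pt⟩, ?_⟩
  intro U hU
  by_cases hne : U.Nonempty
  · right
    obtain ⟨U', hU'⟩ : ∃ U' : Y.left.Opens, (U' : Set Y.left) = U := ⟨⟨U, hU.2⟩, rfl⟩
    haveI : IsClosedImmersion U'.ι := by
      apply IsClosedImmersion.of_isPreimmersion
      rw [Scheme.Opens.range_ι, hU']
      exact hU.1
    haveI : IsFinite Y.hom := Y.prop.1
    haveI : Etale Y.hom := Y.prop.2
    obtain ⟨Z, hZl, hZh⟩ : ∃ Z : FEt.Cat X, ∃ hl : Z.left = U'.toScheme,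
        Z.hom = eqToHom hl ≫ U'.ι ≫ Y.hom :=
      ⟨MorphismProperty.Over.mk ⊤ (U'.ι ≫ Y.hom) ⟨inferInstance, inferInstance⟩, rfl,
        (Category.id_comp _).symm⟩
    obtain ⟨i, hi⟩ : ∃ i : Z ⟶ Y, i.left = eqToHom hZl ≫ U'.ι :=
      ⟨MorphismProperty.Over.homMk (eqToHom hZl ≫ U'.ι)
        (by rw [hZh, Category.assoc]) trivial, rfl⟩
    haveI : Mono i.left := by rw [hi]; infer_instance
    haveI : Mono i := ⟨fun p q hpq => by
      apply MorphismProperty.Over.Hom.ext
      have := congrArg (fun φ => φ.left) hpq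
      exact (cancel_mono i.left).mp this⟩
    have hZ : IsInitial Z → False := by
      intro hI
      obtain ⟨z₀, hz₀⟩ := hne
      have hz₀' : z₀ ∈ U' := by rw [← SetLike.mem_coe, hU']; exact hz₀
      obtain ⟨z₁, -⟩ : ∃ z₁ : Z.left, (eqToHom hZl).base z₁ = ⟨z₀, hz₀'⟩ :=
        (Scheme.homeoOfIso (eqToIso hZl)).surjective _
      obtain ⟨b⟩ := nonempty_fiberObj_of_point ξ Z z₁
      have b' : (fibFin ξ).obj Z := b
      exact PreGaloisCategory.not_initial_of_inhabited (fibFin ξ) b' hI
    haveI : IsIso i := PreGaloisCategory.IsConnected.noTrivialComponent Z i hZ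
    haveI : IsIso i.left := inferInstanceAs
      (IsIso ((MorphismProperty.Over.forget _ _ _ ⋙ CategoryTheory.Over.forget _).map i))
    ext y
    simp only [Set.mem_univ, iff_true]
    obtain ⟨z, hz⟩ := (Scheme.homeoOfIso (asIso i.left)).surjective y
    have hz' : i.left.base z = y := hz
    rw [hi, Scheme.Hom.comp_apply] at hz'
    rw [← hz', ← hU']
    exact ((eqToHom hZl).base z).2
  · left
    exact Set.not_nonempty_iff_eq_empty.mp hne

/-- the spectrum of a local ring is connected -/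
theorem connectedSpace_spec_of_isLocalRing (A : Type u) [CommRing A] [IsLocalRing A] :
    ConnectedSpace ↥(Spec (CommRingCat.of A)) := by
  rw [connectedSpace_iff_clopen]
  refine ⟨⟨IsLocalRing.closedPoint A⟩, ?_⟩
  intro U hU
  by_cases hc : IsLocalRing.closedPoint A ∈ U
  · right
    have h1 : IsLocalRing.closedPoint A ∈
        (⟨U, hU.2⟩ : TopologicalSpace.Opens (PrimeSpectrum A)) := hc
    rw [IsLocalRing.closedPoint_mem_iff] at h1
    have := congrArg (fun V : TopologicalSpace.Opens (PrimeSpectrum A) => V.carrier) h1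
    exact this
  · left
    have h1 : IsLocalRing.closedPoint A ∈
        (⟨Uᶜ, hU.1.isOpen_compl⟩ : TopologicalSpace.Opens (PrimeSpectrum A)) := hc
    rw [IsLocalRing.closedPoint_mem_iff] at h1
    have h2 := congrArg (fun V : TopologicalSpace.Opens (PrimeSpectrum A) => V.carrier) h1
    have h3 : Uᶜ = Set.univ := h2
    exact Set.compl_univ_iff.mp h3

/-- a connected finite étale cover of the spectrum of a strictly henselian local ring is trivial -/
theorem isIso_hom_of_strictlyHenselian (A : Type u) [CommRing A] [HenselianLocalRing A]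
    [IsSepClosed (IsLocalRing.ResidueField A)] (T : FEt.Cat (Spec (CommRingCat.of A)))
    [ConnectedSpace T.left] : IsIso T.hom := by
  haveI := connectedSpace_spec_of_isLocalRing A
  obtain ⟨j, hj⟩ : ∃ j : Spec (CommRingCat.of (IsLocalRing.ResidueField A)) ⟶
      Spec (CommRingCat.of A), j = Spec.map (CommRingCat.ofHom (IsLocalRing.residue A)) :=
    ⟨_, rfl⟩
  haveI hH : (FEt.restrict j).IsEquivalence := by
    rw [hj]; exact Groth.Agent.S0239.result A (IsLocalRing.maximalIdeal A)
  haveI : IsFinite T.hom := T.prop.1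
  haveI : Etale T.hom := T.prop.2
  obtain ⟨y₀⟩ : Nonempty T.left := inferInstance
  obtain ⟨u⟩ := nonempty_fiberObj_of_point j T y₀
  -- the terminal object
  obtain ⟨E, hEl, hEh⟩ : ∃ E : FEt.Cat (Spec (CommRingCat.of A)),
      ∃ hl : E.left = Spec (CommRingCat.of A), E.hom = eqToHom hl :=
    ⟨MorphismProperty.Over.mk ⊤ (𝟙 (Spec (CommRingCat.of A))) ⟨inferInstance, inferInstance⟩,
      rfl, rfl⟩
  -- a morphism between the restrictions
  have hcond : (pullback.snd E.hom j ≫ u.1) ≫ T.hom = pullback.snd E.hom j ≫ j := by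
    rw [Category.assoc, u.2]
  obtain ⟨ψ₀, hψ₀⟩ : ∃ ψ₀ : (FEt.restrict j).obj E ⟶ (FEt.restrict j).obj T,
      ψ₀.left ≫ pullback.fst T.hom j = pullback.snd E.hom j ≫ u.1 :=
    ⟨MorphismProperty.Over.homMk (pullback.lift (pullback.snd E.hom j ≫ u.1)
      (pullback.snd E.hom j) hcond) (pullback.lift_snd _ _ _) trivial, pullback.lift_fst _ _ _⟩
  obtain ⟨ψ, -⟩ := (FEt.restrict j).map_surjective ψ₀
  have hψ : ψ.left ≫ T.hom = E.hom := MorphismProperty.Over.w ψ
  obtain ⟨s, hs⟩ : ∃ s : Spec (CommRingCat.of A) ⟶ T.left, s ≫ T.hom = 𝟙 _ := by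
    refine ⟨eqToHom hEl.symm ≫ ψ.left, ?_⟩
    rw [Category.assoc, hψ, hEh, eqToHom_trans, eqToHom_refl]
  haveI : IsOpenImmersion s :=
    Groth.Agent.Lib.Helper13.SteinEt.isOpenImmersion_of_section T.hom s hs
  haveI : IsClosedImmersion s :=
    Groth.Agent.Lib.Helper13.SteinEtSec.isClosedImmersion_of_section T.hom s hs
  have hclopen : IsClopen (Set.range s.base) :=
    ⟨s.isClosedEmbedding.isClosed_range, s.isOpenEmbedding.isOpen_range⟩
  have hne : (Set.range s.base).Nonempty := ⟨s.base (IsLocalRing.closedPoint A), _, rfl⟩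
  have huniv : Set.range s.base = Set.univ := hclopen.eq_univ hne
  haveI : Surjective s := ⟨Set.range_eq_univ.mp huniv⟩
  haveI : IsIso s := (isIso_iff_isOpenImmersion_and_surjective s).mpr ⟨inferInstance, inferInstance⟩
  have : T.hom = inv s := by
    rw [← cancel_epi s, hs, IsIso.hom_inv_id]
  rw [this]
  infer_instance

end Groth.Agent.Lib.Helper13.HomotSeqN
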