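import Mathlib
import Groth.Prelude
import Groth.Agent.Lib.Helper13.HomotSeqN

/-!
# Specialisation of the fundamental group over a strictly henselian base is surjective: main
(helper13)
-/

set_option autoImplicit false
set_option linter.style.haveILetI false
universe u
open CategoryTheory CategoryTheory.Limits AlgebraicGeometry Pi1

namespace Groth.Agent.Lib.Helper13.HomotSeqO

open H3.FEtFib H3.FEtSplit H3.FEtGalPt H3.FEtGalois
open Groth.Agent.Lib.Helper13.HomotSeqK Groth.Agent.Lib.Helper13.HomotSeqN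

/-- connected covers stay connected on every geometric fibre -/
theorem connectedSpace_restrict (A : Type u) [CommRing A] [HenselianLocalRing A]
    [IsSepClosed (IsLocalRing.ResidueField A)] {X : Scheme.{u}} (f : X ⟶ Spec (CommRingCat.of A))
    [IsProper f] [Flat f] [LocallyOfFinitePresentation f]
    (hfib : ∀ (Ω : Type u) [Field Ω] [IsAlgClosed Ω]
      (s : Spec (CommRingCat.of Ω) ⟶ Spec (CommRingCat.of A)),
      ConnectedSpace ↥(pullback f s) ∧ IsReduced (pullback f s))
    (Ω : Type u) [Field Ω] [IsAlgClosed Ω] (t : Spec (CommRingCat.of Ω) ⟶ Spec (CommRingCat.of A))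
    (Y : FEt.Cat X) [ConnectedSpace Y.left] :
    ConnectedSpace ↥(pullback (Y.hom ≫ f) t) := by
  haveI : IsFinite Y.hom := Y.prop.1
  haveI : Etale Y.hom := Y.prop.2
  obtain ⟨h, hh⟩ : ∃ h : Y.left ⟶ Spec (CommRingCat.of A), h = Y.hom ≫ f := ⟨_, rfl⟩
  haveI : IsProper h := by rw [hh]; infer_instance
  haveI : Flat h := by rw [hh]; infer_instance
  haveI : LocallyOfFinitePresentation h := by rw [hh]; infer_instance
  haveI : GeometricallyReduced h := by
    rw [hh]; exact geometricallyReduced_comp f Y (fun K _ _ z => (hfib K z).2)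
  obtain ⟨hfin, het⟩ := Groth.Agent.Lib.Helper13.SteinEtNorm.fromNormalization_finite_etale h
  obtain ⟨ν, hν⟩ : ∃ ν : h.normalization ⟶ Spec (CommRingCat.of A), ν = h.fromNormalization :=
    ⟨_, rfl⟩
  obtain ⟨τ, hτ⟩ : ∃ τ : Y.left ⟶ h.normalization, τ = h.toNormalization := ⟨_, rfl⟩
  have hτν : τ ≫ ν = Y.hom ≫ f := by
    rw [hτ, hν, ← hh]; exact h.toNormalization_fromNormalization
  haveI : IsFinite ν := by rw [hν]; exact hfin
  haveI : Etale ν := by rw [hν]; exact het
  have hgc : GeometricallyConnected τ := by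
    rw [hτ]; exact Groth.Agent.Lib.Helper13.SteinGC.geometricallyConnected_toNormalization h
  have hsurj : Function.Surjective τ.base := (inferInstance : Surjective τ).surj
  obtain ⟨T, τ', hτ'ν, hgc', hsurj'⟩ : ∃ (T : FEt.Cat (Spec (CommRingCat.of A)))
      (τ' : Y.left ⟶ T.left), τ' ≫ T.hom = Y.hom ≫ f ∧ GeometricallyConnected τ' ∧
        Function.Surjective τ'.base :=
    ⟨MorphismProperty.Over.mk ⊤ ν ⟨inferInstance, inferInstance⟩, τ, hτν, hgc, hsurj⟩
  haveI : ConnectedSpace ↥T.left := hsurj'.connectedSpace τ'.continuous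
  haveI : IsIso T.hom := isIso_hom_of_strictlyHenselian A T
  obtain ⟨t', ht'⟩ : ∃ t' : Spec (CommRingCat.of Ω) ⟶ T.left, t' = t ≫ inv T.hom := ⟨_, rfl⟩
  have ht'2 : t' ≫ T.hom = t := by rw [ht', Category.assoc, IsIso.inv_hom_id, Category.comp_id]
  have hbot : IsPullback t' (𝟙 (Spec (CommRingCat.of Ω))) T.hom t :=
    IsPullback.of_vert_isIso ⟨by rw [Category.id_comp, ht'2]⟩
  have hbig : IsPullback (pullback.fst (Y.hom ≫ f) t)
      (pullback.snd (Y.hom ≫ f) t ≫ 𝟙 (Spec (CommRingCat.of Ω))) (τ' ≫ T.hom) t := by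
    rw [Category.comp_id, hτ'ν]
    exact IsPullback.of_hasPullback (Y.hom ≫ f) t
  have hcomm : pullback.fst (Y.hom ≫ f) t ≫ τ' = pullback.snd (Y.hom ≫ f) t ≫ t' := by
    rw [← cancel_mono T.hom, Category.assoc, Category.assoc, hτ'ν, ht'2]
    exact pullback.condition
  exact hgc'.geometrically_connectedSpace t' _ _ (IsPullback.of_bot hbig hcomm hbot)

theorem main (A : Type u) [CommRing A] [HenselianLocalRing A]
    [IsSepClosed (IsLocalRing.ResidueField A)] {X : Scheme.{u}} (f : X ⟶ Spec (CommRingCat.of A))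
    [IsProper f] [Flat f] [LocallyOfFinitePresentation f]
    (hfib : ∀ (Ω : Type u) [Field Ω] [IsAlgClosed Ω]
      (s : Spec (CommRingCat.of Ω) ⟶ Spec (CommRingCat.of A)),
      ConnectedSpace ↥(pullback f s) ∧ IsReduced (pullback f s))
    (Ω : Type u) [Field Ω] [IsAlgClosed Ω] (t : Spec (CommRingCat.of Ω) ⟶ Spec (CommRingCat.of A)) :
    (FEt.restrict (pullback.fst f t)).Full ∧ (FEt.restrict (pullback.fst f t)).Faithful := by
  haveI := connectedSpace_spec_of_isLocalRing A
  haveI : ConnectedSpace X := connectedSpace_of_fibres f (fun K _ _ z => (hfib K z).1)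
  haveI : ConnectedSpace ↥(pullback f t) := (hfib Ω t).1
  obtain ⟨x₀⟩ : Nonempty ↥(pullback f t) := inferInstance
  obtain ⟨Ω', hF, hS, η, -⟩ := exists_geomPoint x₀
  letI : PreGaloisCategory (FEt.Cat X) := H3.FEtG3.preGalois X
  letI : PreGaloisCategory (FEt.Cat (pullback f t)) := H3.FEtG3.preGalois _
  haveI h1 : PreGaloisCategory.FiberFunctor (fibFin (η ≫ pullback.fst f t)) := fiberFunctor _
  haveI h2 : PreGaloisCategory.FiberFunctor (fibFin η) := fiberFunctor η
  haveI : GaloisCategory (FEt.Cat X) := { hasFiberFunctor := ⟨_, ⟨h1⟩⟩ }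
  haveI : GaloisCategory (FEt.Cat (pullback f t)) := { hasFiberFunctor := ⟨_, ⟨h2⟩⟩ }
  obtain ⟨hlim, hcolim⟩ := Groth.Agent.S0285.result (pullback.fst f t)
  haveI := hlim
  haveI := hcolim
  refine (Groth.Agent.S0267.result (FEt.restrict (pullback.fst f t))).2 ?_
  intro Y hY
  haveI : ConnectedSpace Y.left := connectedSpace_of_isConnected (η ≫ pullback.fst f t) Y hY
  haveI := connectedSpace_restrict A f hfib Ω t Y
  haveI : ConnectedSpace ↥((FEt.restrict (pullback.fst f t)).obj Y).left := by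
    let e : pullback Y.hom (pullback.fst f t) ≅ pullback (Y.hom ≫ f) t :=
      pullbackRightPullbackFstIso f t Y.hom
    exact (Scheme.homeoOfIso e).symm.surjective.connectedSpace
      (Scheme.homeoOfIso e).symm.continuous
  exact isConnected_of_connectedSpace η _

end Groth.Agent.Lib.Helper13.HomotSeqO
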