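import Mathlib.Algebra.Homology.ShortComplex.HomologicalComplex
import Mathlib.Algebra.Homology.ShortComplex.Exact
import Mathlib.Algebra.Homology.HomologicalComplexAbelian
import Mathlib.CategoryTheory.Abelian.Refinements
import Mathlib.CategoryTheory.Preadditive.Injective.Basic

set_option autoImplicit false
universe v u
open CategoryTheory CategoryTheory.Limits

noncomputable section
namespace Groth.Agent.Lib.Helper13

section Aux
variable {C : Type u} [Category.{v} C] [Abelian C]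

theorem biprod_aux_comm {X X' P Q R : C} (a : X ⟶ P) (b : X ⟶ Q) (d : X ⟶ X') (a' : X' ⟶ Q)
    (b' : X' ⟶ R) (h1 : d ≫ a' = b) (h2 : d ≫ b' = 0) :
    biprod.lift a b ≫ (biprod.snd ≫ biprod.inl : P ⊞ Q ⟶ Q ⊞ R) = d ≫ biprod.lift a' b' := by
  apply biprod.hom_ext <;> simp [h1, h2]

theorem biprod_aux_sq {P Q R : C} :
    (biprod.fst ≫ biprod.inl : P ⊞ Q ⟶ P ⊞ Q) ≫ (biprod.snd ≫ biprod.inl : P ⊞ Q ⟶ Q ⊞ R) = 0 := by
  simp

theorem biprod_aux_exact {T P Q R : C} (x : T ⟶ Q ⊞ R) (hx : x ≫ biprod.snd = 0) :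
    x = (x ≫ biprod.fst ≫ biprod.inr : T ⟶ P ⊞ Q) ≫ (biprod.snd ≫ biprod.inl : P ⊞ Q ⟶ Q ⊞ R) := by
  have htot : x = x ≫ biprod.fst ≫ biprod.inl + x ≫ biprod.snd ≫ biprod.inr := by
    rw [← Preadditive.comp_add, biprod.total, Category.comp_id]
  conv_lhs => rw [htot, ← Category.assoc x biprod.snd, hx, zero_comp, add_zero]
  simp

theorem biprod_aux_retr {T P Q : C} (x : T ⟶ P ⊞ Q) (hx : x ≫ biprod.snd = 0) :
    x ≫ biprod.fst ≫ biprod.inl = x := by
  have htot : x = x ≫ biprod.fst ≫ biprod.inl + x ≫ biprod.snd ≫ biprod.inr := by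
    rw [← Preadditive.comp_add, biprod.total, Category.comp_id]
  conv_rhs => rw [htot, ← Category.assoc x biprod.snd, hx, zero_comp, add_zero]

end Aux

variable {C : Type u} [Category.{v} C] [Abelian C] [EnoughInjectives C] (A : CochainComplex C ℕ)

/-- an injective containing `A^i` -/
abbrev embI (i : ℕ) : C := Injective.under (A.X i)

/-- the chosen embedding `A^i → I^i` -/
abbrev embJ (i : ℕ) : A.X i ⟶ embI A i := Injective.ι (A.X i)

/-- `Q^i = I^i ⊕ I^{i+1}` -/
abbrev embX (i : ℕ) : C := embI A i ⊞ embI A (i + 1)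

/-- the differential `(x, y) ↦ (y, 0)` -/
def embD (i : ℕ) : embX A i ⟶ embX A (i + 1) := biprod.snd ≫ biprod.inl

theorem embD_sq (i : ℕ) : embD A i ≫ embD A (i + 1) = 0 := by
  simp [embD]

/-- the split acyclic complex of injectives -/
def embQ : CochainComplex C ℕ := CochainComplex.of (embX A) (embD A) (embD_sq A)

theorem embQ_d (i : ℕ) : (embQ A).d i (i + 1) = embD A i := CochainComplex.of_d _ _ i

/-- the embedding `A → Q` -/
def embF : A ⟶ embQ A :=
  CochainComplex.ofHom (X := A) (Y := embQ A)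
    (fun i => (biprod.lift (embJ A i) (A.d i (i + 1) ≫ embJ A (i + 1)) : A.X i ⟶ embX A i))
    (fun i => by
      rw [embQ_d]
      exact biprod_aux_comm _ _ _ _ _ rfl (by rw [A.d_comp_d_assoc, zero_comp]))

theorem embF_f_fst (i : ℕ) :
    ((embF A).f i : A.X i ⟶ embX A i) ≫ biprod.fst = embJ A i := by
  change biprod.lift (embJ A i) (A.d i (i + 1) ≫ embJ A (i + 1)) ≫ biprod.fst = _
  simp

instance embF_mono : Mono (embF A) := by
  apply HomologicalComplex.mono_of_mono_f
  intro i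
  exact mono_of_mono_fac (embF_f_fst A i)

instance embQ_injective (i : ℕ) : Injective ((embQ A).X i) := by
  change Injective (embI A i ⊞ embI A (i + 1))
  infer_instance

theorem embQ_exactAt (i : ℕ) : (embQ A).ExactAt (i + 1) := by
  rw [HomologicalComplex.exactAt_iff' _ i (i + 1) (i + 1 + 1) (by simp) (by simp),
    ShortComplex.exact_iff_exact_up_to_refinements]
  intro T x₂ hx₂
  let x : T ⟶ embI A (i + 1) ⊞ embI A (i + 1 + 1) := x₂
  have hx : x ≫ embD A (i + 1) = 0 := by
    have := hx₂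
    change x ≫ (embQ A).d (i + 1) (i + 1 + 1) = 0 at this
    rwa [embQ_d] at this
  have hx' : x ≫ biprod.snd = 0 := by
    rw [← cancel_mono (biprod.inl : _ ⟶ embX A (i + 1 + 1)), Category.assoc, zero_comp]
    exact hx
  refine ⟨T, 𝟙 T, inferInstance, (x ≫ biprod.fst ≫ biprod.inr : T ⟶ embX A i), ?_⟩
  change 𝟙 T ≫ x = (x ≫ biprod.fst ≫ biprod.inr) ≫ (embQ A).d i (i + 1)
  rw [embQ_d, Category.id_comp]
  exact biprod_aux_exact x hx'

theorem embQ_isZero_homology (i : ℕ) : IsZero ((embQ A).homology (i + 1)) :=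
  (embQ_exactAt A i).isZero_homology

theorem embQ_isSplitMono (i : ℕ) : IsSplitMono ((embQ A).iCycles i) := by
  let e : (embQ A).X i ⟶ (embQ A).X i := (biprod.fst ≫ biprod.inl : embX A i ⟶ embX A i)
  have he : e ≫ (embQ A).d i (i + 1) = 0 := by
    rw [embQ_d]
    exact biprod_aux_sq
  let ic : (embQ A).cycles i ⟶ embX A i := (embQ A).iCycles i
  have h0 : ic ≫ biprod.snd = 0 := by
    have := (embQ A).iCycles_d i (i + 1)
    rw [embQ_d] at this
    rw [← cancel_mono (biprod.inl : _ ⟶ embX A (i + 1)), Category.assoc, zero_comp]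
    exact this
  refine IsSplitMono.mk' ⟨(embQ A).liftCycles e (i + 1) (by simp) he, ?_⟩
  rw [← cancel_mono ((embQ A).iCycles i), Category.assoc, HomologicalComplex.liftCycles_i,
    Category.id_comp]
  exact biprod_aux_retr ic h0

end Groth.Agent.Lib.Helper13
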