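import Mathlib
import Groth.Prelude
import Groth.Agent.Lib.Helper1.FlasqueAcyclic
import Groth.Agent.Lib.Helper13.ProfiniteAcyclic

set_option autoImplicit false
universe u
open CategoryTheory CategoryTheory.Limits Opposite TopologicalSpace

noncomputable section

namespace Groth.Agent.Lib.Helper13.IrreducibleConst

variable {X : TopCat.{u}}

/-- the constant presheaf. -/
abbrev cpre (X : TopCat.{u}) (A : Type u) [AddCommGroup A] : (Opens X)ᵒᵖ ⥤ AddCommGrpCat.{u} :=
  (Functor.const (Opens X)ᵒᵖ).obj (AddCommGrpCat.of A)

/-- the unit of sheafification. -/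
abbrev η (X : TopCat.{u}) (A : Type u) [AddCommGroup A] :
    cpre X A ⟶ (CohTop.const X A).obj :=
  toSheafify (Opens.grothendieckTopology X) (cpre X A)

lemma η_res (A : Type u) [AddCommGroup A] {U V : Opens X} (h : V ≤ U) (a : A) :
    ((CohTop.const X A).obj.map (homOfLE h).op).hom (((η X A).app (op U)).hom a) =
      ((η X A).app (op V)).hom a :=
  (ConcreteCategory.congr_hom ((η X A).naturality (homOfLE h).op) a).symm

theorem isFlasque_const [IrreducibleSpace X] (A : Type u) [AddCommGroup A] :
    TopCat.Sheaf.IsFlasque (CohTop.const X A) where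
  epi {U V} i := by
    obtain ⟨U⟩ := U
    obtain ⟨V⟩ := V
    have hVU : V ≤ U := i.unop.le
    obtain rfl : i = (homOfLE hVU).op := Subsingleton.elim _ _
    rw [AddCommGrpCat.epi_iff_surjective]
    intro s
    let F := CohTop.const X A
    have hsurj : Presheaf.IsLocallySurjective (Opens.grothendieckTopology X) (η X A) :=
      inferInstanceAs (Presheaf.IsLocallySurjective (Opens.grothendieckTopology X)
        (toSheafify (Opens.grothendieckTopology X) (cpre X A)))
    have hinj : Presheaf.IsLocallyInjective (Opens.grothendieckTopology X) (η X A) :=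
      inferInstanceAs (Presheaf.IsLocallyInjective (Opens.grothendieckTopology X)
        (toSheafify (Opens.grothendieckTopology X) (cpre X A)))
    -- local constants
    have hloc : ∀ x : V, ∃ (W : Opens X) (hWV : W ≤ V) (a : A), (x : X) ∈ W ∧
        ((η X A).app (op W)).hom a = (F.obj.map (homOfLE hWV).op).hom s := by
      intro x
      obtain ⟨W, g, ⟨a, ha⟩, hxW⟩ := hsurj.imageSieve_mem s x.1 x.2
      exact ⟨W, g.le, a, hxW, ha⟩
    choose W hWV a hxW ha using hloc
    by_cases hV : Nonempty V
    · obtain ⟨x₀⟩ := hV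
      have hconst : ∀ x : V, a x = a x₀ := by
        intro x
        -- W x ⊓ W x₀ is nonempty
        obtain ⟨z, hz⟩ : ((W x : Set X) ∩ (W x₀ : Set X)).Nonempty :=
          nonempty_preirreducible_inter (W x).2 (W x₀).2 ⟨x, hxW x⟩ ⟨x₀, hxW x₀⟩
        let W' : Opens X := W x ⊓ W x₀
        have e : ((η X A).app (op W')).hom (a x) = ((η X A).app (op W')).hom (a x₀) := by
          rw [← η_res A (inf_le_left : W' ≤ W x) (a x), ← η_res A (inf_le_right : W' ≤ W x₀) (a x₀),
            ha, ha]
          change (F.obj.map (homOfLE _).op).hom ((F.obj.map (homOfLE _).op).hom s) =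
            (F.obj.map (homOfLE _).op).hom ((F.obj.map (homOfLE _).op).hom s)
          rw [← ConcreteCategory.comp_apply, ← ConcreteCategory.comp_apply, ← F.obj.map_comp,
            ← F.obj.map_comp]
          rfl
        have hm := hinj.equalizerSieve_mem (X := op W') (a x) (a x₀) e
        obtain ⟨W'', f, hf, -⟩ := hm z hz
        exact hf
      refine ⟨((η X A).app (op U)).hom (a x₀), ?_⟩
      rw [η_res]
      apply TopCat.Sheaf.eq_of_locally_eq' F W V (fun x => homOfLE (hWV x))
        (fun y hy => Opens.mem_iSup.2 ⟨⟨y, hy⟩, hxW ⟨y, hy⟩⟩)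
      intro x
      rw [η_res, ← hconst x]
      exact ha x
    · have hbot : V = ⊥ := by
        rw [not_nonempty_iff] at hV
        ext y
        simp only [Opens.coe_bot, Set.mem_empty_iff_false, iff_false]
        exact fun hy => hV.elim ⟨y, hy⟩
      have hss : Subsingleton (F.obj.obj (op V)) := by
        have ht := TopCat.Sheaf.isTerminalOfEqEmpty F hbot
        exact Groth.Agent.Lib.Helper13.ProfiniteAcyclic.subsingleton_of_isTerminal ht
      exact ⟨0, Subsingleton.elim _ _⟩

theorem subsingleton_H_const [IrreducibleSpace X] (A : Type u) [AddCommGroup A] (p : ℕ) :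
    Subsingleton (CohTop.H (CohTop.const X A) (p + 1)) :=
  have := isFlasque_const (X := X) A
  Groth.Agent.Lib.Helper1.FlasqueAcyclic.flasque_H_subsingleton _ p

end Groth.Agent.Lib.Helper13.IrreducibleConst
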