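import Mathlib
import Groth.Agent.Lib.Helper2.K0Der.Main
import Groth.Agent.Lib.Helper18.DRReg2
import Groth.Agent.Lib.Helper26.RegularRing
import Groth.Agent.Lib.Helper1.SecReg

/-!
# `K₀` of perfect complexes supported at the closed point of a regular local ring is generated by
the Koszul complex (helper13)

* `isRegularLocalRing_of_isRegular`: a Noetherian local ring whose maximal ideal is generated by a
  regular sequence is regular.
* `P R`: finite modules supported at the closed point; `closure_eq_top`: `K₀(P R)` is generated by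
  the class of the residue field (Noetherian induction using associated primes).
* `koszul_iso`: the Koszul complex of a regular sequence generating the maximal ideal is the residue
  field placed in degree `0`.
* `main`: the statement, via helper2's `K0Der.main` and helper18's characterisation of perfect
  complexes over regular rings.
-/

set_option autoImplicit false
universe u

namespace Groth.Agent.Lib.Helper13.K0Koszul

open CategoryTheory CategoryTheory.Limits Pretriangulated ZeroObject DerivedCategory IsLocalRing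
open Groth.Agent.Lib.Helper2
attribute [local instance] HasDerivedCategory.standard

variable (R : Type u) [CommRing R] [IsNoetherianRing R] [IsLocalRing R]

lemma isRegularLocalRing_of_isRegular (fs : List R)
    (hreg : RingTheory.Sequence.IsRegular R fs)
    (hgen : Ideal.ofList fs = maximalIdeal R) : IsRegularLocalRing R := by
  classical
  apply IsRegularLocalRing.of_spanFinrank_maximalIdeal_le
  have h1 := ringKrullDim_add_length_eq_ringKrullDim_of_isRegular fs hreg
  have h0 : ringKrullDim (R ⧸ Ideal.ofList fs) = 0 := by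
    rw [hgen]
    exact ringKrullDim_eq_zero_of_isField
      ((Ideal.Quotient.maximal_ideal_iff_isField_quotient _).1 (maximalIdeal.isMaximal R))
  rw [h0, zero_add] at h1
  rw [← h1]
  have h2 : (maximalIdeal R).spanFinrank ≤ fs.length := by
    rw [← hgen]
    have hfin : ({r | r ∈ fs} : Set R).Finite := List.finite_toSet fs
    refine (Submodule.spanFinrank_span_le_ncard_of_finite hfin).trans ?_
    have hset : ({r | r ∈ fs} : Set R) = ↑fs.toFinset := by ext; simp
    rw [hset, Set.ncard_coe_finset]
    exact List.toFinset_card_le fs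
  exact_mod_cast h2

/-- finite modules supported at the closed point -/
abbrev P : ObjectProperty (ModuleCat.{u} R) := fun M =>
  Module.Finite R M ∧ Module.support R M ⊆ {closedPoint R}

instance : (P R).IsClosedUnderIsomorphisms := ⟨fun {M N} e h => by
  obtain ⟨h1, h2⟩ := h
  haveI := h1
  refine ⟨Module.Finite.equiv e.toLinearEquiv, ?_⟩
  rw [← e.toLinearEquiv.support_eq]
  exact h2⟩

instance : (P R).ContainsZero := ⟨⟨ModuleCat.of R PUnit, ModuleCat.isZero_of_subsingleton _,
  inferInstance, by rw [Module.support_eq_empty]; exact Set.empty_subset _⟩⟩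

instance : (P R).IsClosedUnderKernels := ⟨by
  rintro _ ⟨f, k, hk, ⟨⟨f1, s1⟩, -⟩⟩
  haveI := f1
  haveI : Mono (Fork.ι k) := mono_of_isLimit_fork hk
  have hinj : Function.Injective (Fork.ι k).hom := (ModuleCat.mono_iff_injective _).1 inferInstance
  exact ⟨Module.Finite.of_injective (Fork.ι k).hom hinj,
    (Module.support_subset_of_injective (Fork.ι k).hom hinj).trans s1⟩⟩

variable {R}

lemma clSub_quot_mem (M : Type u) [AddCommGroup M] [Module R M] [Module.Finite R M]
    (hM : Module.support R M ⊆ {closedPoint R}) (N : Submodule R M) :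
    KZero.clSub (P R) (ModuleCat.of R (M ⧸ N)) ∈
      AddSubgroup.closure {KZero.clSub (P R) (ModuleCat.of R (R ⧸ maximalIdeal R))} := by
  refine IsNoetherian.induction (P := fun N : Submodule R M =>
    KZero.clSub (P R) (ModuleCat.of R (M ⧸ N)) ∈
      AddSubgroup.closure {KZero.clSub (P R) (ModuleCat.of R (R ⧸ maximalIdeal R))}) ?_ N
  intro N ih
  by_cases hN : N = ⊤
  · subst hN
    haveI : Subsingleton (M ⧸ (⊤ : Submodule R M)) := Submodule.Quotient.subsingleton_iff.2 rfl
    rw [K0Der.clSub_of_isZero (P R)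
      (ModuleCat.isZero_of_subsingleton (ModuleCat.of R (M ⧸ (⊤ : Submodule R M))))]
    exact zero_mem _
  · haveI : Nontrivial (M ⧸ N) := Submodule.Quotient.nontrivial_iff.2 hN
    have hsuppQ : Module.support R (M ⧸ N) ⊆ {closedPoint R} :=
      (Module.support_subset_of_surjective N.mkQ (Submodule.mkQ_surjective N)).trans hM
    obtain ⟨I, hI⟩ := associatedPrimes.nonempty R (M ⧸ N)
    obtain ⟨hIp, x, hx⟩ := isAssociatedPrime_iff.1 hI
    have hIm : I = maximalIdeal R := by
      have hmem : (⟨I, hIp⟩ : PrimeSpectrum R) ∈ Module.support R (M ⧸ N) := by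
        rw [Module.mem_support_iff_exists_annihilator]
        refine ⟨x, fun r hr => ?_⟩
        rw [Submodule.mem_annihilator_span_singleton] at hr
        change r ∈ I
        rw [hx, Submodule.mem_colon_singleton, hr]
        exact Submodule.zero_mem _
      exact congrArg PrimeSpectrum.asIdeal (Set.mem_singleton_iff.1 (hsuppQ hmem))
    have hx' : maximalIdeal R = Submodule.colon (⊥ : Submodule R (M ⧸ N)) {x} := hIm ▸ hx
    let f : R →ₗ[R] (M ⧸ N) := LinearMap.toSpanSingleton R (M ⧸ N) x
    have hker : LinearMap.ker f = maximalIdeal R := by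
      ext r
      rw [LinearMap.mem_ker, hx', Submodule.mem_colon_singleton, Submodule.mem_bot]
      rfl
    let W : Submodule R (M ⧸ N) := LinearMap.range f
    let g : (M ⧸ N) →ₗ[R] (M ⧸ N) ⧸ W := W.mkQ
    have hS := LinearMap.shortExact_shortComplexKer (f := g) (Submodule.mkQ_surjective W)
    let e₁ : (R ⧸ maximalIdeal R) ≃ₗ[R] LinearMap.ker g :=
      (Submodule.quotEquivOfEq _ _ hker.symm) ≪≫ₗ (LinearMap.quotKerEquivRange f) ≪≫ₗ
        (LinearEquiv.ofEq _ _ (Submodule.ker_mkQ W).symm)
    let J : Submodule R M := W.comap N.mkQ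
    have hNJ : N ≤ J := by
      intro y hy
      change N.mkQ y ∈ W
      have h0 : N.mkQ y = 0 := (Submodule.Quotient.mk_eq_zero N).2 hy
      rw [h0]
      exact W.zero_mem
    have hmap : J.map N.mkQ = W :=
      Submodule.map_comap_eq_of_surjective (Submodule.mkQ_surjective N) W
    let e₃ : ((M ⧸ N) ⧸ W) ≃ₗ[R] M ⧸ J :=
      (Submodule.quotEquivOfEq _ _ hmap.symm) ≪≫ₗ Submodule.quotientQuotientEquivQuotient N J hNJ
    have hlt : N < J := by
      obtain ⟨y, hy⟩ := Submodule.mkQ_surjective N x
      refine lt_of_le_of_ne hNJ (fun h => ?_)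
      have hyJ : y ∈ J := by
        change N.mkQ y ∈ W
        rw [hy]
        exact ⟨1, LinearMap.toSpanSingleton_apply_one R (M ⧸ N) x⟩
      rw [← h] at hyJ
      have hx0 : x = 0 := by
        rw [← hy]
        exact (Submodule.Quotient.mk_eq_zero N).2 hyJ
      have h1 : (1 : R) ∈ maximalIdeal R := by
        rw [hx', Submodule.mem_colon_singleton, hx0, smul_zero]
        exact Submodule.zero_mem _
      exact (Ideal.ne_top_iff_one _).1 (maximalIdeal.isMaximal R).ne_top h1
    have hP2 : P R (ModuleCat.of R (M ⧸ N)) := ⟨inferInstance, hsuppQ⟩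
    have hP1 : P R (ModuleCat.of R (LinearMap.ker g)) :=
      ⟨Module.Finite.of_injective (LinearMap.ker g).subtype (Submodule.injective_subtype _),
        (Module.support_subset_of_injective (LinearMap.ker g).subtype
          (Submodule.injective_subtype _)).trans hsuppQ⟩
    have hP3 : P R (ModuleCat.of R ((M ⧸ N) ⧸ W)) :=
      ⟨inferInstance,
        (Module.support_subset_of_surjective W.mkQ (Submodule.mkQ_surjective W)).trans hsuppQ⟩
    have hadd : KZero.clSub (P R) (ModuleCat.of R (M ⧸ N)) =
        KZero.clSub (P R) (ModuleCat.of R (LinearMap.ker g)) +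
          KZero.clSub (P R) (ModuleCat.of R ((M ⧸ N) ⧸ W)) :=
      K0Der.clSub_ses (P R) _ hS hP1 hP2 hP3
    have h1 : KZero.clSub (P R) (ModuleCat.of R (LinearMap.ker g)) =
        KZero.clSub (P R) (ModuleCat.of R (R ⧸ maximalIdeal R)) :=
      (K0Der.clSub_iso (P R) e₁.toModuleIso).symm
    have h3 : KZero.clSub (P R) (ModuleCat.of R ((M ⧸ N) ⧸ W)) =
        KZero.clSub (P R) (ModuleCat.of R (M ⧸ J)) :=
      K0Der.clSub_iso (P R) e₃.toModuleIso
    rw [hadd, h1, h3]
    exact add_mem (AddSubgroup.subset_closure (Set.mem_singleton _)) (ih J hlt)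

lemma clSub_mem (X : ModuleCat.{u} R) (hX : P R X) :
    KZero.clSub (P R) X ∈
      AddSubgroup.closure {KZero.clSub (P R) (ModuleCat.of R (R ⧸ maximalIdeal R))} := by
  obtain ⟨h1, h2⟩ := hX
  haveI := h1
  have h := clSub_quot_mem (R := R) X h2 ⊥
  have e : ModuleCat.of R (X ⧸ (⊥ : Submodule R X)) ≅ X :=
    (Submodule.quotEquivOfEqBot (⊥ : Submodule R X) rfl).toModuleIso
  rwa [K0Der.clSub_iso (P R) e] at h

lemma closure_eq_top :
    AddSubgroup.closure {KZero.clSub (P R) (ModuleCat.of R (R ⧸ maximalIdeal R))} = ⊤ := by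
  rw [eq_top_iff]
  rintro z -
  obtain ⟨y, rfl⟩ := QuotientAddGroup.mk_surjective z
  induction y using FreeAbelianGroup.induction_on with
  | zero => exact zero_mem _
  | of x =>
    obtain ⟨K, hK⟩ := x
    have h := clSub_mem K hK
    unfold KZero.clSub at h
    rwa [dif_pos hK] at h
  | neg x hx => exact neg_mem hx
  | add x y hx hy => exact add_mem hx hy

variable (R)

omit [IsNoetherianRing R] in
lemma koszul_iso (fs : List R) (hreg : RingTheory.Sequence.IsRegular R fs)
    (hgen : Ideal.ofList fs = maximalIdeal R) :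
    Nonempty (DRing.toD (Koszul.koszul R fs) ≅
      (DerivedCategory.singleFunctor (ModuleCat.{u} R) 0).obj
        (ModuleCat.of R (R ⧸ maximalIdeal R))) := by
  have hH : ∀ i : ℤ, i ≠ 0 → IsZero ((Koszul.koszul R fs).homology i) :=
    Groth.Agent.Lib.Helper1.SecReg.isKoszulRegularSeq_of_isWeaklyRegular fs
      hreg.toIsWeaklyRegular
  have hfac : ∀ i : ℤ, (DerivedCategory.homologyFunctor (ModuleCat.{u} R) i).obj
      (DerivedCategory.Q.obj (Koszul.koszul R fs)) ≅ (Koszul.koszul R fs).homology i :=
    fun i => (DerivedCategory.homologyFunctorFactors (ModuleCat.{u} R) i).app (Koszul.koszul R fs)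
  haveI : (DerivedCategory.Q.obj (Koszul.koszul R fs)).IsGE 0 :=
    (DerivedCategory.isGE_iff _ 0).2 (fun i hi => (hH i hi.ne).of_iso (hfac i))
  haveI : (DerivedCategory.Q.obj (Koszul.koszul R fs)).IsLE 0 :=
    (DerivedCategory.isLE_iff _ 0).2 (fun i hi => (hH i hi.ne').of_iso (hfac i))
  obtain ⟨Y, ⟨e⟩⟩ := DerivedCategory.exists_iso_singleFunctor_obj_of_isGE_of_isLE
    (DerivedCategory.Q.obj (Koszul.koszul R fs)) 0
  have h0 := Groth.Agent.Lib.Helper1.KoszulConcat.nonempty_h0_iso fs
  rw [← Groth.Agent.Lib.Helper14.KoszulFun.koszul_eq_koszulCx R fs, hgen] at h0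
  obtain ⟨e0⟩ := h0
  have eY : Y ≅ ModuleCat.of R (R ⧸ maximalIdeal R) :=
    ((DerivedCategory.singleFunctorCompHomologyFunctorIso (ModuleCat.{u} R) 0).app Y).symm ≪≫
      (DerivedCategory.homologyFunctor (ModuleCat.{u} R) 0).mapIso e.symm ≪≫ hfac 0 ≪≫ e0.symm
  exact ⟨e ≪≫ (DerivedCategory.singleFunctor (ModuleCat.{u} R) 0).mapIso eY⟩

theorem main (fs : List R) (hreg : RingTheory.Sequence.IsRegular R fs)
    (hgen : Ideal.ofList fs = maximalIdeal R) :
    AddSubgroup.closure
        {KZero.clTr (fun K : Dual.D R => DRing.IsPerfect R K ∧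
            ∀ i : ℤ, Module.support R (Dual.HD R K i) ⊆ {IsLocalRing.closedPoint R})
          (DRing.toD (Koszul.koszul R fs))} = ⊤ := by
  haveI hR : IsRegularLocalRing R := isRegularLocalRing_of_isRegular R fs hreg hgen
  have hregp : ∀ p : PrimeSpectrum R, IsRegularLocalRing (Localization.AtPrime p.asIdeal) :=
    fun p => Groth.Agent.Lib.Helper26.RegularRing.isRegularLocalRing_localization_atPrime R
      p.asIdeal
  let Q : ObjectProperty (DerivedCategory (ModuleCat.{u} R)) := fun K => DRing.IsPerfect R K ∧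
    ∀ i : ℤ, Module.support R (Dual.HD R K i) ⊆ {IsLocalRing.closedPoint R}
  have hQ : ∀ K, Q K ↔
      (∀ i, P R ((DerivedCategory.homologyFunctor (ModuleCat.{u} R) i).obj K)) ∧
        K0Der.Bdd K := by
    intro K
    constructor
    · rintro ⟨h1, h2⟩
      obtain ⟨⟨a, b, hab⟩, hfin⟩ :=
        (Groth.Agent.Lib.Helper18.DR.isPerfect_iff_bounded_finite_homology_of_regular R hregp
          K).1 h1
      have hb : K0Der.Bdd K := by
        unfold K0Der.Bdd
        refine ⟨a, b, (DerivedCategory.isGE_iff K a).2 (fun i hi => ?_),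
          (DerivedCategory.isLE_iff K b).2 (fun i hi => ?_)⟩
        · haveI := hab i (Or.inl hi)
          exact ModuleCat.isZero_of_subsingleton _
        · haveI := hab i (Or.inr hi)
          exact ModuleCat.isZero_of_subsingleton _
      exact ⟨fun i => ⟨hfin i, h2 i⟩, hb⟩
    · rintro ⟨h1, a, b, hGE, hLE⟩
      haveI := hGE
      haveI := hLE
      refine ⟨(Groth.Agent.Lib.Helper18.DR.isPerfect_iff_bounded_finite_homology_of_regular R
        hregp K).2 ⟨⟨a, b, fun i hi => ?_⟩, fun i => (h1 i).1⟩, fun i => (h1 i).2⟩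
      have hz : IsZero ((DerivedCategory.homologyFunctor (ModuleCat.{u} R) i).obj K) :=
        hi.elim (fun h => K.isZero_of_isGE a i h) (fun h => K.isZero_of_isLE b i h)
      exact ModuleCat.subsingleton_of_isZero hz
  obtain ⟨φ, hφ⟩ := K0Der.main (P R) Q hQ
  have hk : P R (ModuleCat.of R (R ⧸ maximalIdeal R)) := by
    refine ⟨Module.Finite.of_surjective (Submodule.mkQ _) (Submodule.mkQ_surjective _), ?_⟩
    intro p hp
    have h1 := Module.annihilator_le_of_mem_support hp
    rw [Ideal.annihilator_quotient] at h1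
    have h2 : maximalIdeal R = p.asIdeal :=
      (maximalIdeal.isMaximal R).eq_of_le p.2.ne_top h1
    exact Set.mem_singleton_iff.2 (PrimeSpectrum.ext h2.symm)
  obtain ⟨e⟩ := koszul_iso R fs hreg hgen
  have hQk : Q ((DerivedCategory.singleFunctor (ModuleCat.{u} R) 0).obj
      (ModuleCat.of R (R ⧸ maximalIdeal R))) := K0Der.Q_single (P R) Q hQ 0 _ hk
  have hQK : Q (DRing.toD (Koszul.koszul R fs)) := K0Der.Q_iso (P R) Q hQ e.symm hQk
  have hcl := K0Der.clTr_iso Q e hQK hQk (K0Der.Q_zero (P R) Q hQ)
  change AddSubgroup.closure {KZero.clTr Q (DRing.toD (Koszul.koszul R fs))} = ⊤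
  rw [hcl, ← hφ _ hk, eq_top_iff]
  rintro z -
  obtain ⟨w, rfl⟩ := φ.surjective z
  have hw : w ∈ AddSubgroup.closure
      {KZero.clSub (P R) (ModuleCat.of R (R ⧸ maximalIdeal R))} := by
    rw [closure_eq_top]
    trivial
  have h := AddSubgroup.mem_map_of_mem φ.toAddMonoidHom hw
  rw [AddMonoidHom.map_closure, Set.image_singleton] at h
  exact h

end Groth.Agent.Lib.Helper13.K0Koszul
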