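import Mathlib
import Groth.Agent.S3200
import Groth.Agent.Lib.Helper2.K0Res.Resolution
import Groth.Agent.Lib.Helper13.PerfLocal
import Groth.Agent.Lib.Helper13.RegK0

/-!
# Finite locally free resolutions and `K₀` (helper13)

On a locally Noetherian scheme with enough locally frees, a coherent module admits a finite
resolution by finite locally free modules iff the projective dimensions of its stalks are
uniformly bounded.  Consequence: `K₀(vector bundles) ≅ K₀(coherent modules with a finite locally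
free resolution)` through the abstract resolution theorem `S3200`.
-/

set_option autoImplicit false
set_option backward.isDefEq.respectTransparency false
universe u

namespace Groth.Agent.Lib.Helper13.LFRes

open CategoryTheory CategoryTheory.Limits AlgebraicGeometry
open AlgebraicGeometry.Scheme.Modules
open Groth.Agent.Lib.Helper1 Groth.Agent.Lib.Helper2 Groth.Agent.Lib.Helper3
  Groth.Agent.Lib.Helper13 Groth.Agent.Lib.Helper17
open Groth.Agent.Lib.Helper13.StalkPd Groth.Agent.Lib.Helper13.RegK0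

variable {X : Scheme.{u}}

lemma pdLT_one_of_isZero {G : X.Modules} (hG : IsZero G) (x : X) : PdLT G x 1 :=
  pdLT_one_of_isFinLocFree G (PerfLocal.isFinLocFree_of_isZero hG) x

/-- the augmentation of a resolution is a quasi-isomorphism -/
lemma quasiIso_of_isRes {P₀ : ObjectProperty X.Modules} {L : ChainComplex X.Modules ℕ}
    {A : X.Modules} {ε : L.X 0 ⟶ A} (h : K0Res.IsRes P₀ L A ε) :
    QuasiIso ((ChainComplex.toSingle₀Equiv L A).symm ⟨ε, h.w⟩) := by
  refine ⟨fun n => ?_⟩
  cases n with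
  | zero =>
    rw [ChainComplex.quasiIsoAt₀_iff,
      ShortComplex.quasiIso_iff_of_zeros' _ (L.shape _ _ (by simp)) (by rfl) (by rfl)]
    refine (ShortComplex.exact_and_epi_g_iff_of_iso ?_).2 ⟨h.exact_zero, h.epi⟩
    exact ShortComplex.isoMk (Iso.refl _) (Iso.refl _) (Iso.refl _) (by simp) (by simp)
  | succ n =>
    rw [quasiIsoAt_iff_exactAt' _ _ (ChainComplex.exactAt_succ_single_obj A n)]
    exact h.exactAt (n + 1) (by omega)

lemma hasLFRes_of_isRes {L : ChainComplex X.Modules ℕ} {A : X.Modules} {ε : L.X 0 ⟶ A}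
    (h : K0Res.IsRes (KRR.vbP X) L A ε) (n : ℕ) (hz : ∀ i, n < i → IsZero (L.X i)) :
    KRR.HasLFRes A :=
  ⟨n, L, (ChainComplex.toSingle₀Equiv L A).symm ⟨ε, h.w⟩, ⟨h.mem, hz, quasiIso_of_isRes h⟩⟩

/-- a coherent module with uniformly bounded stalkwise projective dimension has a finite
resolution by finite locally free modules -/
theorem exists_isRes [IsLocallyNoetherian X] (hX : KRR.HasEnoughLocFree X) :
    ∀ (d : ℕ) (A : X.Modules), Coh.IsCoh A → (∀ x, PdLT A x (d + 1)) →
      ∃ (L : ChainComplex X.Modules ℕ) (ε : L.X 0 ⟶ A),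
        K0Res.IsRes (KRR.vbP X) L A ε ∧ ∀ i, d < i → IsZero (L.X i) := by
  intro d
  induction d with
  | zero =>
    intro A hA hpd
    have hlf : FlatMod.IsFinLocFree A := isFinLocFree_of_pdLT_one A hA hpd
    have hz : ∀ i : ℕ, 0 < i → IsZero (((ChainComplex.single₀ X.Modules).obj A).X i) :=
      fun i hi => HomologicalComplex.isZero_single_obj_X (ComplexShape.down ℕ) 0 A i (by omega)
    refine ⟨(ChainComplex.single₀ X.Modules).obj A,
      (HomologicalComplex.singleObjXSelf (ComplexShape.down ℕ) 0 A).hom, ?_, hz⟩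
    have hw : ((ChainComplex.single₀ X.Modules).obj A).d 1 0 ≫
        (HomologicalComplex.singleObjXSelf (ComplexShape.down ℕ) 0 A).hom = 0 :=
      (hz 1 (by omega)).eq_of_src _ _
    refine ⟨fun i => ?_, fun n => ShortComplex.exact_of_isZero_X₂ _ (hz (n + 1) (by omega)),
      hw, ?_, inferInstance⟩
    · cases i with
      | zero =>
        exact LocFreeCrit.isFinLocFree_of_iso
          (HomologicalComplex.singleObjXSelf (ComplexShape.down ℕ) 0 A).symm hlf
      | succ i => exact PerfLocal.isFinLocFree_of_isZero (hz (i + 1) (by omega))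
    · rw [ShortComplex.exact_iff_mono _ ((hz 1 (by omega)).eq_of_src _ _)]
      dsimp
      infer_instance
  | succ d ih =>
    intro A hA hpd
    obtain ⟨E, p, hE, hp⟩ := hX A hA
    haveI := hp
    let T : ShortComplex X.Modules := ShortComplex.mk (kernel.ι p) p (kernel.condition _)
    have hT : T.ShortExact :=
      { exact := ShortComplex.exact_of_f_is_kernel T (kernelIsKernel _)
        mono_f := by dsimp [T]; infer_instance
        epi_g := by dsimp [T]; infer_instance }
    have hK : Coh.IsCoh (kernel p) := coh_kernel p (coh_of_lf hE) hA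
    have hKpd : ∀ x, PdLT (kernel p) x (d + 1) := fun x =>
      pdLT_X₁ T hT x (d + 1) ((pdLT_one_of_isFinLocFree E hE x).mono (by omega)) (hpd x)
    obtain ⟨M, ε, hM, hz⟩ := ih (kernel p) hK hKpd
    have wM : M.d 1 0 ≫ ε ≫ kernel.ι p = 0 := by rw [← Category.assoc, hM.w, zero_comp]
    refine ⟨ChainComplex.augment M (ε ≫ kernel.ι p) wM, p,
      K0Res.isRes_augment hM (kernel.ι p) p (kernel.condition p) hT hE wM, ?_⟩
    intro i hi
    obtain ⟨i', rfl⟩ : ∃ i', i = i' + 1 := ⟨i - 1, by omega⟩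
    exact hz i' (by omega)

/-- in a bounded resolution, the projective dimension of the stalks of the cycles is bounded -/
theorem pdLT_of_isZero_above (L : ChainComplex X.Modules ℕ)
    (hL : ∀ i, FlatMod.IsFinLocFree (L.X i)) (hex : ∀ i, 1 ≤ i → L.ExactAt i) (x : X) :
    ∀ (k i : ℕ), (∀ l, i + k < l → IsZero (L.X l)) →
      PdLT (kernel (L.d (i + 1) i)) x (k + 1) := by
  intro k
  induction k with
  | zero =>
    intro i hz
    have h0 : IsZero (kernel (L.d (i + 1) i)) :=
      IsZero.of_mono (kernel.ι _) (hz (i + 1) (by omega))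
    exact pdLT_one_of_isZero h0 x
  | succ k ih =>
    intro i hz
    have hZ : PdLT (kernel (L.d (i + 1 + 1) (i + 1))) x (k + 1) :=
      ih (i + 1) (fun l hl => hz l (by omega))
    have hT : (L.sc' (i + 2) (i + 1) i).Exact :=
      (L.exactAt_iff' (i + 2) (i + 1) i (by simp) (by simp)).1 (hex (i + 1) (by omega))
    have hU := K0Der.ses_of_exact _ hT
    exact pdLT_X₃ _ hU x (k + 1) hZ
      ((pdLT_one_of_isFinLocFree _ (hL (i + 2)) x).mono (by omega))

theorem pdLT_of_lfres (L : ChainComplex X.Modules ℕ)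
    (hL : ∀ i, FlatMod.IsFinLocFree (L.X i)) (hex : ∀ i, 1 ≤ i → L.ExactAt i) {A : X.Modules}
    (e : L.homology 0 ≅ A) (n : ℕ) (hz : ∀ i, n < i → IsZero (L.X i)) (x : X) :
    PdLT A x (n + 2 + 1) := by
  have hZ1 : PdLT (kernel (L.d 1 0)) x (n + 1) :=
    pdLT_of_isZero_above L hL hex x n 0 (fun l hl => hz l (by omega))
  let T₀ : ShortComplex X.Modules :=
    ShortComplex.mk (L.d 1 0) (L.pOpcycles 0) (L.d_pOpcycles 1 0)
  have hT₀ : T₀.Exact :=
    ShortComplex.exact_of_g_is_cokernel T₀ (L.opcyclesIsCokernel 1 0 (by simp))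
  have hU := K0Der.ses_of_exact T₀ hT₀
  have hB : PdLT (kernel (L.pOpcycles 0)) x (n + 1 + 1) :=
    pdLT_X₃ _ hU x (n + 1) hZ1 ((pdLT_one_of_isFinLocFree _ (hL 1) x).mono (by omega))
  let T₁ : ShortComplex X.Modules :=
    ShortComplex.mk (kernel.ι (L.pOpcycles 0)) (L.pOpcycles 0) (kernel.condition _)
  have hT₁ : T₁.ShortExact :=
    { exact := ShortComplex.exact_of_f_is_kernel T₁ (kernelIsKernel _)
      mono_f := by dsimp [T₁]; infer_instance
      epi_g := by dsimp [T₁]; infer_instance }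
  have hO : PdLT (L.opcycles 0) x (n + 2 + 1) :=
    pdLT_X₃ T₁ hT₁ x (n + 2) hB ((pdLT_one_of_isFinLocFree _ (hL 0) x).mono (by omega))
  exact pdLT_of_iso ((ChainComplex.isoHomologyι₀ L).symm ≪≫ e) x _ hO

/-- finite locally free resolutions exist iff the stalkwise projective dimension is bounded -/
theorem hasLFRes_iff [IsLocallyNoetherian X] (hX : KRR.HasEnoughLocFree X) (A : X.Modules)
    (hA : Coh.IsCoh A) : KRR.HasLFRes A ↔ ∃ d : ℕ, ∀ x, PdLT A x (d + 1) := by
  constructor
  · rintro ⟨n, L, π, hres⟩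
    haveI := hres.quasiIso
    have hex : ∀ i, 1 ≤ i → L.ExactAt i := by
      intro i hi
      obtain ⟨i', rfl⟩ : ∃ i', i = i' + 1 := ⟨i - 1, by omega⟩
      exact (quasiIsoAt_iff_exactAt' π (i' + 1)
        (ChainComplex.exactAt_succ_single_obj A i')).1 inferInstance
    have e : L.homology 0 ≅ A := isoOfQuasiIsoAt π 0 ≪≫
      HomologicalComplex.singleObjHomologySelfIso (ComplexShape.down ℕ) 0 A
    exact ⟨n + 2, fun x => pdLT_of_lfres L hres.finLocFree hex e n hres.isZero x⟩
  · rintro ⟨d, hd⟩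
    obtain ⟨L, ε, hL, hz⟩ := exists_isRes hX d A hA hd
    exact hasLFRes_of_isRes hL d hz

/-- `K₀(vector bundles) ≅ K₀(coherent modules with a finite locally free resolution)` -/
theorem Kvb_bijective (X : Scheme.{u}) [IsNoetherian X] (hX : KRR.HasEnoughLocFree X)
    (h : ∀ M : X.Modules, FlatMod.IsFinLocFree M → Coh.IsCoh M ∧ KRR.HasLFRes M) :
    Function.Bijective (SGA6.mapSub (𝟭 X.Modules) (KRR.vbP X)
      (fun M : X.Modules => Coh.IsCoh M ∧ KRR.HasLFRes M) h) := by
  haveI : IsLocallyNoetherian X := inferInstance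
  have key : ∀ M : X.Modules, (Coh.IsCoh M ∧ KRR.HasLFRes M) ↔
      (Coh.IsCoh M ∧ ∃ d : ℕ, ∀ x, PdLT M x (d + 1)) :=
    fun M => and_congr_right (fun hM => hasLFRes_iff hX M hM)
  haveI : (KRR.vbP X).IsClosedUnderIsomorphisms :=
    ⟨fun {M N} e h => LocFreeCrit.isFinLocFree_of_iso e h⟩
  haveI : ObjectProperty.IsClosedUnderIsomorphisms
      (fun M : X.Modules => Coh.IsCoh M ∧ KRR.HasLFRes M) :=
    ⟨fun {M N} e hM => by
      obtain ⟨hc, d, hd⟩ := (key M).1 hM
      exact (key N).2 ⟨coh_of_iso e hc, d, fun x => pdLT_of_iso e x _ (hd x)⟩⟩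
  refine Groth.Agent.S3200.result (KRR.vbP X)
    (fun M : X.Modules => Coh.IsCoh M ∧ KRR.HasLFRes M) h ?_ ?_ ?_ ?_ ?_ ?_
  · intro S hS h1 h3
    exact isFinLocFree_of_pdLT_one _ (coh_ext S hS (h _ h1).1 (h _ h3).1)
      (fun x => pdLT_X₂ S hS x 1 (pdLT_one_of_isFinLocFree _ h1 x)
        (pdLT_one_of_isFinLocFree _ h3 x))
  · intro S hS h1 h3
    obtain ⟨hc1, d1, hd1⟩ := (key _).1 h1
    obtain ⟨hc3, d3, hd3⟩ := (key _).1 h3
    exact (key _).2 ⟨coh_ext S hS hc1 hc3, max d1 d3, fun x =>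
      pdLT_X₂ S hS x _ ((hd1 x).mono (by have := le_max_left d1 d3; omega))
        ((hd3 x).mono (by have := le_max_right d1 d3; omega))⟩
  · intro S hS h2 h3
    exact isFinLocFree_of_pdLT_one _ (coh_X₁ S hS (h _ h2).1 (h _ h3).1)
      (fun x => pdLT_X₁ S hS x 1 (pdLT_one_of_isFinLocFree _ h2 x)
        ((pdLT_one_of_isFinLocFree _ h3 x).mono (by omega)))
  · intro S hS h2 h3
    obtain ⟨hc2, d2, hd2⟩ := (key _).1 h2
    obtain ⟨hc3, d3, hd3⟩ := (key _).1 h3
    exact (key _).2 ⟨coh_X₁ S hS hc2 hc3, max d2 d3, fun x =>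
      pdLT_X₁ S hS x (max d2 d3 + 1) ((hd2 x).mono (by have := le_max_left d2 d3; omega))
        ((hd3 x).mono (by have := le_max_right d2 d3; omega))⟩
  · intro A B D u v hu hA hB hD
    haveI := hu
    obtain ⟨L, p, hL, hp⟩ := hX (pullback u v) (coh_pullback u v hA.1 hB.1 hD.1)
    haveI := hp
    refine ⟨L, p ≫ pullback.snd u v, p ≫ pullback.fst u v, hL, epi_comp _ _, ?_⟩
    rw [Category.assoc, Category.assoc, pullback.condition]
  · intro A hA
    obtain ⟨hc, d, hd⟩ := (key A).1 hA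
    refine ⟨d, fun L hL hex he => ?_⟩
    obtain ⟨e⟩ := he
    exact isFinLocFree_cycles L hL hex e d hd

end Groth.Agent.Lib.Helper13.LFRes
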