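import Mathlib
import Groth.Agent.Lib.Helper13.ExtPresheaf
import Groth.Agent.Lib.Helper13.ExtShift

/-!
# The degenerate case of the Grothendieck spectral sequence, by hand

* `exists_cycle_lift`, `exists_boundary_lift`: for a cochain complex `K` whose terms and cohomology
  objects are `Hom(A, -)`-acyclic, morphisms from `A` to cohomology lift to cycles, and cycles which
  are cohomologous to zero are boundaries of maps from `A`.
* `extEquiv`: for an adjunction `L ⊣ G` and an injective resolution `I` of `F` such that the terms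
  and the cohomology of `G I` are `Hom(A, -)`-acyclic, `Ext^q(L A, F) ≃+ Hom(A, H^q(G I))`.
* `nonempty_extEquiv`: `Ext^q(L A, F) ≃+ Hom(A, R^q G F)`.
-/
set_option autoImplicit false
universe w w' v v' u u'
open CategoryTheory CategoryTheory.Limits CategoryTheory.Abelian

noncomputable section

namespace Groth.Agent.Lib.Helper13.LerayDeg

open ExtPresheaf

section Cx

variable {𝒴 : Type u} [Category.{v} 𝒴] [Abelian 𝒴] [HasExt.{w} 𝒴]
  (K : CochainComplex 𝒴 ℕ) (A : 𝒴)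

/-- `0 ⟶ B^n ⟶ Z^n ⟶ H^n ⟶ 0`. -/
abbrev Sb (n : ℕ) : ShortComplex 𝒴 := ShortComplex.kernelSequence (K.homologyπ n)

omit [HasExt.{w} 𝒴] in
lemma Sb_shortExact (n : ℕ) : (Sb K n).ShortExact :=
  ShortComplex.ShortExact.mk' (ShortComplex.kernelSequence_exact _) inferInstance
    (inferInstanceAs (Epi (K.homologyπ n)))

/-- `K^n ⟶ B^{n+1}`. -/
def toB (n : ℕ) : K.X n ⟶ kernel (K.homologyπ (n + 1)) :=
  kernel.lift _ (K.toCycles n (n + 1)) (K.toCycles_comp_homologyπ n (n + 1))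

omit [HasExt.{w} 𝒴] in
@[reassoc (attr := simp)]
lemma toB_ι (n : ℕ) : toB K n ≫ kernel.ι (K.homologyπ (n + 1)) = K.toCycles n (n + 1) :=
  kernel.lift_ι _ _ _

omit [HasExt.{w} 𝒴] in
lemma iCycles_toB (n : ℕ) : K.iCycles n ≫ toB K n = 0 := by
  rw [← cancel_mono (kernel.ι (K.homologyπ (n + 1))), Category.assoc, toB_ι, zero_comp,
    ← cancel_mono (K.iCycles (n + 1)), Category.assoc, K.toCycles_i, K.iCycles_d, zero_comp]

/-- `0 ⟶ Z^n ⟶ K^n ⟶ B^{n+1} ⟶ 0`. -/
abbrev Sa (n : ℕ) : ShortComplex 𝒴 := ShortComplex.mk (K.iCycles n) (toB K n) (iCycles_toB K n)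

omit [HasExt.{w} 𝒴] in
lemma Sa_shortExact (n : ℕ) : (Sa K n).ShortExact := by
  have hex : (Sa K n).Exact := by
    apply ShortComplex.exact_of_f_is_kernel
    exact isKernelOfComp (f := toB K n)
      (kernel.ι (K.homologyπ (n + 1)) ≫ K.iCycles (n + 1)) (K.d n (n + 1))
      (K.cyclesIsKernel n (n + 1) (by simp)) (iCycles_toB K n) (by
        rw [← Category.assoc, toB_ι, K.toCycles_i])
  have hepi : Epi (toB K n) := by
    have h : (ShortComplex.mk (K.toCycles n (n + 1)) (K.homologyπ (n + 1))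
        (K.toCycles_comp_homologyπ n (n + 1))).Exact :=
      ShortComplex.exact_of_g_is_cokernel _ (K.homologyIsCokernel n (n + 1) (by simp))
    exact (ShortComplex.exact_iff_epi_kernel_lift _).1 h
  exact ShortComplex.ShortExact.mk' hex (inferInstanceAs (Mono (K.iCycles n))) hepi

lemma ext_eq_zero_of_isZero {B : 𝒴} (hB : IsZero B) {n : ℕ} (x : Ext A B n) : x = 0 := by
  rw [← Ext.comp_mk₀_id x, hB.eq_of_src (𝟙 B) 0, Ext.mk₀_zero, Ext.comp_zero]

variable (h1 : ∀ (n p : ℕ) (x : Ext A (K.X n) (p + 1)), x = 0)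
  (h2 : ∀ (n p : ℕ) (x : Ext A (K.homology n) (p + 1)), x = 0)

include h2 in
lemma ext_Z_of_B (n : ℕ) (hQ : ∀ (p : ℕ) (x : Ext A (kernel (K.homologyπ n)) (p + 1)), x = 0)
    (p : ℕ) (x : Ext A (K.cycles n) (p + 1)) : x = 0 := by
  obtain ⟨x₁, rfl⟩ := Ext.covariant_sequence_exact₂ A (Sb_shortExact K n) x (h2 n p _)
  have hx₁ : x₁ = 0 := hQ p x₁
  rw [hx₁, Ext.zero_comp]
  rfl

include h1 h2 in
lemma ext_B_Z (n : ℕ) :
    (∀ (p : ℕ) (x : Ext A (kernel (K.homologyπ n)) (p + 1)), x = 0) ∧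
      (∀ (p : ℕ) (x : Ext A (K.cycles n) (p + 1)), x = 0) := by
  induction n with
  | zero =>
    have hB : IsZero (kernel (K.homologyπ 0)) := isZero_kernel_of_mono _
    have hQ : ∀ (p : ℕ) (x : Ext A (kernel (K.homologyπ 0)) (p + 1)), x = 0 := fun p x =>
      ext_eq_zero_of_isZero A hB x
    exact ⟨hQ, ext_Z_of_B K A h2 0 hQ⟩
  | succ n ih =>
    have hQ : ∀ (p : ℕ) (x : Ext A (kernel (K.homologyπ (n + 1))) (p + 1)), x = 0 := by
      intro p x
      obtain ⟨x₂, rfl⟩ := Ext.covariant_sequence_exact₃ A (Sa_shortExact K n) x rfl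
        (ih.2 (p + 1) _)
      have hx₂ : x₂ = 0 := h1 n p x₂
      rw [hx₂, Ext.zero_comp]
    exact ⟨hQ, ext_Z_of_B K A h2 (n + 1) hQ⟩

include h1 h2 in
lemma exists_cycle_lift (q : ℕ) (φ : A ⟶ K.homology q) :
    ∃ z : A ⟶ K.cycles q, z ≫ K.homologyπ q = φ :=
  ExtShift.exists_lift (Sb_shortExact K q) A
    ⟨fun x y => ((ext_B_Z K A h1 h2 q).1 0 x).trans ((ext_B_Z K A h1 h2 q).1 0 y).symm⟩ φ

include h1 h2 in
lemma exists_boundary_lift (q : ℕ) (z : A ⟶ K.cycles (q + 1))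
    (hz : z ≫ K.homologyπ (q + 1) = 0) :
    ∃ k : A ⟶ K.X q, k ≫ K.toCycles q (q + 1) = z := by
  obtain ⟨k, hk⟩ := ExtShift.exists_lift (Sa_shortExact K q) A
    ⟨fun x y => ((ext_B_Z K A h1 h2 q).2 0 x).trans ((ext_B_Z K A h1 h2 q).2 0 y).symm⟩
    (kernel.lift _ z hz)
  refine ⟨k, ?_⟩
  have hk' : k ≫ toB K q = kernel.lift _ z hz := hk
  rw [← toB_ι, ← Category.assoc, hk', kernel.lift_ι]

end Cx

section Adj

variable {𝒳 : Type u} [Category.{v} 𝒳] [Abelian 𝒳] [HasExt.{w} 𝒳]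
  {𝒴 : Type u'} [Category.{v'} 𝒴] [Abelian 𝒴] [HasExt.{w'} 𝒴]
  {L : 𝒴 ⥤ 𝒳} {G : 𝒳 ⥤ 𝒴} (adj : L ⊣ G) [G.Additive] [L.Additive]
  {F : 𝒳} (I : InjectiveResolution F) (A : 𝒴)

/-- the complex `G I`. -/
abbrev Kc (G : 𝒳 ⥤ 𝒴) [G.Additive] : CochainComplex 𝒴 ℕ :=
  (G.mapHomologicalComplex _).obj I.cocomplex

/-- the cocycles of `Hom(L A, I^•)` in degree `q`. -/
def Zq (L : 𝒴 ⥤ 𝒳) (q : ℕ) : AddSubgroup (L.obj A ⟶ I.cocomplex.X q) where
  carrier := {g | g ≫ I.cocomplex.d q (q + 1) = 0}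
  zero_mem' := zero_comp
  add_mem' {a b} ha hb := by
    change (a + b) ≫ _ = 0
    rw [Preadditive.add_comp, ha, hb, add_zero]
  neg_mem' {a} ha := by
    change (-a) ≫ _ = 0
    rw [Preadditive.neg_comp, ha, neg_zero]

/-- the class of a cocycle. -/
def em (L : 𝒴 ⥤ 𝒳) (q : ℕ) : Zq I A L q →+ Ext (L.obj A) F q where
  toFun g := I.extMk g.1 (q + 1) rfl g.2
  map_zero' := I.extMk_zero (q + 1) rfl
  map_add' a b := (I.add_extMk a.1 b.1 (q + 1) rfl a.2 b.2).symm

lemma em_surjective (L : 𝒴 ⥤ 𝒳) (q : ℕ) : Function.Surjective (em I A L q) := fun ξ => by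
  obtain ⟨g, hg, rfl⟩ := I.extMk_surjective ξ (q + 1) rfl
  exact ⟨⟨g, hg⟩, rfl⟩

/-- the adjunction bijection `Hom(L A, I^n) ≃+ Hom(A, (G I)^n)`. -/
def adjK (n : ℕ) : (L.obj A ⟶ I.cocomplex.X n) ≃+ (A ⟶ (Kc I G).X n) :=
  adj.homAddEquiv A (I.cocomplex.X n)

omit [HasExt.{w} 𝒳] [HasExt.{w'} 𝒴] in
lemma adjK_d (n m : ℕ) (g : L.obj A ⟶ I.cocomplex.X n) :
    adjK adj I A n g ≫ (Kc I G).d n m = adjK adj I A m (g ≫ I.cocomplex.d n m) :=
  (adj.homEquiv_naturality_right g (I.cocomplex.d n m)).symm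

omit [HasExt.{w} 𝒳] [HasExt.{w'} 𝒴] in
lemma adj_cocycle (q : ℕ) (g : Zq I A L q) :
    adjK adj I A q g.1 ≫ (Kc I G).d q (q + 1) = 0 := by
  rw [adjK_d, g.2, map_zero]

/-- the cycle of `G I` attached to a cocycle. -/
def lc (q : ℕ) (g : Zq I A L q) : A ⟶ (Kc I G).cycles q :=
  (Kc I G).liftCycles (adjK adj I A q g.1) (q + 1) (by simp) (adj_cocycle adj I A q g)

omit [HasExt.{w} 𝒳] [HasExt.{w'} 𝒴] in
@[reassoc (attr := simp)]
lemma lc_i (q : ℕ) (g : Zq I A L q) :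
    lc adj I A q g ≫ (Kc I G).iCycles q = adjK adj I A q g.1 :=
  (Kc I G).liftCycles_i _ _ _ _

/-- the cohomology class in `G I` of a cocycle. -/
def Φ (q : ℕ) : Zq I A L q →+ (A ⟶ (Kc I G).homology q) where
  toFun g := lc adj I A q g ≫ (Kc I G).homologyπ q
  map_zero' := by
    have : lc adj I A q 0 = 0 := by
      rw [← cancel_mono ((Kc I G).iCycles q), lc_i, zero_comp]
      exact (adjK adj I A q).map_zero
    rw [this, zero_comp]
  map_add' a b := by
    have : lc adj I A q (a + b) = lc adj I A q a + lc adj I A q b := by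
      rw [← cancel_mono ((Kc I G).iCycles q), Preadditive.add_comp, lc_i, lc_i, lc_i]
      exact (adjK adj I A q).map_add a.1 b.1
    rw [this, Preadditive.add_comp]

variable (h1 : ∀ (n p : ℕ) (x : Ext A ((Kc I G).X n) (p + 1)), x = 0)
  (h2 : ∀ (n p : ℕ) (x : Ext A ((Kc I G).homology n) (p + 1)), x = 0)

include h1 h2 in
omit [HasExt.{w} 𝒳] in
lemma Φ_surjective (q : ℕ) : Function.Surjective (Φ adj I A q) := by
  intro φ
  obtain ⟨z, hz⟩ := exists_cycle_lift (Kc I G) A h1 h2 q φ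
  have hg : (adjK adj I A q).symm (z ≫ (Kc I G).iCycles q) ≫ I.cocomplex.d q (q + 1) = 0 := by
    apply (adjK adj I A (q + 1)).injective
    rw [← adjK_d, AddEquiv.apply_symm_apply, Category.assoc, (Kc I G).iCycles_d, comp_zero,
      map_zero]
  refine ⟨⟨_, hg⟩, ?_⟩
  have : lc adj I A q ⟨_, hg⟩ = z := by
    rw [← cancel_mono ((Kc I G).iCycles q), lc_i]
    exact AddEquiv.apply_symm_apply _ _
  change lc adj I A q ⟨_, hg⟩ ≫ _ = φ
  rw [this, hz]

include h1 h2 in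
lemma em_eq_zero_iff (q : ℕ) (g : Zq I A L q) : em I A L q g = 0 ↔ Φ adj I A q g = 0 := by
  change I.extMk g.1 (q + 1) rfl g.2 = 0 ↔ lc adj I A q g ≫ (Kc I G).homologyπ q = 0
  cases q with
  | zero =>
    rw [extMk_zero_eq_zero_iff']
    constructor
    · intro hg
      have : lc adj I A 0 g = 0 := by
        rw [← cancel_mono ((Kc I G).iCycles 0), lc_i, zero_comp, hg, map_zero]
      rw [this, zero_comp]
    · intro hg
      have h0 : lc adj I A 0 g = 0 := by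
        rw [← cancel_mono ((Kc I G).homologyπ 0), hg, zero_comp]
      have h3 : adjK adj I A 0 g.1 = 0 := by
        have h4 := lc_i adj I A 0 g
        rw [h0, zero_comp] at h4
        exact h4.symm
      apply (adjK adj I A 0).injective
      rw [h3, map_zero]
  | succ m =>
    rw [I.extMk_eq_zero_iff g.1 (m + 1 + 1) rfl g.2 m rfl]
    constructor
    · rintro ⟨k, hk⟩
      have : lc adj I A (m + 1) g =
          adjK adj I A m k ≫ (Kc I G).toCycles m (m + 1) := by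
        rw [← cancel_mono ((Kc I G).iCycles (m + 1)), lc_i, Category.assoc,
          (Kc I G).toCycles_i, ← hk, adjK_d]
      rw [this, Category.assoc, (Kc I G).toCycles_comp_homologyπ, comp_zero]
    · intro hg
      obtain ⟨k', hk'⟩ := exists_boundary_lift (Kc I G) A h1 h2 m (lc adj I A (m + 1) g) hg
      refine ⟨(adjK adj I A m).symm k', ?_⟩
      apply (adjK adj I A (m + 1)).injective
      rw [← adjK_d, AddEquiv.apply_symm_apply]
      have h5 := lc_i adj I A (m + 1) g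
      rw [← hk', Category.assoc, (Kc I G).toCycles_i] at h5
      exact h5

/-- `Ext^q(L A, F) ≃+ Hom(A, H^q(G I))`. -/
def extEquiv (q : ℕ) : Ext (L.obj A) F q ≃+ (A ⟶ (Kc I G).homology q) :=
  ExtShift.cokerTransfer (em I A L q) (em_surjective I A L q) (Φ adj I A q)
    (Φ_surjective adj I A h1 h2 q) (AddEquiv.refl _) (fun g => em_eq_zero_iff adj I A h1 h2 q g)

end Adj

section Main

variable {𝒳 : Type u} [Category.{v} 𝒳] [Abelian 𝒳] [HasExt.{w} 𝒳] [HasInjectiveResolutions 𝒳]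
  {𝒴 : Type u'} [Category.{v'} 𝒴] [Abelian 𝒴] [HasExt.{w'} 𝒴]
  {L : 𝒴 ⥤ 𝒳} {G : 𝒳 ⥤ 𝒴} (adj : L ⊣ G) [G.Additive] [L.Additive]

/-- postcomposition with an isomorphism, as an additive equivalence. -/
def homCongrRight {𝒞 : Type*} [Category 𝒞] [Preadditive 𝒞] (A : 𝒞) {M N : 𝒞} (e : M ≅ N) :
    (A ⟶ M) ≃+ (A ⟶ N) where
  toFun g := g ≫ e.hom
  invFun g := g ≫ e.inv
  left_inv g := by simp
  right_inv g := by simp
  map_add' a b := Preadditive.add_comp _ _ _ a b e.hom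

include adj in
/-- **degenerate Leray**: if `G` maps the terms of an injective resolution of `F` to injectives and
all `R^n G F` are `Hom(A, -)`-acyclic, then `Ext^q(L A, F) ≃+ Hom(A, R^q G F)`. -/
theorem nonempty_extEquiv (F : 𝒳) (A : 𝒴)
    (hinj : ∀ n, Injective (G.obj ((injectiveResolution F).cocomplex.X n)))
    (h2 : ∀ (n p : ℕ) (x : Ext A ((G.rightDerived n).obj F) (p + 1)), x = 0) (q : ℕ) :
    Nonempty (Ext (L.obj A) F q ≃+ (A ⟶ (G.rightDerived q).obj F)) := by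
  let I := injectiveResolution F
  have h1' : ∀ (n p : ℕ) (x : Ext A ((Kc I G).X n) (p + 1)), x = 0 := by
    intro n p x
    have : Injective ((Kc I G).X n) := hinj n
    exact Ext.eq_zero_of_injective x
  have h2' : ∀ (n p : ℕ) (x : Ext A ((Kc I G).homology n) (p + 1)), x = 0 := by
    intro n p x
    let e : (G.rightDerived n).obj F ≅ (Kc I G).homology n := I.isoRightDerivedObj G n
    have hx : x = (x.comp (Ext.mk₀ e.inv) (add_zero _)).comp (Ext.mk₀ e.hom) (add_zero _) := by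
      rw [Ext.comp_assoc_of_third_deg_zero, Ext.mk₀_comp_mk₀, e.inv_hom_id, Ext.comp_mk₀_id]
    have h0 := h2 n p (x.comp (Ext.mk₀ e.inv) (add_zero _))
    rw [hx, h0, Ext.zero_comp]
  exact ⟨(extEquiv adj I A h1' h2' q).trans
    (homCongrRight A (I.isoRightDerivedObj G q).symm)⟩

end Main

end Groth.Agent.Lib.Helper13.LerayDeg
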