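import Groth.Agent.Lib.Helper13.LieSBasic
import Mathlib.AlgebraicGeometry.Limits

set_option autoImplicit false
universe u
open CategoryTheory AlgebraicGeometry MonObj Limits

noncomputable section
namespace Groth.Agent.Lib.Helper13

/-- if `σ ∘ φ` is the identity up to nilpotents then `Spec φ` is surjective on points -/
theorem comap_surjective_of_nilpotent {R A : Type u} [CommRing R] [CommRing A] (φ : R →+* A)
    (σ : A →+* R) (h : ∀ r, IsNilpotent (r - σ (φ r))) :
    Function.Surjective (PrimeSpectrum.comap φ) := by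
  intro 𝔭
  refine ⟨PrimeSpectrum.comap σ 𝔭, ?_⟩
  ext r
  simp only [PrimeSpectrum.comap_asIdeal, Ideal.mem_comap]
  obtain ⟨n, hn⟩ := h r
  have hnil : r - σ (φ r) ∈ 𝔭.asIdeal := 𝔭.2.mem_of_pow_mem n (hn ▸ zero_mem _)
  constructor
  · intro h1
    have : r = (r - σ (φ r)) + σ (φ r) := by ring
    rw [this]
    exact add_mem hnil h1
  · intro h1
    have : σ (φ r) = r - (r - σ (φ r)) := by ring
    rw [this]
    exact sub_mem h1 hnil

/-- a pair of ring maps that is jointly injective, the first of which is surjective on points,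
is jointly epimorphic on `Spec` -/
theorem specMap_pair_hom_ext {R A₁ A₂ : Type u} [CommRing R] [CommRing A₁] [CommRing A₂]
    (φ₁ : R →+* A₁) (φ₂ : R →+* A₂)
    (hinj : ∀ r, φ₁ r = 0 → φ₂ r = 0 → r = 0)
    (hsurj : Function.Surjective (PrimeSpectrum.comap φ₁))
    {G : Scheme.{u}} (a b : Spec (CommRingCat.of R) ⟶ G)
    (h₁ : Spec.map (CommRingCat.ofHom φ₁) ≫ a = Spec.map (CommRingCat.ofHom φ₁) ≫ b)
    (h₂ : Spec.map (CommRingCat.ofHom φ₂) ≫ a = Spec.map (CommRingCat.ofHom φ₂) ≫ b) : a = b := by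
  let ψ : R →+* A₁ × A₂ := φ₁.prod φ₂
  have hψ : Function.Injective ψ := by
    rw [injective_iff_map_eq_zero]
    intro r hr
    exact hinj r (congrArg Prod.fst hr) (congrArg Prod.snd hr)
  have hψs : Function.Surjective (Spec.map (CommRingCat.ofHom ψ)) := by
    intro x
    obtain ⟨y, hy⟩ := hsurj x
    refine ⟨PrimeSpectrum.comap (RingHom.fst A₁ A₂) y, ?_⟩
    change PrimeSpectrum.comap ψ (PrimeSpectrum.comap (RingHom.fst A₁ A₂) y) = x
    rw [← PrimeSpectrum.comap_comp_apply]
    exact hy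
  refine specMap_hom_ext (CommRingCat.ofHom ψ) hψ hψs a b ?_
  rw [← cancel_epi (coprodSpec A₁ A₂)]
  apply coprod.hom_ext
  · rw [coprodSpec_inl_assoc, coprodSpec_inl_assoc, ← Spec.map_comp_assoc, ← Spec.map_comp_assoc,
      ← CommRingCat.ofHom_comp]
    exact h₁
  · rw [coprodSpec_inr_assoc, coprodSpec_inr_assoc, ← Spec.map_comp_assoc, ← Spec.map_comp_assoc,
      ← CommRingCat.ofHom_comp]
    exact h₂



section Tsze
variable (B : Type u) [CommRing B]
variable {M N P : Type u} [AddCommGroup M] [Module B M] [Module Bᵐᵒᵖ M] [IsCentralScalar B M]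
  [AddCommGroup N] [Module B N] [Module Bᵐᵒᵖ N] [IsCentralScalar B N]
  [AddCommGroup P] [Module B P] [Module Bᵐᵒᵖ P] [IsCentralScalar B P]

/-- ring map of trivial square-zero extensions induced by a linear map -/
def tszeMap (l : M →ₗ[B] N) : TrivSqZeroExt B M →+* TrivSqZeroExt B N :=
  (TrivSqZeroExt.map l).toRingHom

@[simp] theorem fst_tszeMap (l : M →ₗ[B] N) (x : TrivSqZeroExt B M) :
    (tszeMap B l x).fst = x.fst := TrivSqZeroExt.fst_map l x

@[simp] theorem snd_tszeMap (l : M →ₗ[B] N) (x : TrivSqZeroExt B M) :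
    (tszeMap B l x).snd = l x.snd := TrivSqZeroExt.snd_map l x

theorem tszeMap_comp_algebraMap (l : M →ₗ[B] N) :
    (tszeMap B l).comp (algebraMap B (TrivSqZeroExt B M)) = algebraMap B (TrivSqZeroExt B N) :=
  (TrivSqZeroExt.map l).comp_algebraMap

theorem tszeMap_comp (l : M →ₗ[B] N) (l' : N →ₗ[B] P) :
    (tszeMap B l').comp (tszeMap B l) = tszeMap B (l'.comp l) := by
  refine RingHom.ext fun x => ?_
  refine TrivSqZeroExt.ext ?_ ?_ <;> simp

theorem tszeMap_id : tszeMap B (LinearMap.id : M →ₗ[B] M) = RingHom.id _ := by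
  refine RingHom.ext fun x => ?_
  refine TrivSqZeroExt.ext ?_ ?_ <;> simp

theorem scaleHom_eq_tszeMap (b : B) :
    LieS.scaleHom b = tszeMap B (b • (LinearMap.id : B →ₗ[B] B)) := by
  refine RingHom.ext fun x => ?_
  refine TrivSqZeroExt.ext ?_ ?_
  · simp [LieS.scaleHom, LieS.dualHom_apply, TrivSqZeroExt.algebraMap_eq_inl']
  · simp [LieS.scaleHom, LieS.dualHom_apply, TrivSqZeroExt.algebraMap_eq_inl', mul_comm]

theorem algebraMap_comp_fstHom_eq_tszeMap :
    (algebraMap B (DualNumber B)).comp (TrivSqZeroExt.fstHom B B B).toRingHom =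
      tszeMap B (0 : B →ₗ[B] B) := by
  refine RingHom.ext fun x => ?_
  refine TrivSqZeroExt.ext ?_ ?_ <;> simp [TrivSqZeroExt.algebraMap_eq_inl']

theorem isNilpotent_of_fst_eq_zero (x : TrivSqZeroExt B M) (h : x.fst = 0) : IsNilpotent x := by
  refine ⟨2, ?_⟩
  rw [pow_two]
  refine TrivSqZeroExt.ext ?_ ?_ <;> simp [h]

end Tsze

section Tpt
variable {S : Scheme.{u}} (B : Type u) [CommRing B] (f : Spec (CommRingCat.of B) ⟶ S)
variable (M : Type u) {N P : Type u} [AddCommGroup M] [Module B M] [Module Bᵐᵒᵖ M] [IsCentralScalar B M]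
  [AddCommGroup N] [Module B N] [Module Bᵐᵒᵖ N] [IsCentralScalar B N]
  [AddCommGroup P] [Module B P] [Module Bᵐᵒᵖ P] [IsCentralScalar B P]

/-- `Spec B[M]` as an `S`-scheme, `B[M]` the trivial square-zero extension -/
def tpt : Over S :=
  Over.mk (Spec.map (CommRingCat.ofHom (algebraMap B (TrivSqZeroExt B M))) ≫ f)

variable {M}

/-- the morphism `Spec B[N] ⟶ Spec B[M]` of a linear map `M → N` -/
def tptMap (l : M →ₗ[B] N) : tpt B f N ⟶ tpt B f M :=
  Over.homMk (Spec.map (CommRingCat.ofHom (tszeMap B l))) (by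
    change Spec.map _ ≫ Spec.map _ ≫ f = Spec.map _ ≫ f
    rw [← Category.assoc, LieS.specMap_comp, tszeMap_comp_algebraMap])

theorem tptMap_comp (l : M →ₗ[B] N) (l' : N →ₗ[B] P) :
    tptMap B f l' ≫ tptMap B f l = tptMap B f (l'.comp l) := by
  apply Over.OverMorphism.ext
  change Spec.map _ ≫ Spec.map _ = Spec.map _
  rw [LieS.specMap_comp, tszeMap_comp]

theorem tptMap_comp_assoc {X : Over S} (l : M →ₗ[B] N) (l' : N →ₗ[B] P) (v : tpt B f M ⟶ X) :
    tptMap B f l' ≫ tptMap B f l ≫ v = tptMap B f (l'.comp l) ≫ v := by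
  rw [← Category.assoc, tptMap_comp]

theorem tptMap_id : tptMap B f (LinearMap.id : M →ₗ[B] M) = 𝟙 _ := by
  apply Over.OverMorphism.ext
  change Spec.map _ = 𝟙 _
  rw [tszeMap_id, CommRingCat.ofHom_id]
  erw [Spec.map_id]

theorem scale_eq_tptMap (b : B) :
    LieS.scale B f b = tptMap B f (b • (LinearMap.id : B →ₗ[B] B)) := by
  apply Over.OverMorphism.ext
  change Spec.map _ = Spec.map _
  rw [scaleHom_eq_tszeMap]

theorem proj_zeroSec_eq_tptMap :
    LieS.proj B f ≫ LieS.zeroSec B f = tptMap B f (0 : B →ₗ[B] B) := by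
  apply Over.OverMorphism.ext
  change Spec.map _ ≫ Spec.map _ = Spec.map _
  rw [LieS.specMap_comp, algebraMap_comp_fstHom_eq_tszeMap]

/-- `Spec B[ε₁, ε₂]/(ε₁, ε₂)²` is covered by the two axes, jointly epimorphically -/
theorem tpt_prod_hom_ext {X : Over S} (a b : tpt B f (B × B) ⟶ X)
    (h₁ : tptMap B f (LinearMap.fst B B B) ≫ a = tptMap B f (LinearMap.fst B B B) ≫ b)
    (h₂ : tptMap B f (LinearMap.snd B B B) ≫ a = tptMap B f (LinearMap.snd B B B) ≫ b) : a = b := by
  apply Over.OverMorphism.ext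
  refine specMap_pair_hom_ext (tszeMap B (LinearMap.fst B B B)) (tszeMap B (LinearMap.snd B B B))
    ?_ ?_ a.left b.left (congrArg (fun t => t.left) h₁) (congrArg (fun t => t.left) h₂)
  · intro r hr₁ hr₂
    refine TrivSqZeroExt.ext ?_ (Prod.ext ?_ ?_)
    · simpa using congrArg TrivSqZeroExt.fst hr₁
    · simpa using congrArg TrivSqZeroExt.snd hr₁
    · simpa using congrArg TrivSqZeroExt.snd hr₂
  · refine comap_surjective_of_nilpotent _ (tszeMap B (LinearMap.inl B B B)) (fun r => ?_)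
    exact isNilpotent_of_fst_eq_zero B _ (by simp)

/-- additivity: for a point `v` of a monoid scheme over the dual numbers that restricts to the
unit section, pulling back along `l₁ + l₂` is the product of the pull-backs -/
theorem tptMap_add_comp {X : Over S} [MonObj X] (v : tpt B f B ⟶ X)
    (hv : tptMap B f (0 : B →ₗ[B] B) ≫ v = 1) (l₁ l₂ : B →ₗ[B] N) :
    tptMap B f (l₁ + l₂) ≫ v = (tptMap B f l₁ ≫ v) * (tptMap B f l₂ ≫ v) := by
  have key : tptMap B f (LinearMap.prod (LinearMap.id : B →ₗ[B] B) LinearMap.id) ≫ v =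
      (tptMap B f (LinearMap.inl B B B) ≫ v) * (tptMap B f (LinearMap.inr B B B) ≫ v) := by
    refine tpt_prod_hom_ext B f _ _ ?_ ?_
    · rw [MonObj.comp_mul, tptMap_comp_assoc, tptMap_comp_assoc, tptMap_comp_assoc]
      have e1 : (LinearMap.fst B B B).comp (LinearMap.prod (LinearMap.id : B →ₗ[B] B) LinearMap.id) =
          LinearMap.id := by ext; simp
      have e2 : (LinearMap.fst B B B).comp (LinearMap.inl B B B) = LinearMap.id := by ext; simp
      have e3 : (LinearMap.fst B B B).comp (LinearMap.inr B B B) = 0 := by ext; simp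
      rw [e1, e2, e3, hv, _root_.mul_one]
    · rw [MonObj.comp_mul, tptMap_comp_assoc, tptMap_comp_assoc, tptMap_comp_assoc]
      have e1 : (LinearMap.snd B B B).comp (LinearMap.prod (LinearMap.id : B →ₗ[B] B) LinearMap.id) =
          LinearMap.id := by ext; simp
      have e2 : (LinearMap.snd B B B).comp (LinearMap.inl B B B) = 0 := by ext; simp
      have e3 : (LinearMap.snd B B B).comp (LinearMap.inr B B B) = LinearMap.id := by ext; simp
      rw [e1, e2, e3, hv, _root_.one_mul]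
  have e0 : l₁ + l₂ = (l₁.coprod l₂).comp (LinearMap.prod (LinearMap.id : B →ₗ[B] B) LinearMap.id) := by
    ext; simp
  have e1 : (l₁.coprod l₂).comp (LinearMap.inl B B B) = l₁ := by ext; simp
  have e2 : (l₁.coprod l₂).comp (LinearMap.inr B B B) = l₂ := by ext; simp
  rw [e0, ← tptMap_comp_assoc, key, MonObj.comp_mul, tptMap_comp_assoc, tptMap_comp_assoc, e1, e2]

end Tpt

section Scale
variable {S : Scheme.{u}} (B : Type u) [CommRing B] (f : Spec (CommRingCat.of B) ⟶ S)
  {X : Over S} [MonObj X]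

theorem scale_zero_comp (v : LieS.dpt B f ⟶ X) (hv : LieS.zeroSec B f ≫ v = 1) :
    LieS.scale B f 0 ≫ v = 1 := by
  rw [scale_eq_tptMap, zero_smul, ← proj_zeroSec_eq_tptMap, Category.assoc, hv, MonObj.comp_one]

theorem scale_one_comp (v : LieS.dpt B f ⟶ X) : LieS.scale B f 1 ≫ v = v := by
  rw [scale_eq_tptMap, one_smul]
  exact (congrArg (· ≫ v) (tptMap_id B f)).trans (Category.id_comp v)

/-- `(a + b) • v = (a • v) * (b • v)` for points over the dual numbers restricting to the unit -/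
theorem scale_add_comp (v : LieS.dpt B f ⟶ X) (hv : LieS.zeroSec B f ≫ v = 1) (a b : B) :
    LieS.scale B f (a + b) ≫ v = (LieS.scale B f a ≫ v) * (LieS.scale B f b ≫ v) := by
  have hv' : tptMap B f (0 : B →ₗ[B] B) ≫ v = 1 := by
    have h := scale_zero_comp B f v hv
    rw [scale_eq_tptMap, zero_smul] at h
    exact h
  rw [scale_eq_tptMap, scale_eq_tptMap, scale_eq_tptMap, add_smul]
  exact tptMap_add_comp B f v hv' _ _

/-- the monoid homomorphism `b ↦ b • v` -/
def scaleMonoidHom (v : LieS.dpt B f ⟶ X) (hv : LieS.zeroSec B f ≫ v = 1) :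
    Multiplicative B →* (LieS.dpt B f ⟶ X) where
  toFun b := LieS.scale B f b.toAdd ≫ v
  map_one' := scale_zero_comp B f v hv
  map_mul' a b := scale_add_comp B f v hv a.toAdd b.toAdd

end Scale

end Groth.Agent.Lib.Helper13
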