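import Mathlib.AlgebraicGeometry.Morphisms.SchemeTheoreticallyDominant
import Mathlib.AlgebraicGeometry.Gluing

set_option autoImplicit false
universe u
open CategoryTheory AlgebraicGeometry
namespace Groth.Agent.Lib.Helper13

set_option backward.isDefEq.respectTransparency false in
/-- A morphism of schemes that is injective on sections over every open and surjective on points
is an epimorphism of schemes. -/
theorem scheme_hom_ext_of_app_injective_of_surjective {X' X : Scheme.{u}} (p : X' ⟶ X)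
    (hinj : ∀ U : X.Opens, Function.Injective (p.app U)) (hsurj : Function.Surjective p)
    {G : Scheme.{u}} (a b : X ⟶ G) (h : p ≫ a = p ≫ b) : a = b := by
  have hpt : ∀ x : X, a x = b x := by
    intro x
    obtain ⟨x', rfl⟩ := hsurj x
    rw [← Scheme.Hom.comp_apply, ← Scheme.Hom.comp_apply, h]
  refine Scheme.hom_ext_of_forall a b fun x => ?_
  obtain ⟨_, ⟨V, hV, rfl⟩, hxV, -⟩ :=
    G.isBasis_affineOpens.exists_subset_of_mem_open (Set.mem_univ (a x)) isOpen_univ
  change G.Opens at V
  change IsAffineOpen V at hV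
  have hW : a ⁻¹ᵁ V = b ⁻¹ᵁ V := by
    ext y
    change a y ∈ V ↔ b y ∈ V
    rw [hpt]
  refine ⟨a ⁻¹ᵁ V, hxV, ?_⟩
  have hbr : Set.range (((a ⁻¹ᵁ V).ι ≫ b)) ⊆ Set.range (V.ι) := by
    rintro _ ⟨y, rfl⟩
    rw [Scheme.Opens.range_ι]
    have : (y.1 : X) ∈ b ⁻¹ᵁ V := hW ▸ y.2
    exact this
  let b' : (a ⁻¹ᵁ V).toScheme ⟶ V.toScheme := IsOpenImmersion.lift V.ι ((a ⁻¹ᵁ V).ι ≫ b) hbr
  have hb' : b' ≫ V.ι = (a ⁻¹ᵁ V).ι ≫ b := IsOpenImmersion.lift_fac _ _ _
  have ha' : (a ∣_ V) ≫ V.ι = (a ⁻¹ᵁ V).ι ≫ a := morphismRestrict_ι a V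
  have key : (p ∣_ (a ⁻¹ᵁ V)) ≫ (a ∣_ V) = (p ∣_ (a ⁻¹ᵁ V)) ≫ b' := by
    rw [← cancel_mono V.ι, Category.assoc, Category.assoc, ha', hb', morphismRestrict_ι_assoc,
      morphismRestrict_ι_assoc, h]
  have : IsAffine V.toScheme := hV
  have hab : a ∣_ V = b' := by
    apply ext_of_isAffine
    have h2 := congrArg Scheme.Hom.appTop key
    rw [Scheme.Hom.comp_appTop, Scheme.Hom.comp_appTop] at h2
    have hmono : Mono (p ∣_ (a ⁻¹ᵁ V)).appTop := by
      rw [morphismRestrict_appTop]
      exact @mono_comp _ _ _ _ _ _ (ConcreteCategory.mono_of_injective _ (hinj _)) _ inferInstance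
    exact (cancel_mono _).mp h2
  rw [← ha', ← hb', hab]

end Groth.Agent.Lib.Helper13

namespace Groth.Agent.Lib.Helper13

theorem isSchemeTheoreticallyDominant_specMap {A A' : CommRingCat.{u}} (φ : A ⟶ A')
    (hφ : Function.Injective φ) : IsSchemeTheoreticallyDominant (Spec.map φ) := by
  refine ⟨?_⟩
  rw [Scheme.ker_of_isAffine]
  have hinj : Function.Injective (Spec.map φ).appTop := by
    have h := Scheme.ΓSpecIso_naturality φ
    have h2 : (Spec.map φ).appTop = (Scheme.ΓSpecIso A).hom ≫ φ ≫ (Scheme.ΓSpecIso A').inv := by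
      rw [← Category.assoc, ← h, Category.assoc, Iso.hom_inv_id, Category.comp_id]
    rw [h2]
    simp only [CommRingCat.hom_comp, RingHom.coe_comp]
    exact ((ConcreteCategory.bijective_of_isIso (Scheme.ΓSpecIso A').inv).1.comp hφ).comp
      (ConcreteCategory.bijective_of_isIso (Scheme.ΓSpecIso A).hom).1
  have : RingHom.ker (Spec.map φ).appTop.hom = ⊥ := (RingHom.injective_iff_ker_eq_bot _).mp hinj
  rw [this]
  exact Scheme.IdealSheafData.ext_of_isAffine (by simp)

theorem specMap_app_injective {A A' : CommRingCat.{u}} (φ : A ⟶ A')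
    (hφ : Function.Injective φ) (U : (Spec A).Opens) : Function.Injective ((Spec.map φ).app U) := by
  have := isSchemeTheoreticallyDominant_specMap φ hφ
  exact (Spec.map φ).app_injective U

/-- `Spec` of an injective ring map that is surjective on points is an epimorphism of schemes. -/
theorem specMap_hom_ext {A A' : CommRingCat.{u}} (φ : A ⟶ A')
    (hφ : Function.Injective φ) (hsurj : Function.Surjective (Spec.map φ))
    {G : Scheme.{u}} (a b : Spec A ⟶ G) (h : Spec.map φ ≫ a = Spec.map φ ≫ b) : a = b :=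
  scheme_hom_ext_of_app_injective_of_surjective _ (specMap_app_injective φ hφ) hsurj a b h

end Groth.Agent.Lib.Helper13

namespace Groth.Agent.Lib.Helper13

/-- morphisms of schemes agree if they agree on all affine-scheme-valued points of the source -/
theorem scheme_hom_ext_of_forall_spec {Y Z : Scheme.{u}} (a b : Y ⟶ Z)
    (h : ∀ (C : Type u) [CommRing C] (w : Spec (CommRingCat.of C) ⟶ Y), w ≫ a = w ≫ b) : a = b := by
  refine Scheme.hom_ext_of_forall a b fun x => ?_
  obtain ⟨_, ⟨U, hU, rfl⟩, hxU, -⟩ :=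
    Y.isBasis_affineOpens.exists_subset_of_mem_open (Set.mem_univ x) isOpen_univ
  change Y.Opens at U
  change IsAffineOpen U at hU
  refine ⟨U, hxU, ?_⟩
  have := h Γ(Y, U) hU.fromSpec
  rw [← hU.isoSpec_inv_ι, Category.assoc, Category.assoc] at this
  exact (cancel_epi _).mp this

end Groth.Agent.Lib.Helper13
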