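import Groth.Prelude.Def_LieS
import Groth.Agent.Lib.Helper13.SchemeEpi

set_option autoImplicit false
universe u
open CategoryTheory AlgebraicGeometry
namespace Groth.Agent.Lib.Helper13

theorem mulHom_fst_fst (B : Type u) [CommRing B] (x : DualNumber B) :
    (LieS.mulHom B x).fst.fst = x.fst := by
  simp [LieS.mulHom, LieS.dualHom_apply, TrivSqZeroExt.algebraMap_eq_inl', DualNumber.fst_eps]

theorem mulHom_snd_snd (B : Type u) [CommRing B] (x : DualNumber B) :
    (LieS.mulHom B x).snd.snd = x.snd := by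
  simp [LieS.mulHom, LieS.dualHom_apply, TrivSqZeroExt.algebraMap_eq_inl', DualNumber.fst_eps,
    DualNumber.snd_eps]

theorem mulHom_injective (B : Type u) [CommRing B] : Function.Injective (LieS.mulHom B) := by
  intro x y h
  refine TrivSqZeroExt.ext ?_ ?_
  · rw [← mulHom_fst_fst, ← mulHom_fst_fst B y, h]
  · rw [← mulHom_snd_snd, ← mulHom_snd_snd B y, h]

/-- the zero section of the dual numbers is surjective on points -/
theorem comap_fstHom_surjective (B : Type u) [CommRing B] :
    Function.Surjective (PrimeSpectrum.comap (TrivSqZeroExt.fstHom B B B).toRingHom) := by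
  intro 𝔭
  refine ⟨PrimeSpectrum.comap (algebraMap B (DualNumber B)) 𝔭, ?_⟩
  ext x
  simp only [PrimeSpectrum.comap_asIdeal, Ideal.mem_comap]
  have hx : x = algebraMap B (DualNumber B) x.fst + TrivSqZeroExt.inr x.snd := by
    rw [TrivSqZeroExt.algebraMap_eq_inl']
    exact (TrivSqZeroExt.inl_fst_add_inr_snd_eq x).symm
  have hnil : (TrivSqZeroExt.inr x.snd : DualNumber B) ∈ 𝔭.asIdeal := by
    refine 𝔭.2.mem_of_pow_mem 2 ?_
    rw [pow_two, TrivSqZeroExt.inr_mul_inr]
    exact zero_mem _
  constructor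
  · intro h
    rw [hx]
    exact add_mem h hnil
  · intro h
    have : algebraMap B (DualNumber B) x.fst = x - TrivSqZeroExt.inr x.snd := by
      rw [eq_sub_iff_add_eq]; exact hx.symm
    change algebraMap B (DualNumber B) x.fst ∈ 𝔭.asIdeal
    rw [this]
    exact sub_mem h hnil


/-- the augmentation `B[ε][ε'] → B` -/
def d2Aug (B : Type u) [CommRing B] : LieS.D2 B →+* B :=
  (TrivSqZeroExt.fstHom B B B).toRingHom.comp
    (TrivSqZeroExt.fstHom (DualNumber B) (DualNumber B) (DualNumber B)).toRingHom

theorem d2Aug_comp_mulHom (B : Type u) [CommRing B] :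
    (d2Aug B).comp (LieS.mulHom B) = (TrivSqZeroExt.fstHom B B B).toRingHom := by
  refine RingHom.ext fun x => ?_
  simp [d2Aug, mulHom_fst_fst]

theorem specMap_mulHom_surjective (B : Type u) [CommRing B] :
    Function.Surjective (Spec.map (CommRingCat.ofHom (R := DualNumber B) (S := LieS.D2 B) (LieS.mulHom B))) := by
  intro x
  obtain ⟨y, hy⟩ := comap_fstHom_surjective B x
  refine ⟨PrimeSpectrum.comap (R := LieS.D2 B) (S := B) (d2Aug B) y, ?_⟩
  rw [Spec.map_apply]
  change PrimeSpectrum.comap (R := DualNumber B) (S := LieS.D2 B) (LieS.mulHom B)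
    (PrimeSpectrum.comap (R := LieS.D2 B) (S := B) (d2Aug B) y) = x
  rw [← PrimeSpectrum.comap_comp_apply, d2Aug_comp_mulHom, hy]

/-- pulling back along `ε ↦ εε'` is injective on points of any scheme -/
theorem specMap_mulHom_hom_ext (B : Type u) [CommRing B] {G : Scheme.{u}}
    (a b : Spec (CommRingCat.of (DualNumber B)) ⟶ G)
    (h : Spec.map (CommRingCat.ofHom (R := DualNumber B) (S := LieS.D2 B) (LieS.mulHom B)) ≫ a =
      Spec.map (CommRingCat.ofHom (R := DualNumber B) (S := LieS.D2 B) (LieS.mulHom B)) ≫ b) : a = b :=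
  specMap_hom_ext (CommRingCat.ofHom (R := DualNumber B) (S := LieS.D2 B) (LieS.mulHom B)) (mulHom_injective B)
    (specMap_mulHom_surjective B) a b h

/-- pulling back along `mulMap` is injective on `I_T`-points of any `S`-scheme -/
theorem mulMap_hom_ext {S : Scheme.{u}} (B : Type u) [CommRing B]
    (f : Spec (CommRingCat.of B) ⟶ S) {G : Over S} (a b : LieS.dpt B f ⟶ G)
    (h : LieS.mulMap B f ≫ a = LieS.mulMap B f ≫ b) : a = b := by
  apply Over.OverMorphism.ext
  refine specMap_mulHom_hom_ext B a.left b.left ?_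
  have := congrArg (fun t => t.left) h
  exact this

end Groth.Agent.Lib.Helper13
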