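import Groth.Agent.Lib.Helper13.SuppCompare
import Groth.Agent.Lib.Helper13.EdgeOutIso
import Groth.Agent.Lib.Helper13.QCohRpush

/-!
# Local cohomology sheaves with support in a locally closed subset are quasi-coherent (helper13)

For opens `W ≤ V` of a scheme `Y` with quasi-compact inclusions and `F` quasi-coherent, the abelian sheaves
`ℋ^q_{V∖W}(F)` (right derived functors of `SuppFam.sectSuppLC`) underlie quasi-coherent modules: the right derived
functors of the module-level functor `j_{V*} Γ_Z ((-)|_V)`.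
-/

set_option autoImplicit false
set_option backward.isDefEq.respectTransparency false
universe u

namespace Groth.Agent.Lib.Helper13.LocCohLC

open CategoryTheory CategoryTheory.Limits AlgebraicGeometry TopologicalSpace Opposite
open AlgebraicGeometry.Scheme.Modules
open Groth.Agent.Lib.Helper13 Groth.Agent.Lib.Helper13.RelMVMod
open Groth.Agent.Lib.Helper2 Groth.Agent.Lib.Helper3

/-- `Γ_Z` of a quasi-coherent module is quasi-coherent. -/
lemma isQuasicoherent_gammaZ {U X : Scheme.{u}} (j : U ⟶ X) [IsOpenImmersion j] [QuasiCompact j]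
    (F : X.Modules) [hF : F.IsQuasicoherent] : ((DCoh.gammaZ j).obj F).IsQuasicoherent := by
  haveI : ((restrictFunctor j).obj F).IsQuasicoherent :=
    Scheme.Modules.isQuasicoherent_restrictFunctor j F
  haveI hP : ((pushforward j).obj ((restrictFunctor j).obj F)).IsQuasicoherent :=
    QCSec.isQuasicoherent_pushforward j _
  haveI h1 : ((𝟭 X.Modules).obj F).IsQuasicoherent := hF
  haveI h2 : ((restrictFunctor j ⋙ pushforward j).obj F).IsQuasicoherent := hP
  exact QCProps.isQuasicoherent_kernel ((restrictAdjunction j).unit.app F)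

variable {Y : Scheme.{u}} (V : Y.Opens) {U' : Scheme.{u}} (k : U' ⟶ (↑V : Scheme.{u}))
  [IsOpenImmersion k]

/-- `j_{V*} Γ_Z ((-)|_V)`. -/
noncomputable abbrev T₁ : Y.Modules ⥤ Y.Modules :=
  restrictFunctor V.ι ⋙ DCoh.gammaZ k ⋙ pushforward V.ι

/-- `j_{V*} ((-)|_V)`. -/
noncomputable abbrev T₂ : Y.Modules ⥤ Y.Modules := restrictFunctor V.ι ⋙ pushforward V.ι

/-- `j_{W*} ((-)|_W)`. -/
noncomputable abbrev T₃ : Y.Modules ⥤ Y.Modules :=
  (restrictFunctor V.ι ⋙ restrictFunctor k) ⋙ (pushforward k ⋙ pushforward V.ι)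

noncomputable def α' : T₁ V k ⟶ T₂ V where
  app F := (pushforward V.ι).map
    (kernel.ι ((restrictAdjunction k).unit.app ((restrictFunctor V.ι).obj F)))
  naturality F G φ := by
    change (pushforward V.ι).map ((DCoh.gammaZ k).map ((restrictFunctor V.ι).map φ)) ≫
      (pushforward V.ι).map _ = (pushforward V.ι).map _ ≫
        (pushforward V.ι).map ((restrictFunctor V.ι).map φ)
    rw [← Functor.map_comp, ← Functor.map_comp]
    congr 1
    exact (LocCohQC.α k).naturality ((restrictFunctor V.ι).map φ)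

noncomputable def β' : T₂ V ⟶ T₃ V k where
  app F := (pushforward V.ι).map ((restrictAdjunction k).unit.app ((restrictFunctor V.ι).obj F))
  naturality F G φ := by
    change (pushforward V.ι).map ((restrictFunctor V.ι).map φ) ≫ (pushforward V.ι).map _ =
      (pushforward V.ι).map _ ≫ (pushforward V.ι).map
        ((pushforward k).map ((restrictFunctor k).map ((restrictFunctor V.ι).map φ)))
    rw [← Functor.map_comp, ← Functor.map_comp]
    congr 1
    exact (restrictAdjunction k).unit.naturality ((restrictFunctor V.ι).map φ)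

lemma αβ' : α' V k ≫ β' V k = 0 := by
  apply NatTrans.ext
  funext F
  exact ((pushforward V.ι).map_comp _ _).symm.trans
    ((congrArg (pushforward V.ι).map (kernel.condition _)).trans (Functor.map_zero _ _ _))

lemma isFlasque_rV (I : Y.Modules) (hI : Injective I) :
    TopCat.Sheaf.IsFlasque (Coh.toAb ((restrictFunctor V.ι).obj I)) :=
  LocCohQC.isFlasque_restrict_of_injective V.ι I hI

lemma isFlasque_rk_rV (I : Y.Modules) (hI : Injective I) :
    TopCat.Sheaf.IsFlasque
      (Coh.toAb ((restrictFunctor k).obj ((restrictFunctor V.ι).obj I))) where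
  epi {A B} i := by
    rw [AddCommGrpCat.epi_iff_surjective]
    haveI : Mono (V.ι.opensFunctor.map (k.opensFunctor.map i.unop)) :=
      ⟨fun _ _ _ => Subsingleton.elim _ _⟩
    exact @InjRestrSurj.restriction_surjective _ _ _ Y.ringCatSheaf I hI _ _
      (V.ι.opensFunctor.map (k.opensFunctor.map i.unop)) inferInstance

lemma epi_push_unit (N : (↑V : Scheme.{u}).Modules)
    (hN : TopCat.Sheaf.IsFlasque (Coh.toAb N)) :
    Epi ((pushforward V.ι).map ((restrictAdjunction k).unit.app N)) := by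
  apply QCProps.epi_of_app_surjective
  intro A
  exact (AddCommGrpCat.epi_iff_surjective _).1
    (TopCat.Presheaf.IsFlasque.epi (F := (Coh.toAb N).obj)
      (homOfLE (k.image_preimage_le (V.ι ⁻¹ᵁ A))).op)

variable [EnoughInjectives Y.Modules]

lemma hI' (I : Y.Modules) (hI : Injective I) :
    (ShortComplex.mk ((α' V k).app I) ((β' V k).app I)
      (FunctorSES.app_comp_app (α' V k) (β' V k) (αβ' V k) I)).ShortExact := by
  have hSS : (ShortComplex.mk
      (kernel.ι ((restrictAdjunction k).unit.app ((restrictFunctor V.ι).obj I)))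
      ((restrictAdjunction k).unit.app ((restrictFunctor V.ι).obj I))
      (kernel.condition _)).Exact :=
    ShortComplex.exact_of_f_is_kernel _ (kernelIsKernel _)
  have hex := hSS.map_of_mono_of_preservesKernel (pushforward V.ι)
    (inferInstanceAs (Mono (kernel.ι
      ((restrictAdjunction k).unit.app ((restrictFunctor V.ι).obj I))))) inferInstance
  exact
    { exact := hex
      mono_f := inferInstanceAs (Mono ((pushforward V.ι).map (kernel.ι
        ((restrictAdjunction k).unit.app ((restrictFunctor V.ι).obj I)))))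
      epi_g := epi_push_unit V k _ (isFlasque_rV V I hI) }

lemma qc_T₂ [QuasiCompact V.ι] (F : Y.Modules) [F.IsQuasicoherent] (n : ℕ) :
    (((T₂ V).rightDerived n).obj F).IsQuasicoherent := by
  haveI : EnoughInjectives (↑V : Scheme.{u}).Modules :=
    ModGrothendieck.enoughInjectives (↑V : Scheme.{u}).ringCatSheaf
  have hacyc : ∀ I : Y.Modules, Injective I → ∀ m : ℕ,
      IsZero (((pushforward V.ι).rightDerived (m + 1)).obj ((restrictFunctor V.ι).obj I)) :=
    fun I hI m => EdgeOutIso.racyc_push_of_isFlasque V.ι _ (isFlasque_rV V I hI) (m + 1)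
      (Nat.succ_pos m)
  obtain ⟨e⟩ := GSS.nonempty_rightDerived_comp_iso (restrictFunctor V.ι) (pushforward V.ι)
    hacyc n F
  haveI : ((restrictFunctor V.ι).obj F).IsQuasicoherent :=
    Scheme.Modules.isQuasicoherent_restrictFunctor V.ι F
  exact (SheafOfModules.isQuasicoherent Y.ringCatSheaf).prop_of_iso e.symm
    (QCohRpush.isQuasicoherent_Rpush V.ι _ n)

lemma qc_T₃ [QuasiCompact (k ≫ V.ι)] (F : Y.Modules) [F.IsQuasicoherent] (n : ℕ) :
    (((T₃ V k).rightDerived n).obj F).IsQuasicoherent := by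
  haveI : EnoughInjectives U'.Modules := ModGrothendieck.enoughInjectives U'.ringCatSheaf
  haveI : PreservesFiniteLimits (restrictFunctor V.ι ⋙ restrictFunctor k) :=
    comp_preservesFiniteLimits _ _
  haveI : PreservesFiniteColimits (restrictFunctor V.ι ⋙ restrictFunctor k) :=
    comp_preservesFiniteColimits _ _
  haveI : PreservesFiniteLimits (pushforward k ⋙ pushforward V.ι) :=
    comp_preservesFiniteLimits _ _
  have hacyc : ∀ I : Y.Modules, Injective I → ∀ m : ℕ,
      IsZero (((pushforward k ⋙ pushforward V.ι).rightDerived (m + 1)).obj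
        ((restrictFunctor V.ι ⋙ restrictFunctor k).obj I)) := by
    intro I hI m
    refine IsZero.of_iso ?_
      (DerivedCommute.rightDerivedObjIsoOfNatIso (pushforwardComp k V.ι) (m + 1) _)
    exact EdgeOutIso.racyc_push_of_isFlasque (k ≫ V.ι) _ (isFlasque_rk_rV V k I hI) (m + 1)
      (Nat.succ_pos m)
  obtain ⟨e⟩ := GSS.nonempty_rightDerived_comp_iso (restrictFunctor V.ι ⋙ restrictFunctor k)
    (pushforward k ⋙ pushforward V.ι) hacyc n F
  haveI : ((restrictFunctor V.ι).obj F).IsQuasicoherent :=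
    Scheme.Modules.isQuasicoherent_restrictFunctor V.ι F
  haveI hN : ((restrictFunctor k).obj ((restrictFunctor V.ι).obj F)).IsQuasicoherent :=
    Scheme.Modules.isQuasicoherent_restrictFunctor k _
  have hq : (((pushforward (k ≫ V.ι)).rightDerived n).obj
      ((restrictFunctor k).obj ((restrictFunctor V.ι).obj F))).IsQuasicoherent :=
    QCohRpush.isQuasicoherent_Rpush (k ≫ V.ι) _ n
  exact (SheafOfModules.isQuasicoherent Y.ringCatSheaf).prop_of_iso
    ((DerivedCommute.rightDerivedObjIsoOfNatIso (pushforwardComp k V.ι) n _).symm ≪≫ e.symm) hq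

theorem qc_T₁ [QuasiCompact V.ι] [QuasiCompact (k ≫ V.ι)] (F : Y.Modules) [F.IsQuasicoherent]
    (q : ℕ) : (((T₁ V k).rightDerived q).obj F).IsQuasicoherent := by
  haveI : QuasiCompact k := QuasiCompact.of_comp k V.ι
  haveI hF1 : ((restrictFunctor V.ι).obj F).IsQuasicoherent :=
    Scheme.Modules.isQuasicoherent_restrictFunctor V.ι F
  cases q with
  | zero =>
    haveI : PreservesFiniteLimits (DCoh.gammaZ k ⋙ pushforward V.ι) :=
      comp_preservesFiniteLimits _ _
    haveI : PreservesFiniteLimits (T₁ V k) := comp_preservesFiniteLimits _ _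
    refine (SheafOfModules.isQuasicoherent Y.ringCatSheaf).prop_of_iso
      ((T₁ V k).rightDerivedZeroIsoSelf.app F).symm ?_
    haveI hg : ((DCoh.gammaZ k).obj ((restrictFunctor V.ι).obj F)).IsQuasicoherent :=
      isQuasicoherent_gammaZ k _
    exact QCSec.isQuasicoherent_pushforward V.ι _
  | succ n =>
    haveI := qc_T₂ V F n
    haveI := qc_T₃ V k F n
    haveI := qc_T₂ V F (n + 1)
    haveI := qc_T₃ V k F (n + 1)
    exact QCohRpush.isQuasicoherent_of_exact5 _ _ _ _
      (FunctorSES.exact₃ (α' V k) (β' V k) (αβ' V k) (hI' V k) n F).exact_toComposableArrows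
      (FunctorSES.exact₁ (α' V k) (β' V k) (αβ' V k) (hI' V k) n F).exact_toComposableArrows
      (FunctorSES.exact₂ (α' V k) (β' V k) (αβ' V k) (hI' V k) (n + 1) F).exact_toComposableArrows

section Compare

variable {W : Y.Opens} (h : W ≤ V)

theorem nonempty_compare (hR : k.opensRange = SuppFam.inOpen V W) :
    Nonempty (T₁ V k ⋙ SuppCompare.TT Y ≅
      SuppCompare.TT Y ⋙ SuppFam.sectSuppLC (X := Y.carrier) h) := by
  have c2 : DCoh.gammaZ k ⋙ SuppCompare.TT (↑V : Scheme.{u}) ≅
      SuppCompare.TT (↑V : Scheme.{u}) ⋙ LocCohZ.sectSuppF (SuppFam.inOpen V W) := by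
    rw [← hR]
    exact SuppCompare.gammaZCompare k
  let c1 : restrictFunctor V.ι ⋙ SuppCompare.TT (↑V : Scheme.{u}) ≅
      SuppCompare.TT Y ⋙ CohTop.restrFunctor V :=
    NatIso.ofComponents (fun _ => Iso.refl _)
  let c3 : pushforward V.ι ⋙ SuppCompare.TT Y ≅
      SuppCompare.TT (↑V : Scheme.{u}) ⋙ CohTop.push (CohCx.incl V) :=
    NatIso.ofComponents (fun _ => Iso.refl _)
  let i1 : T₁ V k ⋙ SuppCompare.TT Y ≅ (restrictFunctor V.ι ⋙ DCoh.gammaZ k) ⋙
      (SuppCompare.TT (↑V : Scheme.{u}) ⋙ CohTop.push (CohCx.incl V)) :=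
    Functor.isoWhiskerLeft (restrictFunctor V.ι ⋙ DCoh.gammaZ k) c3
  let i2 : (restrictFunctor V.ι ⋙ DCoh.gammaZ k) ⋙
      (SuppCompare.TT (↑V : Scheme.{u}) ⋙ CohTop.push (CohCx.incl V)) ≅
      restrictFunctor V.ι ⋙ ((SuppCompare.TT (↑V : Scheme.{u}) ⋙
        LocCohZ.sectSuppF (SuppFam.inOpen V W)) ⋙ CohTop.push (CohCx.incl V)) :=
    Functor.isoWhiskerLeft (restrictFunctor V.ι)
      (Functor.isoWhiskerRight c2 (CohTop.push (CohCx.incl V)))
  let i3 : restrictFunctor V.ι ⋙ ((SuppCompare.TT (↑V : Scheme.{u}) ⋙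
        LocCohZ.sectSuppF (SuppFam.inOpen V W)) ⋙ CohTop.push (CohCx.incl V)) ≅
      SuppCompare.TT Y ⋙ SuppFam.sectSuppLC (X := Y.carrier) h :=
    Functor.isoWhiskerRight c1
      (LocCohZ.sectSuppF (SuppFam.inOpen V W) ⋙ CohTop.push (CohCx.incl V))
  exact ⟨i1 ≪≫ i2 ≪≫ i3⟩

end Compare

end Groth.Agent.Lib.Helper13.LocCohLC

namespace Groth.Agent.Lib.Helper13.LocCohLC

open CategoryTheory CategoryTheory.Limits AlgebraicGeometry TopologicalSpace Opposite
open AlgebraicGeometry.Scheme.Modules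
open Groth.Agent.Lib.Helper13 Groth.Agent.Lib.Helper2

/-- **Local cohomology sheaves with support in a locally closed subset are quasi-coherent.** -/
theorem exists_isQuasicoherent_iso (Y : Scheme.{u}) {V₂ V₁ : Y.Opens} (h : V₂ ≤ V₁)
    [QuasiCompact V₁.ι] [QuasiCompact V₂.ι] (F : Y.Modules) [F.IsQuasicoherent] (i : ℕ) :
    ∃ M : Y.Modules, M.IsQuasicoherent ∧
      Nonempty (Coh.toAb M ≅ (SuppFam.HZshLC (X := Y.carrier) h i).obj (Coh.toAb F)) := by
  haveI : EnoughInjectives Y.Modules := ModGrothendieck.enoughInjectives Y.ringCatSheaf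
  haveI : QuasiCompact (Y.homOfLE h ≫ V₁.ι) := by
    rw [Scheme.homOfLE_ι]
    infer_instance
  refine ⟨((T₁ V₁ (Y.homOfLE h)).rightDerived i).obj F, qc_T₁ V₁ (Y.homOfLE h) F i, ?_⟩
  obtain ⟨c⟩ := nonempty_compare V₁ (Y.homOfLE h) h (Scheme.opensRange_homOfLE h)
  have hIab : ∀ I : Y.Modules, Injective I → ∀ n : ℕ,
      IsZero (((SuppFam.sectSuppLC (X := Y.carrier) h).rightDerived (n + 1)).obj
        ((SuppCompare.TT Y).obj I)) := by
    intro I hI n
    haveI := SuppCompare.isFlasque_toAb_of_injective I hI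
    exact SuppCompare.isZero_rightDerived_sectSuppLC_of_isFlasque h _ n
  obtain ⟨e3⟩ := GSS.nonempty_rightDerived_comp_iso (SuppCompare.TT Y)
    (SuppFam.sectSuppLC (X := Y.carrier) h) hIab i F
  exact ⟨(DerivedCommute.rightDerivedCompExactObjIso (T₁ V₁ (Y.homOfLE h))
      (SuppCompare.TT Y) i F).symm ≪≫
    DerivedCommute.rightDerivedObjIsoOfNatIso c i F ≪≫ e3⟩

end Groth.Agent.Lib.Helper13.LocCohLC
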