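import Groth.Agent.Lib.Helper13.QCohRpush
import Groth.Agent.Lib.Helper13.DerivedExact
import Groth.Agent.Lib.Helper2.GSS.FunctorSESZero
import Groth.Prelude.Def_DCoh2

/-!
# Local cohomology sheaves of quasi-coherent modules are quasi-coherent (helper13)

For a quasi-compact open immersion `j : U ⟶ Y` and `Γ_Z = ker (id ⟶ j_* j^*)` on `O_Y`-modules:
`R^q Γ_Z M` is quasi-coherent for quasi-coherent `M`.  Uses helper2's long exact sequence of a short exact
sequence of functors (`FunctorSES`) for `0 ⟶ Γ_Z ⟶ id ⟶ j_* j^*` and `QCohRpush.isQuasicoherent_Rpush`.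
-/

set_option autoImplicit false
universe u

namespace Groth.Agent.Lib.Helper13.LocCohQC

open CategoryTheory CategoryTheory.Limits AlgebraicGeometry Opposite TopologicalSpace
open AlgebraicGeometry.Scheme.Modules
open Groth.Agent.Lib.Helper13 Groth.Agent.Lib.Helper13.RelMVMod
open Groth.Agent.Lib.Helper2 Groth.Agent.Lib.Helper3

/-- an exact complex `A ⟶ B ⟶ D` with `B ⟶ D` epi identifies `D` with the cokernel. -/
lemma nonempty_cokernel_iso {C : Type*} [Category C] [Abelian C] {A B D : C} (f : A ⟶ B) (g : B ⟶ D)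
    (w : f ≫ g = 0) (hex : (ShortComplex.mk f g w).Exact) (hg : Epi g) :
    Nonempty (cokernel f ≅ D) := by
  haveI := hg
  haveI : Mono (cokernel.desc f g w) := hex.mono_cokernelDesc
  haveI : Epi (cokernel.desc f g w) := epi_of_epi_fac (cokernel.π_desc f g w)
  haveI : IsIso (cokernel.desc f g w) := isIso_of_mono_of_epi _
  exact ⟨asIso (cokernel.desc f g w)⟩

section Abstract

variable {𝒜 ℬ : Type*} [Category 𝒜] [Abelian 𝒜] [Category ℬ] [Abelian ℬ]
  {G T₂ T₃ : 𝒜 ⥤ ℬ} [G.Additive] [T₂.Additive] [T₃.Additive]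
  [PreservesFiniteLimits T₂] [PreservesFiniteLimits T₃]

/-- the pointwise kernel of a morphism of left exact functors is left exact. -/
theorem preservesFiniteLimits_of_kernel (a : G ⟶ T₂) (b : T₂ ⟶ T₃)
    (hab : ∀ X, a.app X ≫ b.app X = 0) (hmono : ∀ X, Mono (a.app X))
    (hlift : ∀ (X : 𝒜) {W : ℬ} (l : W ⟶ T₂.obj X), l ≫ b.app X = 0 →
      ∃ l' : W ⟶ G.obj X, l' ≫ a.app X = l) : PreservesFiniteLimits G := by
  rw [Functor.preservesFiniteLimits_iff_forall_exact_map_and_mono]
  intro S hS
  obtain ⟨hex₂, hm₂⟩ :=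
    (Functor.preservesFiniteLimits_iff_forall_exact_map_and_mono T₂).1 inferInstance S hS
  obtain ⟨_, hm₃⟩ :=
    (Functor.preservesFiniteLimits_iff_forall_exact_map_and_mono T₃).1 inferInstance S hS
  haveI := hmono
  have nat₁ : G.map S.f ≫ a.app S.X₂ = a.app S.X₁ ≫ T₂.map S.f := a.naturality S.f
  have nat₂ : G.map S.g ≫ a.app S.X₃ = a.app S.X₂ ≫ T₂.map S.g := a.naturality S.g
  have hmonoG : Mono (G.map S.f) := by
    haveI : Mono (G.map S.f ≫ a.app S.X₂) := by
      rw [nat₁]
      exact mono_comp _ _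
    exact mono_of_mono _ (a.app S.X₂)
  have key : ∀ {W : ℬ} (x : W ⟶ G.obj S.X₂), x ≫ G.map S.g = 0 →
      ∃ l : W ⟶ G.obj S.X₁, l ≫ G.map S.f = x := by
    intro W x hx
    have ha : (x ≫ a.app S.X₂) ≫ T₂.map S.g = 0 := by
      rw [Category.assoc, ← nat₂, ← Category.assoc, hx, zero_comp]
    haveI : Mono (S.map T₂).f := hm₂
    obtain ⟨l, hl⟩ : ∃ l : W ⟶ T₂.obj S.X₁, l ≫ T₂.map S.f = x ≫ a.app S.X₂ :=
      ⟨hex₂.lift (x ≫ a.app S.X₂) ha, hex₂.lift_f _ ha⟩
    have hl0 : l ≫ b.app S.X₁ = 0 := by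
      haveI : Mono (T₃.map S.f) := hm₃
      rw [← cancel_mono (T₃.map S.f), Category.assoc, zero_comp]
      have hn : b.app S.X₁ ≫ T₃.map S.f = T₂.map S.f ≫ b.app S.X₂ := (b.naturality S.f).symm
      rw [hn, ← Category.assoc, hl, Category.assoc, hab, comp_zero]
    obtain ⟨l', hl'⟩ := hlift S.X₁ l hl0
    refine ⟨l', ?_⟩
    rw [← cancel_mono (a.app S.X₂), Category.assoc, nat₁, ← Category.assoc, hl', hl]
  haveI : Mono (S.map G).f := hmonoG
  have hlim : IsLimit (KernelFork.ofι (S.map G).f (S.map G).zero) :=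
    KernelFork.IsLimit.ofι' _ _ (fun {W} x hx => ⟨(key x hx).choose, (key x hx).choose_spec⟩)
  exact ⟨ShortComplex.exact_of_f_is_kernel _ hlim, hmonoG⟩

end Abstract

variable {U Y : Scheme.{u}} (j : U ⟶ Y) [IsOpenImmersion j]

/-- `j_* j^*`. -/
noncomputable abbrev T₃ : Y.Modules ⥤ Y.Modules := restrictFunctor j ⋙ pushforward j

/-- the inclusion `Γ_Z ⟶ id`. -/
noncomputable def α : DCoh.gammaZ j ⟶ 𝟭 Y.Modules where
  app F := kernel.ι ((restrictAdjunction j).unit.app F)
  naturality F G φ :=
    kernel.lift_ι ((restrictAdjunction j).unit.app G)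
      (kernel.ι ((restrictAdjunction j).unit.app F) ≫ φ) _

instance (F : Y.Modules) : Mono ((α j).app F) :=
  inferInstanceAs (Mono (kernel.ι ((restrictAdjunction j).unit.app F)))

/-- the unit `id ⟶ j_* j^*`. -/
noncomputable abbrev β : 𝟭 Y.Modules ⟶ T₃ j := (restrictAdjunction j).unit

lemma αβ : α j ≫ β j = 0 := by
  apply NatTrans.ext
  funext F
  exact kernel.condition _

lemma α_app_β_app (F : Y.Modules) : (α j).app F ≫ (β j).app F = 0 :=
  kernel.condition _

lemma epi_unit_of_injective (I : Y.Modules) (hInj : Injective I) :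
    Epi ((restrictAdjunction j).unit.app I) := by
  apply QCProps.epi_of_app_surjective
  intro V
  haveI : Mono (homOfLE (j.image_preimage_le V)) := ⟨fun _ _ _ => Subsingleton.elim _ _⟩
  exact @InjRestrSurj.restriction_surjective _ _ _ Y.ringCatSheaf I hInj _ _
    (homOfLE (j.image_preimage_le V)) inferInstance

instance : PreservesFiniteLimits (T₃ j) := comp_preservesFiniteLimits _ _

/-- `Γ_Z` is left exact. -/
instance preservesFiniteLimits_gammaZ : PreservesFiniteLimits (DCoh.gammaZ j) :=
  preservesFiniteLimits_of_kernel (α j) (β j) (fun X => kernel.condition _)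
    (fun X => inferInstanceAs (Mono (kernel.ι ((restrictAdjunction j).unit.app X))))
    (fun X {W} l hl0 => ⟨kernel.lift ((restrictAdjunction j).unit.app X) l hl0,
      kernel.lift_ι _ _ _⟩)

/-- restrictions of injective modules along open immersions are flasque. -/
lemma isFlasque_restrict_of_injective (I : Y.Modules) (hI : Injective I) :
    TopCat.Sheaf.IsFlasque (Coh.toAb ((restrictFunctor j).obj I)) where
  epi {A B} i := by
    rw [AddCommGrpCat.epi_iff_surjective]
    haveI : Mono (j.opensFunctor.map i.unop) := ⟨fun _ _ _ => Subsingleton.elim _ _⟩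
    exact @InjRestrSurj.restriction_surjective _ _ _ Y.ringCatSheaf I hI _ _
      (j.opensFunctor.map i.unop) inferInstance

variable [HasInjectiveResolutions Y.Modules]

lemma hI (I : Y.Modules) (hI : Injective I) :
    (ShortComplex.mk ((α j).app I) ((β j).app I)
      (FunctorSES.app_comp_app (α j) (β j) (αβ j) I)).ShortExact := by
  haveI := epi_unit_of_injective j I hI
  exact
    { exact := ShortComplex.exact_of_f_is_kernel _ (kernelIsKernel _)
      mono_f := inferInstanceAs (Mono (kernel.ι ((restrictAdjunction j).unit.app I)))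
      epi_g := inferInstanceAs (Epi ((restrictAdjunction j).unit.app I)) }

theorem isQuasicoherent_rightDerived_gammaZ [QuasiCompact j]
    (M : Y.Modules) [hM : M.IsQuasicoherent] (q : ℕ) :
    (((DCoh.gammaZ j).rightDerived q).obj M).IsQuasicoherent := by
  haveI : EnoughInjectives Y.Modules := ModGrothendieck.enoughInjectives Y.ringCatSheaf
  haveI : EnoughInjectives U.Modules := ModGrothendieck.enoughInjectives U.ringCatSheaf
  haveI hN : ((restrictFunctor j).obj M).IsQuasicoherent :=
    Scheme.Modules.isQuasicoherent_restrictFunctor j M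
  haveI hP : ((pushforward j).obj ((restrictFunctor j).obj M)).IsQuasicoherent :=
    QCSec.isQuasicoherent_pushforward j _
  haveI h1 : ((𝟭 Y.Modules).obj M).IsQuasicoherent := hM
  haveI h2 : ((restrictFunctor j ⋙ pushforward j).obj M).IsQuasicoherent := hP
  have hz : ∀ (k : ℕ) (F : Y.Modules), IsZero (((𝟭 Y.Modules).rightDerived (k + 1)).obj F) :=
    fun k F => DerivedExact.isZero_rightDerived_succ_of_exact _ k F
  match q with
  | 0 =>
    refine (SheafOfModules.isQuasicoherent Y.ringCatSheaf).prop_of_iso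
      ((DCoh.gammaZ j).rightDerivedZeroIsoSelf.app M).symm ?_
    exact QCProps.isQuasicoherent_kernel ((restrictAdjunction j).unit.app M)
  | 1 =>
    have hex := FunctorSES.exact_delta0 (α j) (β j) (αβ j) (hI j) M
    have hep := FunctorSES.epi_delta0 (α j) (β j) (αβ j) (hI j) M (hz 0 M)
    obtain ⟨e⟩ := nonempty_cokernel_iso _ _ _ hex hep
    refine (SheafOfModules.isQuasicoherent Y.ringCatSheaf).prop_of_iso e ?_
    exact QCProps.isQuasicoherent_cokernel ((restrictAdjunction j).unit.app M)
  | k + 2 =>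
    have hiso : IsIso ((FunctorSES.delta (α j) (β j) (αβ j) (hI j) (k + 1)).app M) :=
      FunctorSES.isIso_delta_app (α j) (β j) (αβ j) (hI j) (k + 1) M (hz k M) (hz (k + 1) M)
    have hacyc : ∀ I : Y.Modules, Injective I → ∀ n : ℕ,
        IsZero (((pushforward j).rightDerived (n + 1)).obj ((restrictFunctor j).obj I)) := by
      intro I hI n
      haveI := isFlasque_restrict_of_injective j I hI
      refine (RpushCompare.isZero_Rpush_iff j ((restrictFunctor j).obj I) (n + 1)).2 ?_
      exact LocallyZero.isZero_Rpush_of_basis j.base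
        (Coh.toAb ((restrictFunctor j).obj I)) (n + 1) Set.univ (RpushCompare.isBasis_univ _)
        (fun B _ => Groth.Agent.Lib.Helper1.FlasqueAcyclic.flasque_HU_subsingleton
          (Coh.toAb ((restrictFunctor j).obj I)) _ n)
    obtain ⟨e1⟩ := GSS.nonempty_rightDerived_comp_iso (restrictFunctor j) (pushforward j) hacyc
      (k + 1) M
    have hq : (((pushforward j).rightDerived (k + 1)).obj ((restrictFunctor j).obj M)).IsQuasicoherent :=
      QCohRpush.isQuasicoherent_Rpush j ((restrictFunctor j).obj M) (k + 1)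
    exact (SheafOfModules.isQuasicoherent Y.ringCatSheaf).prop_of_iso
      (e1.symm ≪≫ @asIso _ _ _ _ _ hiso) hq

end Groth.Agent.Lib.Helper13.LocCohQC
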