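import Groth.Agent.Lib.Helper13.WayOut
import Groth.Agent.Lib.Helper13.LocCohQC
import Groth.Agent.Lib.Helper3.ModBasic
import Groth.Agent.Lib.Helper3.QCOpen
import Groth.Prelude.Def_CohB1

/-!
# `RΓ_Z` on `D⁺` preserves quasi-coherent cohomology (helper13)
-/

set_option autoImplicit false
set_option backward.isDefEq.respectTransparency false
universe u

namespace Groth.Agent.Lib.Helper13.LocCohPlus

open CategoryTheory CategoryTheory.Limits AlgebraicGeometry Opposite TopologicalSpace
open AlgebraicGeometry.Scheme.Modules
open Groth.Agent.Lib.Helper13 Groth.Agent.Lib.Helper2 Groth.Agent.Lib.Helper3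

attribute [local instance] HasDerivedCategory.standard

/-- quasi-coherent modules are closed under kernels, cokernels and extensions. -/
lemma closed_qcoh (X : Scheme.{u}) :
    WayOut.Closed (D := X.Modules) (fun M : X.Modules => M.IsQuasicoherent) where
  zero M hM := QCOpen.isQuasicoherent_of_isZero hM
  five a b c d w₁ w₂ w₃ e₁ e₂ e₃ h₁ h₂ h₄ h₅ := by
    haveI := h₁
    haveI := h₂
    haveI := h₄
    haveI := h₅
    exact QCohRpush.isQuasicoherent_of_exact5 a b c d e₁.exact_toComposableArrows
      e₂.exact_toComposableArrows e₃.exact_toComposableArrows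

variable {U X : Scheme.{u}} (j : U ⟶ X) [IsOpenImmersion j]

/-- `Γ_Z F` restricts to zero on `U`. -/
lemma isZero_restrict_gammaZ (F : X.Modules) :
    IsZero ((restrictFunctor j).obj ((DCoh.gammaZ j).obj F)) := by
  have h1 : (restrictFunctor j).map (kernel.ι ((restrictAdjunction j).unit.app F)) ≫
      (restrictFunctor j).map ((restrictAdjunction j).unit.app F) = 0 := by
    rw [← Functor.map_comp, kernel.condition, Functor.map_zero]
  haveI : Mono ((restrictFunctor j).map ((restrictAdjunction j).unit.app F)) :=
    mono_of_mono_fac ((restrictAdjunction j).left_triangle_components F)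
  have h2 : (restrictFunctor j).map (kernel.ι ((restrictAdjunction j).unit.app F)) = 0 := by
    rw [← cancel_mono ((restrictFunctor j).map ((restrictAdjunction j).unit.app F)), h1, zero_comp]
  haveI : Mono ((restrictFunctor j).map (kernel.ι ((restrictAdjunction j).unit.app F))) :=
    inferInstance
  exact IsZero.of_mono_eq_zero _ h2

/-- if `K^i` restricts to zero on `U` then so does `H^i K`. -/
lemma isZero_restrict_homology (K : CochainComplex X.Modules ℤ) (i : ℤ)
    (h : IsZero ((restrictFunctor j).obj (K.X i))) :
    IsZero ((restrictFunctor j).obj (K.homology i)) := by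
  haveI : Mono ((restrictFunctor j).map (K.iCycles i)) := inferInstance
  have h1 : IsZero ((restrictFunctor j).obj (K.cycles i)) :=
    IsZero.of_mono ((restrictFunctor j).map (K.iCycles i)) h
  haveI : (restrictFunctor j).PreservesEpimorphisms :=
    Functor.preservesEpimorphisms_of_adjunction (restrictAdjunction j)
  haveI : Epi ((restrictFunctor j).map (K.homologyπ i)) := inferInstance
  exact IsZero.of_epi ((restrictFunctor j).map (K.homologyπ i)) h1

/-- `RΓ_Z` preserves `D⁺_{QCoh}` and has cohomology supported in `Z`. -/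
theorem isQCohD_RgammaZPlus (X : Scheme.{u}) (U : X.Opens) [QuasiCompact U.ι]
    [EnoughInjectives X.Modules] (E : DerivedCategory.Plus X.Modules)
    (hE : DCoh.IsQCohD E.obj) :
    DCoh.IsQCohD ((DCoh.RgammaZPlus U.ι).obj E).obj ∧
    ∀ i : ℤ, CohB1.support (DCoh.HD ((DCoh.RgammaZPlus U.ι).obj E).obj i) ⊆ (U : Set X)ᶜ := by
  constructor
  · intro i
    exact WayOut.P_homology_rightDerivedFunctorPlus (DCoh.gammaZ U.ι)
      (P := fun M : X.Modules => M.IsQuasicoherent) (Q := fun M : X.Modules => M.IsQuasicoherent)
      (closed_qcoh X)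
      (fun M hM q => by
        haveI : M.IsQuasicoherent := hM
        exact LocCohQC.isQuasicoherent_rightDerived_gammaZ U.ι M q)
      (fun e hM => (closed_qcoh X).of_iso e hM) E hE i
  · intro i x hx hxU
    apply hx
    obtain ⟨K, hK, a, hlow, h1, h2⟩ := WayOut.exists_model (DCoh.gammaZ U.ι) E
    obtain ⟨e2⟩ := h2 i
    have hz : IsZero ((restrictFunctor U.ι).obj
        ((((DCoh.gammaZ U.ι).mapHomologicalComplex (ComplexShape.up ℤ)).obj K).homology i)) :=
      isZero_restrict_homology U.ι _ i (isZero_restrict_gammaZ U.ι (K.X i))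
    have hz' : IsZero ((DCoh.HD ((DCoh.RgammaZPlus U.ι).obj E).obj i).restrict U.ι) :=
      IsZero.of_iso hz ((restrictFunctor U.ι).mapIso e2)
    exact ModBasic.subsingleton_stalk_of_isZero_restrict (f := U.ι) hz' ⟨x, hxU⟩

end Groth.Agent.Lib.Helper13.LocCohPlus
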