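import Groth.Agent.Lib.Helper13.LocCohQC
import Groth.Agent.Lib.Helper13.QCDim
import Groth.Agent.Lib.Helper3.AssPoints

/-!
# Vanishing of local cohomology sheaves above the number of equations (helper13)

If the closed subset `T = X ∖ U` is locally cut out by at most `c` functions then `ℋ^i_T(F) = 0` for `i > c` and
`F` quasi-coherent.
-/

set_option autoImplicit false
universe u

namespace Groth.Agent.Lib.Helper13.LocCohVanish

open CategoryTheory CategoryTheory.Limits AlgebraicGeometry Opposite TopologicalSpace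
open AlgebraicGeometry.Scheme.Modules
open Groth.Agent.Lib.Helper13 Groth.Agent.Lib.Helper13.QCDim Groth.Agent.Lib.Helper13.LocCohQC
open Groth.Agent.Lib.Helper2 Groth.Agent.Lib.Helper3

variable {X : Scheme.{u}} (U : X.Opens)

/-- the basis of affine opens on which `T` is cut out by at most `c` functions. -/
def goodOpens (c : ℕ) : Set X.Opens :=
  {V | IsAffineOpen V ∧ ∃ fs : Finset Γ(X, V), fs.card ≤ c ∧
    X.zeroLocus (U := V) (↑fs : Set Γ(X, V)) ∩ (V : Set ↥X) = (U : Set ↥X)ᶜ ∩ (V : Set ↥X)}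

lemma isBasis_goodOpens (c : ℕ)
    (hT : ∀ x : X, ∃ (V : X.Opens) (fs : Finset Γ(X, V)), x ∈ V ∧ fs.card ≤ c ∧
      X.zeroLocus (U := V) (↑fs : Set Γ(X, V)) ∩ (V : Set ↥X) = (U : Set ↥X)ᶜ ∩ (V : Set ↥X)) :
    Opens.IsBasis (goodOpens U c) := by
  classical
  rw [Opens.isBasis_iff_nbhd]
  intro W x hxW
  obtain ⟨V, fs, hxV, hcard, hfs⟩ := hT x
  obtain ⟨V', hV', hxV', hle⟩ :=
    (Opens.isBasis_iff_nbhd.1 X.isBasis_affineOpens) (show x ∈ V ⊓ W from ⟨hxV, hxW⟩)
  have hV'V : V' ≤ V := hle.trans inf_le_left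
  refine ⟨V', ⟨hV', fs.image (fun f => X.presheaf.map (homOfLE hV'V).op f),
    Finset.card_image_le.trans hcard, ?_⟩, hxV', hle.trans inf_le_right⟩
  ext y
  simp only [Set.mem_inter_iff, SetLike.mem_coe, Set.mem_compl_iff]
  constructor
  · rintro ⟨hy, hyV'⟩
    refine ⟨?_, hyV'⟩
    have hyz : y ∈ X.zeroLocus (U := V) (↑fs : Set Γ(X, V)) := by
      rw [Scheme.mem_zeroLocus_iff]
      intro f hf hyf
      rw [Scheme.mem_zeroLocus_iff] at hy
      refine hy (X.presheaf.map (homOfLE hV'V).op f) ?_ ?_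
      · exact Finset.mem_coe.2 (Finset.mem_image.2 ⟨f, hf, rfl⟩)
      · rw [Scheme.basicOpen_res]
        exact ⟨hyV', hyf⟩
    have := (Set.ext_iff.1 hfs y).1 ⟨hyz, hV'V hyV'⟩
    exact this.1
  · rintro ⟨hyU, hyV'⟩
    refine ⟨?_, hyV'⟩
    have hyz : y ∈ X.zeroLocus (U := V) (↑fs : Set Γ(X, V)) :=
      ((Set.ext_iff.1 hfs y).2 ⟨hyU, hV'V hyV'⟩).1
    rw [Scheme.mem_zeroLocus_iff] at hyz ⊢
    intro g hg hyg
    obtain ⟨f, hf, rfl⟩ := Finset.mem_image.1 (Finset.mem_coe.1 hg)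
    rw [Scheme.basicOpen_res] at hyg
    exact hyz f hf hyg.2

/-- on a good open `V`, the open `U ∩ V` of `U` has a cohomological dimension certificate. -/
lemma qc_preimage (c : ℕ) (V : X.Opens) (hV : V ∈ goodOpens U c) :
    QC (c - 1 + 1) (U.ι ⁻¹ᵁ V) := by
  classical
  obtain ⟨hVaff, fs, hcard, hfs⟩ := hV
  have hfU : ∀ f ∈ fs, X.basicOpen f ≤ U := by
    intro f hf y hy
    by_contra hyU
    have h1 : y ∈ X.zeroLocus (U := V) (↑fs : Set Γ(X, V)) :=
      ((Set.ext_iff.1 hfs y).2 ⟨hyU, X.basicOpen_le f hy⟩).1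
    rw [Scheme.mem_zeroLocus_iff] at h1
    exact h1 f hf hy
  let P : (↑U : Scheme.{u}).Opens → Prop := fun W =>
    ∃ g : Γ(X, V), X.basicOpen g ≤ U ∧ W = U.ι ⁻¹ᵁ X.basicOpen g
  have hP : ∀ W, P W → IsAffineOpen W := by
    rintro W ⟨g, hg, rfl⟩
    exact (hVaff.basicOpen g).preimage_of_isOpenImmersion U.ι
      (by rw [Scheme.Opens.opensRange_ι]; exact hg)
  have hd : ∀ W W', P W → P W' → P (W ⊓ W') := by
    rintro W W' ⟨g, hg, rfl⟩ ⟨g', hg', rfl⟩
    refine ⟨g * g', ?_, ?_⟩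
    · rw [X.basicOpen_mul]
      exact inf_le_left.trans hg
    · rw [X.basicOpen_mul]
      rfl
  let S : Finset (↑U : Scheme.{u}).Opens := fs.image (fun f => U.ι ⁻¹ᵁ X.basicOpen f)
  have hS : S.card ≤ c - 1 + 1 := (Finset.card_image_le.trans hcard).trans (by omega)
  have hSP : ∀ W ∈ S, P W := by
    intro W hW
    obtain ⟨f, hf, rfl⟩ := Finset.mem_image.1 hW
    exact ⟨f, hfU f hf, rfl⟩
  have hqc := QC.finset_sup P hP hd (c - 1) S hS hSP
  have hsup : S.sup id = U.ι ⁻¹ᵁ V := by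
    apply le_antisymm
    · apply Finset.sup_le
      intro W hW
      obtain ⟨f, hf, rfl⟩ := Finset.mem_image.1 hW
      exact fun y hy => X.basicOpen_le f hy
    · intro y hy
      have hyV : U.ι y ∈ V := hy
      have hyU : U.ι y ∈ U := y.2
      have hnz : U.ι y ∉ X.zeroLocus (U := V) (↑fs : Set Γ(X, V)) := by
        intro hz
        exact ((Set.ext_iff.1 hfs (U.ι y)).1 ⟨hz, hyV⟩).1 hyU
      rw [Scheme.mem_zeroLocus_iff] at hnz
      push Not at hnz
      obtain ⟨f, hf, hyf⟩ := hnz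
      have hmem : U.ι ⁻¹ᵁ X.basicOpen f ∈ S := Finset.mem_image.2 ⟨f, hf, rfl⟩
      exact (Finset.le_sup (f := id) hmem) hyf
  rw [← hsup]
  exact hqc

variable [HasInjectiveResolutions X.Modules]

/-- **Vanishing of `ℋ^i_T(F)` above the number of equations.** -/
theorem isZero_rightDerived_gammaZ (c : ℕ)
    (hT : ∀ x : X, ∃ (V : X.Opens) (fs : Finset Γ(X, V)), x ∈ V ∧ fs.card ≤ c ∧
      X.zeroLocus (U := V) (↑fs : Set Γ(X, V)) ∩ (V : Set ↥X) = (U : Set ↥X)ᶜ ∩ (V : Set ↥X))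
    (F : X.Modules) [hF : F.IsQuasicoherent] (i : ℕ) (hi : c < i) :
    IsZero (((DCoh.gammaZ U.ι).rightDerived i).obj F) := by
  haveI : EnoughInjectives X.Modules := ModGrothendieck.enoughInjectives X.ringCatSheaf
  haveI : EnoughInjectives (↑U : Scheme.{u}).Modules :=
    ModGrothendieck.enoughInjectives (↑U : Scheme.{u}).ringCatSheaf
  haveI hG : ((restrictFunctor U.ι).obj F).IsQuasicoherent :=
    Scheme.Modules.isQuasicoherent_restrictFunctor U.ι F
  have hz : ∀ (k : ℕ) (F : X.Modules), IsZero (((𝟭 X.Modules).rightDerived (k + 1)).obj F) :=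
    fun k F => DerivedExact.isZero_rightDerived_succ_of_exact _ k F
  have key : ∀ q, c ≤ q → 1 ≤ q →
      IsZero (((pushforward U.ι).rightDerived q).obj ((restrictFunctor U.ι).obj F)) := by
    intro q hq hq1
    refine (RpushCompare.isZero_Rpush_iff U.ι ((restrictFunctor U.ι).obj F) q).2 ?_
    refine LocallyZero.isZero_Rpush_of_basis U.ι.base (Coh.toAb ((restrictFunctor U.ι).obj F)) q
      (goodOpens U c) (isBasis_goodOpens U c hT) ?_
    intro V hV
    exact (qc_preimage U c V hV).vanish ((restrictFunctor U.ι).obj F) q (by omega)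
  match i, hi with
  | 0, hi => exact absurd hi (Nat.not_lt_zero c)
  | 1, hi =>
    have hc : c = 0 := by omega
    subst hc
    have hempty : ∀ y : (↑U : Scheme.{u}), False := by
      intro y
      obtain ⟨V, fs, hxV, hcard, hfs⟩ := hT (U.ι y)
      have hfs0 : fs = ∅ := Finset.card_eq_zero.1 (Nat.le_zero.1 hcard)
      subst hfs0
      have h1 : U.ι y ∈ X.zeroLocus (U := V) (↑(∅ : Finset Γ(X, V)) : Set Γ(X, V)) := by
        rw [Scheme.mem_zeroLocus_iff]
        intro f hf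
        simp at hf
      exact ((Set.ext_iff.1 hfs (U.ι y)).1 ⟨h1, hxV⟩).1 y.2
    have hzero : IsZero ((restrictFunctor U.ι).obj F) :=
      QS.isZero_of_subsingleton_stalk _ (fun y => (hempty y).elim)
    have hzero' : IsZero ((restrictFunctor U.ι ⋙ pushforward U.ι).obj F) :=
      (pushforward U.ι).map_isZero hzero
    have hex := FunctorSES.exact_delta0 (α U.ι) (β U.ι) (αβ U.ι) (hI U.ι) F
    have hep := FunctorSES.epi_delta0 (α U.ι) (β U.ι) (αβ U.ι) (hI U.ι) F (hz 0 F)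
    haveI := hep
    exact IsZero.of_epi ((FunctorSES.delta0 (α U.ι) (β U.ι) (αβ U.ι) (hI U.ι)).app F) hzero'
  | k + 2, hi =>
    have hiso : IsIso ((FunctorSES.delta (α U.ι) (β U.ι) (αβ U.ι) (hI U.ι) (k + 1)).app F) :=
      FunctorSES.isIso_delta_app (α U.ι) (β U.ι) (αβ U.ι) (hI U.ι) (k + 1) F (hz k F)
        (hz (k + 1) F)
    have hacyc : ∀ I : X.Modules, Injective I → ∀ n : ℕ,
        IsZero (((pushforward U.ι).rightDerived (n + 1)).obj ((restrictFunctor U.ι).obj I)) := by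
      intro I hI n
      haveI := isFlasque_restrict_of_injective U.ι I hI
      refine (RpushCompare.isZero_Rpush_iff U.ι ((restrictFunctor U.ι).obj I) (n + 1)).2 ?_
      exact LocallyZero.isZero_Rpush_of_basis U.ι.base
        (Coh.toAb ((restrictFunctor U.ι).obj I)) (n + 1) Set.univ (RpushCompare.isBasis_univ _)
        (fun B _ => Groth.Agent.Lib.Helper1.FlasqueAcyclic.flasque_HU_subsingleton
          (Coh.toAb ((restrictFunctor U.ι).obj I)) _ n)
    obtain ⟨e1⟩ := GSS.nonempty_rightDerived_comp_iso (restrictFunctor U.ι) (pushforward U.ι) hacyc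
      (k + 1) F
    exact IsZero.of_iso (key (k + 1) (by omega) (by omega))
      ((e1.symm ≪≫ @asIso _ _ _ _ _ hiso).symm)

end Groth.Agent.Lib.Helper13.LocCohVanish
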