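import Mathlib
import Groth.Agent.Lib.Helper13.FibreUSC
import Groth.Agent.Lib.Helper13.PerfTor
import Groth.Agent.Lib.Helper13.FreeLocus
import Groth.Agent.Lib.Helper17.PbStalk
import Groth.Agent.S0020

/-!
# Derived fibres of perfect objects at a point: base change of the top cohomology sheaf and
vanishing near the point (helper13)

* `IsPt.isZero_of_subsingleton`, `IsPt.isIso_of_epi_of_finrank_eq`: modules on a one-point scheme.
* `isPerfect_restrict`: restriction of a perfect object along an open immersion is perfect.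
* `nonempty_lpull_restrict`: `Lg^* E ≅ Lg'^* (E|_T)` if `g = g' ≫ j`, `j : T ⟶ X` an open immersion.
* `topBC`: if `H^k(E) = 0` for `k > n` (`E` perfect) then `H^n(Lg^* E) ≅ g^* H^n(E)` for a morphism
  `g` from a one-point scheme.
* `kl`: if `H^k(Lg^* E) = 0` for `k > m` then `H^k(E)` vanishes near the image point for `k > m`.
* `kl_all`: if `Lg^* E` is acyclic then `E` vanishes near the image point.
-/

set_option autoImplicit false
set_option backward.isDefEq.respectTransparency false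
universe u

namespace Groth.Agent.Lib.Helper13.PtFibre

open CategoryTheory CategoryTheory.Limits AlgebraicGeometry TopologicalSpace Opposite
open AlgebraicGeometry.Scheme.Modules
open Groth.Agent.Lib.Helper13 Groth.Agent.Lib.Helper13.PtEval
  Groth.Agent.Lib.Helper13.FibreEuler Groth.Agent.Lib.Helper13.FibreUSC
  Groth.Agent.Lib.Helper13.PerfTri Groth.Agent.Lib.Helper13.PCohFT
  Groth.Agent.Lib.Helper13.GoodMap
open Groth.Agent.Lib.Helper2.Stk Groth.Agent.Lib.Helper3 Groth.Agent.Lib.Helper17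
attribute [local instance] HasDerivedCategory.standard

/-! ### modules on a one-point scheme -/

section Pt

variable {Z : Scheme.{u}}

lemma IsPt.isZero_of_subsingleton (hZ : IsPt Z) (M : Z.Modules)
    (h : Subsingleton (M.val.obj (op ⊤))) : IsZero M := by
  apply QS.isZero_of_subsingleton_stalk
  intro z
  haveI : Subsingleton Γ(M, ⊤) := h
  refine ⟨fun a b => ?_⟩
  obtain ⟨U, hzU, s, rfl⟩ := TopCat.Presheaf.exists_germ_eq M.presheaf a
  obtain ⟨U', hzU', s', rfl⟩ := TopCat.Presheaf.exists_germ_eq M.presheaf b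
  obtain rfl := hZ.eq_top U z hzU
  obtain rfl := hZ.eq_top U' z hzU'
  rw [Subsingleton.elim s s']

lemma IsPt.isIso_of_epi_of_finrank_eq (hZ : IsPt Z) {A B : Z.Modules} (φ : A ⟶ B) [Epi φ]
    (hA : Module.Finite (Coh.Γtop Z) (A.val.obj (op ⊤)))
    (hd : Module.finrank (Coh.Γtop Z) (A.val.obj (op ⊤)) =
      Module.finrank (Coh.Γtop Z) (B.val.obj (op ⊤))) : IsIso φ := by
  have hS : (ShortComplex.mk (kernel.ι φ) φ (kernel.condition φ)).ShortExact :=
    ShortComplex.ShortExact.mk' (ShortComplex.exact_of_f_is_kernel _ (kernelIsKernel φ))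
      inferInstance inferInstance
  obtain ⟨hK, -, hadd⟩ := hZ.dimFn.ses _ hS hA
  have hadd' : ((Module.finrank (Coh.Γtop Z) (A.val.obj (op ⊤)) : ℕ) : ℤ) =
      ((Module.finrank (Coh.Γtop Z) ((kernel φ : Z.Modules).val.obj (op ⊤)) : ℕ) : ℤ) +
        ((Module.finrank (Coh.Γtop Z) (B.val.obj (op ⊤)) : ℕ) : ℤ) := hadd
  have h0 : Module.finrank (Coh.Γtop Z) ((kernel φ : Z.Modules).val.obj (op ⊤)) = 0 := by
    omega
  have hsub : Subsingleton ((kernel φ : Z.Modules).val.obj (op ⊤)) := by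
    letI := hZ.isField.toField
    haveI : Module.Finite (Coh.Γtop Z) ((kernel φ : Z.Modules).val.obj (op ⊤)) := hK
    exact (Module.finrank_eq_zero_iff_of_free (Coh.Γtop Z) _).1 h0
  have hz : IsZero (kernel φ) := IsPt.isZero_of_subsingleton hZ _ hsub
  haveI : Mono φ := Preadditive.mono_of_isZero_kernel φ hz
  exact isIso_of_mono_of_epi φ

lemma lift_pt (hZ : IsPt Z) {T X : Scheme.{u}} (g : Z ⟶ X) (z : Z) (j : T ⟶ X)
    [IsOpenImmersion j] (h : g z ∈ Set.range j) : ∃ g' : Z ⟶ T, g' ≫ j = g := by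
  have hr : Set.range g ⊆ Set.range j := by
    rintro _ ⟨z', rfl⟩
    have h1 : g ⁻¹ᵁ j.opensRange = ⊤ := hZ.eq_top (g ⁻¹ᵁ j.opensRange) z h
    have h2 : z' ∈ g ⁻¹ᵁ j.opensRange := by
      rw [h1]
      trivial
    exact h2
  exact ⟨IsOpenImmersion.lift j g hr, IsOpenImmersion.lift_fac j g hr⟩

lemma lift_pt_opens (hZ : IsPt Z) {X : Scheme.{u}} (g : Z ⟶ X) (z : Z) (W : X.Opens)
    (h : g z ∈ W) : ∃ g' : Z ⟶ (W : Scheme.{u}), g' ≫ W.ι = g :=
  lift_pt hZ g z W.ι (by rw [Scheme.Opens.range_ι]; exact h)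

end Pt

/-! ### restriction and derived pullback -/

section Restrict

variable {X : Scheme.{u}}

lemma isPerfect_restrict {T : Scheme.{u}} (j : T ⟶ X) [IsOpenImmersion j] {K : DCoh.D X}
    (hK : DCoh.IsPerfect K) : DCoh.IsPerfect ((DCoh.restrictD j).obj K) := by
  apply isPerfect_of_LPD
  intro y
  obtain ⟨V, hxV, hV⟩ := (isPerfect_iff K).1 hK (j.base y)
  haveI : IsOpenImmersion (j.resLE V (j ⁻¹ᵁ V) le_rfl) := by
    rw [Scheme.Hom.resLE_eq_morphismRestrict]
    infer_instance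
  have h1 : LPD K ((j ⁻¹ᵁ V).ι ≫ j) :=
    LPD.comp (j.resLE V (j ⁻¹ᵁ V) le_rfl) V.ι ((j ⁻¹ᵁ V).ι ≫ j)
      (j.resLE_comp_ι (le_refl (j ⁻¹ᵁ V))).symm hV
  obtain ⟨E, hE, ⟨e⟩⟩ := h1
  obtain ⟨c⟩ := nonempty_resD_comp (j ⁻¹ᵁ V).ι j ((j ⁻¹ᵁ V).ι ≫ j) rfl K
  exact ⟨_, (j ⁻¹ᵁ V).ι, inferInstance, ⟨y, hxV⟩, rfl, E, hE, ⟨c ≪≫ e⟩⟩

lemma nonempty_lpull_restrict {Z T : Scheme.{u}} (j : T ⟶ X) [IsOpenImmersion j] (g' : Z ⟶ T)
    (g : Z ⟶ X) (hg : g' ≫ j = g) (E : DCoh.D X) [DCoh.HasLpull g] [DCoh.HasLpull g'] :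
    Nonempty ((DCoh.Lpull g).obj E ≅ (DCoh.Lpull g').obj ((DCoh.restrictD j).obj E)) := by
  haveI := hasLpull j
  haveI := hasLpull (g' ≫ j)
  obtain ⟨e1⟩ := nonempty_Lpull_congr hg.symm E
  obtain ⟨e3⟩ := nonempty_Lpull_openImmersion_iso j E
  exact ⟨e1 ≪≫ ((LpullComp g' j).app E).symm ≪≫ (DCoh.Lpull g').mapIso e3⟩

lemma nonempty_lpull_iso_of_rep {Z T : Scheme.{u}} (j : T ⟶ X) [IsOpenImmersion j] (g' : Z ⟶ T)
    (g : Z ⟶ X) (hg : g' ≫ j = g) (E : DCoh.D X) [DCoh.HasLpull g]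
    (P : CochainComplex T.Modules ℤ) (hP : DCoh.IsStrictlyPerfect P)
    (e : (DCoh.restrictD j).obj E ≅ DerivedCategory.Q.obj P) :
    Nonempty ((DCoh.Lpull g).obj E ≅ DerivedCategory.Q.obj ((pullC g').obj P)) := by
  haveI := hasLpull g'
  obtain ⟨e1⟩ := nonempty_lpull_restrict j g' g hg E
  exact ⟨e1 ≪≫ (DCoh.Lpull g').mapIso e ≪≫ LpullIso g' P (kflat_of_isStrictlyPerfect P hP)⟩

end Restrict

/-! ### truncation of a strictly perfect complex -/

section Trunc

lemma isIso_homologyι_of_isZero {𝒜 : Type*} [Category 𝒜] [Abelian 𝒜] (K : CochainComplex 𝒜 ℤ)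
    (n : ℤ) (h : IsZero (K.X (n + 1))) : IsIso (K.homologyι n) :=
  KernelFork.IsLimit.isIso_ι _ (K.homologyIsKernel n (n + 1) (by simp)) (h.eq_of_tgt _ _)

lemma truncLE_facts {T : Scheme.{u}} (P : CochainComplex T.Modules ℤ)
    (hP : DCoh.IsStrictlyPerfect P) (n : ℤ)
    (hvan : ∀ j : ℤ, n < j → IsZero (P.homology j)) :
    DCoh.IsStrictlyPerfect (P.truncLE n) ∧ QuasiIso (P.ιTruncLE n) ∧
      ∀ j : ℤ, n < j → IsZero ((P.truncLE n).X j) := by
  have hz : ∀ j : ℤ, n < j → IsZero ((P.truncLE n).X j) := fun j hj =>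
    (P.truncLE n).isZero_of_isStrictlyLE n j hj
  have hcyc : FlatMod.IsFinLocFree (P.cycles n) := isFinLocFree_cycles P hP n hvan n le_rfl
  obtain ⟨⟨a, b, hab⟩, hfl⟩ := hP
  refine ⟨⟨⟨a, n, fun j hj => ?_⟩, fun j => ?_⟩, ?_, hz⟩
  · rcases lt_trichotomy j n with h | h | h
    · have hja : j < a := by omega
      exact IsZero.of_iso (hab j (Or.inl hja)) (P.truncLEXIso n j h)
    · have hja : n < a := by omega
      rw [h]
      exact IsZero.of_iso (IsZero.of_mono (P.iCycles n) (hab n (Or.inl hja)))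
        (P.truncLEXIsoCycles n)
    · exact hz j h
  · rcases lt_trichotomy j n with h | h | h
    · exact LocFreeOps.isFinLocFree_of_iso (P.truncLEXIso n j h).symm (hfl j)
    · rw [h]
      exact LocFreeOps.isFinLocFree_of_iso (P.truncLEXIsoCycles n).symm hcyc
    · exact PerfLocal.isFinLocFree_of_isZero (hz j h)
  · rw [quasiIso_iff]
    intro q
    by_cases hq : q ≤ n
    · exact P.quasiIsoAt_ιTruncLE n q hq
    · have hq' : n < q := by omega
      have hK : (P.truncLE n).ExactAt q :=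
        ((P.truncLE n).sc q).exact_of_isZero_X₂ (hz q hq')
      rw [quasiIsoAt_iff_exactAt _ q hK, HomologicalComplex.exactAt_iff_isZero_homology]
      exact hvan q hq'

end Trunc

/-! ### base change of the top cohomology sheaf -/

section TopBC

variable {X Z : Scheme.{u}}

theorem topBC (E : DCoh.D X) (hE : DCoh.IsPerfect E) (n : ℤ)
    (hb : ∀ j : ℤ, n < j → IsZero (DCoh.HD E j)) (hZ : IsPt Z) (g : Z ⟶ X) (z : Z)
    [DCoh.HasLpull g] :
    Nonempty ((DerivedCategory.homologyFunctor Z.Modules n).obj ((DCoh.Lpull g).obj E) ≅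
      (Scheme.Modules.pullback g).obj (DCoh.HD E n)) := by
  obtain ⟨V, hxV, P, hP, ⟨e⟩⟩ := (isPerfect_iff E).1 hE (g z)
  have hPvan : ∀ j : ℤ, n < j → IsZero (P.homology j) := fun j hj =>
    IsZero.of_iso ((restrictFunctor V.ι).map_isZero (hb j hj))
      (PerfNoeth.lpdHomologyIso E V P e j).symm
  obtain ⟨hP', hq, hz⟩ := truncLE_facts P hP n hPvan
  haveI := hq
  haveI : IsIso (DerivedCategory.Q.map (P.ιTruncLE n)) :=
    (DerivedCategory.isIso_Q_map_iff_quasiIso _ (P.ιTruncLE n)).2 hq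
  have e' : (DCoh.restrictD V.ι).obj E ≅ DerivedCategory.Q.obj (P.truncLE n) :=
    e ≪≫ (asIso (DerivedCategory.Q.map (P.ιTruncLE n))).symm
  obtain ⟨g', hg'⟩ := lift_pt_opens hZ g z V hxV
  obtain ⟨φ₁⟩ := nonempty_lpull_iso_of_rep V.ι g' g hg' E (P.truncLE n) hP' e'
  obtain ⟨C, hC⟩ : ∃ C : CochainComplex Z.Modules ℤ, C = (pullC g').obj (P.truncLE n) :=
    ⟨_, rfl⟩
  have hCz : IsZero (C.X (n + 1)) := by
    rw [hC]
    exact Functor.map_isZero (Scheme.Modules.pullback g') (hz (n + 1) (by omega))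
  haveI := isIso_homologyι_of_isZero C n hCz
  haveI := isIso_homologyι_of_isZero (P.truncLE n) n (hz (n + 1) (by omega))
  haveI : IsIso (HomologicalComplex.homologyMap (P.ιTruncLE n) n) := by
    have := hq.quasiIsoAt n
    exact (quasiIsoAt_iff_isIso_homologyMap (P.ιTruncLE n) n).1 this
  have i1 : (DerivedCategory.homologyFunctor Z.Modules n).obj ((DCoh.Lpull g).obj E) ≅
      C.homology n := by
    rw [hC]
    exact (DerivedCategory.homologyFunctor Z.Modules n).mapIso φ₁ ≪≫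
      (DerivedCategory.homologyFunctorFactors Z.Modules n).app _
  have i2 : C.homology n ≅ C.opcycles n := asIso (C.homologyι n)
  have i3 : C.opcycles n ≅ (Scheme.Modules.pullback g').obj ((P.truncLE n).opcycles n) := by
    rw [hC]
    exact opcyclesPullIso g' (P.truncLE n) n
  have i4 : (P.truncLE n).homology n ≅ (P.truncLE n).opcycles n :=
    asIso ((P.truncLE n).homologyι n)
  have i5 : (P.truncLE n).homology n ≅ P.homology n :=
    asIso (HomologicalComplex.homologyMap (P.ιTruncLE n) n)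
  have i6 : (restrictFunctor V.ι).obj (DCoh.HD E n) ≅ P.homology n :=
    PerfNoeth.lpdHomologyIso E V P e n
  have i7 : (Scheme.Modules.pullback g').obj ((restrictFunctor V.ι).obj (DCoh.HD E n)) ≅
      (Scheme.Modules.pullback g).obj (DCoh.HD E n) :=
    (Scheme.Modules.pullback g').mapIso ((restrictFunctorIsoPullback V.ι).app _) ≪≫
      (Scheme.Modules.pullbackComp g' V.ι).app _ ≪≫ (Scheme.Modules.pullbackCongr hg').app _
  exact ⟨i1 ≪≫ i2 ≪≫ i3 ≪≫
    (Scheme.Modules.pullback g').mapIso (i4.symm ≪≫ i5 ≪≫ i6.symm) ≪≫ i7⟩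

end TopBC

/-! ### vanishing near the point -/

section KL

variable {X Z : Scheme.{u}}

lemma exists_isZero_restrict_of_isZero_pullback {T : Scheme.{u}} (M : T.Modules)
    [M.IsQuasicoherent] (hM : CohB1.IsFT M) (g : Z ⟶ T) (z : Z)
    (h : IsZero ((Scheme.Modules.pullback g).obj M)) :
    ∃ W : T.Opens, g z ∈ W ∧ IsZero ((restrictFunctor W.ι).obj M) := by
  haveI : M.IsFiniteType := hM
  have hcl : IsClosed (CohB1.support M) := Groth.Agent.S0020.result T M hM
  have h1 : Subsingleton (((Scheme.Modules.pullback g).obj M).presheaf.stalk z) :=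
    QS.subsingleton_stalk_of_isZero _ h z
  have h2 : Subsingleton (M.presheaf.stalk (g z)) :=
    (PbStalk.subsingleton_stalk_pullback_iff g M z).1 h1
  refine ⟨⟨(CohB1.support M)ᶜ, hcl.isOpen_compl⟩, fun hmem => hmem h2, ?_⟩
  rw [QCohLoc.isZero_restrict_iff]
  intro x hx hxW
  exact hxW hx

theorem kl (E : DCoh.D X) (hE : DCoh.IsPerfect E) (hZ : IsPt Z) (g : Z ⟶ X) (z : Z)
    [DCoh.HasLpull g] (m : ℤ)
    (hvan : ∀ k : ℤ, m < k → IsZero ((DerivedCategory.homologyFunctor Z.Modules k).obj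
      ((DCoh.Lpull g).obj E))) :
    ∃ (T : Scheme.{u}) (j : T ⟶ X) (_ : IsOpenImmersion j) (g' : Z ⟶ T), g' ≫ j = g ∧
      ∀ k : ℤ, m < k → IsZero (DCoh.HD ((DCoh.restrictD j).obj E) k) := by
  obtain ⟨V, hxV, P, hP, ⟨e⟩⟩ := (isPerfect_iff E).1 hE (g z)
  obtain ⟨⟨a, b, hab⟩, hfl⟩ := hP
  have claim : ∀ c : ℕ, ∃ (T : Scheme.{u}) (j : T ⟶ X) (_ : IsOpenImmersion j) (g' : Z ⟶ T),
      g' ≫ j = g ∧ ∀ k : ℤ, b - c < k → m < k →
        IsZero (DCoh.HD ((DCoh.restrictD j).obj E) k) := by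
    intro c
    induction c with
    | zero =>
      obtain ⟨g', hg'⟩ := lift_pt_opens hZ g z V hxV
      refine ⟨V, V.ι, inferInstance, g', hg', fun k hk _ => ?_⟩
      have hk' : b < k := by simpa using hk
      exact IsZero.of_iso (PerfNoeth.isZero_homology_of_isZero_X P k (hab k (Or.inr hk')))
        ((DerivedCategory.homologyFunctor _ k).mapIso e ≪≫
          (DerivedCategory.homologyFunctorFactors _ k).app P)
    | succ c ih =>
      obtain ⟨T, j, hj, g', hg', hT⟩ := ih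
      haveI := hj
      by_cases hn : m < b - c
      · have hET : DCoh.IsPerfect ((DCoh.restrictD j).obj E) := isPerfect_restrict j hE
        have hb' : ∀ k : ℤ, b - c < k → IsZero (DCoh.HD ((DCoh.restrictD j).obj E) k) :=
          fun k hk => hT k hk (by omega)
        haveI := hasLpull g'
        obtain ⟨ι1⟩ := nonempty_lpull_restrict j g' g hg' E
        obtain ⟨ι2⟩ := topBC ((DCoh.restrictD j).obj E) hET (b - c) hb' hZ g' z
        have hz0 : IsZero ((Scheme.Modules.pullback g').obj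
            (DCoh.HD ((DCoh.restrictD j).obj E) (b - c))) :=
          IsZero.of_iso (hvan (b - c) hn)
            (ι2.symm ≪≫ (DerivedCategory.homologyFunctor Z.Modules (b - c)).mapIso ι1.symm)
        haveI : (DCoh.HD ((DCoh.restrictD j).obj E) (b - c)).IsQuasicoherent :=
          FreeLocus.isQuasicoherent_HD_of_isPerfect _ hET (b - c)
        have hft : CohB1.IsFT (DCoh.HD ((DCoh.restrictD j).obj E) (b - c)) :=
          isFT_top (b - c) _ (PerfTor.isPC_of_isPerfect _ hET (b - c)) hb'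
        obtain ⟨W, hzW, hW⟩ := exists_isZero_restrict_of_isZero_pullback _ hft g' z hz0
        obtain ⟨g'', hg''⟩ := lift_pt_opens hZ g' z W hzW
        refine ⟨W, W.ι ≫ j, inferInstance, g'', by rw [← Category.assoc, hg'', hg'],
          fun k hk hmk => ?_⟩
        obtain ⟨c'⟩ := nonempty_resD_comp W.ι j (W.ι ≫ j) rfl E
        refine IsZero.of_iso ?_ ((DerivedCategory.homologyFunctor _ k).mapIso c'.symm ≪≫
          resHDIso W.ι ((DCoh.restrictD j).obj E) k)
        by_cases hkn : k = b - c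
        · rw [hkn]
          exact hW
        · have hk2 : b - c < k := by
            push_cast at hk
            omega
          exact (restrictFunctor W.ι).map_isZero (hT k hk2 hmk)
      · exact ⟨T, j, hj, g', hg', fun k _ hmk => hT k (by omega) hmk⟩
  obtain ⟨T, j, hj, g', hg', hT⟩ := claim (b - m).toNat
  refine ⟨T, j, hj, g', hg', fun k hk => hT k ?_ hk⟩
  have := Int.self_le_toNat (b - m)
  omega

theorem kl_all (C : DCoh.D X) (hC : DCoh.IsPerfect C) (hZ : IsPt Z) (g : Z ⟶ X) (z : Z)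
    [DCoh.HasLpull g]
    (h : ∀ k : ℤ, IsZero ((DerivedCategory.homologyFunctor Z.Modules k).obj
      ((DCoh.Lpull g).obj C))) :
    ∃ (T : Scheme.{u}) (j : T ⟶ X) (_ : IsOpenImmersion j) (g' : Z ⟶ T), g' ≫ j = g ∧
      IsZero ((DCoh.restrictD j).obj C) := by
  obtain ⟨V, hxV, P, hP, ⟨e⟩⟩ := (isPerfect_iff C).1 hC (g z)
  obtain ⟨⟨a, b, hab⟩, hfl⟩ := hP
  obtain ⟨gV, hgV⟩ := lift_pt_opens hZ g z V hxV
  haveI := hasLpull gV
  have hCV : DCoh.IsPerfect ((DCoh.restrictD V.ι).obj C) := isPerfect_restrict V.ι hC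
  obtain ⟨ι1⟩ := nonempty_lpull_restrict V.ι gV g hgV C
  obtain ⟨T, j, hj, g', hg', hv⟩ := kl ((DCoh.restrictD V.ι).obj C) hCV hZ gV z (a - 1)
    (fun k _ => IsZero.of_iso (h k)
      ((DerivedCategory.homologyFunctor Z.Modules k).mapIso ι1.symm))
  haveI := hj
  refine ⟨T, j ≫ V.ι, inferInstance, g', by rw [← Category.assoc, hg', hgV], ?_⟩
  obtain ⟨c⟩ := nonempty_resD_comp j V.ι (j ≫ V.ι) rfl C
  refine IsZero.of_iso ?_ c.symm
  apply PerfLocal.isZero_of_isZero_homology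
  intro k
  by_cases hk : a - 1 < k
  · exact hv k hk
  · refine IsZero.of_iso ((restrictFunctor j).map_isZero ?_)
      (resHDIso j ((DCoh.restrictD V.ι).obj C) k)
    exact IsZero.of_iso (PerfNoeth.isZero_homology_of_isZero_X P k (hab k (Or.inl (by omega))))
      ((DerivedCategory.homologyFunctor _ k).mapIso e ≪≫
        (DerivedCategory.homologyFunctorFactors _ k).app P)

end KL

end Groth.Agent.Lib.Helper13.PtFibre
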