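import Mathlib
import Groth.Agent.Lib.Helper13.PtFibre
import Groth.Agent.Lib.Helper17.FittSheaf
import Groth.Agent.Lib.Helper17.LocConstRank

/-!
# The locus where a perfect object is a finite locally free module of rank `r` in degree `i`
(helper13)

* `exists_generators_nhds`: Nakayama, a quasi-coherent module of finite type is generated near `x`
  by as many sections as its fibre dimension at `x`.
* `main_lemma`: a perfect object whose derived fibre at a point is `κ^r[-i]` is `O^r[-i]` near the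
  point.
* `locus`: the open locus of the statement, with its universal property for derived pullbacks.
-/

set_option autoImplicit false
set_option backward.isDefEq.respectTransparency false
universe u

namespace Groth.Agent.Lib.Helper13.LocFreeLocus

open CategoryTheory CategoryTheory.Limits AlgebraicGeometry TopologicalSpace Opposite
open AlgebraicGeometry.Scheme.Modules
open Groth.Agent.Lib.Helper13 Groth.Agent.Lib.Helper13.PtEval
  Groth.Agent.Lib.Helper13.FibreEuler Groth.Agent.Lib.Helper13.FibreUSC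
  Groth.Agent.Lib.Helper13.PerfTri Groth.Agent.Lib.Helper13.PCohFT
  Groth.Agent.Lib.Helper13.GoodMap Groth.Agent.Lib.Helper13.PtFibre
  Groth.Agent.Lib.Helper13.ClImmPC Groth.Agent.Lib.Helper13.PCohSum
open Groth.Agent.Lib.Helper2.Stk Groth.Agent.Lib.Helper3 Groth.Agent.Lib.Helper7
  Groth.Agent.Lib.Helper17
open CategoryTheory.Pretriangulated
attribute [local instance] HasDerivedCategory.standard

/-! ### modules placed in one degree -/

section Single

/-- `O^r` placed in degree `i` -/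
noncomputable abbrev SF (T : Scheme.{u}) (i : ℤ) (r : ℕ) : DCoh.D T :=
  (DerivedCategory.singleFunctor T.Modules i).obj (FlatMod.freeMod T r)

noncomputable def shiftSingleIso {T : Scheme.{u}} (M : T.Modules) (i : ℤ) :
    (DCoh.inD T M)⟦-i⟧ ≅ (DerivedCategory.singleFunctor T.Modules i).obj M :=
  ((DerivedCategory.singleFunctors T.Modules).shiftIso (-i) i 0 (by omega)).app M

noncomputable def restrictSingleIso {T X : Scheme.{u}} (j : T ⟶ X) [IsOpenImmersion j]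
    (M : X.Modules) (i : ℤ) :
    (DCoh.restrictD j).obj ((DerivedCategory.singleFunctor X.Modules i).obj M) ≅
      (DerivedCategory.singleFunctor T.Modules i).obj ((restrictFunctor j).obj M) :=
  ((restrictFunctor j).mapDerivedCategorySingleFunctor i).app M

noncomputable def restrictSF {T X : Scheme.{u}} (j : T ⟶ X) [IsOpenImmersion j] (i : ℤ) (r : ℕ) :
    (DCoh.restrictD j).obj (SF X i r) ≅ SF T i r :=
  restrictSingleIso j _ i ≪≫
    (DerivedCategory.singleFunctor T.Modules i).mapIso (PerfFree.restrictFreeModIso j r)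

lemma isZero_homology_SF (T : Scheme.{u}) (i : ℤ) (r : ℕ) (k : ℤ) (hk : k ≠ i) :
    IsZero ((DerivedCategory.homologyFunctor T.Modules k).obj (SF T i r)) := by
  rcases lt_or_gt_of_ne hk with h | h
  · exact DerivedCategory.isZero_of_isGE _ i k h
  · exact DerivedCategory.isZero_of_isLE _ i k h

noncomputable def homologySFIso (T : Scheme.{u}) (i : ℤ) (r : ℕ) :
    (DerivedCategory.homologyFunctor T.Modules i).obj (SF T i r) ≅ FlatMod.freeMod T r :=
  (DerivedCategory.singleFunctorCompHomologyFunctorIso T.Modules i).app _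

/-- `Lf^*` of a finite locally free module placed in degree `i` -/
lemma nonempty_lpull_single {A B : Scheme.{u}} (h : A ⟶ B) [DCoh.HasLpull h] (M : B.Modules)
    (hM : FlatMod.IsFinLocFree M) (i : ℤ) :
    Nonempty ((DCoh.Lpull h).obj ((DerivedCategory.singleFunctor B.Modules i).obj M) ≅
      (DerivedCategory.singleFunctor A.Modules i).obj ((Scheme.Modules.pullback h).obj M)) := by
  have hS := isStrictlyPerfect_single' M hM i
  have e1 : (DerivedCategory.singleFunctor B.Modules i).obj M ≅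
      DerivedCategory.Q.obj ((CochainComplex.singleFunctor B.Modules i).obj M) :=
    (DerivedCategory.singleFunctorIsoCompQ B.Modules i).app M
  have e2 : (pullC h).obj ((CochainComplex.singleFunctor B.Modules i).obj M) ≅
      (CochainComplex.singleFunctor A.Modules i).obj ((Scheme.Modules.pullback h).obj M) :=
    (HomologicalComplex.singleMapHomologicalComplex (Scheme.Modules.pullback h)
      (ComplexShape.up ℤ) i).app M
  have e3 : (DerivedCategory.singleFunctor A.Modules i).obj ((Scheme.Modules.pullback h).obj M) ≅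
      DerivedCategory.Q.obj ((CochainComplex.singleFunctor A.Modules i).obj
        ((Scheme.Modules.pullback h).obj M)) :=
    (DerivedCategory.singleFunctorIsoCompQ A.Modules i).app _
  exact ⟨(DCoh.Lpull h).mapIso e1 ≪≫ LpullIso h _ (kflat_of_isStrictlyPerfect _ hS) ≪≫
    DerivedCategory.Q.mapIso e2 ≪≫ e3.symm⟩

lemma nonempty_lpull_SF {A B : Scheme.{u}} (h : A ⟶ B) [DCoh.HasLpull h] (i : ℤ) (r : ℕ) :
    Nonempty ((DCoh.Lpull h).obj (SF B i r) ≅ SF A i r) := by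
  obtain ⟨e⟩ := nonempty_lpull_single h (FlatMod.freeMod B r) (PerfFree.isFinLocFree_freeMod B r) i
  exact ⟨e ≪≫ (DerivedCategory.singleFunctor A.Modules i).mapIso (pullbackFreeModIso h r)⟩

/-- the two forms of a finite free module -/
noncomputable def freeIsoFreeMod (T : Scheme.{u}) (r : ℕ) :
    SheafOfModules.free (R := T.ringCatSheaf) (ULift.{u} (Fin r)) ≅ FlatMod.freeMod T r :=
  Sigma.whiskerEquiv (f := fun _ : ULift.{u} (Fin r) => SheafOfModules.unit T.ringCatSheaf)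
    (g := fun _ : Fin r => Coh.structureModule T) Equiv.ulift (fun _ => Iso.refl _)

end Single

/-! ### local generators -/

section Gen

open QCSec FreeBasis

attribute [local instance] SecLoc.modBasicOpen

theorem exists_generators_nhds {T : Scheme.{u}} (M : T.Modules) [M.IsQuasicoherent] {U : T.Opens}
    (hU : IsAffineOpen U) [Module.Finite Γ(T, U) Γ(M, U)] (x : T) (hx : x ∈ U) (r : ℕ)
    (hr : fibDim Γ(M, U) (hU.primeIdealOf ⟨x, hx⟩) = r) :
    ∃ (W : T.Opens) (σ : FlatMod.freeMod (W : Scheme.{u}) r ⟶ (restrictFunctor W.ι).obj M),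
      x ∈ W ∧ Epi σ := by
  obtain ⟨t, m, htp, hm⟩ := LocConstRank.exists_generators (A := Γ(T, U)) (M := Γ(M, U))
    (hU.primeIdealOf ⟨x, hx⟩) hr
  haveI := hU.isLocalization_basicOpen t
  haveI := SecLoc.isLocalizedModule_resLin M hU t
  have hspan := FittSheaf.span_of_isLocalizedModule (Submonoid.powers t) Γ(T, T.basicOpen t)
    (SecLoc.resLin M t) t (Submonoid.mem_powers t) m hm
  exact ⟨T.basicOpen t, homOfSecs M (T.basicOpen t) (fun j => SecLoc.resLin M t (m j)),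
    (mem_basicOpen_iff_notMem_primeIdealOf hU x hx t).mpr htp,
    FittSheaf.epi_homOfSecs_of_isSpanAt M (hU.basicOpen t) _
      ((FittSheaf.isSpanAt_iff_span _ _ _).mpr hspan)⟩

end Gen

/-! ### the main lemma -/

section Main

variable {X Z : Scheme.{u}}

theorem main_lemma (E : DCoh.D X) (hE : DCoh.IsPerfect E) (hZ : IsPt Z) [IsAffine Z]
    (g : Z ⟶ X) (z : Z) [DCoh.HasLpull g] (i : ℤ) (r : ℕ)
    (hz : ∀ k : ℤ, k ≠ i → IsZero ((DerivedCategory.homologyFunctor Z.Modules k).obj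
      ((DCoh.Lpull g).obj E)))
    (hr : Module.finrank (Coh.Γtop Z) (((DerivedCategory.homologyFunctor Z.Modules i).obj
      ((DCoh.Lpull g).obj E)).val.obj (op ⊤)) = r) :
    ∃ (T : Scheme.{u}) (j : T ⟶ X) (_ : IsOpenImmersion j) (g' : Z ⟶ T), g' ≫ j = g ∧
      Nonempty ((DCoh.restrictD j).obj E ≅ SF T i r) := by
  -- Step 1: the cohomology sheaves above degree `i` vanish near the point
  obtain ⟨T₁, j₁, hj₁, g₁, hg₁, hv₁⟩ := kl E hE hZ g z i (fun k hk => hz k (by omega))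
  haveI := hj₁
  haveI := hasLpull g₁
  obtain ⟨E₁, hE₁def⟩ : ∃ E₁ : DCoh.D T₁, E₁ = (DCoh.restrictD j₁).obj E := ⟨_, rfl⟩
  rw [← hE₁def] at hv₁
  have hE₁ : DCoh.IsPerfect E₁ := by
    rw [hE₁def]
    exact isPerfect_restrict j₁ hE
  obtain ⟨ι₁⟩ : Nonempty ((DCoh.Lpull g).obj E ≅ (DCoh.Lpull g₁).obj E₁) := by
    rw [hE₁def]
    exact nonempty_lpull_restrict j₁ g₁ g hg₁ E
  -- Step 2: the fibre of the top cohomology sheaf
  obtain ⟨τ⟩ := topBC E₁ hE₁ i hv₁ hZ g₁ z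
  haveI : (DCoh.HD E₁ i).IsQuasicoherent := FreeLocus.isQuasicoherent_HD_of_isPerfect E₁ hE₁ i
  have hft : CohB1.IsFT (DCoh.HD E₁ i) :=
    isFT_top i E₁ (PerfTor.isPC_of_isPerfect E₁ hE₁ i) hv₁
  haveI : (DCoh.HD E₁ i).IsFiniteType := hft
  have hr₁ : Module.finrank (Coh.Γtop Z)
      (((Scheme.Modules.pullback g₁).obj (DCoh.HD E₁ i)).val.obj (op ⊤)) = r := by
    rw [← hr]
    exact finrank_eq_of_iso
      (τ.symm ≪≫ (DerivedCategory.homologyFunctor Z.Modules i).mapIso ι₁.symm)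
  obtain ⟨U, hU, hzU⟩ := QCProps.exists_affine_nbhd (g₁ z)
  have hfs := (fibre_sections hZ g₁ z hU hzU (DCoh.HD E₁ i)).1
  haveI := QCProps.finite_sections (DCoh.HD E₁ i) hU
  obtain ⟨W₂, σ, hzW₂, hσ⟩ := exists_generators_nhds (DCoh.HD E₁ i) hU (g₁ z) hzU r
    (by rw [← hfs, hr₁])
  haveI := hσ
  -- Step 3: restrict to `W₂`
  obtain ⟨g₂, hg₂⟩ := lift_pt_opens hZ g₁ z W₂ hzW₂
  haveI := hasLpull g₂
  obtain ⟨E₂, hE₂def⟩ : ∃ E₂ : DCoh.D (W₂ : Scheme.{u}), E₂ = (DCoh.restrictD W₂.ι).obj E₁ :=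
    ⟨_, rfl⟩
  have hE₂ : DCoh.IsPerfect E₂ := by
    rw [hE₂def]
    exact isPerfect_restrict W₂.ι hE₁
  have hv₂ : ∀ k : ℤ, i < k → IsZero (DCoh.HD E₂ k) := fun k hk => by
    rw [hE₂def]
    exact IsZero.of_iso ((restrictFunctor W₂.ι).map_isZero (hv₁ k hk)) (resHDIso W₂.ι E₁ k)
  obtain ⟨ι₂⟩ : Nonempty ((DCoh.Lpull g₁).obj E₁ ≅ (DCoh.Lpull g₂).obj E₂) := by
    rw [hE₂def]
    exact nonempty_lpull_restrict W₂.ι g₂ g₁ hg₂ E₁
  obtain ⟨σ₂, hσ₂⟩ : ∃ σ₂ : SheafOfModules.free (R := (W₂ : Scheme.{u}).ringCatSheaf)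
      (ULift.{u} (Fin r)) ⟶ DCoh.HD E₂ i, Epi σ₂ := by
    rw [hE₂def]
    exact ⟨(freeIsoFreeMod (W₂ : Scheme.{u}) r).hom ≫ σ ≫ (resHDIso W₂.ι E₁ i).inv,
      epi_comp _ _⟩
  haveI := hσ₂
  -- Step 4: lift the generators
  obtain ⟨W₃, l₀, hzW₃, hl₀⟩ := exists_lift E₂ i hv₂ σ₂ (g₂ z)
  obtain ⟨g₃, hg₃⟩ := lift_pt_opens hZ g₂ z W₃ hzW₃
  haveI := hasLpull g₃
  obtain ⟨E₃, hE₃def⟩ : ∃ E₃ : DCoh.D (W₃ : Scheme.{u}), E₃ = (DCoh.restrictD W₃.ι).obj E₂ :=
    ⟨_, rfl⟩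
  obtain ⟨S₃, hS₃def⟩ : ∃ S₃ : DCoh.D (W₃ : Scheme.{u}), S₃ = (DCoh.restrictD W₃.ι).obj
      ((DerivedCategory.singleFunctor (W₂ : Scheme.{u}).Modules i).obj
        (SheafOfModules.free (R := (W₂ : Scheme.{u}).ringCatSheaf) (ULift.{u} (Fin r)))) :=
    ⟨_, rfl⟩
  obtain ⟨l, hl⟩ : ∃ l : S₃ ⟶ E₃,
      Epi ((DerivedCategory.homologyFunctor (W₃ : Scheme.{u}).Modules i).map l) := by
    rw [hS₃def, hE₃def]
    exact ⟨l₀, hl₀⟩
  have hE₃ : DCoh.IsPerfect E₃ := by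
    rw [hE₃def]
    exact isPerfect_restrict W₃.ι hE₂
  have hS₃ : DCoh.IsPerfect S₃ := by
    rw [hS₃def]
    exact (PerfTor.single_free_facts W₃ (ULift.{u} (Fin r)) i).2.1
  have a₃ : S₃ ≅ SF (W₃ : Scheme.{u}) i r := by
    rw [hS₃def]
    exact restrictSingleIso W₃.ι _ i ≪≫
      (DerivedCategory.singleFunctor (W₃ : Scheme.{u}).Modules i).mapIso
        ((restrictFunctor W₃.ι).mapIso (freeIsoFreeMod (W₂ : Scheme.{u}) r) ≪≫
          PerfFree.restrictFreeModIso W₃.ι r)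
  have hv₃ : ∀ k : ℤ, i < k → IsZero (DCoh.HD E₃ k) := fun k hk => by
    rw [hE₃def]
    exact IsZero.of_iso ((restrictFunctor W₃.ι).map_isZero (hv₂ k hk)) (resHDIso W₃.ι E₂ k)
  have hvS₃ : ∀ k : ℤ, k ≠ i → IsZero (DCoh.HD S₃ k) := fun k hk =>
    IsZero.of_iso (isZero_homology_SF _ i r k hk)
      ((DerivedCategory.homologyFunctor _ k).mapIso a₃)
  obtain ⟨ι₃⟩ : Nonempty ((DCoh.Lpull g₂).obj E₂ ≅ (DCoh.Lpull g₃).obj E₃) := by
    rw [hE₃def]
    exact nonempty_lpull_restrict W₃.ι g₃ g₂ hg₃ E₂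
  -- Step 5: the derived fibre of the lift is an isomorphism
  have hgood : Good i l :=
    ⟨fun k hk => isIso_of_isZero _ (hvS₃ k (by omega)) (hv₃ k hk), hl⟩
  obtain ⟨cs, tri⟩ := exists_isTriangulated_Lpull g₃
  letI := cs
  haveI := tri
  have hgood' := Groth.Agent.Lib.Helper2.RightTri.pcoh_map (DCoh.Lpull g₃)
    (fun C m hC => isZero_homology_Lpull g₃ C m hC) l i hgood.1 hgood.2
  obtain ⟨s₀⟩ := nonempty_lpull_SF g₃ i r
  have s₃ : (DCoh.Lpull g₃).obj S₃ ≅ SF Z i r := (DCoh.Lpull g₃).mapIso a₃ ≪≫ s₀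
  have ιE : (DCoh.Lpull g).obj E ≅ (DCoh.Lpull g₃).obj E₃ := ι₁ ≪≫ ι₂ ≪≫ ι₃
  have hiso : ∀ k : ℤ, IsIso ((DerivedCategory.homologyFunctor Z.Modules k).map
      ((DCoh.Lpull g₃).map l)) := by
    intro k
    by_cases hk : k = i
    · rw [hk]
      haveI := hgood'.2
      have hfinS : Module.Finite (Coh.Γtop Z)
          (((DerivedCategory.homologyFunctor Z.Modules i).obj
            ((DCoh.Lpull g₃).obj S₃)).val.obj (op ⊤)) :=
        finite_of_iso ((DerivedCategory.homologyFunctor Z.Modules i).mapIso s₃ ≪≫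
          homologySFIso Z i r).symm (finite_freeMod Z r)
      have hrS : Module.finrank (Coh.Γtop Z)
          (((DerivedCategory.homologyFunctor Z.Modules i).obj
            ((DCoh.Lpull g₃).obj S₃)).val.obj (op ⊤)) = r :=
        (finrank_eq_of_iso ((DerivedCategory.homologyFunctor Z.Modules i).mapIso s₃ ≪≫
          homologySFIso Z i r)).trans (hZ.finrank_freeMod r)
      have hrE : Module.finrank (Coh.Γtop Z)
          (((DerivedCategory.homologyFunctor Z.Modules i).obj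
            ((DCoh.Lpull g₃).obj E₃)).val.obj (op ⊤)) = r :=
        (finrank_eq_of_iso
          ((DerivedCategory.homologyFunctor Z.Modules i).mapIso ιE.symm)).trans hr
      exact IsPt.isIso_of_epi_of_finrank_eq hZ _ hfinS (hrS.trans hrE.symm)
    · exact isIso_of_isZero _
        (IsZero.of_iso (isZero_homology_SF Z i r k hk)
          ((DerivedCategory.homologyFunctor Z.Modules k).mapIso s₃))
        (IsZero.of_iso (hz k hk)
          ((DerivedCategory.homologyFunctor Z.Modules k).mapIso ιE.symm))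
  -- Step 6: the cone has vanishing derived fibre
  obtain ⟨C, p, q, hT⟩ := distinguished_cocone_triangle l
  have hC : DCoh.IsPerfect C := isPerfect_cone (Triangle.mk l p q) hT hS₃ hE₃
  have hT' := (DCoh.Lpull g₃).map_distinguished _ hT
  have hCz : ∀ k : ℤ, IsZero ((DerivedCategory.homologyFunctor Z.Modules k).obj
      ((DCoh.Lpull g₃).obj C)) := fun k =>
    (Groth.Agent.Lib.Helper2.RightTri.cone_vanish_iff _ hT' k).1
      ⟨fun k' _ => hiso k', by
        haveI := hiso k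
        show Epi ((DerivedCategory.homologyFunctor Z.Modules k).map ((DCoh.Lpull g₃).map l))
        infer_instance⟩ k le_rfl
  -- Step 7: the cone vanishes near the point
  obtain ⟨T₄, j₄, hj₄, g₄, hg₄, hC₄⟩ := kl_all C hC hZ g₃ z hCz
  haveI := hj₄
  have hT₄ := (DCoh.restrictD j₄).map_distinguished _ hT
  haveI : IsIso ((DCoh.restrictD j₄).map l) := (Triangle.isZero₃_iff_isIso₁ _ hT₄).1 hC₄
  have iso₄ : (DCoh.restrictD j₄).obj E₃ ≅ SF T₄ i r :=
    (asIso ((DCoh.restrictD j₄).map l)).symm ≪≫ (DCoh.restrictD j₄).mapIso a₃ ≪≫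
      restrictSF j₄ i r
  -- conclusion
  refine ⟨T₄, j₄ ≫ W₃.ι ≫ W₂.ι ≫ j₁, inferInstance, g₄, ?_, ?_⟩
  · rw [← Category.assoc, hg₄, ← Category.assoc, hg₃, ← Category.assoc, hg₂, hg₁]
  · obtain ⟨c₁⟩ := nonempty_resD_comp W₂.ι j₁ (W₂.ι ≫ j₁) rfl E
    obtain ⟨c₂⟩ := nonempty_resD_comp W₃.ι (W₂.ι ≫ j₁) (W₃.ι ≫ W₂.ι ≫ j₁) rfl E
    obtain ⟨c₃⟩ := nonempty_resD_comp j₄ (W₃.ι ≫ W₂.ι ≫ j₁) (j₄ ≫ W₃.ι ≫ W₂.ι ≫ j₁) rfl E
    have c₁' : E₂ ≅ (DCoh.restrictD (W₂.ι ≫ j₁)).obj E := by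
      rw [hE₂def, hE₁def]
      exact c₁
    have c₂' : E₃ ≅ (DCoh.restrictD (W₃.ι ≫ W₂.ι ≫ j₁)).obj E := by
      rw [hE₃def]
      exact (DCoh.restrictD W₃.ι).mapIso c₁' ≪≫ c₂
    exact ⟨c₃.symm ≪≫ (DCoh.restrictD j₄).mapIso c₂'.symm ≪≫ iso₄⟩

end Main

/-! ### gluing -/

section Glue

variable {Y : Scheme.{u}}

theorem exists_locFree_of_locally (K : DCoh.D Y) (i : ℤ) (r : ℕ)
    (h : ∀ y : Y, ∃ W : Y.Opens, y ∈ W ∧
      Nonempty ((DCoh.restrictD W.ι).obj K ≅ SF (W : Scheme.{u}) i r)) :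
    ∃ V : Y.Modules, FlatMod.IsFinLocFreeOfRank r V ∧
      Nonempty (K ≅ (DCoh.inD Y V)⟦-i⟧) := by
  have hz : ∀ k : ℤ, k ≠ i → IsZero (DCoh.HD K k) := fun k hk => by
    apply PCohNoeth.isZero_of_locally
    intro y
    obtain ⟨W, hyW, ⟨e⟩⟩ := h y
    exact ⟨W, hyW, IsZero.of_iso (isZero_homology_SF _ i r k hk)
      ((resHDIso W.ι K k).symm ≪≫ (DerivedCategory.homologyFunctor _ k).mapIso e)⟩
  haveI : K.IsGE i := (DerivedCategory.isGE_iff K i).2 (fun k hk => hz k (by omega))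
  haveI : K.IsLE i := (DerivedCategory.isLE_iff K i).2 (fun k hk => hz k (by omega))
  obtain ⟨A, ⟨eA⟩⟩ := DerivedCategory.exists_iso_singleFunctor_obj_of_isGE_of_isLE K i
  refine ⟨A, ?_, ⟨eA ≪≫ (shiftSingleIso A i).symm⟩⟩
  intro y
  obtain ⟨W, hyW, ⟨e⟩⟩ := h y
  refine ⟨W, hyW, ⟨?_⟩⟩
  exact ((DerivedCategory.singleFunctorCompHomologyFunctorIso _ i).app _).symm ≪≫
    (DerivedCategory.homologyFunctor _ i).mapIso
      ((restrictSingleIso W.ι A i).symm ≪≫ (DCoh.restrictD W.ι).mapIso eA.symm ≪≫ e) ≪≫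
    homologySFIso (W : Scheme.{u}) i r

end Glue

/-! ### the locus -/

theorem locus (X : Scheme.{u}) (E : DCoh.D X) (hE : DCoh.IsPerfect E) (i : ℤ) (r : ℕ) :
    ∃ U : X.Opens, ∀ (Y : Scheme.{u}) (f : Y ⟶ X) [DCoh.HasLpull f],
      Set.range f.base ⊆ (U : Set X) ↔
        ∃ V : Y.Modules, FlatMod.IsFinLocFreeOfRank r V ∧
          Nonempty ((DCoh.Lpull f).obj E ≅ (DCoh.inD Y V)⟦-i⟧) := by
  obtain ⟨S, hS⟩ : ∃ S : Set X, S = {x : X | ∃ W : X.Opens, x ∈ W ∧
      Nonempty ((DCoh.restrictD W.ι).obj E ≅ SF (W : Scheme.{u}) i r)} := ⟨_, rfl⟩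
  have hopen : IsOpen S := by
    rw [isOpen_iff_forall_mem_open]
    intro x hx
    rw [hS] at hx
    obtain ⟨W, hxW, hW⟩ := hx
    refine ⟨W, fun y hy => ?_, W.2, hxW⟩
    rw [hS]
    exact ⟨W, hy, hW⟩
  refine ⟨⟨S, hopen⟩, fun Y f _ => ⟨fun hsub => ?_, ?_⟩⟩
  · apply exists_locFree_of_locally
    intro y
    have hy : f.base y ∈ S := hsub ⟨y, rfl⟩
    rw [hS] at hy
    obtain ⟨W, hfW, ⟨a⟩⟩ := hy
    refine ⟨f ⁻¹ᵁ W, hfW, ?_⟩
    haveI := hasLpull (f ∣_ W)
    haveI := hasLpull (f ⁻¹ᵁ W).ι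
    haveI := hasLpull ((f ⁻¹ᵁ W).ι ≫ f)
    obtain ⟨e1⟩ := nonempty_Lpull_openImmersion_iso (f ⁻¹ᵁ W).ι ((DCoh.Lpull f).obj E)
    obtain ⟨e2⟩ := nonempty_lpull_restrict W.ι (f ∣_ W) ((f ⁻¹ᵁ W).ι ≫ f)
      (morphismRestrict_ι f W) E
    obtain ⟨e3⟩ := nonempty_lpull_SF (f ∣_ W) i r
    exact ⟨e1.symm ≪≫ (LpullComp (f ⁻¹ᵁ W).ι f).app E ≪≫ e2 ≪≫
      (DCoh.Lpull (f ∣_ W)).mapIso a ≪≫ e3⟩
  · rintro ⟨V, hV, ⟨e⟩⟩ _ ⟨y, rfl⟩
    show f.base y ∈ S
    obtain ⟨Y₁, hyY₁, ⟨v⟩⟩ := hV y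
    have hZ := isPt_spec_residueField Y y
    haveI := hasLpull (Y.fromSpecResidueField y)
    haveI := hasLpull (Y.fromSpecResidueField y ≫ f)
    have hι : (Y.fromSpecResidueField y) default ∈ Y₁ := by
      rw [Scheme.fromSpecResidueField_apply]
      exact hyY₁
    obtain ⟨g₁, hg₁⟩ := lift_pt_opens hZ (Y.fromSpecResidueField y) default Y₁ hι
    haveI := hasLpull g₁
    obtain ⟨φ₁⟩ := nonempty_lpull_restrict Y₁.ι g₁ (Y.fromSpecResidueField y) hg₁
      ((DerivedCategory.singleFunctor Y.Modules i).obj V)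
    obtain ⟨φ₂⟩ := nonempty_lpull_SF g₁ i r
    have φ : (DCoh.Lpull (Y.fromSpecResidueField y ≫ f)).obj E ≅
        SF (Spec (Y.residueField y)) i r :=
      ((LpullComp (Y.fromSpecResidueField y) f).app E).symm ≪≫
        (DCoh.Lpull (Y.fromSpecResidueField y)).mapIso (e ≪≫ shiftSingleIso V i) ≪≫ φ₁ ≪≫
        (DCoh.Lpull g₁).mapIso (restrictSingleIso Y₁.ι V i ≪≫
          (DerivedCategory.singleFunctor (Y₁ : Scheme.{u}).Modules i).mapIso v) ≪≫ φ₂
    obtain ⟨T, j, hj, g', hg', ⟨a⟩⟩ := main_lemma E hE hZ (Y.fromSpecResidueField y ≫ f) default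
      i r
      (fun k hk => IsZero.of_iso (isZero_homology_SF _ i r k hk)
        ((DerivedCategory.homologyFunctor _ k).mapIso φ))
      ((finrank_eq_of_iso ((DerivedCategory.homologyFunctor _ i).mapIso φ ≪≫
        homologySFIso _ i r)).trans (hZ.finrank_freeMod r))
    haveI := hj
    have hpt : j (g' default) = f y := by
      rw [← Scheme.Hom.comp_apply, hg', Scheme.Hom.comp_apply,
        Scheme.fromSpecResidueField_apply]
    rw [hS]
    refine ⟨j.opensRange, ⟨g' default, hpt⟩, ?_⟩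
    obtain ⟨c⟩ := nonempty_resD_comp j.isoOpensRange.inv j j.opensRange.ι
      j.isoOpensRange_inv_comp.symm E
    exact ⟨c.symm ≪≫ (DCoh.restrictD j.isoOpensRange.inv).mapIso a ≪≫
      restrictSF j.isoOpensRange.inv i r⟩

end Groth.Agent.Lib.Helper13.LocFreeLocus
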