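import Mathlib.AlgebraicGeometry.AffineScheme
import Mathlib.AlgebraicGeometry.Stalk
import Mathlib.RingTheory.AdicCompletion.RingHom
import Mathlib.RingTheory.Spectrum.Prime.RingHom

set_option autoImplicit false
universe u
open CategoryTheory AlgebraicGeometry

namespace Groth.Agent.Lib.Helper13

/-- a morphism from an affine scheme whose range lies in an affine open factors through it -/
theorem exists_specMap_comp_fromSpec {X : Scheme.{u}} {R : CommRingCat.{u}} (f : Spec R ⟶ X)
    (U : X.Opens) (hU : IsAffineOpen U) (h : Set.range f ⊆ (U : Set X)) :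
    ∃ φ : Γ(X, U) ⟶ R, f = Spec.map φ ≫ hU.fromSpec := by
  have hr : Set.range f ⊆ Set.range hU.fromSpec := by rw [hU.range_fromSpec]; exact h
  refine ⟨Spec.preimage (IsOpenImmersion.lift hU.fromSpec f hr), ?_⟩
  rw [Spec.map_preimage, IsOpenImmersion.lift_fac]

/-- `Spec.map φ ≫ fromSpec` determines `φ` -/
theorem specMap_comp_fromSpec_injective {X : Scheme.{u}} {R : CommRingCat.{u}}
    (U : X.Opens) (hU : IsAffineOpen U) (φ ψ : Γ(X, U) ⟶ R)
    (h : Spec.map φ ≫ hU.fromSpec = Spec.map ψ ≫ hU.fromSpec) : φ = ψ :=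
  Spec.map_injective ((cancel_mono hU.fromSpec).mp h)

section Local
variable (A : Type u) [CommRing A] [IsLocalRing A]

/-- every point of `Spec (A / m^n)` lies over the closed point of `Spec A` -/
theorem comap_mk_pow_eq_closedPoint (n : ℕ)
    (y : PrimeSpectrum (A ⧸ (IsLocalRing.maximalIdeal A) ^ n)) :
    PrimeSpectrum.comap (Ideal.Quotient.mk ((IsLocalRing.maximalIdeal A) ^ n)) y =
      IsLocalRing.closedPoint A := by
  apply PrimeSpectrum.ext
  refine le_antisymm (IsLocalRing.le_maximalIdeal (PrimeSpectrum.comap _ y).2.ne_top) ?_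
  have h1 : (IsLocalRing.maximalIdeal A) ^ n ≤
      (PrimeSpectrum.comap (Ideal.Quotient.mk ((IsLocalRing.maximalIdeal A) ^ n)) y).asIdeal := by
    intro a ha
    change Ideal.Quotient.mk _ a ∈ y.asIdeal
    rw [Ideal.Quotient.eq_zero_iff_mem.mpr ha]
    exact zero_mem _
  exact (PrimeSpectrum.comap _ y).2.le_of_pow_le h1

end Local

end Groth.Agent.Lib.Helper13
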