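import Mathlib.CategoryTheory.CofilteredSystem
import Mathlib.Algebra.Category.Grp.Limits
import Mathlib.CategoryTheory.Limits.Types.Limits

set_option autoImplicit false
universe v u
open CategoryTheory CategoryTheory.Limits Opposite

namespace Groth.Agent.Lib.Helper13

/-- a compatible sequence of lifts, for an `ℕᵒᵖ`-system of sets with surjective transition maps -/
noncomputable def liftSeq (G : ℕᵒᵖ ⥤ Type u)
    (hsurj : ∀ n, Function.Surjective (G.map (homOfLE (Nat.le_succ n)).op)) (p : ℕ)
    (x : G.obj (op p)) : (j : ℕ) → G.obj (op (p + j))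
  | 0 => x
  | j + 1 => (hsurj (p + j) (liftSeq G hsurj p x j)).choose

theorem liftSeq_succ (G : ℕᵒᵖ ⥤ Type u)
    (hsurj : ∀ n, Function.Surjective (G.map (homOfLE (Nat.le_succ n)).op)) (p : ℕ)
    (x : G.obj (op p)) (j : ℕ) :
    G.map (homOfLE (Nat.le_succ (p + j))).op (liftSeq G hsurj p x (j + 1)) = liftSeq G hsurj p x j :=
  (hsurj (p + j) (liftSeq G hsurj p x j)).choose_spec

theorem liftSeq_compat (G : ℕᵒᵖ ⥤ Type u)
    (hsurj : ∀ n, Function.Surjective (G.map (homOfLE (Nat.le_succ n)).op)) (p : ℕ)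
    (x : G.obj (op p)) (j j' : ℕ) (h : j ≤ j') :
    G.map (homOfLE (Nat.add_le_add_left h p)).op (liftSeq G hsurj p x j') = liftSeq G hsurj p x j := by
  induction j', h using Nat.le_induction with
  | base =>
    have : (homOfLE (Nat.add_le_add_left (le_refl j) p)).op = 𝟙 (op (p + j)) := Subsingleton.elim _ _
    rw [this, G.map_id]; rfl
  | succ j' h ih =>
    rw [← ih, ← liftSeq_succ G hsurj p x j', ← Functor.map_comp_apply]
    rfl

/-- for an `ℕᵒᵖ`-system of sets with surjective transition maps every element extends to a section -/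
theorem exists_section_of_surjective (G : ℕᵒᵖ ⥤ Type u)
    (hsurj : ∀ n, Function.Surjective (G.map (homOfLE (Nat.le_succ n)).op)) (p : ℕ)
    (x : G.obj (op p)) : ∃ s : G.sections, s.1 (op p) = x := by
  refine ⟨⟨fun k => G.map (homOfLE (Nat.le_add_left k.unop p)).op (liftSeq G hsurj p x k.unop), ?_⟩, ?_⟩
  · intro k k' f
    have hle : k'.unop ≤ k.unop := leOfHom f.unop
    dsimp only
    rw [← liftSeq_compat G hsurj p x _ _ hle, ← Functor.map_comp_apply,
      ← Functor.map_comp_apply]
    congr 1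
  · dsimp only
    exact liftSeq_compat G hsurj p x 0 p (Nat.zero_le p)

end Groth.Agent.Lib.Helper13

namespace Groth.Agent.Lib.Helper13

/-- Mittag-Leffler `ℕᵒᵖ`-system of sets: an element lying in all the ranges lifts to a section -/
theorem exists_section_of_isMittagLeffler (G : ℕᵒᵖ ⥤ Type u) (hG : G.IsMittagLeffler) (p : ℕ)
    (x : G.obj (op p)) (hx : ∀ (k : ℕ) (hk : p ≤ k), x ∈ Set.range (G.map (homOfLE hk).op)) :
    ∃ s : G.sections, s.1 (op p) = x := by
  have hxe : x ∈ G.eventualRange (op p) := by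
    rw [Functor.mem_eventualRange_iff]
    intro i f
    obtain ⟨y, hy⟩ := hx i.unop (leOfHom f.unop)
    exact ⟨y, hy⟩
  obtain ⟨s, hs⟩ := exists_section_of_surjective G.toEventualRanges
    (fun n => G.surjective_toEventualRanges hG _) p ⟨x, hxe⟩
  refine ⟨G.toEventualRangesSectionsEquiv s, ?_⟩
  have := congrArg Subtype.val hs
  exact this

theorem mem_range_limit_π (F : ℕᵒᵖ ⥤ AddCommGrpCat.{u})
    (hF : (F ⋙ forget AddCommGrpCat).IsMittagLeffler) (p : ℕ) (x : F.obj (op p))
    (hx : ∀ (k : ℕ) (hk : p ≤ k), x ∈ (F.map (homOfLE hk).op).hom.range) :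
    x ∈ (limit.π F (op p)).hom.range := by
  obtain ⟨s, hs⟩ := exists_section_of_isMittagLeffler (F ⋙ forget AddCommGrpCat) hF p x
    (fun k hk => by
      obtain ⟨y, hy⟩ := hx k hk
      exact ⟨y, hy⟩)
  let t := isLimitOfPreserves (forget AddCommGrpCat) (limit.isLimit F)
  refine ⟨(Types.isLimitEquivSections t).symm s, ?_⟩
  have := Types.isLimitEquivSections_symm_apply t s (op p)
  rw [hs] at this
  exact this

end Groth.Agent.Lib.Helper13
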