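import Mathlib
import Groth.Prelude.Def_ModSite
import Groth.Agent.Lib.Helper13.ModSiteFlatSES

/-!
# Acyclic bounded below complexes of flat modules stay acyclic after tensoring

* `CycSplice`: the cycle short complexes `0 → Z_i → K_i → Z_{i-1} → 0` of a homological complex
  in an abelian category, and splicing exactness after applying a functor (`exact_map_sc'`).
* `ModSiteAcyclic.isFlat_of_isZero`, `isFlat_cycles`, `acyclic_tensor`.
-/

set_option autoImplicit false
universe u
open CategoryTheory CategoryTheory.Limits Opposite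

noncomputable section

namespace Groth.Agent.Lib.Helper13.CycSplice

variable {A B : Type*} [Category A] [Category B] [Abelian A] [Abelian B]
  {ι : Type*} {c : ComplexShape ι}

/-- the map `K_i → Z_j = ker (d j k)`. -/
def cycG (K : HomologicalComplex A c) (i j k : ι) : K.X i ⟶ kernel (K.d j k) :=
  kernel.lift (K.d j k) (K.d i j) (K.d_comp_d i j k)

lemma cycG_ι (K : HomologicalComplex A c) (i j k : ι) :
    cycG K i j k ≫ kernel.ι (K.d j k) = K.d i j :=
  kernel.lift_ι _ _ _

lemma ι_cycG (K : HomologicalComplex A c) (i j k : ι) :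
    kernel.ι (K.d i j) ≫ cycG K i j k = 0 := by
  rw [← cancel_mono (kernel.ι (K.d j k)), Category.assoc, cycG_ι, kernel.condition, zero_comp]

lemma d_cycG (K : HomologicalComplex A c) (h i j k : ι) :
    K.d h i ≫ cycG K i j k = 0 := by
  rw [← cancel_mono (kernel.ι (K.d j k)), Category.assoc, cycG_ι, K.d_comp_d, zero_comp]

/-- the short complex `0 → Z_i → K_i → Z_j → 0`, with `Z_i = ker (d i j)`. -/
def cycSC (K : HomologicalComplex A c) (i j k : ι) : ShortComplex A :=
  ShortComplex.mk (kernel.ι (K.d i j)) (cycG K i j k) (ι_cycG K i j k)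

lemma cycSC_shortExact (K : HomologicalComplex A c) (i j k : ι) (hj : (K.sc' i j k).Exact) :
    (cycSC K i j k).ShortExact := by
  have h1 : (cycSC K i j k).Exact := by
    apply ShortComplex.exact_of_f_is_kernel
    exact isKernelOfComp (kernel.ι (K.d j k)) (K.d i j) (kernelIsKernel (K.d i j))
      (ι_cycG K i j k) (cycG_ι K i j k)
  have h2 : Mono (cycSC K i j k).f := inferInstanceAs (Mono (kernel.ι (K.d i j)))
  have h3 : Epi (cycSC K i j k).g := hj.epi_kernelLift
  exact ShortComplex.ShortExact.mk' h1 h2 h3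

/-- splicing: exactness of `Φ K` at `i` from exactness of the images of the cycle sequences. -/
lemma exact_map_sc' (Φ : A ⥤ B) [Φ.PreservesZeroMorphisms] (K : HomologicalComplex A c)
    (h i j k : ι)
    (h1 : ((cycSC K i j k).map Φ).Exact) (h2 : Epi (Φ.map (cycG K h i j)))
    (h3 : Mono (Φ.map (kernel.ι (K.d j k)))) :
    ((K.sc' h i j).map Φ).Exact := by
  let Sa : ShortComplex B := ShortComplex.mk (Φ.map (K.d h i)) (Φ.map (cycG K i j k)) (by
    rw [← Functor.map_comp, d_cycG, Functor.map_zero])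
  let φ₁ : Sa ⟶ (cycSC K i j k).map Φ :=
    { τ₁ := Φ.map (cycG K h i j)
      τ₂ := 𝟙 _
      τ₃ := 𝟙 _
      comm₁₂ := by
        change Φ.map (cycG K h i j) ≫ Φ.map (kernel.ι (K.d i j)) = Φ.map (K.d h i) ≫ 𝟙 _
        rw [← Functor.map_comp, cycG_ι, Category.comp_id]
      comm₂₃ := by
        change 𝟙 _ ≫ Φ.map (cycG K i j k) = Φ.map (cycG K i j k) ≫ 𝟙 _
        rw [Category.id_comp, Category.comp_id] }
  let φ₂ : Sa ⟶ (K.sc' h i j).map Φ :=
    { τ₁ := 𝟙 _
      τ₂ := 𝟙 _
      τ₃ := Φ.map (kernel.ι (K.d j k))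
      comm₁₂ := by
        change 𝟙 _ ≫ Φ.map (K.d h i) = Φ.map (K.d h i) ≫ 𝟙 _
        rw [Category.id_comp, Category.comp_id]
      comm₂₃ := by
        change 𝟙 _ ≫ Φ.map (K.d i j) = Φ.map (cycG K i j k) ≫ Φ.map (kernel.ι (K.d j k))
        rw [Category.id_comp, ← Functor.map_comp, cycG_ι] }
  have e1 : Epi φ₁.τ₁ := h2
  have e2 : IsIso φ₁.τ₂ := inferInstanceAs (IsIso (𝟙 _))
  have e3 : Mono φ₁.τ₃ := inferInstanceAs (Mono (𝟙 _))
  have ha : Sa.Exact := (ShortComplex.exact_iff_of_epi_of_isIso_of_mono φ₁).2 h1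
  have f1 : Epi φ₂.τ₁ := inferInstanceAs (Epi (𝟙 _))
  have f2 : IsIso φ₂.τ₂ := inferInstanceAs (IsIso (𝟙 _))
  have f3 : Mono φ₂.τ₃ := h3
  exact (ShortComplex.exact_iff_of_epi_of_isIso_of_mono φ₂).1 ha

end Groth.Agent.Lib.Helper13.CycSplice

namespace Groth.Agent.Lib.Helper13.ModSiteAcyclic

open Groth.Agent.Lib.Helper13.ModSiteFlat Groth.Agent.Lib.Helper13.ModSiteFlatSES
open Groth.Agent.Lib.Helper13.ModSiteFlatGen Groth.Agent.Lib.Helper13.CycSplice

variable {C : Type u} [SmallCategory C] {J : GrothendieckTopology C} {O : Sheaf J CommRingCat.{u}}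

theorem isFlat_of_isZero (F : ModSite.Mod O) (hF : IsZero F) : ModSite.IsFlat F := by
  apply isFlat_of_mono
  intro G' G a ha
  have hz : IsZero (((ModSite.tensorBi O).obj G').obj F) :=
    ((ModSite.tensorBi O).obj G').map_isZero hF
  exact hz.mono _

/-- In a bounded below acyclic complex of flat modules all the cycle modules are flat. -/
theorem isFlat_cycles (M : ChainComplex (ModSite.Mod O) ℤ)
    (hb : ∃ i₀ : ℤ, ∀ i, i < i₀ → IsZero (M.X i)) (hM : ∀ i, ModSite.IsFlat (M.X i))
    (hac : M.Acyclic) (i j : ℤ) (hij : j + 1 = i) :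
    ModSite.IsFlat (kernel (M.d i j)) := by
  obtain ⟨i₀, h0⟩ := hb
  have key : ∀ (n : ℕ) (i j : ℤ), j + 1 = i → i < i₀ + n → ModSite.IsFlat (kernel (M.d i j)) := by
    intro n
    induction n with
    | zero =>
      intro i j _ hi
      apply isFlat_of_isZero
      exact IsZero.of_mono (kernel.ι (M.d i j)) (h0 i (by simpa using hi))
    | succ n ih =>
      intro i j hij hi
      have hj : j < i₀ + n := by push_cast at hi; omega
      have hflat : ModSite.IsFlat (kernel (M.d j (j - 1))) := ih j (j - 1) (by omega) hj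
      have hex : (M.sc' i j (j - 1)).Exact :=
        (M.exactAt_iff' i j (j - 1) (by rw [ChainComplex.prev]; omega)
          (ChainComplex.next ℤ j)).1 (hac j)
      exact isFlat_X₁ (cycSC M i j (j - 1)) (cycSC_shortExact M i j (j - 1) hex) (hM i) hflat
  exact key (i - i₀ + 1).toNat i j hij (by omega)

/-- A bounded below acyclic complex of flat modules stays acyclic after tensoring. -/
theorem acyclic_tensor (M : ChainComplex (ModSite.Mod O) ℤ) (F : ModSite.Mod O)
    [((ModSite.tensorBi O).flip.obj F).PreservesZeroMorphisms]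
    (hb : ∃ i₀ : ℤ, ∀ i, i < i₀ → IsZero (M.X i)) (hM : ∀ i, ModSite.IsFlat (M.X i))
    (hac : M.Acyclic) :
    ((((ModSite.tensorBi O).flip.obj F).mapHomologicalComplex (ComplexShape.down ℤ)).obj
      M).Acyclic := by
  intro i
  rw [HomologicalComplex.exactAt_iff' _ (i + 1) i (i - 1) (ChainComplex.prev ℤ i)
    (ChainComplex.next ℤ i)]
  have hflat := isFlat_cycles M hb hM hac
  have hex : ∀ a b c : ℤ, b + 1 = a → c + 1 = b → (M.sc' a b c).Exact := by
    intro a b c hab hcb
    exact (M.exactAt_iff' a b c (by rw [ChainComplex.prev]; omega)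
      (by rw [ChainComplex.next]; omega)).1 (hac b)
  have hses : ∀ a b c : ℤ, b + 1 = a → c + 1 = b →
      ((cycSC M a b c).map ((ModSite.tensorBi O).flip.obj F)).ShortExact := by
    intro a b c hab hcb
    exact tensor_shortExact_of_isFlat _ (cycSC_shortExact M a b c (hex a b c hab hcb))
      (hflat b c hcb) F
  exact exact_map_sc' ((ModSite.tensorBi O).flip.obj F) M (i + 1) i (i - 1) (i - 1 - 1)
    (hses i (i - 1) (i - 1 - 1) (by omega) (by omega)).exact
    (hses (i + 1) i (i - 1) (by omega) (by omega)).epi_g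
    (hses (i - 1) (i - 1 - 1) (i - 1 - 1 - 1) (by omega) (by omega)).mono_f

end Groth.Agent.Lib.Helper13.ModSiteAcyclic
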