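import Mathlib
import Groth.Prelude.Def_ModSite
import Groth.Agent.Lib.Helper13.ModSiteUnitor

/-!
# Invertible modules on a small ringed site: tensor products and duals
-/

set_option autoImplicit false
universe u
open CategoryTheory CategoryTheory.Limits Opposite MonoidalCategory
open Groth.Agent.Lib.Helper13 Groth.Agent.Lib.Helper13.ModSiteTensor
open Groth.Agent.Lib.Helper13.ModSiteFlat Groth.Agent.Lib.Helper13.ModSiteUnitor

noncomputable section

namespace Groth.Agent.Lib.Helper13.ModSiteInvertible

variable {C : Type u} [SmallCategory C] {J : GrothendieckTopology C} (O : Sheaf J CommRingCat.{u})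

lemma isEquivalence_flip_iff (L : ModSite.Mod O) :
    ((ModSite.tensorBi O).flip.obj L).IsEquivalence ↔ ((ModSite.tensorBi O).obj L).IsEquivalence :=
  (Functor.isEquivalence_iff_of_iso (objIsoFlipObj O L)).symm

/-- the tensor product of invertible modules is invertible. -/
theorem isEquivalence_tensor (L N : ModSite.Mod O)
    (hL : ((ModSite.tensorBi O).obj L).IsEquivalence)
    (hN : ((ModSite.tensorBi O).obj N).IsEquivalence) :
    ((ModSite.tensorBi O).obj (((ModSite.tensorBi O).obj L).obj N)).IsEquivalence := by
  have h1 := (isEquivalence_flip_iff O L).2 hL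
  have h2 := (isEquivalence_flip_iff O N).2 hN
  rw [← isEquivalence_flip_iff]
  have h3 : ((ModSite.tensorBi O).flip.obj L ⋙ (ModSite.tensorBi O).flip.obj N).IsEquivalence :=
    inferInstance
  exact Functor.isEquivalence_of_iso (flipCompIso O L N)

/-- the dual of an invertible module is invertible, and the evaluation map is an isomorphism. -/
theorem isEquivalence_dual (L : ModSite.Mod O) (hL : ((ModSite.tensorBi O).obj L).IsEquivalence)
    [ModSite.HasSheafHom L] :
    ((ModSite.tensorBi O).obj ((ModSite.sheafHom L).obj (ModSite.unit O))).IsEquivalence ∧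
      IsIso ((ModSite.sheafHomAdj L).counit.app (ModSite.unit O)) := by
  have h1 := (isEquivalence_flip_iff O L).2 hL
  have hc : IsIso (ModSite.sheafHomAdj L).counit := inferInstance
  have hc' : IsIso ((ModSite.sheafHomAdj L).counit.app (ModSite.unit O)) := inferInstance
  refine ⟨?_, hc'⟩
  rw [← isEquivalence_flip_iff]
  let H := (ModSite.sheafHom L).obj (ModSite.unit O)
  let e : (ModSite.tensorBi O).flip.obj H ⋙ (ModSite.tensorBi O).flip.obj L ≅ 𝟭 _ :=
    flipCompIso O H L ≪≫
      (ModSite.tensorBi O).flip.mapIso (asIso ((ModSite.sheafHomAdj L).counit.app (ModSite.unit O)))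
      ≪≫ rightUnitorIso O
  have h2 : ((ModSite.tensorBi O).flip.obj H ⋙ (ModSite.tensorBi O).flip.obj L).IsEquivalence :=
    Functor.isEquivalence_of_iso e.symm
  exact Functor.isEquivalence_of_comp_right _ ((ModSite.tensorBi O).flip.obj L)

end Groth.Agent.Lib.Helper13.ModSiteInvertible
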