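import Mathlib
import Groth.Agent.Lib.Helper14.NeronStalk.Defs

/-!
# T2 for S13750 (helper13, for helper14): the Néron mapping property at a pullback square
from bijectivity of restriction over the open
-/

set_option autoImplicit false
universe u
open CategoryTheory CategoryTheory.Limits AlgebraicGeometry
open Groth.Agent.Lib.Helper14.NeronStalk

namespace Groth.Agent.Lib.Helper13.NStalkT2

theorem nmpAt_of_bijective {S : Scheme.{u}} (U : S.Opens) (N : Over S)
    (hN : ∀ Y : Over S, Smooth Y.hom →
      Function.Bijective (fun f : Y ⟶ N => (Over.pullback U.ι).map f))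
    {Y Q : Scheme.{u}} (y : Y ⟶ S) [Smooth y] (q : Q ⟶ Y) (q' : Q ⟶ U.toScheme)
    (hq : IsPullback q q' y U.ι) : NMPAt N.hom y q := by
  have hbij := hN (Over.mk y) (inferInstanceAs (Smooth y))
  have e1 : hq.isoPullback.hom ≫ pullback.fst y U.ι = q := hq.isoPullback_hom_fst
  have e2 : hq.isoPullback.inv ≫ q = pullback.fst y U.ι := hq.isoPullback_inv_fst
  have hleft : ∀ f : Over.mk y ⟶ N,
      ((Over.pullback U.ι).map f).left ≫ pullback.fst N.hom U.ι =
        pullback.fst y U.ι ≫ f.left := by
    intro f
    exact pullback.lift_fst _ _ _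
  refine ⟨fun a b ha hb hab => ?_, fun h hh => ?_⟩
  · have key : (Over.homMk a ha : Over.mk y ⟶ N) = Over.homMk b hb := by
      apply hbij.injective
      apply Over.OverMorphism.ext
      apply pullback.hom_ext
      · rw [hleft, hleft]
        change pullback.fst y U.ι ≫ a = pullback.fst y U.ι ≫ b
        rw [← e2, Category.assoc, Category.assoc, hab]
      · exact (pullback.lift_snd _ _ _).trans (pullback.lift_snd _ _ _).symm
    exact congrArg (fun f => f.left) key
  · have hcond : (hq.isoPullback.inv ≫ h) ≫ N.hom = pullback.snd y U.ι ≫ U.ι := by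
      rw [Category.assoc, hh, ← Category.assoc, e2]
      exact pullback.condition
    let h' : (Over.pullback U.ι).obj (Over.mk y) ⟶ (Over.pullback U.ι).obj N :=
      Over.homMk (pullback.lift (hq.isoPullback.inv ≫ h) (pullback.snd y U.ι) hcond)
        (pullback.lift_snd _ _ _)
    obtain ⟨f, hf⟩ := hbij.surjective h'
    refine ⟨f.left, Over.w f, ?_⟩
    have h3 := hleft f
    have hf' : ((Over.pullback U.ι).map f).left = h'.left := congrArg (fun g => g.left) hf
    rw [hf'] at h3
    change pullback.lift (hq.isoPullback.inv ≫ h) (pullback.snd y U.ι) hcond ≫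
      pullback.fst N.hom U.ι = _ at h3
    rw [pullback.lift_fst] at h3
    rw [← e1, Category.assoc, ← h3, Iso.hom_inv_id_assoc]

end Groth.Agent.Lib.Helper13.NStalkT2
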