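import Groth.Agent.Lib.Helper13.NonAbTorsor
import Mathlib.Tactic.Group

/-!
# Helper13: the boundary map of non-abelian cohomology (`NonAbH1.GSheaf.IsFibreOver`)
-/

universe w v u
open CategoryTheory Opposite NonAbH1

namespace Groth.Agent.Lib.Helper13
namespace NonAbTorsor

variable {C : Type u} [Category.{v} C] {J : GrothendieckTopology C}
variable {G : Sheaf J GrpCat.{w}} [J.HasSheafCompose (forget GrpCat.{w})]
variable {F : Sheaf J GrpCat.{w}} (u : F ⟶ G) (hu : ∀ U : Cᵒᵖ, Function.Injective (u.hom.app U))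
  {Q : GSheaf G} (π : GSheaf.trivial G ⟶ Q)

lemma pi_mul (U : Cᵒᵖ) (g x : G.obj.obj U) :
    π.hom.hom.app U (GSheaf.ofGrp (g * x)) = Q.smul g (π.hom.hom.app U (GSheaf.ofGrp x)) :=
  π.map_smul g (GSheaf.ofGrp x)

lemma pi_nat {U V : Cᵒᵖ} (a : U ⟶ V) (x : (GSheaf.uSh G).obj.obj U) :
    π.hom.hom.app V ((GSheaf.uSh G).obj.map a x) = Q.P.obj.map a (π.hom.hom.app U x) :=
  hom_nat π.hom a x

lemma uSh_map_mul {U V : Cᵒᵖ} (a : U ⟶ V) (x y : G.obj.obj U) :
    (GSheaf.uSh G).obj.map a (GSheaf.ofGrp (x * y)) =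
      GSheaf.ofGrp (GSheaf.toGrp ((GSheaf.uSh G).obj.map a (GSheaf.ofGrp x)) *
        GSheaf.toGrp ((GSheaf.uSh G).obj.map a (GSheaf.ofGrp y))) := by
  change G.obj.map a (x * y) = G.obj.map a x * G.obj.map a y
  exact map_mul _ _ _

lemma uSh_map_inv {U V : Cᵒᵖ} (a : U ⟶ V) (x : G.obj.obj U) :
    (GSheaf.uSh G).obj.map a (GSheaf.ofGrp x⁻¹) =
      GSheaf.ofGrp (GSheaf.toGrp ((GSheaf.uSh G).obj.map a (GSheaf.ofGrp x)))⁻¹ := by
  change G.obj.map a x⁻¹ = (G.obj.map a x)⁻¹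
  exact map_inv _ _

include hu in
theorem fibres_iso_iff_translate (hQ : GSheaf.IsQuotientBy u π) (c c' : Q.P.obj.sections)
    (T T' : GSheaf F) (hT : GSheaf.IsFibreOver u π c T) (hT' : GSheaf.IsFibreOver u π c' T') :
    Nonempty (T ≅ T') ↔
      ∃ g : (GSheaf.uSh G).obj.sections,
        ∀ U : Cᵒᵖ, Q.smul (GSheaf.toGrp (g.1 U)) (c.1 U) = c'.1 U := by
  have hTors := isTorsor_of_isFibreOver u hu π hQ c T hT
  obtain ⟨ι, hinj, hfib, heq⟩ := hT
  obtain ⟨ι', hinj', hfib', heq'⟩ := hT'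
  constructor
  · rintro ⟨e⟩
    -- the locally defined element `ι'(e t) (ι t)⁻¹`
    obtain ⟨g, hg⟩ := exists_section_of_const (P := T.P) (R := GSheaf.uSh G) hTors.2
      (fun U t => GSheaf.ofGrp (GSheaf.toGrp (ι'.hom.app U (e.hom.hom.hom.app U t)) *
        (GSheaf.toGrp (ι.hom.app U t))⁻¹))
      (by
        intro U V a t
        rw [uSh_map_mul, uSh_map_inv]
        change GSheaf.ofGrp (GSheaf.toGrp (ι'.hom.app V (e.hom.hom.hom.app V (T.P.obj.map a t))) *
          (GSheaf.toGrp (ι.hom.app V (T.P.obj.map a t)))⁻¹) =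
          GSheaf.ofGrp (GSheaf.toGrp ((GSheaf.uSh G).obj.map a (ι'.hom.app U (e.hom.hom.hom.app U t))) *
            (GSheaf.toGrp ((GSheaf.uSh G).obj.map a (ι.hom.app U t)))⁻¹)
        rw [hom_nat e.hom.hom, hom_nat ι', hom_nat ι])
      (by
        intro U t t'
        obtain ⟨f, hf, _⟩ := hTors.1 U t t'
        rw [← hf, e.hom.map_smul, heq, heq']
        change GSheaf.ofGrp _ = GSheaf.ofGrp _
        congr 1
        group)
    refine ⟨g, fun U => ?_⟩
    obtain ⟨S, hS, hne⟩ := hTors.2 U.unop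
    refine sheaf_ext Q.P S hS ?_
    intro V a ha
    obtain ⟨t⟩ := hne a ha
    have h1 : Q.P.obj.map a.op (Q.smul (GSheaf.toGrp (g.1 U)) (c.1 U)) =
        Q.smul (GSheaf.toGrp (g.1 (op V))) (c.1 (op V)) := by
      have := Q.map_smul a.op (GSheaf.toGrp (g.1 U)) (c.1 U)
      rw [c.2 a.op] at this
      rw [this]
      congr 1
      exact g.2 a.op
    have h2 : Q.P.obj.map a.op (c'.1 U) = c'.1 (op V) := c'.2 a.op
    have h3 : c.1 (op V) = π.hom.hom.app (op V) (ι.hom.app (op V) t) := ((hfib (op V) _).mp ⟨t, rfl⟩).symm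
    have h4 : c'.1 (op V) = π.hom.hom.app (op V) (ι'.hom.app (op V) (e.hom.hom.hom.app (op V) t)) :=
      ((hfib' (op V) _).mp ⟨_, rfl⟩).symm
    refine h1.trans (Eq.trans ?_ h2.symm)
    rw [h3, h4, ← hg (op V) t]
    change Q.smul _ (π.hom.hom.app (op V) (GSheaf.ofGrp (GSheaf.toGrp (ι.hom.app (op V) t)))) = _
    rw [← pi_mul]
    congr 1
    change GSheaf.ofGrp _ = GSheaf.ofGrp _
    congr 1
    group
  · rintro ⟨g, hg⟩
    have hginv : ∀ U : Cᵒᵖ, Q.smul (GSheaf.toGrp (g.1 U))⁻¹ (c'.1 U) = c.1 U := by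
      intro U
      rw [← hg U, ← Q.mul_smul, inv_mul_cancel, Q.one_smul]
    have hex : ∀ (U : Cᵒᵖ) (t : T.P.obj.obj U), ∃ t' : T'.P.obj.obj U,
        GSheaf.toGrp (ι'.hom.app U t') = GSheaf.toGrp (g.1 U) * GSheaf.toGrp (ι.hom.app U t) := by
      intro U t
      refine (hfib' U _).mpr ?_
      rw [pi_mul]
      have : π.hom.hom.app U (GSheaf.ofGrp (GSheaf.toGrp (ι.hom.app U t))) = c.1 U :=
        (hfib U _).mp ⟨t, rfl⟩
      rw [this, hg]
    choose φ hφ using hex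
    have hφeq : ∀ (U : Cᵒᵖ) (f : F.obj.obj U) (t : T.P.obj.obj U), φ U (T.smul f t) = T'.smul f (φ U t) := by
      intro U f t
      apply hinj' U
      change GSheaf.toGrp (ι'.hom.app U (φ U (T.smul f t))) = GSheaf.toGrp (ι'.hom.app U (T'.smul f (φ U t)))
      rw [hφ, heq, heq', hφ, mul_assoc]
    have hφnat : ∀ {U V : Cᵒᵖ} (a : U ⟶ V) (t : T.P.obj.obj U),
        φ V (T.P.obj.map a t) = T'.P.obj.map a (φ U t) := by
      intro U V a t
      apply hinj' V
      rw [hom_nat ι']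
      change GSheaf.toGrp (ι'.hom.app V (φ V (T.P.obj.map a t))) =
        GSheaf.toGrp ((GSheaf.uSh G).obj.map a (GSheaf.ofGrp (GSheaf.toGrp (ι'.hom.app U (φ U t)))))
      rw [hφ, hφ, uSh_map_mul, hom_nat ι]
      change _ = GSheaf.toGrp ((GSheaf.uSh G).obj.map a (g.1 U)) * _
      rw [g.2 a]
    refine ⟨isoOfBijective (P := T) (Q := T') ⟨mkHom φ hφnat, fun f t => hφeq _ f t⟩ ?_⟩
    intro U
    constructor
    · intro t₁ t₂ h12
      apply hinj U
      have h := congrArg (fun z => GSheaf.toGrp (ι'.hom.app U z)) h12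
      change GSheaf.toGrp (ι'.hom.app U (φ U t₁)) = GSheaf.toGrp (ι'.hom.app U (φ U t₂)) at h
      rw [hφ, hφ] at h
      have h' : GSheaf.toGrp (ι.hom.app U t₁) = GSheaf.toGrp (ι.hom.app U t₂) := mul_left_cancel h
      exact h'
    · intro t'
      have hex2 : ∃ t : T.P.obj.obj U,
          GSheaf.toGrp (ι.hom.app U t) = (GSheaf.toGrp (g.1 U))⁻¹ * GSheaf.toGrp (ι'.hom.app U t') := by
        refine (hfib U _).mpr ?_
        rw [pi_mul]
        have : π.hom.hom.app U (GSheaf.ofGrp (GSheaf.toGrp (ι'.hom.app U t'))) = c'.1 U :=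
          (hfib' U _).mp ⟨t', rfl⟩
        rw [this, hginv]
      obtain ⟨t, ht⟩ := hex2
      refine ⟨t, ?_⟩
      apply hinj' U
      change GSheaf.toGrp (ι'.hom.app U (φ U t)) = GSheaf.toGrp (ι'.hom.app U t')
      rw [hφ, ht, mul_inv_cancel_left]

/-- The image of a section-wise injective morphism of sheaves of sets is closed under local membership. -/
theorem exists_preimage_of_locally {P R : Sheaf J (Type w)} (ι : P ⟶ R)
    (hinj : ∀ U : Cᵒᵖ, Function.Injective (ι.hom.app U)) {U : C} (S : Sieve U) (hS : S ∈ J U)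
    (g : R.obj.obj (op U))
    (h : ∀ ⦃V : C⦄ (a : V ⟶ U), S a → ∃ t : P.obj.obj (op V), ι.hom.app (op V) t = R.obj.map a.op g) :
    ∃ t : P.obj.obj (op U), ι.hom.app (op U) t = g := by
  classical
  have hP := isSheaf_type P
  let x : Presieve.FamilyOfElements P.obj S.arrows := fun V a ha => (h a ha).choose
  have hx : ∀ ⦃V : C⦄ (a : V ⟶ U) (ha : S a), ι.hom.app (op V) (x a ha) = R.obj.map a.op g :=
    fun V a ha => (h a ha).choose_spec
  have hcomp : x.Compatible := by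
    intro Y₁ Y₂ Z b₁ b₂ a₁ a₂ h₁ h₂ hb
    apply hinj (op Z)
    rw [hom_nat ι, hom_nat ι, hx a₁ h₁, hx a₂ h₂, ← Functor.map_comp_apply, ← Functor.map_comp_apply,
      ← op_comp, ← op_comp, hb]
  refine ⟨(hP S hS).amalgamate x hcomp, ?_⟩
  refine sheaf_ext R S hS ?_
  intro V a ha
  rw [← hom_nat ι, (hP S hS).valid_glue hcomp a ha, hx a ha]

/-- The global section `1` of the sheaf of sets underlying a sheaf of groups. -/
def oneSection (G : Sheaf J GrpCat.{w}) [J.HasSheafCompose (forget GrpCat.{w})] :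
    (GSheaf.uSh G).obj.sections :=
  ⟨fun U => GSheaf.ofGrp (1 : G.obj.obj U), fun {U V} a => by
    change GSheaf.ofGrp (G.obj.map a (1 : G.obj.obj U)) = _
    rw [map_one]⟩

/-- The inverse map of the sheaf of sets underlying a sheaf of groups, composed with a morphism to it. -/
def invHom {P : Sheaf J (Type w)} (ψ : P ⟶ GSheaf.uSh G) : P ⟶ GSheaf.uSh G :=
  mkHom (fun U t => GSheaf.ofGrp (GSheaf.toGrp (ψ.hom.app U t))⁻¹) (by
    intro U V a t
    rw [hom_nat ψ]
    exact (uSh_map_inv a (GSheaf.toGrp (ψ.hom.app U t))).symm)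

lemma invHom_app {P : Sheaf J (Type w)} (ψ : P ⟶ GSheaf.uSh G) (U : Cᵒᵖ) (t : P.obj.obj U) :
    GSheaf.toGrp ((invHom ψ).hom.app U t) = (GSheaf.toGrp (ψ.hom.app U t))⁻¹ := rfl

include hu in
theorem isPushforwardAlong_trivial_iff (hQ : GSheaf.IsQuotientBy u π) (T : Torsor F) :
    GSheaf.IsPushforwardAlong u T.toGSheaf (GSheaf.trivial G) ↔
      ∃ c : Q.P.obj.sections, GSheaf.IsFibreOver u π c T.toGSheaf := by
  constructor
  · rintro ⟨(ψ : T.P ⟶ GSheaf.uSh G), hψ⟩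
    have hψ' : ∀ (U : Cᵒᵖ) (f : F.obj.obj U) (t : T.P.obj.obj U),
        GSheaf.toGrp (ψ.hom.app U (T.smul f t)) = u.hom.app U f * GSheaf.toGrp (ψ.hom.app U t) :=
      fun U f t => hψ U f t
    have hιeq : ∀ (U : Cᵒᵖ) (f : F.obj.obj U) (t : T.P.obj.obj U),
        GSheaf.toGrp ((invHom ψ).hom.app U (T.smul f t)) =
          GSheaf.toGrp ((invHom ψ).hom.app U t) * (u.hom.app U f)⁻¹ := by
      intro U f t
      rw [invHom_app, invHom_app, hψ', mul_inv_rev]
    obtain ⟨c, hc⟩ := exists_section_of_const (P := T.P) (R := Q.P) T.isTorsor.2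
      (fun U t => π.hom.hom.app U ((invHom ψ).hom.app U t))
      (by
        intro U V a t
        rw [hom_nat (invHom ψ), pi_nat π])
      (by
        intro U t t'
        obtain ⟨f, hf, _⟩ := T.isTorsor.1 U t t'
        refine (hQ.1 U (GSheaf.toGrp ((invHom ψ).hom.app U t))
          (GSheaf.toGrp ((invHom ψ).hom.app U t'))).mpr ⟨f⁻¹, ?_⟩
        rw [← hf, hιeq, map_inv])
    have hinj : ∀ U : Cᵒᵖ, Function.Injective ((invHom ψ).hom.app U) := by
      intro U t t' htt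
      obtain ⟨f, hf, _⟩ := T.isTorsor.1 U t t'
      have h1 := hιeq U f t
      rw [hf, ← htt] at h1
      have h2 : (u.hom.app U f)⁻¹ = 1 := by
        apply mul_left_cancel (a := GSheaf.toGrp ((invHom ψ).hom.app U t))
        rw [mul_one]
        exact h1.symm
      have h3 : u.hom.app U f = u.hom.app U 1 := by
        rw [map_one, ← inv_inv (u.hom.app U f), h2, inv_one]
      have h4 := hu U h3
      rw [← hf, h4, T.one_smul]
    refine ⟨c, invHom ψ, hinj, ?_, hιeq⟩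
    intro U g
    constructor
    · rintro ⟨t, rfl⟩
      exact hc U t
    · intro hg
      obtain ⟨S, hS, hne⟩ := T.isTorsor.2 U.unop
      refine exists_preimage_of_locally (invHom ψ) hinj S hS (GSheaf.ofGrp g) ?_
      intro V a ha
      obtain ⟨t⟩ := hne a ha
      have h1 : π.hom.hom.app (op V) ((invHom ψ).hom.app (op V) t) =
          π.hom.hom.app (op V) ((GSheaf.uSh G).obj.map a.op (GSheaf.ofGrp g)) := by
        rw [hc (op V) t, pi_nat π]
        have hg' : π.hom.hom.app U (GSheaf.ofGrp g) = c.1 U := hg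
        have hc2 : Q.P.obj.map a.op (c.1 U) = c.1 (op V) := c.2 a.op
        rw [← hc2, ← hg']
      obtain ⟨f, hf⟩ := (hQ.1 (op V) (GSheaf.toGrp ((invHom ψ).hom.app (op V) t))
        (GSheaf.toGrp ((GSheaf.uSh G).obj.map a.op (GSheaf.ofGrp g)))).mp h1
      refine ⟨T.smul f⁻¹ t, ?_⟩
      have := hιeq (op V) f⁻¹ t
      rw [map_inv, inv_inv] at this
      exact this.trans hf.symm
  · rintro ⟨c, ι, hinj, hfib, heq⟩
    refine ⟨invHom ι, fun U f t => ?_⟩
    change GSheaf.toGrp ((invHom ι).hom.app U (T.smul f t)) =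
      u.hom.app U f * GSheaf.toGrp ((invHom ι).hom.app U t)
    rw [invHom_app, invHom_app, heq, mul_inv_rev, inv_inv]

section Fibre

variable (c : Q.P.obj.sections)

/-- The subfunctor of local liftings of `c`. -/
def fibreSub : Subfunctor (GSheaf.uSh G).obj where
  obj U := {g | π.hom.hom.app U g = c.1 U}
  map {U V} a := by
    intro g hg
    change π.hom.hom.app V ((GSheaf.uSh G).obj.map a g) = c.1 V
    rw [pi_nat π, (hg : π.hom.hom.app U g = c.1 U), c.2 a]

lemma fibreSub_isSheaf : Presheaf.IsSheaf J (fibreSub π c).toFunctor := by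
  rw [isSheaf_iff_isSheaf_of_type]
  refine ((fibreSub π c).isSheaf_iff (isSheaf_type (GSheaf.uSh G))).mpr ?_
  intro U s hs
  change π.hom.hom.app U s = c.1 U
  refine sheaf_ext Q.P _ hs ?_
  intro V a ha
  have h1 : π.hom.hom.app (op V) ((GSheaf.uSh G).obj.map a.op s) = c.1 (op V) := ha
  have h2 : Q.P.obj.map a.op (c.1 U) = c.1 (op V) := c.2 a.op
  rw [h2, ← h1]
  exact (pi_nat π a.op s).symm

/-- The sheaf of local liftings of `c`. -/
def fibreSheaf : Sheaf J (Type w) := ⟨(fibreSub π c).toFunctor, fibreSub_isSheaf π c⟩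

/-- The `F`-sheaf of local liftings of `c`, with `f • g = g u(f)⁻¹`. -/
def fibreGSheaf (hQ : GSheaf.IsQuotientBy u π) : GSheaf F where
  P := fibreSheaf π c
  smul {U} f x := ⟨GSheaf.ofGrp (GSheaf.toGrp x.1 * (u.hom.app U f)⁻¹), by
    have hx : π.hom.hom.app U x.1 = c.1 U := x.2
    change π.hom.hom.app U (GSheaf.ofGrp (GSheaf.toGrp x.1 * (u.hom.app U f)⁻¹)) = c.1 U
    rw [← hx]
    refine ((hQ.1 U (GSheaf.toGrp x.1) (GSheaf.toGrp x.1 * (u.hom.app U f)⁻¹)).mpr ⟨f⁻¹, ?_⟩).symm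
    rw [map_inv]⟩
  one_smul {U} x := by
    apply Subtype.ext
    change GSheaf.ofGrp (GSheaf.toGrp x.1 * (u.hom.app U 1)⁻¹) = x.1
    rw [map_one, inv_one, mul_one]
  mul_smul {U} f h x := by
    apply Subtype.ext
    change GSheaf.ofGrp (GSheaf.toGrp x.1 * (u.hom.app U (f * h))⁻¹) =
      GSheaf.ofGrp (GSheaf.toGrp x.1 * (u.hom.app U h)⁻¹ * (u.hom.app U f)⁻¹)
    rw [map_mul, mul_inv_rev, mul_assoc]
  map_smul {U V} a f x := by
    apply Subtype.ext
    change (GSheaf.uSh G).obj.map a (GSheaf.ofGrp (GSheaf.toGrp x.1 * (u.hom.app U f)⁻¹)) =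
      GSheaf.ofGrp (GSheaf.toGrp ((GSheaf.uSh G).obj.map a x.1) * (u.hom.app V (F.obj.map a f))⁻¹)
    rw [uSh_map_mul, uSh_map_inv]
    have : u.hom.app V (F.obj.map a f) = G.obj.map a (u.hom.app U f) :=
      NatTrans.naturality_apply u.hom a f
    rw [this]
    rfl

theorem fibreGSheaf_isFibreOver (hQ : GSheaf.IsQuotientBy u π) :
    GSheaf.IsFibreOver u π c (fibreGSheaf u π c hQ) := by
  refine ⟨mkHom (P := fibreSheaf π c) (Q := GSheaf.uSh G) (fun U x => x.1) (fun a x => rfl), ?_, ?_, ?_⟩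
  · intro U x y hxy
    exact Subtype.ext hxy
  · intro U g
    constructor
    · rintro ⟨t, rfl⟩
      exact t.2
    · intro hg
      exact ⟨⟨GSheaf.ofGrp g, hg⟩, rfl⟩
  · intro U f t
    rfl

end Fibre

include hu in
theorem boundary_wellDefined (hQ : GSheaf.IsQuotientBy u π) (c : Q.P.obj.sections) :
    (∃ T : Torsor F, GSheaf.IsFibreOver u π c T.toGSheaf) ∧
      (∀ T : GSheaf F, GSheaf.IsFibreOver u π c T → T.IsTorsor) ∧
      ∀ T T' : GSheaf F, GSheaf.IsFibreOver u π c T → GSheaf.IsFibreOver u π c T' → Nonempty (T ≅ T') := by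
  refine ⟨⟨⟨fibreGSheaf u π c hQ, isTorsor_of_isFibreOver u hu π hQ c _ (fibreGSheaf_isFibreOver u π c hQ)⟩,
    fibreGSheaf_isFibreOver u π c hQ⟩, fun T hT => isTorsor_of_isFibreOver u hu π hQ c T hT, ?_⟩
  intro T T' hT hT'
  refine (fibres_iso_iff_translate u hu π hQ c c T T' hT hT').mpr ⟨oneSection G, fun U => ?_⟩
  exact Q.one_smul _

end NonAbTorsor
end Groth.Agent.Lib.Helper13
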