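import Groth.Prelude.Def_NonAbH1
import Mathlib.CategoryTheory.Sites.Subsheaf

/-!
# Helper13: basic theory of torsors under a sheaf of groups (`NonAbH1`)

Formal facts on `NonAbH1.GSheaf`, `NonAbH1.Torsor`, `NonAbH1.H1`:
classes agree iff isomorphic, a pseudo-torsor is trivial iff it has a global section,
gluing of a locally defined constant section, the sheaf of liftings is a torsor.
-/

universe w v u
open CategoryTheory Opposite NonAbH1

namespace Groth.Agent.Lib.Helper13
namespace NonAbTorsor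

variable {C : Type u} [Category.{v} C] {J : GrothendieckTopology C}

/-- A morphism of sheaves of sets from its components. -/
def mkHom {P Q : Sheaf J (Type w)} (app : ∀ U : Cᵒᵖ, P.obj.obj U → Q.obj.obj U)
    (nat : ∀ {U V : Cᵒᵖ} (a : U ⟶ V) (x : P.obj.obj U), app V (P.obj.map a x) = Q.obj.map a (app U x)) :
    P ⟶ Q :=
  ObjectProperty.homMk
    { app := fun U => ↾(app U)
      naturality := fun U V a => by ext x; exact nat a x }

@[simp] lemma mkHom_app {P Q : Sheaf J (Type w)} (app : ∀ U : Cᵒᵖ, P.obj.obj U → Q.obj.obj U)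
    (nat : ∀ {U V : Cᵒᵖ} (a : U ⟶ V) (x : P.obj.obj U), app V (P.obj.map a x) = Q.obj.map a (app U x))
    (U : Cᵒᵖ) (x : P.obj.obj U) : (mkHom app nat).hom.app U x = app U x := rfl

lemma hom_nat {P Q : Sheaf J (Type w)} (f : P ⟶ Q) {U V : Cᵒᵖ} (a : U ⟶ V) (x : P.obj.obj U) :
    f.hom.app V (P.obj.map a x) = Q.obj.map a (f.hom.app U x) :=
  NatTrans.naturality_apply f.hom a x

lemma isSheaf_type (P : Sheaf J (Type w)) : Presieve.IsSheaf J P.obj :=
  (isSheaf_iff_isSheaf_of_type J P.obj).mp P.property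

/-- Two sections of a sheaf of sets which agree on a covering sieve are equal. -/
lemma sheaf_ext (R : Sheaf J (Type w)) {U : C} (S : Sieve U) (hS : S ∈ J U) {t₁ t₂ : R.obj.obj (op U)}
    (h : ∀ ⦃V : C⦄ (f : V ⟶ U), S f → R.obj.map f.op t₁ = R.obj.map f.op t₂) : t₁ = t₂ :=
  (isSheaf_type R S hS).isSeparatedFor.ext (fun _ _ hf => h _ hf)

/-- Gluing of a "locally defined constant": if `P` is locally nonempty and `r : P → R` is a natural family of
maps to a sheaf `R` which is constant on every `P(U)`, then there is a unique global section of `R` whose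
restrictions are the values of `r`. -/
theorem exists_section_of_const {P R : Sheaf J (Type w)}
    (hP : ∀ U : C, ∃ S ∈ J U, ∀ ⦃V : C⦄ (f : V ⟶ U), S f → Nonempty (P.obj.obj (op V)))
    (r : ∀ U : Cᵒᵖ, P.obj.obj U → R.obj.obj U)
    (nat : ∀ {U V : Cᵒᵖ} (a : U ⟶ V) (x : P.obj.obj U), r V (P.obj.map a x) = R.obj.map a (r U x))
    (hr : ∀ (U : Cᵒᵖ) (p p' : P.obj.obj U), r U p = r U p') :
    ∃ c : R.obj.sections, ∀ (U : Cᵒᵖ) (p : P.obj.obj U), r U p = c.1 U := by
  classical
  have hR := isSheaf_type R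
  choose S hS hne using hP
  let x : ∀ U : C, Presieve.FamilyOfElements R.obj (S U).arrows :=
    fun U V f hf => r (op V) (hne U f hf).some
  have hx : ∀ U, (x U).Compatible := by
    intro U Y₁ Y₂ Z g₁ g₂ f₁ f₂ h₁ h₂ _
    change R.obj.map g₁.op (r (op Y₁) _) = R.obj.map g₂.op (r (op Y₂) _)
    rw [← nat, ← nat]
    exact hr _ _ _
  let c : ∀ U : C, R.obj.obj (op U) := fun U => (hR (S U) (hS U)).amalgamate (x U) (hx U)
  have key : ∀ (U V : C) (g : V ⟶ U) (q : P.obj.obj (op V)), R.obj.map g.op (c U) = r (op V) q := by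
    intro U V g q
    refine sheaf_ext R ((S U).pullback g) (J.pullback_stable g (hS U)) ?_
    intro W k hk
    have h1 : R.obj.map k.op (R.obj.map g.op (c U)) = R.obj.map (k ≫ g).op (c U) := by
      rw [op_comp, Functor.map_comp_apply]
    rw [h1, (hR (S U) (hS U)).valid_glue (hx U) (k ≫ g) hk, ← nat]
    exact hr _ _ _
  refine ⟨⟨fun U => c U.unop, ?_⟩, ?_⟩
  · intro U U' a
    refine sheaf_ext R (S U'.unop) (hS U'.unop) ?_
    intro V f hf
    obtain ⟨q⟩ := hne U'.unop f hf
    have h1 : R.obj.map f.op (R.obj.map a (c U.unop)) = R.obj.map (f ≫ a.unop).op (c U.unop) := by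
      rw [op_comp, Functor.map_comp_apply]
      rfl
    rw [h1, key U.unop V (f ≫ a.unop) q, key U'.unop V f q]
  · intro U p
    have := key U.unop U.unop (𝟙 _) p
    rw [op_id, Functor.map_id_apply] at this
    exact this.symm

variable {G : Sheaf J GrpCat.{w}}

theorem cl_eq_iff (P Q : Torsor G) : P.cl = Q.cl ↔ Nonempty (P.toGSheaf ≅ Q.toGSheaf) := by
  constructor
  · intro h
    exact (Equivalence.eqvGen_iff
      ⟨fun _ => ⟨Iso.refl _⟩, fun ⟨e⟩ => ⟨e.symm⟩, fun ⟨e⟩ ⟨e'⟩ => ⟨e ≪≫ e'⟩⟩).mp (Quot.eqvGen_exact h)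
  · intro h
    exact Quot.sound h

/-- An equivariant morphism which is bijective on sections is an isomorphism of `G`-sheaves. -/
noncomputable def isoOfBijective {P Q : GSheaf G} (φ : P ⟶ Q)
    (h : ∀ U, Function.Bijective (φ.hom.hom.app U)) : P ≅ Q where
  hom := φ
  inv :=
    ⟨mkHom (fun U q => (Equiv.ofBijective _ (h U)).symm q) (by
        intro U V a q
        have e1 : ∀ U q, φ.hom.hom.app U ((Equiv.ofBijective _ (h U)).symm q) = q :=
          fun U q => Equiv.ofBijective_apply_symm_apply _ (h U) q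
        apply (h V).1
        rw [hom_nat, e1, e1]), by
      intro U g q
      have e1 : ∀ U q, φ.hom.hom.app U ((Equiv.ofBijective _ (h U)).symm q) = q :=
        fun U q => Equiv.ofBijective_apply_symm_apply _ (h U) q
      apply (h U).1
      change φ.hom.hom.app U ((Equiv.ofBijective _ (h U)).symm (Q.smul g q)) =
        φ.hom.hom.app U (P.smul g ((Equiv.ofBijective _ (h U)).symm q))
      rw [φ.map_smul, e1, e1]⟩
  hom_inv_id := by
    apply GSheaf.hom_ext
    apply Sheaf.hom_ext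
    ext U x
    exact (Equiv.ofBijective _ (h U)).symm_apply_apply x
  inv_hom_id := by
    apply GSheaf.hom_ext
    apply Sheaf.hom_ext
    ext U x
    exact (Equiv.ofBijective _ (h U)).apply_symm_apply x

section Trivial

variable [J.HasSheafCompose (forget GrpCat.{w})]

/-- A global section of a pseudo-torsor trivialises it. -/
noncomputable def isoOfSection (P : GSheaf G) (hP : P.IsPseudoTorsor) (s : P.P.obj.sections) :
    GSheaf.trivial G ≅ P :=
  isoOfBijective (P := GSheaf.trivial G) (Q := P)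
    ⟨mkHom (P := GSheaf.uSh G) (Q := P.P) (fun U g => P.smul (GSheaf.toGrp g) (s.1 U)) (by
        intro U V a g
        rw [← s.2 a]
        exact (P.map_smul a (GSheaf.toGrp g) (s.1 U)).symm), by
      intro U g p
      exact P.mul_smul g (GSheaf.toGrp p) (s.1 U)⟩
    (by
      intro U
      constructor
      · intro g g' hgg
        obtain ⟨g₀, _, huniq⟩ := hP U (s.1 U) (P.smul (GSheaf.toGrp g') (s.1 U))
        exact (huniq (GSheaf.toGrp g) hgg).trans (huniq (GSheaf.toGrp g') rfl).symm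
      · intro q
        obtain ⟨g₀, hg₀, _⟩ := hP U (s.1 U) q
        exact ⟨GSheaf.ofGrp g₀, hg₀⟩)

/-- A trivialisation gives a global section. -/
def sectionOfIso {P : GSheaf G} (e : GSheaf.trivial G ≅ P) : P.P.obj.sections :=
  ⟨fun U => e.hom.hom.hom.app U (GSheaf.ofGrp (1 : G.obj.obj U)), fun {U V} a => by
    have h1 : (GSheaf.trivial G).P.obj.map a (GSheaf.ofGrp (1 : G.obj.obj U)) =
        GSheaf.ofGrp (1 : G.obj.obj V) := by
      change GSheaf.ofGrp (G.obj.map a (1 : G.obj.obj U)) = _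
      rw [map_one]
    rw [← hom_nat, h1]⟩

theorem isTrivial_iff_hasSection (P : GSheaf G) (hP : P.IsPseudoTorsor) :
    Nonempty (GSheaf.trivial G ≅ P) ↔ (P.P.obj.sections).Nonempty :=
  ⟨fun ⟨e⟩ => ⟨(sectionOfIso e).1, (sectionOfIso e).2⟩, fun ⟨s, hs⟩ => ⟨isoOfSection P hP ⟨s, hs⟩⟩⟩

theorem cl_eq_one_iff (T : Torsor G) : T.cl = 1 ↔ (T.P.obj.sections).Nonempty := by
  change T.cl = (trivialTorsor G).cl ↔ _
  rw [cl_eq_iff, ← isTrivial_iff_hasSection T.toGSheaf T.isTorsor.1]
  exact ⟨fun ⟨e⟩ => ⟨e.symm⟩, fun ⟨e⟩ => ⟨e.symm⟩⟩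

section Boundary

variable {F : Sheaf J GrpCat.{w}} (u : F ⟶ G) (hu : ∀ U : Cᵒᵖ, Function.Injective (u.hom.app U))
  {Q : GSheaf G} (π : GSheaf.trivial G ⟶ Q)

include hu in
theorem isPseudoTorsor_of_isFibreOver (hQ : GSheaf.IsQuotientBy u π) (c : Q.P.obj.sections) (T : GSheaf F)
    (hT : GSheaf.IsFibreOver u π c T) : T.IsPseudoTorsor := by
  obtain ⟨ι, hinj, hfib, heq⟩ := hT
  intro U t t'
  have h1 := (hfib U _).mp ⟨t, rfl⟩
  have h2 := (hfib U _).mp ⟨t', rfl⟩
  obtain ⟨f, hf⟩ := (hQ.1 U _ _).mp (h1.trans h2.symm)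
  refine ⟨f⁻¹, ?_, ?_⟩
  · apply hinj U
    have := heq U f⁻¹ t
    rw [map_inv, inv_inv] at this
    exact this.trans hf.symm
  · intro g hg
    have h3 := heq U g t
    rw [hg] at h3
    have h4 : u.hom.app U f = (u.hom.app U g)⁻¹ := mul_left_cancel (hf.symm.trans h3)
    rw [← map_inv] at h4
    have := hu U h4
    rw [this, inv_inv]

theorem locallyNonempty_of_isFibreOver (hQ : GSheaf.IsQuotientBy u π) (c : Q.P.obj.sections) (T : GSheaf F)
    (hT : GSheaf.IsFibreOver u π c T) : T.LocallyNonempty := by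
  obtain ⟨ι, hinj, hfib, heq⟩ := hT
  intro U
  obtain ⟨S, hS, h⟩ := hQ.2 U (c.1 (op U))
  refine ⟨S, hS, fun V a ha => ?_⟩
  obtain ⟨g, hg⟩ := h a ha
  rw [c.2 a.op] at hg
  obtain ⟨t, _⟩ := (hfib (op V) g).mpr hg
  exact ⟨t⟩

include hu in
theorem isTorsor_of_isFibreOver (hQ : GSheaf.IsQuotientBy u π) (c : Q.P.obj.sections) (T : GSheaf F)
    (hT : GSheaf.IsFibreOver u π c T) : T.IsTorsor :=
  ⟨isPseudoTorsor_of_isFibreOver u hu π hQ c T hT, locallyNonempty_of_isFibreOver u π hQ c T hT⟩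

end Boundary

end Trivial

end NonAbTorsor
end Groth.Agent.Lib.Helper13
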