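import Mathlib
import Groth.Agent.Lib.Helper13.SuppOpen

/-!
# Support of the cohomology sheaves of `Rf_* E` for a closed map `f` (helper13)
-/

set_option autoImplicit false
set_option backward.isDefEq.respectTransparency false
universe u

attribute [local instance] HasDerivedCategory.standard

namespace Groth.Agent.Lib.Helper13.RpushSupp

open CategoryTheory CategoryTheory.Limits AlgebraicGeometry
open AlgebraicGeometry.Scheme.Modules
open Groth.Agent.Lib.Helper13 Groth.Agent.Lib.Helper13.RelMVMod Groth.Agent.Lib.Helper3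

/-- the unbounded `Rf_*` exists for every morphism of schemes -/
lemma hasRpush {X Y : Scheme.{u}} (g : X ⟶ Y) : DCoh.HasRpush g :=
  Groth.Agent.Lib.Helper2.LocalRes.hasRightDerivedFunctor _
    (Groth.Agent.Lib.Helper2.exists_local_resolution (KInjSch.hasKInj X)) _

theorem support_HD_Rpush {X Y : Scheme.{u}} (f : X ⟶ Y) (hf : IsClosedMap f.base)
    [DCoh.HasRpush f] (Z : Set ↥X) (hZ : IsClosed Z) (E : DCoh.D X)
    (hE : ∀ i : ℤ, CohB1.support (DCoh.HD E i) ⊆ Z) (i : ℤ) :
    CohB1.support (DCoh.HD ((DCoh.Rpush f).obj E) i) ⊆ f.base '' Z := by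
  have hfZ : IsClosed (f.base '' Z) := hf Z hZ
  let V : Y.Opens := ⟨(f.base '' Z)ᶜ, hfZ.isOpen_compl⟩
  obtain ⟨I, hI, -, ⟨e⟩⟩ := KInjCompute.exists_model (KInjSch.hasKInjInj X) E
  have eH : ∀ n : ℤ, I.homology n ≅ DCoh.HD E n := fun n =>
    ((DerivedCategory.homologyFunctorFactors X.Modules n).app I).symm ≪≫
      (DerivedCategory.homologyFunctor X.Modules n).mapIso e.symm
  let J := ((restrictFunctor (f ⁻¹ᵁ V).ι).mapHomologicalComplex (ComplexShape.up ℤ)).obj I
  have hJ : CochainComplex.IsKInjective J := KInjSch.isKInjective_restrict (f ⁻¹ᵁ V) I hI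
  have hJac : J.Acyclic := fun m => by
    rw [HomologicalComplex.exactAt_iff_isZero_homology]
    refine SuppOpen.isZero_homology_map _ I m ?_
    refine IsZero.of_iso ?_ ((restrictFunctor (f ⁻¹ᵁ V).ι).mapIso (eH m))
    apply QS.isZero_of_subsingleton_stalk
    intro z
    refine (ModBasic.subsingleton_stalk_restrict_iff (f ⁻¹ᵁ V).ι (DCoh.HD E m) z).2 ?_
    by_contra hns
    exact z.2 ⟨_, hE m hns, rfl⟩
  obtain ⟨h⟩ := SuppOpen.homotopy_id_zero_of_kinj J hJ hJac
  have hex : ∀ n, (((restrictFunctor V.ι).mapHomologicalComplex (ComplexShape.up ℤ)).obj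
      (((pushforward f).mapHomologicalComplex (ComplexShape.up ℤ)).obj I)).ExactAt n := by
    intro n
    have hex' := SuppOpen.exactAt_of_homotopy_id_zero _
      (SuppOpen.mapHomotopyIdZero (pushforward (f ∣_ V)) J h) n
    let φ := (NatIso.mapHomologicalComplex (KInjDerived.pushRestrictIso f V)
      (ComplexShape.up ℤ)).app I
    rw [HomologicalComplex.exactAt_iff_isZero_homology] at hex' ⊢
    exact IsZero.of_iso hex'
      ((HomologicalComplex.homologyFunctor _ (ComplexShape.up ℤ) n).mapIso φ)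
  intro y hy
  by_contra hyZ
  apply hy
  have e2 : DCoh.HD ((DCoh.Rpush f).obj E) i ≅
      (((pushforward f).mapHomologicalComplex (ComplexShape.up ℤ)).obj I).homology i :=
    (DerivedCategory.homologyFunctor Y.Modules i).mapIso ((DCoh.Rpush f).mapIso e ≪≫
      KInjCompute.iso (pushforward f) (KInjSch.hasKInj X) I hI) ≪≫
      (DerivedCategory.homologyFunctorFactors Y.Modules i).app _
  have h3 : IsZero ((restrictFunctor V.ι).obj (DCoh.HD ((DCoh.Rpush f).obj E) i)) := by
    refine IsZero.of_iso ?_ ((restrictFunctor V.ι).mapIso e2)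
    refine IsZero.of_iso ?_ (SuppOpen.homologyMapIso (restrictFunctor V.ι) _ i).symm
    exact (HomologicalComplex.exactAt_iff_isZero_homology _ _).1 (hex i)
  exact ModBasic.subsingleton_stalk_of_isZero_restrict h3 ⟨y, hyZ⟩

end Groth.Agent.Lib.Helper13.RpushSupp
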