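import Mathlib
import Groth.Agent.Lib.Helper13.SuppOpen
import Groth.Agent.Lib.Helper13.RpushSupp
import Groth.Agent.Lib.Helper13.LocCohPlus
import Groth.Agent.Lib.Helper2.KInj.DerivedAdjK

/-!
# `Rj_*` is fully faithful for an open immersion `j`; objects vanishing off the range of `j` are in
its essential image (helper13)
-/

set_option autoImplicit false
set_option backward.isDefEq.respectTransparency false
universe u

attribute [local instance] HasDerivedCategory.standard

namespace Groth.Agent.Lib.Helper13.OpenFF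

open CategoryTheory CategoryTheory.Limits AlgebraicGeometry
open AlgebraicGeometry.Scheme.Modules
open Groth.Agent.Lib.Helper13 Groth.Agent.Lib.Helper13.RelMVMod Groth.Agent.Lib.Helper3

variable {X Y : Scheme.{u}}

/-- `Rj_*` is fully faithful for an open immersion -/
theorem full_faithful_Rpush (j : X ⟶ Y) [IsOpenImmersion j] [DCoh.HasRpush j] :
    (DCoh.Rpush j).Full ∧ (DCoh.Rpush j).Faithful := by
  haveI : IsIso (restrictAdjunction j).counit := inferInstance
  let adjD : (restrictFunctor j).mapDerivedCategory ⊣ DCoh.Rpush j :=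
    Groth.Agent.Lib.Helper2.KInj.derivedAdjK (restrictAdjunction j) (KInjSch.hasKInj X)
      (DCoh.Rpush j)
      ((DCoh.pushKh j).totalRightDerivedUnit DerivedCategory.Qh
        (HomotopyCategory.quasiIso X.Modules (ComplexShape.up ℤ)))
  haveI : IsIso adjD.counit :=
    Groth.Agent.Lib.Helper2.KInj.isIso_derivedAdjK_counit (restrictAdjunction j)
      (KInjSch.hasKInj X) (DCoh.Rpush j) _
  exact ⟨adjD.fullyFaithfulROfIsIsoCounit.full, adjD.fullyFaithfulROfIsIsoCounit.faithful⟩

/-- an object whose cohomology sheaves vanish on an open `W` whose complement lies in the range of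
the open immersion `j` is a derived direct image along `j` -/
theorem exists_iso_Rpush (j : X ⟶ Y) [IsOpenImmersion j] [DCoh.HasRpush j] (W : Y.Opens)
    (hW : (W : Set Y)ᶜ ⊆ Set.range j.base) (E : DCoh.D Y)
    (hE : ∀ n : ℤ, IsZero ((restrictFunctor W.ι).obj (DCoh.HD E n))) :
    ∃ F' : DCoh.D X, Nonempty (E ≅ (DCoh.Rpush j).obj F') := by
  have hVW : j.opensRange ⊔ W = ⊤ := by
    rw [eq_top_iff]
    intro y _
    show y ∈ ((j.opensRange ⊔ W : Y.Opens) : Set Y)
    rw [TopologicalSpace.Opens.coe_sup]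
    by_cases hy : y ∈ (W : Set Y)
    · exact Or.inr hy
    · exact Or.inl (hW hy)
  haveI := RpushSupp.hasRpush j.opensRange.ι
  obtain ⟨e1⟩ := SuppOpen.nonempty_iso_Rpush_restrict j.opensRange W hVW E hE
  obtain ⟨J, hJ, -, ⟨e2⟩⟩ := KInjCompute.exists_model
    (KInjSch.hasKInjInj (j.opensRange : Scheme.{u})) ((DCoh.restrictD j.opensRange.ι).obj E)
  have hJ' : CochainComplex.IsKInjective
      (((pushforward j.isoOpensRange.inv).mapHomologicalComplex (ComplexShape.up ℤ)).obj J) :=
    KInjCompute.isKInjective_map (restrictAdjunction j.isoOpensRange.inv) J hJ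
  let θ : pushforward j.isoOpensRange.inv ⋙ pushforward j ≅ pushforward j.opensRange.ι :=
    pushforwardComp j.isoOpensRange.inv j ≪≫ pushforwardCongr j.isoOpensRange_inv_comp
  let φ := (NatIso.mapHomologicalComplex θ (ComplexShape.up ℤ)).app J
  refine ⟨DerivedCategory.Q.obj
    (((pushforward j.isoOpensRange.inv).mapHomologicalComplex (ComplexShape.up ℤ)).obj J), ⟨?_⟩⟩
  exact e1 ≪≫ (DCoh.Rpush j.opensRange.ι).mapIso e2 ≪≫
    KInjCompute.iso (pushforward j.opensRange.ι) (KInjSch.hasKInj _) J hJ ≪≫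
    (DerivedCategory.Q.mapIso φ).symm ≪≫
    (KInjCompute.iso (pushforward j) (KInjSch.hasKInj X) _ hJ').symm

/-- the unit of any adjunction `j^* ⊣ Rj_*` is an isomorphism on such objects -/
theorem isIso_unit_of_vanishing (j : X ⟶ Y) [IsOpenImmersion j] [DCoh.HasRpush j] (W : Y.Opens)
    (hW : (W : Set Y)ᶜ ⊆ Set.range j.base) (adj : DCoh.restrictD j ⊣ DCoh.Rpush j) (E : DCoh.D Y)
    (hE : ∀ n : ℤ, IsZero ((restrictFunctor W.ι).obj (DCoh.HD E n))) :
    IsIso (adj.unit.app E) := by
  obtain ⟨hfull, hfaith⟩ := full_faithful_Rpush j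
  haveI := hfull
  haveI := hfaith
  obtain ⟨F', ⟨e⟩⟩ := exists_iso_Rpush j W hW E hE
  exact adj.isIso_unit_app_of_iso e

/-- the counit of any adjunction `j^* ⊣ Rj_*` is an isomorphism -/
theorem isIso_counit (j : X ⟶ Y) [IsOpenImmersion j] [DCoh.HasRpush j]
    (adj : DCoh.restrictD j ⊣ DCoh.Rpush j) : IsIso adj.counit := by
  obtain ⟨hfull, hfaith⟩ := full_faithful_Rpush j
  haveI := hfull
  haveI := hfaith
  infer_instance

/-- the cohomology sheaves of `RΓ_Z G` vanish on the open complement of `Z` -/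
theorem isZero_restrict_HD_RgammaZ (W : Y.Opens) [CxOX.HasRgammaZ W.ι] (G : DCoh.D Y) (n : ℤ) :
    IsZero ((restrictFunctor W.ι).obj (DCoh.HD ((CxOX.RgammaZ W.ι).obj G) n)) := by
  obtain ⟨I, hI, -, ⟨e⟩⟩ := KInjCompute.exists_model (KInjSch.hasKInjInj Y) G
  have e2 : DCoh.HD ((CxOX.RgammaZ W.ι).obj G) n ≅
      (((DCoh.gammaZ W.ι).mapHomologicalComplex (ComplexShape.up ℤ)).obj I).homology n :=
    (DerivedCategory.homologyFunctor Y.Modules n).mapIso ((CxOX.RgammaZ W.ι).mapIso e ≪≫
      KInjCompute.iso (DCoh.gammaZ W.ι) (KInjSch.hasKInj Y) I hI) ≪≫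
      (DerivedCategory.homologyFunctorFactors Y.Modules n).app _
  refine IsZero.of_iso ?_ ((restrictFunctor W.ι).mapIso e2)
  exact LocCohPlus.isZero_restrict_homology W.ι _ n
    (LocCohPlus.isZero_restrict_gammaZ W.ι (I.X n))

/-- S14368 -/
theorem isIso_unit_RgammaZ (j : X ⟶ Y) [IsOpenImmersion j] (W : Y.Opens)
    (hW : (W : Set Y)ᶜ ⊆ Set.range j.base) [DCoh.HasRpush j] [CxOX.HasRgammaZ W.ι]
    (adj : DCoh.restrictD j ⊣ DCoh.Rpush j) (G : DCoh.D Y) :
    IsIso (adj.unit.app ((CxOX.RgammaZ W.ι).obj G)) :=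
  isIso_unit_of_vanishing j W hW adj _ (isZero_restrict_HD_RgammaZ W G)

end Groth.Agent.Lib.Helper13.OpenFF
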