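import Mathlib
import Groth.Agent.Lib.Helper13.OpenFF

/-!
# `Rj_*` and `j^*` between complexes supported on a closed subset and on its closure (helper13)
-/

set_option autoImplicit false
set_option backward.isDefEq.respectTransparency false
universe u

attribute [local instance] HasDerivedCategory.standard

namespace Groth.Agent.Lib.Helper13.OpenEquivSupp

open CategoryTheory CategoryTheory.Limits AlgebraicGeometry
open AlgebraicGeometry.Scheme.Modules
open Groth.Agent.Lib.Helper13 Groth.Agent.Lib.Helper13.RelMVMod Groth.Agent.Lib.Helper3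

variable {X Y : Scheme.{u}}

/-- if the cohomology sheaves of `E` vanish on `f⁻¹V`, those of `Rf_* E` vanish on `V` -/
theorem isZero_restrict_HD_Rpush (f : X ⟶ Y) [DCoh.HasRpush f] (V : Y.Opens) (E : DCoh.D X)
    (hE : ∀ m : ℤ, IsZero ((restrictFunctor (f ⁻¹ᵁ V).ι).obj (DCoh.HD E m))) (i : ℤ) :
    IsZero ((restrictFunctor V.ι).obj (DCoh.HD ((DCoh.Rpush f).obj E) i)) := by
  obtain ⟨I, hI, -, ⟨e⟩⟩ := KInjCompute.exists_model (KInjSch.hasKInjInj X) E
  have eH : ∀ n : ℤ, I.homology n ≅ DCoh.HD E n := fun n =>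
    ((DerivedCategory.homologyFunctorFactors X.Modules n).app I).symm ≪≫
      (DerivedCategory.homologyFunctor X.Modules n).mapIso e.symm
  let J := ((restrictFunctor (f ⁻¹ᵁ V).ι).mapHomologicalComplex (ComplexShape.up ℤ)).obj I
  have hJ : CochainComplex.IsKInjective J := KInjSch.isKInjective_restrict (f ⁻¹ᵁ V) I hI
  have hJac : J.Acyclic := fun m => by
    rw [HomologicalComplex.exactAt_iff_isZero_homology]
    refine SuppOpen.isZero_homology_map _ I m ?_
    exact IsZero.of_iso (hE m) ((restrictFunctor (f ⁻¹ᵁ V).ι).mapIso (eH m))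
  obtain ⟨h⟩ := SuppOpen.homotopy_id_zero_of_kinj J hJ hJac
  have hex : ∀ n, (((restrictFunctor V.ι).mapHomologicalComplex (ComplexShape.up ℤ)).obj
      (((pushforward f).mapHomologicalComplex (ComplexShape.up ℤ)).obj I)).ExactAt n := by
    intro n
    have hex' := SuppOpen.exactAt_of_homotopy_id_zero _
      (SuppOpen.mapHomotopyIdZero (pushforward (f ∣_ V)) J h) n
    let φ := (NatIso.mapHomologicalComplex (KInjDerived.pushRestrictIso f V)
      (ComplexShape.up ℤ)).app I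
    rw [HomologicalComplex.exactAt_iff_isZero_homology] at hex' ⊢
    exact IsZero.of_iso hex'
      ((HomologicalComplex.homologyFunctor _ (ComplexShape.up ℤ) n).mapIso φ)
  have e2 : DCoh.HD ((DCoh.Rpush f).obj E) i ≅
      (((pushforward f).mapHomologicalComplex (ComplexShape.up ℤ)).obj I).homology i :=
    (DerivedCategory.homologyFunctor Y.Modules i).mapIso ((DCoh.Rpush f).mapIso e ≪≫
      KInjCompute.iso (pushforward f) (KInjSch.hasKInj X) I hI) ≪≫
      (DerivedCategory.homologyFunctorFactors Y.Modules i).app _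
  refine IsZero.of_iso ?_ ((restrictFunctor V.ι).mapIso e2)
  refine IsZero.of_iso ?_ (SuppOpen.homologyMapIso (restrictFunctor V.ι) _ i).symm
  exact (HomologicalComplex.exactAt_iff_isZero_homology _ _).1 (hex i)

/-- cohomology sheaves commute with restriction to an open subscheme -/
lemma nonempty_HD_restrictD_iso (j : X ⟶ Y) [IsOpenImmersion j] (G : DCoh.D Y) (i : ℤ) :
    Nonempty (DCoh.HD ((DCoh.restrictD j).obj G) i ≅ (restrictFunctor j).obj (DCoh.HD G i)) := by
  obtain ⟨K, ⟨e⟩⟩ : ∃ K : CochainComplex Y.Modules ℤ, Nonempty (DerivedCategory.Q.obj K ≅ G) :=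
    ⟨_, ⟨DerivedCategory.Q.objObjPreimageIso G⟩⟩
  exact ⟨(DerivedCategory.homologyFunctor X.Modules i).mapIso
      ((DCoh.restrictD j).mapIso e.symm ≪≫ (restrictFunctor j).mapDerivedCategoryFactors.app K) ≪≫
    (DerivedCategory.homologyFunctorFactors X.Modules i).app _ ≪≫
    SuppOpen.homologyMapIso (restrictFunctor j) K i ≪≫
    (restrictFunctor j).mapIso (((DerivedCategory.homologyFunctorFactors Y.Modules i).app K).symm ≪≫
      (DerivedCategory.homologyFunctor Y.Modules i).mapIso e)⟩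

section Top

variable (j : X ⟶ Y) [IsOpenImmersion j] (U : X.Opens) (U' : Y.Opens)

lemma mem_U_of_mem_U' (hU' : (U' : Set Y) = (closure (j.base '' ((U : Set X)ᶜ)))ᶜ)
    (z : X) (hz : j.base z ∈ U') : z ∈ U := by
  by_contra hzU
  have h1 : j.base z ∈ closure (j.base '' ((U : Set X)ᶜ)) := subset_closure ⟨z, hzU, rfl⟩
  have h2 : j.base z ∈ (U' : Set Y) := hz
  rw [hU'] at h2
  exact h2 h1

lemma mem_U'_of_mem_U (hU' : (U' : Set Y) = (closure (j.base '' ((U : Set X)ᶜ)))ᶜ)
    (z : X) (hz : z ∈ U) : j.base z ∈ U' := by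
  show j.base z ∈ (U' : Set Y)
  rw [hU']
  intro h1
  have h2 : z ∈ closure ((U : Set X)ᶜ) := by
    rw [j.isOpenEmbedding.isEmbedding.isInducing.closure_eq_preimage_closure_image]
    exact h1
  rw [IsClosed.closure_eq (U.isOpen.isClosed_compl)] at h2
  exact h2 hz

end Top

/-- `IsSuppD` of `Rj_* F` -/
theorem isSuppD_Rpush (j : X ⟶ Y) [IsOpenImmersion j] (U : X.Opens) (U' : Y.Opens)
    (hU' : (U' : Set Y) = (closure (j.base '' ((U : Set X)ᶜ)))ᶜ) [DCoh.HasRpush j]
    (F : DCoh.D X) (hF : CxOX.IsSuppD U.ι F) : CxOX.IsSuppD U'.ι ((DCoh.Rpush j).obj F) := by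
  intro i y hy
  rw [Set.mem_compl_iff]
  intro hyU'
  apply hy
  obtain ⟨y', rfl⟩ := hyU'
  have h0 : ∀ m : ℤ, IsZero ((restrictFunctor (j ⁻¹ᵁ U').ι).obj (DCoh.HD F m)) := by
    intro m
    apply QS.isZero_of_subsingleton_stalk
    intro z
    refine (ModBasic.subsingleton_stalk_restrict_iff (j ⁻¹ᵁ U').ι (DCoh.HD F m) z).2 ?_
    by_contra hns
    have h1 : (j ⁻¹ᵁ U').ι z ∈ (Set.range U.ι.base)ᶜ := hF m hns
    apply h1
    have h2 : (j ⁻¹ᵁ U').ι z ∈ U := mem_U_of_mem_U' j U U' hU' _ z.2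
    exact ⟨⟨_, h2⟩, rfl⟩
  exact ModBasic.subsingleton_stalk_of_isZero_restrict (isZero_restrict_HD_Rpush j U' F h0 i) y'

/-- the unit `j_* M ⟶ t_* t^* j_* M` is an isomorphism when `j` factors through `T` -/
lemma isIso_unit_pushforward (j : X ⟶ Y) [IsOpenImmersion j] (T : Y.Opens)
    (hT : Set.range j.base ⊆ (T : Set Y)) (M : X.Modules) :
    IsIso ((restrictAdjunction T.ι).unit.app ((pushforward j).obj M)) := by
  have hr : Set.range j ⊆ Set.range T.ι := by
    rw [Scheme.Opens.range_ι]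
    exact hT
  have hl : IsOpenImmersion.lift T.ι j hr ≫ T.ι = j := IsOpenImmersion.lift_fac _ _ _
  exact (restrictAdjunction T.ι).isIso_unit_app_of_iso
    (((pushforwardComp (IsOpenImmersion.lift T.ι j hr) T.ι).app M ≪≫
      (pushforwardCongr hl).app M).symm)

lemma isZero_gammaZ_pushforward (j : X ⟶ Y) [IsOpenImmersion j] (T : Y.Opens)
    (hT : Set.range j.base ⊆ (T : Set Y)) (M : X.Modules) :
    IsZero ((DCoh.gammaZ T.ι).obj ((pushforward j).obj M)) := by
  haveI := isIso_unit_pushforward j T hT M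
  exact isZero_kernel_of_mono ((restrictAdjunction T.ι).unit.app ((pushforward j).obj M))

/-- `RΓ_{Y∖T}(Rj_* F) = 0` when `j` factors through `T` -/
theorem isZero_RgammaZ_Rpush (j : X ⟶ Y) [IsOpenImmersion j] (T : Y.Opens)
    (hT : Set.range j.base ⊆ (T : Set Y)) [DCoh.HasRpush j] [CxOX.HasRgammaZ T.ι]
    (F : DCoh.D X) : IsZero ((CxOX.RgammaZ T.ι).obj ((DCoh.Rpush j).obj F)) := by
  obtain ⟨I, hI, -, ⟨e⟩⟩ := KInjCompute.exists_model (KInjSch.hasKInjInj X) F
  have hI' : CochainComplex.IsKInjective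
      (((pushforward j).mapHomologicalComplex (ComplexShape.up ℤ)).obj I) :=
    KInjCompute.isKInjective_map (restrictAdjunction j) I hI
  have e2 : (CxOX.RgammaZ T.ι).obj ((DCoh.Rpush j).obj F) ≅
      DerivedCategory.Q.obj (((DCoh.gammaZ T.ι).mapHomologicalComplex (ComplexShape.up ℤ)).obj
        (((pushforward j).mapHomologicalComplex (ComplexShape.up ℤ)).obj I)) :=
    (CxOX.RgammaZ T.ι).mapIso ((DCoh.Rpush j).mapIso e ≪≫
      KInjCompute.iso (pushforward j) (KInjSch.hasKInj X) I hI) ≪≫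
      KInjCompute.iso (DCoh.gammaZ T.ι) (KInjSch.hasKInj Y) _ hI'
  have hC : IsZero (((DCoh.gammaZ T.ι).mapHomologicalComplex (ComplexShape.up ℤ)).obj
      (((pushforward j).mapHomologicalComplex (ComplexShape.up ℤ)).obj I)) := by
    rw [IsZero.iff_id_eq_zero]
    apply HomologicalComplex.hom_ext
    intro n
    exact (isZero_gammaZ_pushforward j T hT (I.X n)).eq_of_src _ _
  exact IsZero.of_iso (DerivedCategory.Q.map_isZero hC) e2

lemma epi_η_of_injective (W : Y.Opens) (J : Y.Modules) (hJ : Injective J) :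
    Epi ((η W).app J) := by
  apply QCProps.epi_of_app_surjective
  intro A
  rw [η_app_app]
  haveI : Mono (homOfLE (cap_le W A)) := ⟨fun _ _ _ => Subsingleton.elim _ _⟩
  exact @Groth.Agent.Lib.Helper13.InjRestrSurj.restriction_surjective _ _ _ Y.ringCatSheaf J hJ _ _
    (homOfLE (cap_le W A)) inferInstance

/-- `G ≅ Rt_*(G|_T)` when `RΓ_{Y∖T}(G) = 0` -/
theorem nonempty_iso_Rpush_restrict_of_isZero_RgammaZ (T : Y.Opens) [DCoh.HasRpush T.ι]
    [CxOX.HasRgammaZ T.ι] (G : DCoh.D Y) (hz : IsZero ((CxOX.RgammaZ T.ι).obj G)) :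
    Nonempty (G ≅ (DCoh.Rpush T.ι).obj ((DCoh.restrictD T.ι).obj G)) := by
  obtain ⟨I, hI, hinj, ⟨e⟩⟩ := KInjCompute.exists_model (KInjSch.hasKInjInj Y) G
  let ιC : ((DCoh.gammaZ T.ι).mapHomologicalComplex (ComplexShape.up ℤ)).obj I ⟶ I :=
    { f := fun n => (CxOX.gammaZι T.ι).app (I.X n)
      comm' := fun i j _ => ((CxOX.gammaZι T.ι).naturality (I.d i j)).symm }
  have hzero : ιC ≫ SuppOpen.ηC T I = 0 := by
    apply HomologicalComplex.hom_ext
    intro n
    exact kernel.condition ((restrictAdjunction T.ι).unit.app (I.X n))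
  have hS : (ShortComplex.mk ιC (SuppOpen.ηC T I) hzero).ShortExact := by
    apply HomologicalComplex.shortExact_of_degreewise_shortExact
    intro n
    haveI : Epi ((restrictAdjunction T.ι).unit.app (I.X n)) := epi_η_of_injective T (I.X n) (hinj n)
    have h0 : (ShortComplex.mk (kernel.ι ((restrictAdjunction T.ι).unit.app (I.X n)))
        ((restrictAdjunction T.ι).unit.app (I.X n)) (kernel.condition _)).ShortExact :=
      ShortComplex.ShortExact.mk' (ShortComplex.exact_of_f_is_kernel _ (kernelIsKernel _))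
        inferInstance inferInstance
    exact h0
  have hT := DerivedCategory.triangleOfSES_distinguished hS
  have e3 : (DerivedCategory.triangleOfSES hS).obj₁ ≅ (CxOX.RgammaZ T.ι).obj G :=
    (KInjCompute.iso (DCoh.gammaZ T.ι) (KInjSch.hasKInj Y) I hI).symm ≪≫
      (CxOX.RgammaZ T.ι).mapIso e.symm
  have hz1 : IsZero (DerivedCategory.triangleOfSES hS).obj₁ := IsZero.of_iso hz e3
  haveI : IsIso (DerivedCategory.Q.map (SuppOpen.ηC T I)) :=
    ((DerivedCategory.triangleOfSES hS).isZero₁_iff_isIso₂ hT).1 hz1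
  exact ⟨e ≪≫ asIso (DerivedCategory.Q.map (SuppOpen.ηC T I)) ≪≫
    (KInjMV.isoRestrict T (pushforward T.ι) I hI e).symm⟩

/-- composition of derived direct images, the first along an open immersion -/
lemma exists_iso_Rpush_comp {T : Scheme.{u}} (l : X ⟶ T) (t : T ⟶ Y) (j : X ⟶ Y) (h : l ≫ t = j)
    [IsOpenImmersion l] [DCoh.HasRpush l] [DCoh.HasRpush t] [DCoh.HasRpush j] (F' : DCoh.D X) :
    ∃ F'' : DCoh.D X,
      Nonempty ((DCoh.Rpush t).obj ((DCoh.Rpush l).obj F') ≅ (DCoh.Rpush j).obj F'') := by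
  obtain ⟨J, hJ, -, ⟨e⟩⟩ := KInjCompute.exists_model (KInjSch.hasKInjInj X) F'
  have hJ' : CochainComplex.IsKInjective
      (((pushforward l).mapHomologicalComplex (ComplexShape.up ℤ)).obj J) :=
    KInjCompute.isKInjective_map (restrictAdjunction l) J hJ
  let θ : pushforward l ⋙ pushforward t ≅ pushforward j :=
    pushforwardComp l t ≪≫ pushforwardCongr h
  let φ := (NatIso.mapHomologicalComplex θ (ComplexShape.up ℤ)).app J
  exact ⟨DerivedCategory.Q.obj J, ⟨(DCoh.Rpush t).mapIso ((DCoh.Rpush l).mapIso e ≪≫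
      KInjCompute.iso (pushforward l) (KInjSch.hasKInj X) J hJ) ≪≫
    KInjCompute.iso (pushforward t) (KInjSch.hasKInj T) _ hJ' ≪≫
    DerivedCategory.Q.mapIso φ ≪≫
    (KInjCompute.iso (pushforward j) (KInjSch.hasKInj X) J hJ).symm⟩⟩

/-- the unit is an isomorphism on objects supported on the closure with `RΓ_{Y∖T} = 0` -/
theorem isIso_unit_of_supp (j : X ⟶ Y) [IsOpenImmersion j] (U' T : Y.Opens)
    (hT : (T : Set Y) = (U' : Set Y) ∪ Set.range j.base)
    [DCoh.HasRpush j] [CxOX.HasRgammaZ T.ι] (adj : DCoh.restrictD j ⊣ DCoh.Rpush j)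
    (G : DCoh.D Y) (hs : CxOX.IsSuppD U'.ι G) (hz : IsZero ((CxOX.RgammaZ T.ι).obj G)) :
    IsIso (adj.unit.app G) := by
  obtain ⟨hfull, hfaith⟩ := OpenFF.full_faithful_Rpush j
  haveI := hfull
  haveI := hfaith
  haveI := RpushSupp.hasRpush T.ι
  obtain ⟨e1⟩ := nonempty_iso_Rpush_restrict_of_isZero_RgammaZ T G hz
  have hr : Set.range j ⊆ Set.range T.ι := by
    rw [Scheme.Opens.range_ι, hT]
    exact Set.subset_union_right
  have hl : IsOpenImmersion.lift T.ι j hr ≫ T.ι = j := IsOpenImmersion.lift_fac _ _ _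
  haveI : IsOpenImmersion (IsOpenImmersion.lift T.ι j hr) := by
    haveI : IsOpenImmersion (IsOpenImmersion.lift T.ι j hr ≫ T.ι) := by
      rw [hl]
      infer_instance
    exact IsOpenImmersion.of_comp (IsOpenImmersion.lift T.ι j hr) T.ι
  haveI := RpushSupp.hasRpush (IsOpenImmersion.lift T.ι j hr)
  have hP : ∀ n : ℤ, IsZero ((restrictFunctor (T.ι ⁻¹ᵁ U').ι).obj
      (DCoh.HD ((DCoh.restrictD T.ι).obj G) n)) := by
    intro n
    obtain ⟨c⟩ := nonempty_HD_restrictD_iso T.ι G n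
    refine IsZero.of_iso ?_ ((restrictFunctor (T.ι ⁻¹ᵁ U').ι).mapIso c)
    apply QS.isZero_of_subsingleton_stalk
    intro z
    refine (ModBasic.subsingleton_stalk_restrict_iff (T.ι ⁻¹ᵁ U').ι _ z).2 ?_
    refine (ModBasic.subsingleton_stalk_restrict_iff T.ι (DCoh.HD G n) _).2 ?_
    by_contra hns
    exact hs n hns ⟨⟨_, z.2⟩, rfl⟩
  have hlW : ((T.ι ⁻¹ᵁ U' : (T : Scheme.{u}).Opens) : Set (T : Scheme.{u}))ᶜ ⊆
      Set.range (IsOpenImmersion.lift T.ι j hr).base := by
    intro p hp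
    have hpT : T.ι.base p ∈ (T : Set Y) := p.2
    rw [hT] at hpT
    rcases hpT with h | h
    · exact (hp h).elim
    · obtain ⟨x, hx⟩ := h
      refine ⟨x, ?_⟩
      apply T.ι.isOpenEmbedding.injective
      have h3 : (IsOpenImmersion.lift T.ι j hr ≫ T.ι).base x = j.base x := by rw [hl]
      exact h3.trans hx
  obtain ⟨F', ⟨e2⟩⟩ := OpenFF.exists_iso_Rpush (IsOpenImmersion.lift T.ι j hr) (T.ι ⁻¹ᵁ U') hlW _ hP
  obtain ⟨F'', ⟨e3⟩⟩ := exists_iso_Rpush_comp (IsOpenImmersion.lift T.ι j hr) T.ι j hl F'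
  exact adj.isIso_unit_app_of_iso (e1 ≪≫ (DCoh.Rpush T.ι).mapIso e2 ≪≫ e3)

/-- `j^* G` has quasi-coherent cohomology -/
theorem isQCohD_restrictD (j : X ⟶ Y) [IsOpenImmersion j] (G : DCoh.D Y) (hG : DCoh.IsQCohD G) :
    DCoh.IsQCohD ((DCoh.restrictD j).obj G) := by
  intro i
  obtain ⟨c⟩ := nonempty_HD_restrictD_iso j G i
  haveI : (DCoh.HD G i).IsQuasicoherent := hG i
  have h1 : ((restrictFunctor j).obj (DCoh.HD G i)).IsQuasicoherent :=
    Scheme.Modules.isQuasicoherent_restrictFunctor j (DCoh.HD G i)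
  exact (SheafOfModules.isQuasicoherent X.ringCatSheaf).prop_of_iso c.symm h1

/-- `j^* G` is supported on `Z` -/
theorem isSuppD_restrictD (j : X ⟶ Y) [IsOpenImmersion j] (U : X.Opens) (U' : Y.Opens)
    (hU' : (U' : Set Y) = (closure (j.base '' ((U : Set X)ᶜ)))ᶜ)
    (G : DCoh.D Y) (hs : CxOX.IsSuppD U'.ι G) : CxOX.IsSuppD U.ι ((DCoh.restrictD j).obj G) := by
  intro i z hz
  rw [Set.mem_compl_iff]
  intro hzU
  apply hz
  obtain ⟨z', rfl⟩ := hzU
  obtain ⟨c⟩ := nonempty_HD_restrictD_iso j G i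
  have h0 : IsZero ((restrictFunctor U.ι).obj (DCoh.HD ((DCoh.restrictD j).obj G) i)) := by
    refine IsZero.of_iso ?_ ((restrictFunctor U.ι).mapIso c)
    apply QS.isZero_of_subsingleton_stalk
    intro w
    refine (ModBasic.subsingleton_stalk_restrict_iff U.ι _ w).2 ?_
    refine (ModBasic.subsingleton_stalk_restrict_iff j (DCoh.HD G i) _).2 ?_
    by_contra hns
    have h1 : j.base (U.ι w) ∈ U' := mem_U'_of_mem_U j U U' hU' _ w.2
    exact hs i hns ⟨⟨_, h1⟩, rfl⟩
  exact ModBasic.subsingleton_stalk_of_isZero_restrict h0 z'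

end Groth.Agent.Lib.Helper13.OpenEquivSupp
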