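import Mathlib

/-!
# Open morphisms of schemes are generalizing; dimension of the image of an open morphism

* `generalizingMap_comap_of_isOpenMap`: if `Spec S → Spec R` is an open map, it is generalizing.
* `generalizingMap_of_isOpenMap`: an open morphism of schemes is generalizing.
* `krullDim_le_of_lift`: order-theoretic lemma: a surjective map lifting strict upward steps
  does not increase Krull dimension.
-/

set_option autoImplicit false
universe u

namespace Groth.Agent.Lib.Helper13.OpenGeneralizing

open CategoryTheory AlgebraicGeometry Topology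

/-- If `Spec S → Spec R` is open, then it is generalizing. -/
theorem generalizingMap_comap_of_isOpenMap {R S : Type*} [CommRing R] [CommRing S] (φ : R →+* S)
    (h : IsOpenMap (PrimeSpectrum.comap φ)) : GeneralizingMap (PrimeSpectrum.comap φ) := by
  intro q p' hp'
  have key : ∀ g : S, g ∉ q.asIdeal →
      ∃ q'' : PrimeSpectrum S, g ∉ q''.asIdeal ∧ PrimeSpectrum.comap φ q'' = p' := by
    intro g hg
    have hopen : IsOpen (PrimeSpectrum.comap φ '' (PrimeSpectrum.basicOpen g : Set _)) :=
      h _ (PrimeSpectrum.basicOpen g).isOpen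
    have hmem : PrimeSpectrum.comap φ q ∈
        PrimeSpectrum.comap φ '' (PrimeSpectrum.basicOpen g : Set _) := ⟨q, hg, rfl⟩
    obtain ⟨q'', hq'', e⟩ := hopen.stableUnderGeneralization hp' hmem
    exact ⟨q'', hq'', e⟩
  let T : Submonoid S := (p'.asIdeal.primeCompl.map φ) ⊔ q.asIdeal.primeCompl
  have hdisj : Disjoint (Ideal.map φ p'.asIdeal : Set S) (T : Set S) := by
    rw [Set.disjoint_left]
    intro x hxI hxT
    obtain ⟨y, hy, z, hz, rfl⟩ := Submonoid.mem_sup.mp hxT
    obtain ⟨r, hr, rfl⟩ := hy
    obtain ⟨q'', hq'', e⟩ := key z hz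
    have hI : Ideal.map φ p'.asIdeal ≤ q''.asIdeal := by
      rw [Ideal.map_le_iff_le_comap, ← e]
      exact le_rfl
    have hmem : φ r * z ∈ q''.asIdeal := hI hxI
    rcases q''.isPrime.mem_or_mem hmem with h1 | h1
    · apply hr
      rw [← e]
      exact h1
    · exact hq'' h1
  obtain ⟨P, hP, hIP, hPT⟩ := Ideal.exists_le_prime_disjoint _ T hdisj
  refine ⟨⟨P, hP⟩, ?_, ?_⟩
  · show (⟨P, hP⟩ : PrimeSpectrum S) ⤳ q
    rw [← PrimeSpectrum.le_iff_specializes]
    intro x hx
    by_contra hxq
    exact Set.disjoint_left.mp hPT hx (Submonoid.mem_sup_right hxq)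
  · apply PrimeSpectrum.ext
    apply le_antisymm
    · intro r hr
      by_contra hrp
      exact Set.disjoint_left.mp hPT hr
        (Submonoid.mem_sup_left (Submonoid.mem_map_of_mem φ hrp))
    · intro r hr
      exact hIP (Ideal.mem_map_of_mem φ hr)

/-- An open morphism of schemes is generalizing. -/
theorem generalizingMap_of_isOpenMap {X Y : Scheme.{u}} (f : X ⟶ Y) (hf : IsOpenMap f.base) :
    GeneralizingMap f.base := by
  change topologically GeneralizingMap f
  have hf' : topologically IsOpenMap f := hf
  clear hf
  wlog hY : ∃ R, Y = Spec R generalizing X Y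
  · rw [IsZariskiLocalAtTarget.iff_of_openCover (P := topologically GeneralizingMap) Y.affineCover]
    intro i
    dsimp only [Scheme.Cover.pullbackHom]
    refine this _ ?_ ⟨_, rfl⟩
    exact IsZariskiLocalAtTarget.of_isPullback (P := topologically IsOpenMap)
      (iY := Y.affineCover.f i) (IsPullback.of_hasPullback ..) hf'
  obtain ⟨R, rfl⟩ := hY
  wlog hX : ∃ S, X = Spec S generalizing X
  · rw [IsZariskiLocalAtSource.iff_of_openCover (P := topologically GeneralizingMap) X.affineCover]
    intro i
    refine this _ ?_ ⟨_, rfl⟩
    exact IsZariskiLocalAtSource.comp (P := topologically IsOpenMap) hf' _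
  obtain ⟨S, rfl⟩ := hX
  obtain ⟨φ, rfl⟩ := Spec.map_surjective f
  exact generalizingMap_comap_of_isOpenMap φ.hom hf'

/-- A surjective map of preorders which lifts strict upward steps does not
increase the Krull dimension. -/
theorem krullDim_le_of_lift {α β : Type*} [Preorder α] [Preorder β] (g : α → β)
    (hsurj : Function.Surjective g)
    (hlift : ∀ (a : α) (b' : β), g a < b' → ∃ a', a < a' ∧ g a' = b') :
    Order.krullDim β ≤ Order.krullDim α := by
  have key : ∀ l : LTSeries β, ∃ L : LTSeries α, L.length = l.length ∧ g L.last = l.last := by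
    intro l
    induction l using RelSeries.inductionOn' with
    | singleton q =>
      obtain ⟨a, rfl⟩ := hsurj q
      exact ⟨RelSeries.singleton _ a, rfl, rfl⟩
    | snoc l q lt ih =>
      obtain ⟨L, hlen, hlast⟩ := ih
      obtain ⟨a', ha', rfl⟩ := hlift L.last q (by rw [hlast]; exact lt)
      refine ⟨L.snoc a' ha', ?_, ?_⟩
      · simp [hlen]
      · simp
  refine iSup_le fun l => ?_
  obtain ⟨L, hlen, -⟩ := key l
  rw [← hlen]
  exact Order.LTSeries.length_le_krullDim L

end Groth.Agent.Lib.Helper13.OpenGeneralizing

namespace Groth.Agent.Lib.Helper13.OpenGeneralizing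

open CategoryTheory AlgebraicGeometry Topology

attribute [local instance] specializationOrder in
/-- A continuous surjective generalizing map between sober spaces does not increase
the topological Krull dimension. -/
theorem topologicalKrullDim_le_of_generalizingMap {X V : Type*} [TopologicalSpace X]
    [TopologicalSpace V] [QuasiSober X] [T0Space X] [QuasiSober V] [T0Space V] (g : X → V)
    (hcont : Continuous g) (hsurj : Function.Surjective g) (hgen : GeneralizingMap g) :
    topologicalKrullDim V ≤ topologicalKrullDim X := by
  unfold topologicalKrullDim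
  rw [Order.krullDim_eq_of_orderIso (irreducibleSetEquivPoints (α := V)),
    Order.krullDim_eq_of_orderIso (irreducibleSetEquivPoints (α := X))]
  refine krullDim_le_of_lift g hsurj ?_
  intro a b' hlt
  obtain ⟨a', ha', rfl⟩ := hgen hlt.le
  refine ⟨a', lt_of_le_not_ge ha' (fun h => hlt.not_ge ?_), rfl⟩
  exact Specializes.map h hcont

/-- The image of an open morphism of schemes has dimension at most that of the source. -/
theorem topologicalKrullDim_range_le_of_isOpenMap {X Y : Scheme.{u}} (f : X ⟶ Y)
    (hf : IsOpenMap f.base) :
    topologicalKrullDim ↥(Set.range f.base) ≤ topologicalKrullDim ↥X := by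
  have hopen : IsOpen (Set.range f.base) := hf.isOpen_range
  have : QuasiSober ↥(Set.range f.base) := hopen.isOpenEmbedding_subtypeVal.quasiSober
  refine topologicalKrullDim_le_of_generalizingMap (Set.rangeFactorization f.base)
    (f.base.hom.continuous.subtype_mk _) Set.rangeFactorization_surjective ?_
  intro a v hv
  have hv' : v.1 ⤳ f.base a := Specializes.map hv continuous_subtype_val
  obtain ⟨a', ha', e⟩ := generalizingMap_of_isOpenMap f hf hv'
  exact ⟨a', ha', Subtype.ext e⟩

end Groth.Agent.Lib.Helper13.OpenGeneralizing
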