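import Groth.Agent.Lib.Helper13.RelConeBasic

set_option autoImplicit false
universe u
open CategoryTheory CategoryTheory.Limits AlgebraicGeometry Opposite TopologicalSpace
open scoped HomogeneousIdeal

noncomputable section
namespace Groth.Agent.Lib.Helper13

section graded

variable {A B σ τ : Type*} [CommRing A] [CommRing B] [SetLike σ A] [SetLike τ B]
  [AddSubgroupClass σ A] [AddSubgroupClass τ B] {𝒜 : ℕ → σ} {ℬ : ℕ → τ} [GradedRing 𝒜] [GradedRing ℬ]

theorem gradedRingHom_mem_irrelevant (f : 𝒜 →+*ᵍ ℬ) {x : A} (hx : x ∈ (HomogeneousIdeal.irrelevant 𝒜).toIdeal) :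
    f x ∈ (HomogeneousIdeal.irrelevant ℬ).toIdeal := by
  change f x ∈ HomogeneousIdeal.irrelevant ℬ
  change x ∈ HomogeneousIdeal.irrelevant 𝒜 at hx
  rw [HomogeneousIdeal.mem_irrelevant_iff, GradedRing.proj_apply] at hx ⊢
  rw [← f.map_directSumDecompose, hx, map_zero]

end graded

section cone

variable {Y : Scheme.{u}} (𝒮 : RelProj.QCGrAlg Y)

/-- chart over a basic open, in terms of the chart over the ambient affine open -/
theorem ι_basicOpen (U : Y.Opens) (hU : IsAffineOpen U) (r : Γ(Y, U)) :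
    Spec.map (𝒮.presheaf.map (homOfLE (Y.basicOpen_le r)).op) ≫ 𝒮.toQCAlg.ι U hU =
      𝒮.toQCAlg.ι (Y.basicOpen r) (hU.basicOpen r) :=
  𝒮.toQCAlg.ι_res (U := ⟨U, hU⟩) (V := ⟨Y.basicOpen r, hU.basicOpen r⟩)
    (homOfLE (Scheme.AffineZariskiSite.basicOpen_le ⟨U, hU⟩ r))

theorem mem_vertexCompl_basicOpen_iff (U : Y.Opens) (hU : IsAffineOpen U) (r : Γ(Y, U))
    (R : Spec (𝒮.presheaf.obj (op (Y.basicOpen r)))) :
    R ∈ RelCone.vertexCompl (𝒮.deg (Y.basicOpen r) (hU.basicOpen r)) ↔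
      (Spec.map (𝒮.presheaf.map (homOfLE (Y.basicOpen_le r)).op)).base R ∈ RelCone.vertexCompl (𝒮.deg U hU) := by
  rw [mem_vertexCompl_iff, mem_vertexCompl_iff, not_iff_not]
  constructor
  · intro h x hx
    change (𝒮.res hU (hU.basicOpen r) (Y.basicOpen_le r)) x ∈ R.asIdeal
    exact h (gradedRingHom_mem_irrelevant (𝒮.res hU (hU.basicOpen r) (Y.basicOpen_le r)) hx)
  · intro h x hx
    have h1 : x ∈ ((𝒮.deg U hU)₊).map (𝒮.res hU (hU.basicOpen r) (Y.basicOpen_le r)) :=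
      𝒮.irrelevant_le_map U hU r hx
    change x ∈ Ideal.map _ _ at h1
    exact (Ideal.map_le_iff_le_comap.mpr h) h1

theorem vertexCompl_congr {W W' : Y.Opens} (e : W = W') (hW : IsAffineOpen W) (hW' : IsAffineOpen W')
    (R : Spec (𝒮.presheaf.obj (op W))) (R' : Spec (𝒮.presheaf.obj (op W')))
    (h : (𝒮.toQCAlg.ι W hW).base R = (𝒮.toQCAlg.ι W' hW').base R') :
    R ∈ RelCone.vertexCompl (𝒮.deg W hW) ↔ R' ∈ RelCone.vertexCompl (𝒮.deg W' hW') := by
  subst e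
  have := ι_injective 𝒮.toQCAlg W hW h
  subst this
  rfl

/-- membership in the pointed cone can be tested in any chart -/
theorem ι_mem_pointedCone_iff (U : Y.Opens) (hU : IsAffineOpen U) (P : Spec (𝒮.presheaf.obj (op U))) :
    (𝒮.toQCAlg.ι U hU).base P ∈ RelCone.pointedCone 𝒮 ↔ P ∈ RelCone.vertexCompl (𝒮.deg U hU) := by
  constructor
  · rw [mem_pointedCone_iff]
    rintro ⟨V, hV, Q, hQ, hQP⟩
    have hyU := π_ι_mem 𝒮.toQCAlg U hU P
    have hyV : 𝒮.toQCAlg.π.base ((𝒮.toQCAlg.ι U hU).base P) ∈ V := by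
      rw [← hQP]; exact π_ι_mem _ V hV Q
    obtain ⟨f, g, e, hy⟩ := exists_basicOpen_le_affine_inter hU hV _ ⟨hyU, hyV⟩
    obtain ⟨R, hR⟩ := exists_chart_of_mem 𝒮.toQCAlg (Y.basicOpen f) (hU.basicOpen f) _ hy
    obtain ⟨R', hR'⟩ := exists_chart_of_mem 𝒮.toQCAlg (Y.basicOpen g) (hV.basicOpen g) _ (e ▸ hy)
    have hP : (Spec.map (𝒮.presheaf.map (homOfLE (Y.basicOpen_le f)).op)).base R = P := by
      apply ι_injective 𝒮.toQCAlg U hU
      rw [← Scheme.Hom.comp_apply, ι_basicOpen, hR]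
    have hQ' : (Spec.map (𝒮.presheaf.map (homOfLE (Y.basicOpen_le g)).op)).base R' = Q := by
      apply ι_injective 𝒮.toQCAlg V hV
      rw [← Scheme.Hom.comp_apply, ι_basicOpen, hR', hQP]
    rw [← hP, ← mem_vertexCompl_basicOpen_iff]
    rw [← hQ', ← mem_vertexCompl_basicOpen_iff] at hQ
    exact (vertexCompl_congr 𝒮 e (hU.basicOpen f) (hV.basicOpen g) R R' (hR.trans hR'.symm)).mpr hQ
  · intro hP
    rw [mem_pointedCone_iff]
    exact ⟨U, hU, P, hP, rfl⟩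

end cone

end Groth.Agent.Lib.Helper13
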