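import Mathlib
import Groth.Agent.Lib.Helper13.ModSiteFlatSES

/-!
# Tensoring short exact sequences with flat right-hand term: generic form and presheaves of modules

* `BiTensorSES.shortExact_map_flip_obj`: generic bifunctor version.
* `PresheafFlat.cover`, `coverπ`: every presheaf of modules is a quotient of a sectionwise free one.
* `PresheafFlat.tensor_shortExact`.
-/

set_option autoImplicit false
universe u
open CategoryTheory CategoryTheory.Limits Opposite MonoidalCategory
open Groth.Agent.Lib.Helper13

namespace Groth.Agent.Lib.Helper13.BiTensorSES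

variable {A : Type*} [Category A] [Abelian A]

/-- Generic form: for a bifunctor `T` right exact in each variable, a short exact sequence `S` with
`T(S.X₃, -)` preserving monomorphisms, and an object `G` which is a quotient of an object `L` with
`T(-, L)` exact, the sequence `T(S, G)` is short exact. -/
theorem shortExact_map_flip_obj (T : A ⥤ A ⥤ A)
    [∀ X, PreservesFiniteColimits (T.obj X)] [∀ Y, PreservesFiniteColimits (T.flip.obj Y)]
    [∀ X, (T.obj X).Additive] [∀ Y, (T.flip.obj Y).Additive]
    (S : ShortComplex A) (hS : S.ShortExact)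
    (hF : ∀ {X Y : A} (a : X ⟶ Y), Mono a → Mono ((T.obj S.X₃).map a))
    (G L : A) (π : L ⟶ G) [Epi π] (hL : PreservesFiniteLimits (T.flip.obj L)) :
    (S.map (T.flip.obj G)).ShortExact := by
  let i := kernel.ι π
  have hcok := Abelian.epiIsCokernelOfKernel _ (kernelIsKernel π)
  have hr : ∀ (M : A),
      (S.map (T.flip.obj M)).Exact ∧ Epi ((T.flip.obj M).map S.g) := fun M =>
    (Functor.preservesFiniteColimits_iff_forall_exact_map_and_epi (T.flip.obj M)).1
      inferInstance S hS
  have hL₂ : (S.map (T.flip.obj L)).ShortExact := hS.map_of_exact (T.flip.obj L)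
  have w : S.mapNatTrans (T.flip.map i) ≫ S.mapNatTrans (T.flip.map π) = 0 := by
    have h0 : T.flip.map i ≫ T.flip.map π = 0 := by
      rw [← Functor.map_comp, kernel.condition, Functor.map_zero]
    apply ShortComplex.hom_ext
    · exact (NatTrans.congr_app h0 S.X₁)
    · exact (NatTrans.congr_app h0 S.X₂)
    · exact (NatTrans.congr_app h0 S.X₃)
  have hm : Mono ((S.map (T.flip.obj G)).f) := by
    refine SnakeMono.mono_f_of_snake (S.mapNatTrans (T.flip.map i)) (S.mapNatTrans (T.flip.map π)) w
      (CokernelCofork.mapIsColimit _ hcok (T.obj S.X₁))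
      (CokernelCofork.mapIsColimit _ hcok (T.obj S.X₂))
      (CokernelCofork.mapIsColimit _ hcok (T.obj S.X₃))
      (hr _).1 (hr _).2 hL₂.exact hL₂.mono_f ?_
    exact hF i inferInstance
  have he : Epi ((S.map (T.flip.obj G)).g) := (hr G).2
  exact ShortComplex.ShortExact.mk' (hr G).1 hm he

end Groth.Agent.Lib.Helper13.BiTensorSES

namespace Groth.Agent.Lib.Helper13.PresheafFlat

open Groth.Agent.Lib.Helper13.ModSiteFlatGen

variable {C : Type u} [SmallCategory C] {R : Cᵒᵖ ⥤ CommRingCat.{u}}

/-- the free presheaf of modules on the underlying presheaf of sets. -/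
noncomputable def cover (G : PresheafOfModules.{u} (R ⋙ forget₂ CommRingCat.{u} RingCat.{u})) :
    PresheafOfModules.{u} (R ⋙ forget₂ CommRingCat.{u} RingCat.{u}) :=
  PresheafOfModules.freeObj (G.presheaf ⋙ forget _)

/-- the canonical epimorphism from the free presheaf of modules. -/
noncomputable def coverπ (G : PresheafOfModules.{u} (R ⋙ forget₂ CommRingCat.{u} RingCat.{u})) :
    cover G ⟶ G :=
  PresheafOfModules.freeObjDesc (𝟙 _)

instance epi_coverπ (G : PresheafOfModules.{u} (R ⋙ forget₂ CommRingCat.{u} RingCat.{u})) :
    Epi (coverπ G) := by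
  apply PresheafOfModules.epi_of_surjective
  intro X x
  exact ⟨ModuleCat.freeMk x, ModuleCat.freeDesc_apply _ x⟩

theorem preservesFiniteLimits_tensorRight_cover
    (G : PresheafOfModules.{u} (R ⋙ forget₂ CommRingCat.{u} RingCat.{u})) :
    PreservesFiniteLimits (tensorRight (cover G)) := by
  apply preservesFiniteLimits_tensorRight
  intro X
  change Module.Flat (R.obj X) (((G.presheaf ⋙ forget _).obj X) →₀ (R.obj X))
  infer_instance

instance (X : PresheafOfModules.{u} (R ⋙ forget₂ CommRingCat.{u} RingCat.{u})) :
    PreservesFiniteColimits (tensorRight X) :=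
  PreservesColimitsOfSize.preservesFiniteColimits.{u, u} _

instance (X : PresheafOfModules.{u} (R ⋙ forget₂ CommRingCat.{u} RingCat.{u})) :
    PreservesFiniteColimits (tensorLeft X) :=
  PreservesColimitsOfSize.preservesFiniteColimits.{u, u} _

/-- Tensoring a short exact sequence of presheaves of modules with flat right-hand term. -/
theorem tensor_shortExact
    (S : ShortComplex (PresheafOfModules.{u} (R ⋙ forget₂ CommRingCat.{u} RingCat.{u})))
    (hS : S.ShortExact) (hF : PreservesFiniteLimits (tensorRight S.X₃))
    (G : PresheafOfModules.{u} (R ⋙ forget₂ CommRingCat.{u} RingCat.{u}))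
    [(tensorRight G).PreservesZeroMorphisms] :
    (S.map (tensorRight G)).ShortExact := by
  have hadd1 : ∀ X : PresheafOfModules.{u} (R ⋙ forget₂ CommRingCat.{u} RingCat.{u}),
      (tensorLeft X).Additive := fun X => additive_of_preservesFiniteColimits _
  have hadd2 : ∀ X : PresheafOfModules.{u} (R ⋙ forget₂ CommRingCat.{u} RingCat.{u}),
      (tensorRight X).Additive := fun X => additive_of_preservesFiniteColimits _
  have hL : PreservesFiniteLimits (tensorLeft S.X₃) :=
    preservesFiniteLimits_of_natIso (BraidedCategory.tensorLeftIsoTensorRight S.X₃).symm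
  exact BiTensorSES.shortExact_map_flip_obj
    (curriedTensor (PresheafOfModules.{u} (R ⋙ forget₂ CommRingCat.{u} RingCat.{u}))) S hS
    (fun a ha => inferInstanceAs (Mono ((tensorLeft S.X₃).map a))) G (cover G) (coverπ G)
    (preservesFiniteLimits_tensorRight_cover G)

end Groth.Agent.Lib.Helper13.PresheafFlat
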