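import Mathlib
import Groth.Prelude
import Groth.Agent.Lib.Helper23.FlatClC
import Groth.Agent.Lib.Helper11.IM1

/-!
# EGA IV 15.7.8-type statements: general lemmas (helper13)
-/

set_option autoImplicit false
set_option linter.style.haveILetI false
universe u
open CategoryTheory CategoryTheory.Limits AlgebraicGeometry TopologicalSpace Opposite

namespace Groth.Agent.Lib.Helper13.PropAtA

/-- universal closedness of a closed subscheme whose points are covered by a universally closed
scheme. -/
theorem uc_of_range_subset {G Q X S : Scheme.{u}} (i : G ⟶ X) [IsClosedImmersion i] (k : Q ⟶ X)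
    (φ : X ⟶ S) [UniversallyClosed (k ≫ φ)] (hr : Set.range i ⊆ Set.range k) :
    UniversallyClosed (i ≫ φ) := by
  haveI : Surjective (pullback.fst i k) := by
    refine ⟨fun g => ?_⟩
    obtain ⟨w, hw⟩ := hr ⟨g, rfl⟩
    obtain ⟨z, hz, -⟩ := Scheme.Pullback.exists_preimage_pullback (f := i) (g := k) g w hw.symm
    exact ⟨z, hz⟩
  haveI : UniversallyClosed (pullback.fst i k ≫ (i ≫ φ)) := by
    have h : pullback.fst i k ≫ (i ≫ φ) = pullback.snd i k ≫ (k ≫ φ) := by
      rw [← Category.assoc, pullback.condition, Category.assoc]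
    rw [h]
    infer_instance
  exact UniversallyClosed.of_comp_surjective (pullback.fst i k) (i ≫ φ)

/-- properness of the reduced induced structure on a closed set covered by a universally closed
scheme. -/
theorem isProper_vanishing {V U T : Scheme.{u}} (φ : V ⟶ U) [IsSeparated φ]
    [LocallyOfFiniteType φ] (C : Closeds V) (j : T ⟶ V) (hj : (C : Set V) ⊆ Set.range j)
    [UniversallyClosed (j ≫ φ)] :
    IsProper ((Scheme.IdealSheafData.vanishingIdeal C).subschemeι ≫ φ) := by
  haveI : UniversallyClosed ((Scheme.IdealSheafData.vanishingIdeal C).subschemeι ≫ φ) := by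
    refine uc_of_range_subset _ j φ ?_
    rw [Scheme.IdealSheafData.range_subschemeι, Scheme.IdealSheafData.coe_support_vanishingIdeal]
    exact hj
  exact IsProper.mk

/-- the preimage of `Z` in a base change to a field is preconnected. -/
theorem preconnected_of_isPullback {X Y : Scheme.{u}} (f : X ⟶ Y) (Z : Set X)
    {K : Type u} [Field K] {P : Scheme.{u}} (a : P ⟶ X) (b : P ⟶ Spec (CommRingCat.of K))
    (c : Spec (CommRingCat.of K) ⟶ Y) (sq : IsPullback a b f c)
    (pt : Spec (CommRingCat.of K)) (y' : Y) (hy' : c pt = y')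
    (h1 : ∀ (K' : Type u) [Field K'] [Algebra (IsLocalRing.ResidueField (Y.presheaf.stalk y')) K'],
        _root_.IsPreconnected
          ((FBase.bcπ (f.fiberToSpecResidueField y') K' ≫ f.fiberι y').base ⁻¹' Z)) :
    _root_.IsPreconnected ((a : P → X) ⁻¹' Z) := by
  subst hy'
  obtain ⟨φ, sqf, hφι⟩ : ∃ φ : b.fiber pt ⟶ f.fiber (c pt),
      IsPullback φ (b.fiberToSpecResidueField pt) (f.fiberToSpecResidueField (c pt))
        (Spec.map (c.residueFieldMap pt)) ∧ φ ≫ f.fiberι (c pt) = b.fiberι pt ≫ a :=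
    ⟨_, isPullback_fiberToSpecResidueField_of_isPullback sq pt, pullback.lift_fst _ _ _⟩
  letI alg : Algebra (IsLocalRing.ResidueField (Y.presheaf.stalk (c pt)))
      ↑((Spec (CommRingCat.of K)).residueField pt) := (c.residueFieldMap pt).hom.toAlgebra
  have hpre := h1 ↑((Spec (CommRingCat.of K)).residueField pt)
  have sqf' : IsPullback φ (b.fiberToSpecResidueField pt) (f.fiberToSpecResidueField (c pt))
      (Spec.map (CommRingCat.ofHom (algebraMap
        (IsLocalRing.ResidueField (Y.presheaf.stalk (c pt)))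
        ↑((Spec (CommRingCat.of K)).residueField pt)))) := sqf
  obtain ⟨e, he⟩ : ∃ e : b.fiber pt ≅ FBase.bc (f.fiberToSpecResidueField (c pt))
      ↑((Spec (CommRingCat.of K)).residueField pt),
      e.hom ≫ FBase.bcπ (f.fiberToSpecResidueField (c pt))
        ↑((Spec (CommRingCat.of K)).residueField pt) = φ :=
    ⟨sqf'.isoPullback, sqf'.isoPullback_hom_fst⟩
  have hpt : ∀ w, (φ ≫ f.fiberι (c pt)) w =
      (FBase.bcπ (f.fiberToSpecResidueField (c pt))
        ↑((Spec (CommRingCat.of K)).residueField pt) ≫ f.fiberι (c pt)) (e.hom w) := by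
    intro w
    rw [← Scheme.Hom.comp_apply, ← Category.assoc, he]
  have h2 : _root_.IsPreconnected (((φ ≫ f.fiberι (c pt) : b.fiber pt ⟶ X) : _ → X) ⁻¹' Z) := by
    have hs : ((φ ≫ f.fiberι (c pt) : b.fiber pt ⟶ X) : _ → X) ⁻¹' Z =
        (e.hom.homeomorph : _ → _) ⁻¹' ((FBase.bcπ (f.fiberToSpecResidueField (c pt))
          ↑((Spec (CommRingCat.of K)).residueField pt) ≫ f.fiberι (c pt)).base ⁻¹' Z) := by
      ext w
      show (φ ≫ f.fiberι (c pt)) w ∈ Z ↔ _
      rw [hpt w]
      rfl
    rw [hs]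
    exact (e.hom.homeomorph.isPreconnected_preimage).mpr hpre
  rw [hφι] at h2
  have hsurj : Function.Surjective (b.fiberι pt) := by
    intro w
    have hw : w ∈ Set.range (b.fiberι pt) := by
      rw [b.range_fiberι pt]
      exact Subsingleton.elim (α := PrimeSpectrum K) _ _
    exact hw
  have hs : (a : P → X) ⁻¹' Z =
      (b.fiberι pt) '' (((b.fiberι pt ≫ a : b.fiber pt ⟶ X) : _ → X) ⁻¹' Z) := by
    ext w
    constructor
    · intro hw
      obtain ⟨v, rfl⟩ := hsurj w
      exact ⟨v, hw, rfl⟩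
    · rintro ⟨v, hv, rfl⟩
      exact hv
  rw [hs]
  exact h2.image _ (b.fiberι pt).continuous.continuousOn

/-- the part of `Z` in a fibre of a base change is preconnected. -/
theorem preconnected_fibre {X Y T XT : Scheme.{u}} (f : X ⟶ Y) (Z : Set X) (p : XT ⟶ X)
    (q : XT ⟶ T) (h : T ⟶ Y) (sq : IsPullback p q f h) (t : T)
    (h1 : ∀ (K' : Type u) [Field K']
        [Algebra (IsLocalRing.ResidueField (Y.presheaf.stalk (h t))) K'],
        _root_.IsPreconnected
          ((FBase.bcπ (f.fiberToSpecResidueField (h t)) K' ≫ f.fiberι (h t)).base ⁻¹' Z)) :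
    _root_.IsPreconnected ((p : XT → X) ⁻¹' Z ∩ (q : XT → T) ⁻¹' {t}) := by
  have sqt : IsPullback (q.fiberι t) (q.fiberToSpecResidueField t) q
      (T.fromSpecResidueField t) := IsPullback.of_hasPullback q (T.fromSpecResidueField t)
  have big := sqt.paste_horiz sq
  obtain ⟨pt⟩ : Nonempty (Spec (CommRingCat.of ↑(T.residueField t))) :=
    ⟨IsLocalRing.closedPoint _⟩
  have hc : (T.fromSpecResidueField t ≫ h) pt = h t := by
    rw [Scheme.Hom.comp_apply, Scheme.fromSpecResidueField_apply]
  have h2 := preconnected_of_isPullback f Z (K := ↑(T.residueField t)) (q.fiberι t ≫ p)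
    (q.fiberToSpecResidueField t) (T.fromSpecResidueField t ≫ h) big pt (h t) hc h1
  have hs : (p : XT → X) ⁻¹' Z ∩ (q : XT → T) ⁻¹' {t} =
      (q.fiberι t) '' (((q.fiberι t ≫ p : q.fiber t ⟶ X) : _ → X) ⁻¹' Z) := by
    ext w
    constructor
    · rintro ⟨hw1, hw2⟩
      have hw : w ∈ Set.range (q.fiberι t) := by rw [q.range_fiberι t]; exact hw2
      obtain ⟨v, rfl⟩ := hw
      exact ⟨v, hw1, rfl⟩
    · rintro ⟨v, hv, rfl⟩
      refine ⟨hv, ?_⟩
      have hw : q.fiberι t v ∈ Set.range (q.fiberι t) := ⟨v, rfl⟩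
      rw [q.range_fiberι t] at hw
      exact hw
  rw [hs]
  exact h2.image _ (q.fiberι t).continuous.continuousOn

end Groth.Agent.Lib.Helper13.PropAtA
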