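import Mathlib
import Groth.Prelude
import Groth.Agent.Lib.Helper13.ClopenProper
import Groth.Agent.Lib.Helper6.OpenConnSch
import Groth.Agent.S0542

/-!
# Properness in a neighbourhood of a proper fibre (EGA IV 15.7) (helper13)

`exists_nhd_isProper_of_flat`: spreading out of properness from a flat base change covering all
generizations of a point (via Chow's lemma).
`exists_nhd_isProper_of_key`: over an affine Noetherian base, if the fibre over `y` is proper and,
after every flat base change to a Noetherian local ring, every open and closed part which is proper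
and contains the closed fibre is everything, then `f` is proper near `y` (completion +
EGA III 5.5.1).
-/

set_option autoImplicit false
set_option linter.style.haveILetI false
universe u
open CategoryTheory CategoryTheory.Limits AlgebraicGeometry TopologicalSpace Opposite

namespace Groth.Agent.Lib.Helper13.ProperNhd

open Groth.Agent.Lib.Helper13.ClopenProper

/-- spreading out of properness from a flat base change covering the generizations of `y`. -/
theorem exists_nhd_isProper_of_flat {X Y T : Scheme.{u}} [IsNoetherian Y] (f : X ⟶ Y)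
    [IsSeparated f] [LocallyOfFiniteType f] [QuasiCompact f] (y : Y) (h : T ⟶ Y) [Flat h]
    (hgen : ∀ y' : Y, y' ⤳ y → y' ∈ Set.range h) [UniversallyClosed (pullback.snd f h)] :
    ∃ U : Y.Opens, y ∈ U ∧ IsProper (f ∣_ U) := by
  obtain ⟨n, X', π, j, hj, hjπ, hπp, hπs, -⟩ := Groth.Agent.S0025.result f
  haveI := hj
  haveI := hπp
  haveI := hπs
  haveI : IsProper (CohB1.ProjSpaceOver.toBase n Y) :=
    Groth.Agent.Lib.Helper8.ProperAtDvr.isProper_toBase n _
  haveI : QuasiCompact j := by
    haveI : QuasiCompact (j ≫ CohB1.ProjSpaceOver.toBase n Y) := by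
      rw [hjπ]; infer_instance
    exact QuasiCompact.of_comp j (CohB1.ProjSpaceOver.toBase n Y)
  obtain ⟨Z, o, c, ho, hc, hoc, hdom⟩ : ∃ (Z : Scheme.{u}) (o : X' ⟶ Z)
      (c : Z ⟶ CohB1.ProjSpaceOver n Y),
      IsOpenImmersion o ∧ IsClosedImmersion c ∧ o ≫ c = j ∧ IsDominant o :=
    ⟨_, j.toImage, j.imageι, inferInstance, inferInstance, j.toImage_imageι, inferInstance⟩
  haveI := ho
  haveI := hc
  obtain ⟨g, hg⟩ : ∃ g : Z ⟶ Y, g = c ≫ CohB1.ProjSpaceOver.toBase n Y := ⟨_, rfl⟩
  haveI : IsProper g := by rw [hg]; infer_instance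
  have hog : o ≫ g = π ≫ f := by rw [hg, ← Category.assoc, hoc, hjπ]
  haveI : IsLocallyNoetherian Z := LocallyOfFiniteType.isLocallyNoetherian g
  -- base change
  obtain ⟨pZ, hpZ⟩ : ∃ pZ : pullback g h ⟶ Z, pZ = pullback.fst g h := ⟨_, rfl⟩
  obtain ⟨gT, hgT⟩ : ∃ gT : pullback g h ⟶ T, gT = pullback.snd g h := ⟨_, rfl⟩
  haveI : Flat pZ := by rw [hpZ]; infer_instance
  haveI : IsSeparated gT := by rw [hgT]; infer_instance
  have sqZ : IsPullback pZ gT g h := by rw [hpZ, hgT]; exact IsPullback.of_hasPullback g h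
  obtain ⟨oT, hoT⟩ : ∃ oT : pullback o pZ ⟶ pullback g h, oT = pullback.snd o pZ := ⟨_, rfl⟩
  have bigsq : IsPullback (pullback.fst o pZ) (oT ≫ gT) (π ≫ f) h := by
    have h1 := (IsPullback.of_hasPullback o pZ).paste_vert sqZ
    rw [hog] at h1
    rw [hoT]; exact h1
  obtain ⟨θ, hθ⟩ : ∃ θ : pullback o pZ ⟶ pullback f h,
      θ = pullback.lift (pullback.fst o pZ ≫ π) (oT ≫ gT)
        (by rw [Category.assoc, bigsq.w]) := ⟨_, rfl⟩
  have hθ1 : θ ≫ pullback.fst f h = pullback.fst o pZ ≫ π := by rw [hθ, pullback.lift_fst]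
  have hθ2 : θ ≫ pullback.snd f h = oT ≫ gT := by rw [hθ, pullback.lift_snd]
  have sqθ : IsPullback θ (pullback.fst o pZ) (pullback.fst f h) π := by
    refine IsPullback.of_right ?_ hθ1 (IsPullback.of_hasPullback f h).flip
    rw [hθ2]; exact bigsq.flip
  haveI : IsProper θ := MorphismProperty.of_isPullback (P := @IsProper) sqθ.flip inferInstance
  haveI : UniversallyClosed (oT ≫ gT) := by rw [← hθ2]; infer_instance
  haveI : UniversallyClosed oT := UniversallyClosed.of_comp_of_isSeparated oT gT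
  have hoTcl : IsClosed (Set.range oT) := oT.isClosedMap.isClosed_range
  have hclaim : ∀ z : Z, g z ⤳ y → z ∈ Set.range o := by
    intro z hz
    obtain ⟨a, ha⟩ := hgen _ hz
    obtain ⟨zh, hzh1, -⟩ := Scheme.Pullback.exists_preimage_pullback (f := g) (g := h) z a ha.symm
    rw [← hpZ] at hzh1
    have hzcl : z ∈ closure (Set.range o) := hdom.denseRange z
    obtain ⟨z', ⟨x', rfl⟩, hz'⟩ :=
      Groth.Agent.Lib.Helper6.OpenConn.exists_specializes_of_mem_closure_open (Set.range o)
        o.isOpenEmbedding.isOpen_range z hzcl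
    obtain ⟨zh', hzh'1, hzh'2⟩ := (Flat.generalizingMap pZ) (a := zh) (b := o x')
      (by rw [hzh1]; exact hz')
    obtain ⟨w, -, hw2⟩ := Scheme.Pullback.exists_preimage_pullback (f := o) (g := pZ) x' zh'
      hzh'2.symm
    have hmem' : zh' ∈ Set.range oT := ⟨w, by rw [hoT]; exact hw2⟩
    have hzhmem : zh ∈ Set.range oT := hzh'1.mem_closed hoTcl hmem'
    obtain ⟨w₀, hw₀⟩ := hzhmem
    refine ⟨pullback.fst o pZ w₀, ?_⟩
    rw [← Scheme.Hom.comp_apply, pullback.condition, Scheme.Hom.comp_apply, ← hoT, hw₀, hzh1]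
  obtain ⟨Tc, hTc⟩ : ∃ Tc : Set Y, Tc = (g : Z → Y) '' (Set.range o)ᶜ := ⟨_, rfl⟩
  have hTcl : IsClosed Tc := by
    rw [hTc]; exact g.isClosedMap _ o.isOpenEmbedding.isOpen_range.isClosed_compl
  have hyT : y ∉ Tc := by
    rw [hTc]
    rintro ⟨z, hz, hgz⟩
    exact hz (hclaim z (by rw [hgz]))
  obtain ⟨U, hU⟩ : ∃ U : Y.Opens, (U : Set Y) = Tcᶜ := ⟨⟨_, hTcl.isOpen_compl⟩, rfl⟩
  have hUmem : ∀ s : Y, s ∈ U ↔ s ∉ Tc := by
    intro s
    rw [← SetLike.mem_coe, hU]; rfl
  have hUo : ∀ z : Z, g z ∈ U → z ∈ Set.range o := by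
    intro z hz
    by_contra hne
    refine (hUmem _).mp hz ?_
    rw [hTc]; exact ⟨z, hne, rfl⟩
  refine ⟨U, (hUmem y).mpr hyT, ?_⟩
  obtain ⟨F', hF'⟩ : ∃ F' : X' ⟶ Y, F' = π ≫ f := ⟨_, rfl⟩
  have hF'2 : F' = o ≫ g := by rw [hF', hog]
  obtain ⟨k, hk⟩ : ∃ k : (F' ⁻¹ᵁ U).toScheme ⟶ Z, k = (F' ⁻¹ᵁ U).ι ≫ o := ⟨_, rfl⟩
  haveI : IsOpenImmersion k := by rw [hk]; infer_instance
  have hkr : Set.range k = Set.range (g ⁻¹ᵁ U).ι := by
    rw [Scheme.Opens.range_ι, hk, Scheme.Hom.comp_base, TopCat.coe_comp, Set.range_comp,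
      Scheme.Opens.range_ι]
    ext z
    constructor
    · rintro ⟨x', hx', rfl⟩
      show g (o x') ∈ U
      have h1 : F' x' ∈ U := hx'
      rwa [hF'2, Scheme.Hom.comp_apply] at h1
    · intro hz
      obtain ⟨x', rfl⟩ := hUo z hz
      refine ⟨x', ?_, rfl⟩
      show F' x' ∈ U
      rw [hF'2, Scheme.Hom.comp_apply]; exact hz
  obtain ⟨e, he⟩ : ∃ e : (F' ⁻¹ᵁ U).toScheme ≅ (g ⁻¹ᵁ U).toScheme, e.hom ≫ (g ⁻¹ᵁ U).ι = k :=
    ⟨IsOpenImmersion.isoOfRangeEq k (g ⁻¹ᵁ U).ι hkr, IsOpenImmersion.isoOfRangeEq_hom_fac _ _ _⟩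
  have hFU : F' ∣_ U = e.hom ≫ (g ∣_ U) := by
    rw [← cancel_mono U.ι, morphismRestrict_ι, Category.assoc, morphismRestrict_ι,
      ← Category.assoc, he, hk, Category.assoc, ← hF'2]
  haveI : IsProper (g ∣_ U) :=
    MorphismProperty.of_isPullback (P := @IsProper) (isPullback_morphismRestrict g U).flip
      inferInstance
  haveI : IsProper (F' ∣_ U) := by rw [hFU]; infer_instance
  subst hF'
  haveI : UniversallyClosed ((π ∣_ f ⁻¹ᵁ U) ≫ (f ∣_ U)) := by
    rw [← morphismRestrict_comp]
    exact (inferInstance : UniversallyClosed ((π ≫ f) ∣_ U))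
  haveI : Surjective (π ∣_ f ⁻¹ᵁ U) :=
    MorphismProperty.of_isPullback (P := @Surjective) (isPullback_morphismRestrict π _).flip
      inferInstance
  haveI : UniversallyClosed (f ∣_ U) :=
    UniversallyClosed.of_comp_surjective (π ∣_ f ⁻¹ᵁ U) (f ∣_ U)
  haveI : IsSeparated (f ∣_ U) :=
    MorphismProperty.of_isPullback (P := @IsSeparated) (isPullback_morphismRestrict f U).flip
      inferInstance
  haveI : LocallyOfFiniteType (f ∣_ U) :=
    MorphismProperty.of_isPullback (P := @LocallyOfFiniteType)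
      (isPullback_morphismRestrict f U).flip inferInstance
  exact IsProper.mk

/-- restricting twice. -/
theorem of_affine_nhd {X Y : Scheme.{u}} (f : X ⟶ Y) (V : Y.Opens) (U' : V.toScheme.Opens)
    (h : IsProper ((f ∣_ V) ∣_ U')) : IsProper (f ∣_ (V.ι ''ᵁ U')) :=
  (MorphismProperty.arrow_mk_iso_iff @IsProper (morphismRestrictRestrict f V U')).mp h

/-- connectedness of the fibres of a base change. -/
lemma isConnected_fiber_of_geomConn {X Y T : Scheme.{u}} (f : X ⟶ Y) (h : T ⟶ Y) (s : T)
    (hc : GeometricallyConnected (f.fiberToSpecResidueField (h s))) :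
    _root_.IsConnected ((pullback.snd f h) ⁻¹' {s}) := by
  have sq := isPullback_fiberToSpecResidueField_of_isPullback (IsPullback.of_hasPullback f h) s
  have hgc : GeometricallyConnected ((pullback.snd f h).fiberToSpecResidueField s) :=
    MorphismProperty.of_isPullback (P := @GeometricallyConnected) sq hc
  haveI : ConnectedSpace ↥((pullback.snd f h).fiber s) :=
    hgc.geometrically_connectedSpace (𝟙 _) (𝟙 _) _ IsPullback.of_id_fst
  haveI : ConnectedSpace ↥((pullback.snd f h) ⁻¹' {s}) :=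
    ((pullback.snd f h).fiberHomeo s).surjective.connectedSpace
      ((pullback.snd f h).fiberHomeo s).continuous
  exact isConnected_iff_connectedSpace.mpr inferInstance

/-- **Properness near a proper fibre**, criterion over an affine Noetherian base. -/
theorem exists_nhd_isProper_of_key {X Y : Scheme.{u}} [IsAffine Y] [IsNoetherian Y] (f : X ⟶ Y)
    [IsSeparated f] [LocallyOfFiniteType f] [QuasiCompact f] (y : Y)
    (hy : IsProper (f.fiberToSpecResidueField y))
    (hkey : ∀ (A : Type u) [CommRing A] [IsNoetherianRing A] [IsLocalRing A]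
      (h : Spec (CommRingCat.of A) ⟶ Y) [Flat h], h (IsLocalRing.closedPoint A) = y →
      ∀ U : (pullback f h).Opens, IsClosed (U : Set ↥(pullback f h)) →
        (∀ x, (pullback.snd f h) x = IsLocalRing.closedPoint A → x ∈ U) →
        IsProper (U.ι ≫ pullback.snd f h) → (U : Set ↥(pullback f h)) = Set.univ) :
    ∃ U : Y.Opens, y ∈ U ∧ IsProper (f ∣_ U) := by
  haveI : IsNoetherianRing Γ(Y, ⊤) :=
    IsLocallyNoetherian.component_noetherian ⟨⊤, isAffineOpen_top _⟩
  obtain ⟨P, hP⟩ : ∃ P : PrimeSpectrum Γ(Y, ⊤), P = Y.isoSpec.hom y := ⟨_, rfl⟩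
  let B := Localization.AtPrime P.asIdeal
  let A := AdicCompletion (IsLocalRing.maximalIdeal B) B
  haveI : IsNoetherianRing A :=
    Groth.Agent.S0542.result B (IsLocalRing.maximalIdeal B) (Ideal.fg_of_isNoetherianRing _)
  let φ : Γ(Y, ⊤) →+* A := (algebraMap B A).comp (algebraMap Γ(Y, ⊤) B)
  have hφ : φ.Flat :=
    RingHom.Flat.comp (RingHom.flat_algebraMap_iff.2 inferInstance)
      (RingHom.flat_algebraMap_iff.2 inferInstance)
  haveI : Flat (Spec.map (CommRingCat.ofHom φ)) := HasRingHomProperty.Spec_iff.2 hφ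
  obtain ⟨h, hh⟩ : ∃ h : Spec (CommRingCat.of A) ⟶ Y,
      h = Spec.map (CommRingCat.ofHom φ) ≫ Y.isoSpec.inv := ⟨_, rfl⟩
  haveI : Flat h := by rw [hh]; infer_instance
  have hcl : h (IsLocalRing.closedPoint A) = y := by
    have h1 : (Spec.map (CommRingCat.ofHom φ)) (IsLocalRing.closedPoint A) = P := by
      apply PrimeSpectrum.ext
      change ((IsLocalRing.maximalIdeal A).comap (algebraMap B A)).comap
        (algebraMap Γ(Y, ⊤) B) = P.asIdeal
      rw [IsLocalRing.maximalIdeal_comap]
      exact Localization.AtPrime.under_maximalIdeal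
    rw [hh, Scheme.Hom.comp_apply, h1, hP, ← Scheme.Hom.comp_apply, Iso.hom_inv_id]
    rfl
  have hgen : ∀ y' : Y, y' ⤳ y → y' ∈ Set.range h := by
    intro y' hy'
    obtain ⟨a', -, ha'⟩ := (Flat.generalizingMap h) (a := IsLocalRing.closedPoint A) (b := y')
      (by rw [hcl]; exact hy')
    exact ⟨a', ha'⟩
  obtain ⟨t, ht⟩ : ∃ t : Spec (CommRingCat.of A), t = IsLocalRing.closedPoint A := ⟨_, rfl⟩
  have htcl : IsClosed ({t} : Set (Spec (CommRingCat.of A))) := by
    rw [ht]; exact IsLocalRing.isClosed_singleton_closedPoint A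
  haveI : IsClosedImmersion ((pullback.snd f h).fiberι t) :=
    IsClosedImmersion.of_isPreimmersion _ (by
      rw [(pullback.snd f h).range_fiberι t]
      exact htcl.preimage (pullback.snd f h).continuous)
  haveI : IsClosedImmersion ((Spec (CommRingCat.of A)).fromSpecResidueField t) :=
    isClosed_singleton_iff_isClosedImmersion.mp htcl
  have hfibproper : IsProper ((pullback.snd f h).fiberToSpecResidueField t) := by
    have sq := isPullback_fiberToSpecResidueField_of_isPullback (IsPullback.of_hasPullback f h) t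
    have hy' : IsProper (f.fiberToSpecResidueField (h t)) := by
      rw [ht, hcl]; exact hy
    exact MorphismProperty.of_isPullback (P := @IsProper) sq hy'
  haveI : IsProper ((⊤ : ((pullback.snd f h).fiber t).Opens).ι ≫
      (pullback.snd f h).fiberι t ≫ pullback.snd f h) := by
    haveI : IsIso (⊤ : ((pullback.snd f h).fiber t).Opens).ι := (Scheme.topIso _).isIso_hom
    have h1 : (pullback.snd f h).fiberι t ≫ pullback.snd f h =
        (pullback.snd f h).fiberToSpecResidueField t ≫
          (Spec (CommRingCat.of A)).fromSpecResidueField t := (pullback.snd f h).fiber_fac t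
    rw [h1]
    haveI := hfibproper
    infer_instance
  haveI : IsAdicComplete (IsLocalRing.maximalIdeal A) A := inferInstance
  haveI : HenselianRing A (IsLocalRing.maximalIdeal A) := inferInstance
  have hJ : IsLocalRing.maximalIdeal A ≤ Ideal.jacobson ⊥ := by
    rw [IsLocalRing.jacobson_eq_maximalIdeal ⊥ bot_ne_top]
  have hr : Set.range ((pullback.snd f h).fiberι t) = (pullback.snd f h) ⁻¹' Set.range
      (Spec.map (CommRingCat.ofHom (Ideal.Quotient.mk (IsLocalRing.maximalIdeal A)))) := by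
    rw [(pullback.snd f h).range_fiberι t]
    congr 1
    ext s
    rw [Set.mem_singleton_iff, Groth.Agent.Lib.Helper13.HensProper.mem_range_SpecMap_mk]
    constructor
    · intro hs
      rw [hs, ht]
      exact le_refl _
    · intro hs
      rw [ht]
      apply PrimeSpectrum.ext
      exact ((IsLocalRing.maximalIdeal.isMaximal A).eq_of_le s.isPrime.ne_top hs).symm
  obtain ⟨U, hUcl, hUp, hUV, -⟩ := clopen_proper_part A (IsLocalRing.maximalIdeal A) hJ
    (pullback.snd f h) ((pullback.snd f h).fiberι t) hr ⊤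
  have hUtop : (U : Set ↥(pullback f h)) = Set.univ := by
    refine hkey A h hcl U hUcl (fun x hx => ?_) hUp
    have hx' : x ∈ Set.range ((pullback.snd f h).fiberι t) := by
      rw [(pullback.snd f h).range_fiberι t, ht]; exact hx
    obtain ⟨w, rfl⟩ := hx'
    have hw : w ∈ (pullback.snd f h).fiberι t ⁻¹ᵁ U := by rw [hUV]; trivial
    exact hw
  haveI : UniversallyClosed (pullback.snd f h) := by
    have hU' : U = ⊤ := by
      apply TopologicalSpace.Opens.ext
      rw [hUtop]; rfl
    rw [hU'] at hUp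
    haveI := hUp
    have h1 : pullback.snd f h = (Scheme.topIso _).inv ≫
        ((⊤ : (pullback f h).Opens).ι ≫ pullback.snd f h) := by
      rw [← Category.assoc, Scheme.toIso_inv_ι, Category.id_comp]
    rw [h1]; infer_instance
  exact exists_nhd_isProper_of_flat f y h hgen

end Groth.Agent.Lib.Helper13.ProperNhd
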