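import Mathlib
import Groth.Prelude
import Groth.Agent.Lib.Helper13.SteinEt
import Groth.Agent.Lib.Helper13.CompCount
import Groth.Agent.S3411
import Groth.Agent.S1335
import Groth.Agent.Lib.Helper12.FlatProperApprox

/-!
# Lower semicontinuity of the geometric number of connected components of the fibres of a proper
morphism which is universally open along a fibre (via the Stein factorisation) (helper13)
-/

set_option autoImplicit false
set_option linter.style.haveILetI false
universe u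
open CategoryTheory CategoryTheory.Limits AlgebraicGeometry TopologicalSpace Opposite

namespace Groth.Agent.Lib.Helper13.SteinLSC

/-- the cartesian square presenting the geometric fibre. -/
lemma isPullback_geomFiber {X Y : Scheme.{u}} (f : X ⟶ Y) (z : Y) :
    IsPullback
      (pullback.fst (f.fiberToSpecResidueField z) (Spec.map (CommRingCat.ofHom
        (algebraMap (Y.residueField z) (SeparableClosure (Y.residueField z))))) ≫ f.fiberι z)
      (pullback.snd (f.fiberToSpecResidueField z) (Spec.map (CommRingCat.ofHom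
        (algebraMap (Y.residueField z) (SeparableClosure (Y.residueField z))))))
      f
      (Spec.map (CommRingCat.ofHom
        (algebraMap (Y.residueField z) (SeparableClosure (Y.residueField z)))) ≫
        Y.fromSpecResidueField z) :=
  (IsPullback.of_hasPullback (f.fiberToSpecResidueField z) _).paste_horiz
    (IsPullback.of_hasPullback f (Y.fromSpecResidueField z))

/-- counting connected components along a geometrically connected morphism onto a discrete
scheme. -/
theorem card_conn_eq_of_isPullback {X Y' Y G G' Z : Scheme.{u}} (f' : X ⟶ Y') (π : Y' ⟶ Y)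
    (ζ : Z ⟶ Y) {a : G ⟶ X} {b : G ⟶ Z} {a' : G' ⟶ Y'} {b' : G' ⟶ Z}
    (H : IsPullback a b (f' ≫ π) ζ) (H' : IsPullback a' b' π ζ) [GeometricallyConnected f']
    [DiscreteTopology G'] :
    ENat.card (_root_.ConnectedComponents G) = ENat.card (_root_.ConnectedComponents G') := by
  obtain ⟨θ, hθ⟩ : ∃ θ : G ⟶ G', θ = H'.lift (a ≫ f') b (by rw [Category.assoc, H.w]) := ⟨_, rfl⟩
  have hθ1 : θ ≫ a' = a ≫ f' := by rw [hθ, H'.lift_fst]
  have hθ2 : θ ≫ b' = b := by rw [hθ, H'.lift_snd]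
  have sq : IsPullback θ a a' f' := by
    refine IsPullback.of_right ?_ hθ1 H'.flip
    rw [hθ2]; exact H.flip
  haveI : GeometricallyConnected θ :=
    MorphismProperty.of_isPullback (P := @GeometricallyConnected) sq.flip inferInstance
  obtain ⟨e₁⟩ := Groth.Agent.Lib.Helper13.CompCount.nonempty_connectedComponents_equiv
    (fun w : G => θ w) θ.continuous (fun t => θ.isConnected_preimage_singleton t)
  obtain ⟨e₂⟩ := Groth.Agent.Lib.Helper13.CompCount.nonempty_connectedComponents_equiv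
    (fun w : G' => w) continuous_id (fun t => by
      have : (fun w : G' => w) ⁻¹' {t} = {t} := rfl
      rw [this]; exact isConnected_singleton)
  exact ENat.card_congr (e₁.trans e₂.symm)

/-- the geometric number of connected components is unchanged along a geometrically connected
morphism over a finite morphism. -/
theorem nGeomConnComp_comp {X Y' Y : Scheme.{u}} (f' : X ⟶ Y') (π : Y' ⟶ Y)
    [GeometricallyConnected f'] [IsFinite π] (z : Y) :
    MoreMor.nGeomConnComp (f' ≫ π) z = MoreMor.nGeomConnComp π z := by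
  unfold MoreMor.nGeomConnComp MoreMor.geomFiber
  haveI : IsLocallyArtinian (Spec (CommRingCat.of (SeparableClosure (Y.residueField z)))) :=
    Scheme.isLocallyArtinianScheme_Spec.mpr inferInstance
  haveI : IsLocallyArtinian (pullback (π.fiberToSpecResidueField z) (Spec.map (CommRingCat.ofHom
      (algebraMap (Y.residueField z) (SeparableClosure (Y.residueField z)))))) :=
    IsLocallyArtinian.of_locallyQuasiFinite (pullback.snd (π.fiberToSpecResidueField z) _)
  exact card_conn_eq_of_isPullback f' π _ (isPullback_geomFiber (f' ≫ π) z)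
    (isPullback_geomFiber π z)

/-- universal openness descends along a surjection. -/
theorem isUnivOpenAt_of_comp {X Y' Y : Scheme.{u}} (f' : X ⟶ Y') (π : Y' ⟶ Y) [Surjective f']
    (y' : Y') (h : ∀ x : X, f' x = y' → EGA43.IsUnivOpenAt (f' ≫ π) x) :
    EGA43.IsUnivOpenAt π y' := by
  intro T g t' ht'
  obtain ⟨θ, hθ⟩ : ∃ θ : pullback (f' ≫ π) g ⟶ pullback π g,
      θ = pullback.lift (pullback.fst (f' ≫ π) g ≫ f') (pullback.snd (f' ≫ π) g)
        (by rw [Category.assoc, pullback.condition]) := ⟨_, rfl⟩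
  have hθ1 : θ ≫ pullback.fst π g = pullback.fst (f' ≫ π) g ≫ f' := by rw [hθ, pullback.lift_fst]
  have hθ2 : θ ≫ pullback.snd π g = pullback.snd (f' ≫ π) g := by rw [hθ, pullback.lift_snd]
  have sq : IsPullback θ (pullback.fst (f' ≫ π) g) (pullback.fst π g) f' := by
    refine IsPullback.of_right ?_ hθ1 (IsPullback.of_hasPullback π g).flip
    rw [hθ2]; exact (IsPullback.of_hasPullback (f' ≫ π) g).flip
  haveI : Surjective θ := MorphismProperty.of_isPullback (P := @Surjective) sq.flip inferInstance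
  obtain ⟨p, hp⟩ := θ.surjective t'
  have hx : f' ((pullback.fst (f' ≫ π) g) p) = y' := by
    rw [← Scheme.Hom.comp_apply, ← hθ1, Scheme.Hom.comp_apply, hp]; exact ht'
  have hopen := h _ hx T g p rfl
  intro N hN
  have hN' : (θ : _ → _) ⁻¹' N ∈ nhds p := θ.continuous.continuousAt (by rw [hp]; exact hN)
  have h1 := hopen _ hN'
  have hpt : (pullback.snd (f' ≫ π) g) p = (pullback.snd π g) t' := by
    rw [← hp, ← Scheme.Hom.comp_apply, hθ2]
  rw [hpt] at h1
  refine Filter.mem_of_superset h1 ?_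
  rintro _ ⟨q, hq, rfl⟩
  refine ⟨θ q, hq, ?_⟩
  rw [← Scheme.Hom.comp_apply, hθ2]

/-- universal openness at a point is stable under base change. -/
theorem isUnivOpenAt_of_isPullback {X Y X₁ Y₁ : Scheme.{u}} {f : X ⟶ Y} {f₁ : X₁ ⟶ Y₁}
    {g' : X₁ ⟶ X} {g : Y₁ ⟶ Y} (sq : IsPullback g' f₁ f g) (x₁ : X₁)
    (h : EGA43.IsUnivOpenAt f (g' x₁)) : EGA43.IsUnivOpenAt f₁ x₁ := by
  intro T k p hp
  have big : IsPullback (pullback.fst f₁ k ≫ g') (pullback.snd f₁ k) f (k ≫ g) :=
    (IsPullback.of_hasPullback f₁ k).paste_horiz sq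
  obtain ⟨e, he⟩ : ∃ e : pullback f₁ k ≅ pullback f (k ≫ g), e = big.isoPullback := ⟨_, rfl⟩
  have he1 : e.hom ≫ pullback.fst f (k ≫ g) = pullback.fst f₁ k ≫ g' := by
    rw [he]; exact big.isoPullback_hom_fst
  have he2 : e.hom ≫ pullback.snd f (k ≫ g) = pullback.snd f₁ k := by
    rw [he]; exact big.isoPullback_hom_snd
  have hx : (pullback.fst f (k ≫ g)) (e.hom p) = g' x₁ := by
    rw [← Scheme.Hom.comp_apply, he1, Scheme.Hom.comp_apply, hp]
  have hopen := h T (k ≫ g) (e.hom p) hx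
  intro N hN
  have hN' : (e.hom : _ → _) '' N ∈ nhds (e.hom p) :=
    e.hom.homeomorph.isOpenMap.image_mem_nhds hN
  have h1 := hopen _ hN'
  have hpt : (pullback.snd f (k ≫ g)) (e.hom p) = (pullback.snd f₁ k) p := by
    rw [← Scheme.Hom.comp_apply, he2]
  rw [hpt] at h1
  refine Filter.mem_of_superset h1 ?_
  rintro _ ⟨_, ⟨q, hq, rfl⟩, rfl⟩
  refine ⟨q, hq, ?_⟩
  rw [← Scheme.Hom.comp_apply, he2]

/-- the affine Noetherian case. -/
theorem lsc_affine (R : Type u) [CommRing R] [IsNoetherianRing R] {X : Scheme.{u}}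
    (f : X ⟶ Spec (CommRingCat.of R)) [IsProper f] (y : Spec (CommRingCat.of R))
    (h : ∀ x : X, f x = y → EGA43.IsUnivOpenAt f x) :
    ∃ V ∈ nhds y, ∀ z ∈ V, MoreMor.nGeomConnComp f y ≤ MoreMor.nGeomConnComp f z := by
  haveI : GeometricallyConnected X.toSpecΓ :=
    Groth.Agent.Lib.Helper13.SteinEt.geometricallyConnected_toSpecΓ R f
  obtain ⟨π, hπ⟩ : ∃ π : Spec Γ(X, ⊤) ⟶ Spec (CommRingCat.of R),
      π = Groth.Agent.Lib.Helper13.SteinEt.πB f := ⟨_, rfl⟩
  have hf : X.toSpecΓ ≫ π = f := by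
    rw [hπ]; exact Groth.Agent.Lib.Helper13.SteinEt.toSpecΓ_πB f
  haveI : IsFinite π := by
    rw [hπ]
    letI algB : Algebra R Γ(X, ⊤) := (Coh.toGlobal f).toAlgebra
    have hfin : Module.Finite R Γ(X, ⊤) := Groth.Agent.Lib.Helper13.SteinEt.finite_gamma f
    have h1 : (algebraMap R Γ(X, ⊤)).Finite := hfin
    exact (IsFinite.SpecMap_iff _).mpr h1
  haveI : IsLocallyNoetherian (Spec (CommRingCat.of R)) := inferInstance
  have hcount : ∀ z, MoreMor.nGeomConnComp f z = MoreMor.nGeomConnComp π z := by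
    intro z
    rw [← hf]
    exact nGeomConnComp_comp X.toSpecΓ π z
  have hopen : ∀ y' : Spec Γ(X, ⊤), π y' = y → EGA43.IsUnivOpenAt π y' := by
    intro y' hy'
    refine isUnivOpenAt_of_comp X.toSpecΓ π y' (fun x hx => ?_)
    rw [hf]
    refine h x ?_
    rw [← hf, Scheme.Hom.comp_apply, hx, hy']
  obtain ⟨V, hV, hVn⟩ := Groth.Agent.S3411.result π y hopen
  refine ⟨V, hV, fun z hz => ?_⟩
  rw [hcount, hcount]
  exact hVn z hz

/-- **EGA IV 15.5.9 (i)**: lower semicontinuity of the geometric number of connected components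
at a point along whose fibre the proper morphism is universally open. -/
theorem lsc_at {X Y : Scheme.{u}} [IsLocallyNoetherian Y] (f : X ⟶ Y) [IsProper f] (y : Y)
    (h : ∀ x : X, f x = y → EGA43.IsUnivOpenAt f x) :
    ∃ V ∈ nhds y, ∀ z ∈ V, MoreMor.nGeomConnComp f y ≤ MoreMor.nGeomConnComp f z := by
  obtain ⟨V', hV, hyV, -⟩ := exists_isAffineOpen_mem_and_subset (x := y) (U := ⊤) trivial
  obtain ⟨V, rfl⟩ : ∃ V : Y.Opens, V = V' := ⟨V', rfl⟩
  haveI : IsAffine V.toScheme := hV
  haveI : IsLocallyNoetherian V.toScheme := inferInstance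
  haveI : IsNoetherianRing Γ(V.toScheme, ⊤) :=
    IsLocallyNoetherian.component_noetherian ⟨⊤, isAffineOpen_top _⟩
  obtain ⟨F, hF⟩ : ∃ F : (f ⁻¹ᵁ V).toScheme ⟶ Spec (CommRingCat.of ↑Γ(V.toScheme, ⊤)),
      F = (f ∣_ V) ≫ V.toScheme.isoSpec.hom := ⟨_, rfl⟩
  obtain ⟨j, hj⟩ : ∃ j : Spec (CommRingCat.of ↑Γ(V.toScheme, ⊤)) ⟶ Y,
      j = V.toScheme.isoSpec.inv ≫ V.ι := ⟨_, rfl⟩
  have sq₁ : IsPullback (f ⁻¹ᵁ V).ι (f ∣_ V) f V.ι := (isPullback_morphismRestrict f V).flip
  have sq₃ : IsPullback (𝟙 _) F (f ∣_ V) V.toScheme.isoSpec.inv :=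
    IsPullback.of_horiz_isIso ⟨by rw [hF, Category.assoc, Iso.hom_inv_id, Category.comp_id,
      Category.id_comp]⟩
  have sq : IsPullback (f ⁻¹ᵁ V).ι F f j := by
    have h1 := sq₃.paste_horiz sq₁
    rw [Category.id_comp] at h1
    rw [hj]; exact h1
  haveI : IsProper F := by rw [hF]; infer_instance
  haveI : IsOpenImmersion j := by rw [hj]; infer_instance
  obtain ⟨w₀, hw₀⟩ : ∃ w₀, j w₀ = y := by
    refine ⟨V.toScheme.isoSpec.hom ⟨y, hyV⟩, ?_⟩
    rw [hj, ← Scheme.Hom.comp_apply, ← Category.assoc, Iso.hom_inv_id, Category.id_comp]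
    rfl
  have hF_open : ∀ x, F x = w₀ → EGA43.IsUnivOpenAt F x := by
    intro x hx
    refine isUnivOpenAt_of_isPullback sq x (h _ ?_)
    rw [← Scheme.Hom.comp_apply, sq.w, Scheme.Hom.comp_apply, hx, hw₀]
  obtain ⟨W, hW, hWn⟩ := lsc_affine _ F w₀ hF_open
  refine ⟨j '' W, ?_, ?_⟩
  · rw [← hw₀]; exact j.isOpenEmbedding.isOpenMap.image_mem_nhds hW
  · rintro _ ⟨w, hw, rfl⟩
    rw [← hw₀, ← Groth.Agent.S1335.result f F (f ⁻¹ᵁ V).ι j sq w₀,
      ← Groth.Agent.S1335.result f F (f ⁻¹ᵁ V).ι j sq w]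
    exact hWn w hw

/-- universally open morphisms are universally open at every point. -/
lemma isUnivOpenAt_of_universallyOpen {X Y : Scheme.{u}} (f : X ⟶ Y) [UniversallyOpen f] (x : X) :
    EGA43.IsUnivOpenAt f x := by
  intro T g p _ N hN
  exact (pullback.snd f g).isOpenMap.image_mem_nhds hN

/-- **Lower semicontinuity of the geometric number of connected components** for flat proper
morphisms of finite presentation over an arbitrary base, local form. -/
theorem lsc_flat_at {X S : Scheme.{u}} (f : X ⟶ S) [IsProper f] [Flat f]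
    [LocallyOfFinitePresentation f] (s : S) :
    ∃ V ∈ nhds s, ∀ z ∈ V, MoreMor.nGeomConnComp f s ≤ MoreMor.nGeomConnComp f z := by
  obtain ⟨W', hW, hsW, -⟩ := exists_isAffineOpen_mem_and_subset (x := s) (U := ⊤) trivial
  obtain ⟨W, rfl⟩ : ∃ W : S.Opens, W = W' := ⟨W', rfl⟩
  haveI : IsAffine W.toScheme := hW
  obtain ⟨S₀, X₀, f₀, γ, γ', hS₀a, hS₀n, hsq, hfl, hpr, hfp⟩ :=
    Groth.Agent.Lib.Helper12.FlatProperApprox.exists_model W hW (f ∣_ W)
  haveI := hfl
  haveI := hpr
  haveI := hS₀n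
  haveI := hfp
  haveI : IsLocallyNoetherian S₀ := inferInstance
  have hsq2 : IsPullback (f ⁻¹ᵁ W).ι (f ∣_ W) f W.ι := (isPullback_morphismRestrict f W).flip
  have hn : ∀ w : W.toScheme,
      MoreMor.nGeomConnComp f (W.ι w) = MoreMor.nGeomConnComp f₀ (γ w) := by
    intro w
    rw [← Groth.Agent.S1335.result f (f ∣_ W) (f ⁻¹ᵁ W).ι W.ι hsq2 w,
      Groth.Agent.S1335.result f₀ (f ∣_ W) γ' γ hsq w]
  obtain ⟨V₀, hV₀, hV₀n⟩ := lsc_at f₀ (γ ⟨s, hsW⟩)
    (fun x _ => isUnivOpenAt_of_universallyOpen f₀ x)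
  refine ⟨W.ι '' (γ ⁻¹' V₀), ?_, ?_⟩
  · have h1 : (γ : _ → _) ⁻¹' V₀ ∈ nhds (⟨s, hsW⟩ : W.toScheme) := γ.continuous.continuousAt hV₀
    have h2 := W.ι.isOpenEmbedding.isOpenMap.image_mem_nhds h1
    exact h2
  · rintro _ ⟨w, hw, rfl⟩
    have h3 : s = W.ι ⟨s, hsW⟩ := rfl
    rw [h3, hn, hn]
    exact hV₀n _ hw

/-- **Lower semicontinuity of the geometric number of connected components** for flat proper
morphisms of finite presentation. -/
theorem lsc_flat {X S : Scheme.{u}} (f : X ⟶ S) [IsProper f] [Flat f]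
    [LocallyOfFinitePresentation f] :
    LowerSemicontinuous (fun s : S => MoreMor.nGeomConnComp f s) := by
  intro s m hm
  obtain ⟨V, hV, hVn⟩ := lsc_flat_at f s
  exact Filter.mem_of_superset hV (fun z hz => lt_of_lt_of_le hm (hVn z hz))

end Groth.Agent.Lib.Helper13.SteinLSC
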