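import Mathlib
import Groth.Prelude
import Groth.Agent.Lib.Helper13.SteinLSC
import Groth.Agent.Lib.Helper8.QFUnivOpenAt
import Groth.Agent.Lib.Helper12.SecCompBC

/-!
# Lower semicontinuity of the geometric number of connected components at a geometrically
unibranch point (EGA IV 15.5.9-type statements via the Stein factorisation) (helper13)
-/

set_option autoImplicit false
set_option linter.style.haveILetI false
universe u
open CategoryTheory CategoryTheory.Limits AlgebraicGeometry TopologicalSpace Opposite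

namespace Groth.Agent.Lib.Helper13.SteinLSC2

open Groth.Agent.Lib.Helper13.SteinLSC

section Top

variable {α : Type*} [TopologicalSpace α]

/-- a point is maximal if it has no proper generization. -/
def IsMaxPt (x : α) : Prop := ∀ z : α, z ⤳ x → z = x

/-- every point of a quasi-sober `T₀` space has a maximal generization. -/
lemma exists_isMaxPt_specializes [QuasiSober α] [T0Space α] (x : α) :
    ∃ x₀ : α, x₀ ⤳ x ∧ IsMaxPt x₀ := by
  have hirr : IsIrreducible (irreducibleComponent x) := isIrreducible_irreducibleComponent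
  have hcl : IsClosed (irreducibleComponent x) := isClosed_irreducibleComponent
  have hgen : IsGenericPoint hirr.genericPoint (irreducibleComponent x) :=
    hirr.isGenericPoint_genericPoint hcl
  refine ⟨hirr.genericPoint, ?_, ?_⟩
  · rw [specializes_iff_mem_closure, hgen.def]
    exact mem_irreducibleComponent
  · intro z hz
    have h1 : irreducibleComponent x ⊆ closure {z} := by
      rw [← hgen.def]
      exact closure_minimal (Set.singleton_subset_iff.mpr (specializes_iff_mem_closure.mp hz))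
        isClosed_closure
    have h2 : closure {z} ⊆ irreducibleComponent x :=
      (irreducibleComponent_mem_irreducibleComponents x).2 isIrreducible_singleton.closure h1
    have h3 : hirr.genericPoint ⤳ z := by
      rw [specializes_iff_mem_closure, hgen.def]
      exact h2 (subset_closure rfl)
    exact ((hz.antisymm h3).eq)

/-- the closure of a maximal point is an irreducible component. -/
lemma closure_mem_irreducibleComponents [QuasiSober α] [T0Space α] {x : α} (hx : IsMaxPt x) :
    closure {x} ∈ irreducibleComponents α := by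
  have hirr : IsIrreducible (irreducibleComponent x) := isIrreducible_irreducibleComponent
  have hcl : IsClosed (irreducibleComponent x) := isClosed_irreducibleComponent
  have hgen : IsGenericPoint hirr.genericPoint (irreducibleComponent x) :=
    hirr.isGenericPoint_genericPoint hcl
  have h1 : hirr.genericPoint ⤳ x := by
    rw [specializes_iff_mem_closure, hgen.def]
    exact mem_irreducibleComponent
  have h2 : hirr.genericPoint = x := hx _ h1
  rw [← h2, hgen.def]
  exact irreducibleComponent_mem_irreducibleComponents x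

end Top

/-- maximal points go to maximal points when all irreducible components dominate an
irreducible target. -/
lemma isMaxPt_map_of_dominant {X Y : Scheme.{u}} [IrreducibleSpace Y] (f : X ⟶ Y)
    (hdom : ∀ Z ∈ irreducibleComponents (X : Type u), closure (f.base '' Z) = Set.univ)
    (ξ : X) (hξ : IsMaxPt ξ) : IsMaxPt (f ξ) := by
  intro η hη
  have h1 := hdom _ (closure_mem_irreducibleComponents hξ)
  have h2 : closure (f.base '' closure {ξ}) ⊆ closure {f ξ} := by
    refine closure_minimal ?_ isClosed_closure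
    refine (image_closure_subset_closure_image f.continuous).trans ?_
    rw [Set.image_singleton]
  have h3 : f ξ ⤳ η := by
    rw [specializes_iff_mem_closure]
    apply h2
    rw [h1]; trivial
  exact ((hη.antisymm h3).eq)

/-- maximal points restrict along open immersions. -/
lemma isMaxPt_of_isOpenImmersion {U X : Scheme.{u}} (ι : U ⟶ X) [IsOpenImmersion ι] (ξ : U)
    (hξ : IsMaxPt ξ) : IsMaxPt (ι ξ) := by
  intro z hz
  have hz' : z ∈ Set.range ι := hz.mem_open ι.isOpenEmbedding.isOpen_range ⟨ξ, rfl⟩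
  obtain ⟨z', rfl⟩ := hz'
  have : z' ⤳ ξ := ι.isOpenEmbedding.toIsInducing.specializes_iff.mp hz
  rw [hξ z' this]

lemma isMaxPt_of_map_isOpenImmersion {U X : Scheme.{u}} (j : U ⟶ X) [IsOpenImmersion j] (w : U)
    (hw : IsMaxPt (j w)) : IsMaxPt w := by
  intro z hz
  have h1 : j z ⤳ j w := hz.map j.continuous
  exact j.isOpenEmbedding.injective (hw _ h1)

/-- the affine Noetherian case, given universal openness of the finite part of the Stein
factorisation. -/
theorem lsc_affine_of_stein (R : Type u) [CommRing R] [IsNoetherianRing R] {X : Scheme.{u}}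
    (f : X ⟶ Spec (CommRingCat.of R)) [IsProper f] (y : Spec (CommRingCat.of R))
    (hopen : ∀ y' : Spec Γ(X, ⊤), Groth.Agent.Lib.Helper13.SteinEt.πB f y' = y →
      EGA43.IsUnivOpenAt (Groth.Agent.Lib.Helper13.SteinEt.πB f) y') :
    ∃ V ∈ nhds y, ∀ z ∈ V, MoreMor.nGeomConnComp f y ≤ MoreMor.nGeomConnComp f z := by
  haveI : GeometricallyConnected X.toSpecΓ :=
    Groth.Agent.Lib.Helper13.SteinEt.geometricallyConnected_toSpecΓ R f
  obtain ⟨π, hπ⟩ : ∃ π : Spec Γ(X, ⊤) ⟶ Spec (CommRingCat.of R),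
      π = Groth.Agent.Lib.Helper13.SteinEt.πB f := ⟨_, rfl⟩
  rw [← hπ] at hopen
  have hf : X.toSpecΓ ≫ π = f := by
    rw [hπ]; exact Groth.Agent.Lib.Helper13.SteinEt.toSpecΓ_πB f
  haveI : IsFinite π := by
    rw [hπ]
    letI algB : Algebra R Γ(X, ⊤) := (Coh.toGlobal f).toAlgebra
    have hfin : Module.Finite R Γ(X, ⊤) := Groth.Agent.Lib.Helper13.SteinEt.finite_gamma f
    have h1 : (algebraMap R Γ(X, ⊤)).Finite := hfin
    exact (IsFinite.SpecMap_iff _).mpr h1
  haveI : IsLocallyNoetherian (Spec (CommRingCat.of R)) := inferInstance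
  have hcount : ∀ z, MoreMor.nGeomConnComp f z = MoreMor.nGeomConnComp π z := by
    intro z
    rw [← hf]
    exact nGeomConnComp_comp X.toSpecΓ π z
  obtain ⟨V, hV, hVn⟩ := Groth.Agent.S3411.result π y hopen
  refine ⟨V, hV, fun z hz => ?_⟩
  rw [hcount, hcount]
  exact hVn z hz

/-- the affine Noetherian case at a geometrically unibranch point. -/
theorem lsc_affine_unibranch (R : Type u) [CommRing R] [IsNoetherianRing R] {X : Scheme.{u}}
    (f : X ⟶ Spec (CommRingCat.of R)) [IsProper f] (y : Spec (CommRingCat.of R))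
    (hmax : ∀ ξ : X, IsMaxPt ξ → IsMaxPt (f ξ))
    (hy : CAlg2.IsGeomUnibranch ((Spec (CommRingCat.of R)).presheaf.stalk y)) :
    ∃ V ∈ nhds y, ∀ z ∈ V, MoreMor.nGeomConnComp f y ≤ MoreMor.nGeomConnComp f z := by
  refine lsc_affine_of_stein R f y (fun y' hy' => ?_)
  obtain ⟨π, hπ⟩ : ∃ π : Spec Γ(X, ⊤) ⟶ Spec (CommRingCat.of R),
      π = Groth.Agent.Lib.Helper13.SteinEt.πB f := ⟨_, rfl⟩
  rw [← hπ] at hy' ⊢
  have hf : X.toSpecΓ ≫ π = f := by
    rw [hπ]; exact Groth.Agent.Lib.Helper13.SteinEt.toSpecΓ_πB f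
  haveI : IsFinite π := by
    rw [hπ]
    letI algB : Algebra R Γ(X, ⊤) := (Coh.toGlobal f).toAlgebra
    have hfin : Module.Finite R Γ(X, ⊤) := Groth.Agent.Lib.Helper13.SteinEt.finite_gamma f
    have h1 : (algebraMap R Γ(X, ⊤)).Finite := hfin
    exact (IsFinite.SpecMap_iff _).mpr h1
  haveI : IsLocallyNoetherian (Spec (CommRingCat.of R)) := inferInstance
  haveI : LocallyOfFinitePresentation π :=
    Groth.Agent.Lib.Helper12.SecCompBC.locallyOfFinitePresentation_of_isLocallyNoetherian π
  haveI : GeometricallyConnected X.toSpecΓ :=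
    Groth.Agent.Lib.Helper13.SteinEt.geometricallyConnected_toSpecΓ R f
  subst hy'
  refine Groth.Agent.Lib.Helper8.QFUnivOpenAt.isUnivOpenAt_of_geomUnibranch π y' hy ?_
  intro ξ hξ η' hη'
  obtain ⟨x, hx⟩ := X.toSpecΓ.surjective ξ
  obtain ⟨x₀, hx₀, hx₀max⟩ := exists_isMaxPt_specializes x
  have h1 : X.toSpecΓ x₀ ⤳ ξ := by rw [← hx]; exact hx₀.map X.toSpecΓ.continuous
  have h2 : X.toSpecΓ x₀ = ξ := hξ _ h1
  have h3 : π ξ = f x₀ := by rw [← h2, ← Scheme.Hom.comp_apply, hf]
  have h4 := hmax x₀ hx₀max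
  rw [h3] at hη' ⊢
  exact h4 η' hη'

/-- **EGA IV 15.5.9-type statement**: for a proper morphism to an irreducible locally Noetherian
scheme all of whose irreducible components dominate, the geometric number of connected components
of the fibres is lower semicontinuous at every geometrically unibranch point. -/
theorem lsc_unibranch {X Y : Scheme.{u}} [IrreducibleSpace Y] [IsLocallyNoetherian Y] (f : X ⟶ Y)
    [IsProper f]
    (hdom : ∀ Z ∈ irreducibleComponents (X : Type u), closure (f.base '' Z) = Set.univ) (y₀ : Y)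
    (hy : CAlg2.IsGeomUnibranch (Y.presheaf.stalk y₀)) :
    ∃ V ∈ nhds y₀, ∀ z ∈ V, MoreMor.nGeomConnComp f y₀ ≤ MoreMor.nGeomConnComp f z := by
  obtain ⟨V', hV, hyV, -⟩ := exists_isAffineOpen_mem_and_subset (x := y₀) (U := ⊤) trivial
  obtain ⟨V, rfl⟩ : ∃ V : Y.Opens, V = V' := ⟨V', rfl⟩
  haveI : IsAffine V.toScheme := hV
  haveI : IsLocallyNoetherian V.toScheme := inferInstance
  haveI : IsNoetherianRing Γ(V.toScheme, ⊤) :=
    IsLocallyNoetherian.component_noetherian ⟨⊤, isAffineOpen_top _⟩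
  obtain ⟨F, hF⟩ : ∃ F : (f ⁻¹ᵁ V).toScheme ⟶ Spec (CommRingCat.of ↑Γ(V.toScheme, ⊤)),
      F = (f ∣_ V) ≫ V.toScheme.isoSpec.hom := ⟨_, rfl⟩
  obtain ⟨j, hj⟩ : ∃ j : Spec (CommRingCat.of ↑Γ(V.toScheme, ⊤)) ⟶ Y,
      j = V.toScheme.isoSpec.inv ≫ V.ι := ⟨_, rfl⟩
  have sq₁ : IsPullback (f ⁻¹ᵁ V).ι (f ∣_ V) f V.ι := (isPullback_morphismRestrict f V).flip
  have sq₃ : IsPullback (𝟙 _) F (f ∣_ V) V.toScheme.isoSpec.inv :=
    IsPullback.of_horiz_isIso ⟨by rw [hF, Category.assoc, Iso.hom_inv_id, Category.comp_id,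
      Category.id_comp]⟩
  have sq : IsPullback (f ⁻¹ᵁ V).ι F f j := by
    have h1 := sq₃.paste_horiz sq₁
    rw [Category.id_comp] at h1
    rw [hj]; exact h1
  haveI : IsProper F := by rw [hF]; infer_instance
  haveI : IsOpenImmersion j := by rw [hj]; infer_instance
  obtain ⟨w₀, hw₀⟩ : ∃ w₀, j w₀ = y₀ := by
    refine ⟨V.toScheme.isoSpec.hom ⟨y₀, hyV⟩, ?_⟩
    rw [hj, ← Scheme.Hom.comp_apply, ← Category.assoc, Iso.hom_inv_id, Category.id_comp]
    rfl
  subst hw₀
  have hmaxF : ∀ ξ, IsMaxPt ξ → IsMaxPt (F ξ) := by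
    intro ξ hξ
    apply isMaxPt_of_map_isOpenImmersion j
    have h1 : j (F ξ) = f ((f ⁻¹ᵁ V).ι ξ) := by
      rw [← Scheme.Hom.comp_apply, ← sq.w, Scheme.Hom.comp_apply]
    rw [h1]
    exact isMaxPt_map_of_dominant f hdom _ (isMaxPt_of_isOpenImmersion _ ξ hξ)
  have hyF : CAlg2.IsGeomUnibranch
      ((Spec (CommRingCat.of ↑Γ(V.toScheme, ⊤))).presheaf.stalk w₀) := by
    haveI : IsIso (j.stalkMap w₀) := (IsOpenImmersion.iff_isIso_stalkMap.mp inferInstance).2 w₀
    exact Groth.Agent.Lib.Helper8.SmoothUnibranch.isGeomUnibranch_of_ringEquiv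
      (asIso (j.stalkMap w₀)).commRingCatIsoToRingEquiv.symm hy
  obtain ⟨W, hW, hWn⟩ := lsc_affine_unibranch _ F w₀ hmaxF hyF
  refine ⟨j '' W, ?_, ?_⟩
  · exact j.isOpenEmbedding.isOpenMap.image_mem_nhds hW
  · rintro _ ⟨w, hw, rfl⟩
    rw [← Groth.Agent.S1335.result f F (f ⁻¹ᵁ V).ι j sq w₀,
      ← Groth.Agent.S1335.result f F (f ⁻¹ᵁ V).ι j sq w]
    exact hWn w hw

end Groth.Agent.Lib.Helper13.SteinLSC2
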