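import Mathlib
import Groth.Prelude
import Groth.Agent.Lib.Helper13.ProperNhd
import Groth.Agent.Lib.Helper13.SteinLSC
import Groth.Agent.Lib.Helper13.SteinLSC2
import Groth.Agent.Lib.Helper12.SecCompBC
import Groth.Agent.Lib.Helper12.GeomConnLocus

/-!
# Properness in a neighbourhood of a proper fibre (EGA IV 15.7), applications (helper13)

* `proper_nhd_submersive`: universally submersive morphisms with geometrically connected fibres
  (EGA IV 15.7.10).
* `proper_nhd_flat`: flat morphisms whose fibres over maximal points are geometrically connected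
  (EGA IV 15.7.9/15.7.11).
* `geomConn_of_max`: for flat proper morphisms of finite presentation, geometric connectedness of
  the fibres over the maximal points spreads to all nonempty fibres.
-/

set_option autoImplicit false
set_option linter.style.haveILetI false
universe u
open CategoryTheory CategoryTheory.Limits AlgebraicGeometry TopologicalSpace Opposite

namespace Groth.Agent.Lib.Helper13.ProperNhd2

open Groth.Agent.Lib.Helper13.ProperNhd

lemma ι_mem {S : Scheme.{u}} (V : S.Opens) (η : V.toScheme) : V.ι η ∈ V := by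
  have h : V.ι η ∈ Set.range V.ι := ⟨η, rfl⟩
  rwa [Scheme.Opens.range_ι] at h

lemma nonempty_fiber_iff {X S : Scheme.{u}} (f : X ⟶ S) (s : S) :
    Nonempty ↥(f.fiber s) ↔ ∃ x : X, f x = s := by
  constructor
  · rintro ⟨w⟩
    refine ⟨f.fiberι s w, ?_⟩
    have h : f.fiberι s w ∈ (f : X → S) ⁻¹' {s} := by
      rw [← f.range_fiberι s]; exact ⟨w, rfl⟩
    exact h
  · rintro ⟨x, hx⟩
    have h : x ∈ Set.range (f.fiberι s) := by rw [f.range_fiberι s]; exact hx
    obtain ⟨w, -⟩ := h
    exact ⟨w⟩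

lemma nonempty_fiber_restrict_iff {X S : Scheme.{u}} (f : X ⟶ S) (V : S.Opens) (v : V.toScheme) :
    Nonempty ↥((f ∣_ V).fiber v) ↔ Nonempty ↥(f.fiber (V.ι v)) := by
  rw [nonempty_fiber_iff, nonempty_fiber_iff]
  constructor
  · rintro ⟨x', hx'⟩
    refine ⟨(f ⁻¹ᵁ V).ι x', ?_⟩
    rw [← Scheme.Hom.comp_apply, ← morphismRestrict_ι, Scheme.Hom.comp_apply, hx']
  · rintro ⟨x, hx⟩
    have hxV : x ∈ f ⁻¹ᵁ V := by
      show f x ∈ V
      rw [hx]; exact ι_mem V v
    refine ⟨⟨x, hxV⟩, ?_⟩
    apply V.ι.isOpenEmbedding.injective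
    rw [← Scheme.Hom.comp_apply, morphismRestrict_ι, Scheme.Hom.comp_apply]
    exact hx

/-- reduction to an affine Noetherian neighbourhood. -/
theorem exists_nhd_of_affine {X Y : Scheme.{u}} [IsLocallyNoetherian Y] (f : X ⟶ Y) (y : Y)
    (H : ∀ (V : Y.Opens) [IsAffine V.toScheme] [IsNoetherian V.toScheme] (v : V.toScheme),
      V.ι v = y → ∃ U' : V.toScheme.Opens, v ∈ U' ∧ IsProper ((f ∣_ V) ∣_ U')) :
    ∃ U : Y.Opens, y ∈ U ∧ IsProper (f ∣_ U) := by
  obtain ⟨V', hV, hyV, -⟩ := exists_isAffineOpen_mem_and_subset (x := y) (U := ⊤) trivial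
  obtain ⟨V, rfl⟩ : ∃ V : Y.Opens, V = V' := ⟨V', rfl⟩
  haveI : IsAffine V.toScheme := hV
  haveI : IsNoetherian V.toScheme := {}
  obtain ⟨U', hvU', hU'⟩ := H V ⟨y, hyV⟩ rfl
  exact ⟨V.ι ''ᵁ U', ⟨⟨y, hyV⟩, hvU', rfl⟩, of_affine_nhd f V U' hU'⟩

/-- EGA IV 15.7.10 over an affine Noetherian base. -/
theorem proper_nhd_submersive_affine {X Y : Scheme.{u}} [IsAffine Y] [IsNoetherian Y] (f : X ⟶ Y)
    [IsSeparated f] [LocallyOfFiniteType f] [QuasiCompact f]
    (hsub : MorphismProperty.universally (topologically fun g => Topology.IsQuotientMap g) f)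
    (hconn : ∀ y : Y, GeometricallyConnected (f.fiberToSpecResidueField y))
    (y : Y) (hy : IsProper (f.fiberToSpecResidueField y)) :
    ∃ U : Y.Opens, y ∈ U ∧ IsProper (f ∣_ U) := by
  refine exists_nhd_isProper_of_key f y hy ?_
  intro A _ _ _ h _ hcl U hUcl hUfib hUp
  have hq : Topology.IsQuotientMap (pullback.snd f h) :=
    hsub (pullback.fst f h) h (pullback.snd f h) (IsPullback.of_hasPullback f h).flip
  have hclopen : IsClopen (U : Set ↥(pullback f h)) := ⟨hUcl, U.isOpen⟩
  have hfibc : ∀ s, _root_.IsConnected ((pullback.snd f h) ⁻¹' {s}) := fun s =>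
    isConnected_fiber_of_geomConn f h s (hconn (h s))
  have hsatU : ∀ x x', x ∈ U → (pullback.snd f h) x' = (pullback.snd f h) x → x' ∈ U := by
    intro x x' hx hxx'
    exact (hfibc ((pullback.snd f h) x)).isPreconnected.subset_isClopen hclopen
      ⟨x, rfl, hx⟩ hxx'
  have hpre : (pullback.snd f h) ⁻¹' ((pullback.snd f h) '' (U : Set ↥(pullback f h))) =
      (U : Set ↥(pullback f h)) := by
    ext x'
    constructor
    · rintro ⟨x, hx, hxx'⟩
      exact hsatU x x' hx hxx'.symm
    · intro hx'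
      exact ⟨x', hx', rfl⟩
  have hopen : IsOpen ((pullback.snd f h) '' (U : Set ↥(pullback f h))) := by
    rw [← hq.isOpen_preimage, hpre]; exact U.isOpen
  rw [Set.eq_univ_iff_forall]
  intro x
  by_contra hx
  have hpx : (pullback.snd f h) x ∉ (pullback.snd f h) '' (U : Set ↥(pullback f h)) := by
    rintro ⟨x₁, hx₁, hx₁x⟩
    exact hx (hsatU x₁ x hx₁ hx₁x.symm)
  obtain ⟨x₀, hx₀⟩ := (hfibc (IsLocalRing.closedPoint A)).nonempty
  have hx₀U : x₀ ∈ U := hUfib x₀ hx₀
  have hclmem : IsLocalRing.closedPoint A ∈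
      (pullback.snd f h) '' (U : Set ↥(pullback f h)) := ⟨x₀, hx₀U, hx₀⟩
  exact hpx ((IsLocalRing.specializes_closedPoint (R := A) ((pullback.snd f h) x)).mem_open
    hopen hclmem)

/-- **EGA IV 15.7.10.** -/
theorem proper_nhd_submersive {X Y : Scheme.{u}} [IsLocallyNoetherian Y] (f : X ⟶ Y)
    [IsSeparated f] [LocallyOfFiniteType f] [QuasiCompact f]
    (hsub : MorphismProperty.universally (topologically fun g => Topology.IsQuotientMap g) f)
    (hconn : ∀ y : Y, GeometricallyConnected (f.fiberToSpecResidueField y))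
    (y : Y) (hy : IsProper (f.fiberToSpecResidueField y)) :
    ∃ U : Y.Opens, y ∈ U ∧ IsProper (f ∣_ U) := by
  refine exists_nhd_of_affine f y ?_
  intro V _ _ v hv
  subst hv
  have sq : IsPullback (f ⁻¹ᵁ V).ι (f ∣_ V) f V.ι := (isPullback_morphismRestrict f V).flip
  haveI : IsSeparated (f ∣_ V) :=
    MorphismProperty.of_isPullback (P := @IsSeparated) sq inferInstance
  haveI : LocallyOfFiniteType (f ∣_ V) :=
    MorphismProperty.of_isPullback (P := @LocallyOfFiniteType) sq inferInstance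
  haveI : QuasiCompact (f ∣_ V) :=
    MorphismProperty.of_isPullback (P := @QuasiCompact) sq inferInstance
  refine proper_nhd_submersive_affine (f ∣_ V) ?_ ?_ v ?_
  · exact MorphismProperty.of_isPullback
      (P := MorphismProperty.universally (topologically fun g => Topology.IsQuotientMap g))
      sq hsub
  · intro w
    exact MorphismProperty.of_isPullback (P := @GeometricallyConnected)
      (isPullback_fiberToSpecResidueField_of_isPullback sq w) (hconn (V.ι w))
  · exact MorphismProperty.of_isPullback (P := @IsProper)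
      (isPullback_fiberToSpecResidueField_of_isPullback sq v) hy

/-- the key step for flat morphisms: a clopen part containing the closed fibre is everything. -/
theorem key_flat {X S : Scheme.{u}} (f : X ⟶ S) [Flat f] [LocallyOfFiniteType f]
    (hgen : ∀ η : S, (∀ η' : S, η' ⤳ η → η' = η) → Nonempty ↥(f.fiber η) →
      GeometricallyConnected (f.fiberToSpecResidueField η))
    (s : S) [Nonempty ↥(f.fiber s)]
    (A : Type u) [CommRing A] [IsNoetherianRing A] [IsLocalRing A]
    (h : Spec (CommRingCat.of A) ⟶ S) [Flat h] (hcl : h (IsLocalRing.closedPoint A) = s)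
    (U : (pullback f h).Opens) (hUcl : IsClosed (U : Set ↥(pullback f h)))
    (hUfib : ∀ x, (pullback.snd f h) x = IsLocalRing.closedPoint A → x ∈ U) :
    (U : Set ↥(pullback f h)) = Set.univ := by
  obtain ⟨p, hp⟩ : ∃ p : pullback f h ⟶ Spec (CommRingCat.of A), p = pullback.snd f h :=
    ⟨_, rfl⟩
  haveI : Flat p := by rw [hp]; infer_instance
  haveI : LocallyOfFiniteType p := by rw [hp]; infer_instance
  haveI : LocallyOfFinitePresentation p :=
    Groth.Agent.Lib.Helper12.SecCompBC.locallyOfFinitePresentation_of_isLocallyNoetherian p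
  have hopen : IsOpenMap p := isOpenMap_of_generalizingMap p (Flat.generalizingMap p)
  have hclopen : IsClopen (U : Set ↥(pullback f h)) := ⟨hUcl, U.isOpen⟩
  -- the closed fibre is nonempty
  obtain ⟨x₀, hx₀⟩ := (nonempty_fiber_iff f s).mp inferInstance
  obtain ⟨z₀, -, hz₀2⟩ := Scheme.Pullback.exists_preimage_pullback (f := f) (g := h) x₀
    (IsLocalRing.closedPoint A) (by rw [hx₀, hcl])
  have hz₀U : z₀ ∈ U := hUfib z₀ hz₀2
  rw [Set.eq_univ_iff_forall]
  intro x
  by_contra hx
  haveI : ((p x).asIdeal).IsPrime := (p x).isPrime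
  obtain ⟨q, hq, hqle⟩ := Ideal.exists_minimalPrimes_le (bot_le : ⊥ ≤ (p x).asIdeal)
  haveI : q.IsPrime := hq.1.1
  obtain ⟨η, hη⟩ : ∃ η : Spec (CommRingCat.of A), η = (⟨q, hq.1.1⟩ : PrimeSpectrum A) :=
    ⟨_, rfl⟩
  have hηx : η ⤳ p x := by
    rw [hη]
    refine (PrimeSpectrum.le_iff_specializes (R := A) _ _).mp ?_
    exact hqle
  have hη1 : η ∈ (p : _ → _) '' ((U : Set ↥(pullback f h))ᶜ) :=
    hηx.mem_open (hopen _ hclopen.compl.isOpen) ⟨x, hx, rfl⟩
  have hη2 : η ∈ (p : _ → _) '' (U : Set ↥(pullback f h)) :=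
    (IsLocalRing.specializes_closedPoint (R := A) η).mem_open (hopen _ U.isOpen)
      ⟨z₀, hz₀U, by rw [hp]; exact hz₀2⟩
  obtain ⟨x₁, hx₁U, hx₁η⟩ := hη1
  obtain ⟨x₂, hx₂U, hx₂η⟩ := hη2
  have hmax : ∀ η' : S, η' ⤳ h η → η' = h η := by
    intro η' hη'
    obtain ⟨a', ha', ha'2⟩ := (Flat.generalizingMap h) (a := η) (b := η') hη'
    have hle : a'.asIdeal ≤ q := by
      have h1 := (PrimeSpectrum.le_iff_specializes (R := A) a' η).mpr ha'
      rw [hη] at h1
      exact h1
    have hge : q ≤ a'.asIdeal := hq.2 ⟨a'.isPrime, bot_le⟩ hle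
    have ha'η : a' = η := by
      rw [hη]; exact PrimeSpectrum.ext (le_antisymm hle hge)
    rw [← ha'2, ha'η]
  have hne : Nonempty ↥(f.fiber (h η)) := by
    refine (nonempty_fiber_iff f (h η)).mpr ⟨(pullback.fst f h) x₂, ?_⟩
    rw [← Scheme.Hom.comp_apply, pullback.condition, Scheme.Hom.comp_apply, ← hp, hx₂η]
  have hconn := isConnected_fiber_of_geomConn f h η (hgen (h η) hmax hne)
  have hsub := hconn.isPreconnected.subset_isClopen hclopen
    ⟨x₂, by rw [← hp]; exact hx₂η, hx₂U⟩
  exact hx₁U (hsub (by rw [← hp]; exact hx₁η))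

/-- EGA IV 15.7.9/11 over an affine Noetherian base. -/
theorem proper_nhd_flat_affine {X S : Scheme.{u}} [IsAffine S] [IsNoetherian S] (f : X ⟶ S)
    [Flat f] [IsSeparated f] [LocallyOfFiniteType f] [QuasiCompact f]
    (hgen : ∀ η : S, (∀ η' : S, η' ⤳ η → η' = η) → Nonempty ↥(f.fiber η) →
      GeometricallyConnected (f.fiberToSpecResidueField η))
    (s : S) [Nonempty ↥(f.fiber s)] (hs : IsProper (f.fiberToSpecResidueField s)) :
    ∃ U : S.Opens, s ∈ U ∧ IsProper (f ∣_ U) := by
  refine exists_nhd_isProper_of_key f s hs ?_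
  intro A _ _ _ h _ hcl U hUcl hUfib _
  exact key_flat f hgen s A h hcl U hUcl hUfib

/-- **EGA IV 15.7.9/11.** -/
theorem proper_nhd_flat {X S : Scheme.{u}} [IsLocallyNoetherian S] (f : X ⟶ S)
    [Flat f] [IsSeparated f] [LocallyOfFiniteType f] [QuasiCompact f]
    (hgen : ∀ η : S, (∀ η' : S, η' ⤳ η → η' = η) → Nonempty ↥(f.fiber η) →
      GeometricallyConnected (f.fiberToSpecResidueField η))
    (s : S) [Nonempty ↥(f.fiber s)] (hs : IsProper (f.fiberToSpecResidueField s)) :
    ∃ U : S.Opens, s ∈ U ∧ IsProper (f ∣_ U) := by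
  refine exists_nhd_of_affine f s ?_
  intro V _ _ v hv
  subst hv
  have sq : IsPullback (f ⁻¹ᵁ V).ι (f ∣_ V) f V.ι := (isPullback_morphismRestrict f V).flip
  haveI : Flat (f ∣_ V) := MorphismProperty.of_isPullback (P := @Flat) sq inferInstance
  haveI : IsSeparated (f ∣_ V) :=
    MorphismProperty.of_isPullback (P := @IsSeparated) sq inferInstance
  haveI : LocallyOfFiniteType (f ∣_ V) :=
    MorphismProperty.of_isPullback (P := @LocallyOfFiniteType) sq inferInstance
  haveI : QuasiCompact (f ∣_ V) :=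
    MorphismProperty.of_isPullback (P := @QuasiCompact) sq inferInstance
  haveI : Nonempty ↥((f ∣_ V).fiber v) := (nonempty_fiber_restrict_iff f V v).mpr inferInstance
  refine proper_nhd_flat_affine (f ∣_ V) ?_ v ?_
  · intro η hmax hne
    refine MorphismProperty.of_isPullback (P := @GeometricallyConnected)
      (isPullback_fiberToSpecResidueField_of_isPullback sq η) (hgen (V.ι η) ?_ ?_)
    · intro η' hη'
      have hη'V : η' ∈ V := hη'.mem_open V.isOpen (ι_mem V η)
      obtain ⟨η'', hη''⟩ : ∃ η'' : V.toScheme, V.ι η'' = η' := ⟨⟨η', hη'V⟩, rfl⟩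
      subst hη''
      have h1 : η'' ⤳ η := V.ι.isOpenEmbedding.isInducing.specializes_iff.mp hη'
      rw [hmax η'' h1]
    · exact (nonempty_fiber_restrict_iff f V η).mp hne
  · exact MorphismProperty.of_isPullback (P := @IsProper)
      (isPullback_fiberToSpecResidueField_of_isPullback sq v) hs

/-- properness is local on the target, pointwise form. -/
theorem isProper_of_nhds {X S : Scheme.{u}} (f : X ⟶ S)
    (H : ∀ s : S, ∃ U : S.Opens, s ∈ U ∧ IsProper (f ∣_ U)) : IsProper f := by
  choose U hU hUp using H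
  have hsup : iSup U = ⊤ := by
    rw [eq_top_iff]
    intro s _
    exact TopologicalSpace.Opens.mem_iSup.mpr ⟨s, hU s⟩
  exact (IsZariskiLocalAtTarget.iff_of_iSup_eq_top (P := @IsProper) U hsup).mpr hUp

open Groth.Agent.Lib.Helper13.SteinLSC Groth.Agent.Lib.Helper13.SteinLSC2
  Groth.Agent.Lib.Helper12.GeomConnLocus in
/-- geometric connectedness of the fibres spreads from the maximal points. -/
theorem geomConn_of_max {X S : Scheme.{u}} (f : X ⟶ S) [IsProper f] [Flat f]
    [LocallyOfFinitePresentation f]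
    (hgen : ∀ η : S, (∀ η' : S, η' ⤳ η → η' = η) →
      GeometricallyConnected (f.fiberToSpecResidueField η))
    (s : S) [Nonempty ↥(f.fiber s)] : GeometricallyConnected (f.fiberToSpecResidueField s) := by
  obtain ⟨η, hηs, hmax⟩ := exists_isMaxPt_specializes s
  obtain ⟨V, hV, hVn⟩ := lsc_flat_at f s
  have hηV : η ∈ V := mem_of_mem_nhds (hηs hV)
  have h1 : MoreMor.nGeomConnComp f η = 1 := (mem_GC_iff f η).mp (hgen η hmax)
  have h2 : MoreMor.nGeomConnComp f s ≤ 1 := by
    have := hVn η hηV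
    rwa [h1] at this
  have h3 : MoreMor.nGeomConnComp f s ≠ 0 := by
    intro h0
    unfold MoreMor.nGeomConnComp at h0
    rw [ENat.card_eq_zero_iff_empty] at h0
    obtain ⟨w⟩ := (inferInstance : Nonempty ↥(f.fiber s))
    obtain ⟨z, -, -⟩ := Scheme.Pullback.exists_preimage_pullback
      (f := f.fiberToSpecResidueField s)
      (g := Spec.map (CommRingCat.ofHom
        (algebraMap (S.residueField s) (SeparableClosure (S.residueField s)))))
      w (IsLocalRing.closedPoint _) (Subsingleton.elim (α := PrimeSpectrum _) _ _)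
    have z' : ↥(MoreMor.geomFiber f s) := z
    exact h0.false (z' : _root_.ConnectedComponents ↥(MoreMor.geomFiber f s))
  apply (mem_GC_iff f s).mpr
  exact le_antisymm h2 (Order.one_le_iff_ne_zero.mpr h3)

end Groth.Agent.Lib.Helper13.ProperNhd2
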