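import Mathlib
import Groth.Prelude
import Groth.Agent.Lib.Helper13.PropAtA
import Groth.Agent.Lib.Helper13.ProperNhd2

/-!
# EGA IV 15.7.8-type statements: properness of the closure near the point (helper13)
-/

set_option autoImplicit false
set_option linter.style.haveILetI false
universe u
open CategoryTheory CategoryTheory.Limits AlgebraicGeometry TopologicalSpace Opposite

namespace Groth.Agent.Lib.Helper13.PropAtB

open Groth.Agent.Lib.Helper13.PropAtA Groth.Agent.Lib.Helper13.ProperNhd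
  Groth.Agent.Lib.Helper13.ProperNhd2 Groth.Agent.Lib.Helper13.ClopenProper

/-- the completion of the local ring at a point of an affine Noetherian scheme. -/
theorem exists_complete_local {Y : Scheme.{u}} [IsAffine Y] [IsNoetherian Y] (y : Y) :
    ∃ (A : Type u) (_ : CommRing A) (_ : IsNoetherianRing A) (_ : IsLocalRing A)
      (_ : HenselianRing A (IsLocalRing.maximalIdeal A)) (h : Spec (CommRingCat.of A) ⟶ Y)
      (_ : Flat h),
      h (IsLocalRing.closedPoint A) = y ∧ ∀ y' : Y, y' ⤳ y → y' ∈ Set.range h := by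
  haveI : IsNoetherianRing Γ(Y, ⊤) :=
    IsLocallyNoetherian.component_noetherian ⟨⊤, isAffineOpen_top _⟩
  obtain ⟨P, hP⟩ : ∃ P : PrimeSpectrum Γ(Y, ⊤), P = Y.isoSpec.hom y := ⟨_, rfl⟩
  let B := Localization.AtPrime P.asIdeal
  let A := AdicCompletion (IsLocalRing.maximalIdeal B) B
  haveI : IsNoetherianRing A :=
    Groth.Agent.S0542.result B (IsLocalRing.maximalIdeal B) (Ideal.fg_of_isNoetherianRing _)
  let φ : Γ(Y, ⊤) →+* A := (algebraMap B A).comp (algebraMap Γ(Y, ⊤) B)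
  have hφ : φ.Flat :=
    RingHom.Flat.comp (RingHom.flat_algebraMap_iff.2 inferInstance)
      (RingHom.flat_algebraMap_iff.2 inferInstance)
  haveI : Flat (Spec.map (CommRingCat.ofHom φ)) := HasRingHomProperty.Spec_iff.2 hφ
  obtain ⟨h, hh⟩ : ∃ h : Spec (CommRingCat.of A) ⟶ Y,
      h = Spec.map (CommRingCat.ofHom φ) ≫ Y.isoSpec.inv := ⟨_, rfl⟩
  haveI : Flat h := by rw [hh]; infer_instance
  have hcl : h (IsLocalRing.closedPoint A) = y := by
    have h1 : (Spec.map (CommRingCat.ofHom φ)) (IsLocalRing.closedPoint A) = P := by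
      apply PrimeSpectrum.ext
      change ((IsLocalRing.maximalIdeal A).comap (algebraMap B A)).comap
        (algebraMap Γ(Y, ⊤) B) = P.asIdeal
      rw [IsLocalRing.maximalIdeal_comap]
      exact Localization.AtPrime.under_maximalIdeal
    rw [hh, Scheme.Hom.comp_apply, h1, hP, ← Scheme.Hom.comp_apply, Iso.hom_inv_id]
    rfl
  have hgen : ∀ y' : Y, y' ⤳ y → y' ∈ Set.range h := by
    intro y' hy'
    obtain ⟨a', -, ha'⟩ := (Flat.generalizingMap h) (a := IsLocalRing.closedPoint A) (b := y')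
      (by rw [hcl]; exact hy')
    exact ⟨a', ha'⟩
  haveI : IsAdicComplete (IsLocalRing.maximalIdeal A) A := inferInstance
  haveI : HenselianRing A (IsLocalRing.maximalIdeal A) := inferInstance
  exact ⟨A, inferInstance, inferInstance, inferInstance, inferInstance, h, inferInstance,
    hcl, hgen⟩

/-- the flat closure over a discrete valuation ring of a quasi-compact morphism into the generic
fibre. -/
theorem flat_imageι_comp_of_range {A : Type u} [CommRing A] [IsDomain A]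
    [IsDiscreteValuationRing A] {X T' : Scheme.{u}} (f : X ⟶ Spec (CommRingCat.of A))
    (η : ↥(Spec (CommRingCat.of A))) (hη : η.asIdeal = ⊥) (g : T' ⟶ X) [QuasiCompact g]
    (hr : Set.range g ⊆ Set.range (f.fiberι η)) : Flat (g.imageι ≫ f) := by
  obtain ⟨π, hπ⟩ := IsDiscreteValuationRing.exists_irreducible A
  refine HasRingHomProperty.of_iSup_eq_top (P := @Flat)
    (fun V : X.affineOpens => ⟨g.imageι ⁻¹ᵁ V.1, V.2.preimage g.imageι⟩) ?_ ?_
  · have := iSup_affineOpens_eq_top X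
    ext x
    simp only [TopologicalSpace.Opens.coe_iSup, Set.mem_iUnion, TopologicalSpace.Opens.coe_top,
      Set.mem_univ, iff_true]
    have hx : g.imageι x ∈ (⨆ V : X.affineOpens, (V : X.Opens)) := by rw [this]; trivial
    simpa using hx
  · intro V
    have key : (Groth.Agent.Lib.Helper23.FlatCl.sec (g.imageι ≫ f) (g.imageι ⁻¹ᵁ V.1)).Flat := by
      refine Groth.Agent.Lib.Helper23.FlatCl.flat_of_injective_of_isUnit _
        (g.toImage.app (g.imageι ⁻¹ᵁ V.1)).hom (g.toImage_app_injective V) hπ ?_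
      change IsUnit ((g.toImage.app (g.imageι ⁻¹ᵁ V.1))
        (Groth.Agent.Lib.Helper23.FlatCl.sec (g.imageι ≫ f) (g.imageι ⁻¹ᵁ V.1) π))
      rw [Groth.Agent.Lib.Helper23.FlatCl.sec_comp]
      refine Groth.Agent.Lib.Helper23.FlatCl.isUnit_sec_of_range_le f η hη hπ
        (g.toImage ≫ g.imageι) ?_ _
      rw [g.toImage_imageι]; exact hr
    exact Groth.Agent.Lib.Helper23.FlatCl.flat_appLE_of_sec _ key

section Main

variable {X Y : Scheme.{u}} (f : X ⟶ Y) (y : Y) (Z : Set X)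

/-- Step C: `Z` lands in a clopen set containing its part over the closed point. -/
theorem subset_clopen
    (h1 : ∀ y' : Y, y' ⤳ y → (∃ x ∈ Z, f.base x = y' ∧
        Z ∩ f.base ⁻¹' {y'} = connectedComponentIn (f.base ⁻¹' {y'}) x) ∧
      ∀ (K : Type u) [Field K] [Algebra (IsLocalRing.ResidueField (Y.presheaf.stalk y')) K],
        _root_.IsPreconnected
          ((FBase.bcπ (f.fiberToSpecResidueField y') K ≫ f.fiberι y').base ⁻¹' Z))
    (h3 : ∀ (Y' : Scheme.{u}) (h : Y' ⟶ Y) (E : Set Y'), E ⊆ h.base ⁻¹' (f.base '' Z) →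
      (∃ W : Set ↥(pullback f h), IsOpen W ∧
        W ∩ (pullback.fst f h).base ⁻¹' Z =
          (pullback.snd f h).base ⁻¹' E ∩ (pullback.fst f h).base ⁻¹' Z) →
      ∃ V : Set Y', IsOpen V ∧ V ∩ h.base ⁻¹' (f.base '' Z) = E)
    {A : Type u} [CommRing A] [IsLocalRing A] (h : Spec (CommRingCat.of A) ⟶ Y)
    (hcl : h (IsLocalRing.closedPoint A) = y)
    (W : Set ↥(pullback f h)) (hW : IsClopen W)
    (hWcl : ∀ x, pullback.snd f h x = IsLocalRing.closedPoint A → pullback.fst f h x ∈ Z →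
      x ∈ W) :
    (pullback.fst f h) ⁻¹' Z ⊆ W := by
  have hgen : ∀ a : Spec (CommRingCat.of A), h a ⤳ y := by
    intro a
    rw [← hcl]
    exact (IsLocalRing.specializes_closedPoint (R := A) a).map h.continuous
  have hfib : ∀ a, _root_.IsPreconnected
      ((pullback.fst f h) ⁻¹' Z ∩ (pullback.snd f h) ⁻¹' {a}) :=
    fun a => preconnected_fibre f Z _ _ h (IsPullback.of_hasPullback f h) a ((h1 _ (hgen a)).2)
  obtain ⟨E, hE⟩ : ∃ E : Set (Spec (CommRingCat.of A)),
      E = (pullback.snd f h) '' ((pullback.fst f h) ⁻¹' Z ∩ W) := ⟨_, rfl⟩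
  have hcond : ∀ x, f (pullback.fst f h x) = h (pullback.snd f h x) := by
    intro x
    rw [← Scheme.Hom.comp_apply, pullback.condition, Scheme.Hom.comp_apply]
  have hsat : ∀ x, pullback.fst f h x ∈ Z → pullback.snd f h x ∈ E → x ∈ W := by
    intro x hxZ hxE
    rw [hE] at hxE
    obtain ⟨x', ⟨hx'Z, hx'W⟩, hx'x⟩ := hxE
    exact (hfib (pullback.snd f h x)).subset_isClopen hW ⟨x', ⟨hx'Z, hx'x⟩, hx'W⟩ ⟨hxZ, rfl⟩
  have hEsub : E ⊆ h.base ⁻¹' (f.base '' Z) := by
    rw [hE]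
    rintro _ ⟨x', ⟨hx'Z, -⟩, rfl⟩
    exact ⟨pullback.fst f h x', hx'Z, hcond x'⟩
  obtain ⟨V, hVo, hVE⟩ := h3 _ h E hEsub ⟨W, hW.isOpen, by
    ext x
    constructor
    · rintro ⟨hxW, hxZ⟩
      refine ⟨?_, hxZ⟩
      show pullback.snd f h x ∈ E
      rw [hE]; exact ⟨x, ⟨hxZ, hxW⟩, rfl⟩
    · rintro ⟨hxE, hxZ⟩
      exact ⟨hsat x hxZ hxE, hxZ⟩⟩
  obtain ⟨x₀, hx₀Z, hx₀y, -⟩ := (h1 y specializes_rfl).1
  obtain ⟨xA, hxA1, hxA2⟩ := Scheme.Pullback.exists_preimage_pullback (f := f) (g := h) x₀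
    (IsLocalRing.closedPoint A) (by rw [hcl]; exact hx₀y)
  have hxAZ : pullback.fst f h xA ∈ Z := by rw [hxA1]; exact hx₀Z
  have hclE : IsLocalRing.closedPoint A ∈ E := by
    rw [hE]
    exact ⟨xA, ⟨hxAZ, hWcl xA hxA2 hxAZ⟩, hxA2⟩
  have hclV : IsLocalRing.closedPoint A ∈ V := by
    have h4 : IsLocalRing.closedPoint A ∈ V ∩ h.base ⁻¹' (f.base '' Z) := by
      rw [hVE]; exact hclE
    exact h4.1
  have hVuniv : ∀ a, a ∈ V := fun a =>
    (IsLocalRing.specializes_closedPoint (R := A) a).mem_open hVo hclV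
  intro x hxZ
  have hxE : pullback.snd f h x ∈ E := by
    rw [← hVE]
    exact ⟨hVuniv _, pullback.fst f h x, hxZ, hcond x⟩
  exact hsat x hxZ hxE

/-- after base change to a complete local ring, the closure of `Z` is universally closed over
the base. -/
theorem uc_of_complete [IsSeparated f] [LocallyOfFiniteType f] [QuasiCompact f]
    (hZ : Topology.IsLocallyConstructible Z)
    (h1 : ∀ y' : Y, y' ⤳ y → (∃ x ∈ Z, f.base x = y' ∧
        Z ∩ f.base ⁻¹' {y'} = connectedComponentIn (f.base ⁻¹' {y'}) x) ∧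
      ∀ (K : Type u) [Field K] [Algebra (IsLocalRing.ResidueField (Y.presheaf.stalk y')) K],
        _root_.IsPreconnected
          ((FBase.bcπ (f.fiberToSpecResidueField y') K ≫ f.fiberι y').base ⁻¹' Z))
    (hop : IsOpen ((f.fiberι y).base ⁻¹' Z))
    (h2 : IsProper (Scheme.Opens.ι (⟨(f.fiberι y).base ⁻¹' Z, hop⟩ : (f.fiber y).Opens) ≫
      f.fiberToSpecResidueField y))
    (h3 : ∀ (Y' : Scheme.{u}) (h : Y' ⟶ Y) (E : Set Y'), E ⊆ h.base ⁻¹' (f.base '' Z) →
      (∃ W : Set ↥(pullback f h), IsOpen W ∧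
        W ∩ (pullback.fst f h).base ⁻¹' Z =
          (pullback.snd f h).base ⁻¹' E ∩ (pullback.fst f h).base ⁻¹' Z) →
      ∃ V : Set Y', IsOpen V ∧ V ∩ h.base ⁻¹' (f.base '' Z) = E)
    (A : Type u) [CommRing A] [IsNoetherianRing A] [IsLocalRing A]
    [HenselianRing A (IsLocalRing.maximalIdeal A)]
    (h : Spec (CommRingCat.of A) ⟶ Y) [Flat h] (hcl : h (IsLocalRing.closedPoint A) = y)
    {Zb : Scheme.{u}} (i : Zb ⟶ X) [IsClosedImmersion i] (hi : Set.range i ⊆ closure Z)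
    {P : Scheme.{u}} (a : P ⟶ Zb) (b : P ⟶ Spec (CommRingCat.of A))
    (sq : IsPullback a b (i ≫ f) h) : UniversallyClosed b := by
  have key : ∀ y₁ : Y, y₁ = y → ∃ hop' : IsOpen ((f.fiberι y₁).base ⁻¹' Z),
      IsProper (Scheme.Opens.ι (⟨(f.fiberι y₁).base ⁻¹' Z, hop'⟩ : (f.fiber y₁).Opens) ≫
        f.fiberToSpecResidueField y₁) := by
    rintro _ rfl; exact ⟨hop, h2⟩
  obtain ⟨p, hp⟩ : ∃ p : pullback f h ⟶ X, p = pullback.fst f h := ⟨_, rfl⟩
  obtain ⟨q, hq⟩ : ∃ q : pullback f h ⟶ Spec (CommRingCat.of A), q = pullback.snd f h :=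
    ⟨_, rfl⟩
  have sqX : IsPullback p q f h := by rw [hp, hq]; exact IsPullback.of_hasPullback f h
  haveI : IsSeparated q := by rw [hq]; infer_instance
  haveI : LocallyOfFiniteType q := by rw [hq]; infer_instance
  haveI : QuasiCompact q := by rw [hq]; infer_instance
  haveI : Flat p := by rw [hp]; infer_instance
  obtain ⟨t, ht⟩ : ∃ t : Spec (CommRingCat.of A), t = IsLocalRing.closedPoint A := ⟨_, rfl⟩
  have hclt : h t = y := by rw [ht]; exact hcl
  obtain ⟨hop', h2'⟩ := key (h t) hclt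
  have htcl : IsClosed ({t} : Set (Spec (CommRingCat.of A))) := by
    rw [ht]; exact IsLocalRing.isClosed_singleton_closedPoint A
  haveI : IsClosedImmersion (q.fiberι t) :=
    IsClosedImmersion.of_isPreimmersion _ (by
      rw [q.range_fiberι t]
      exact htcl.preimage q.continuous)
  haveI : IsClosedImmersion ((Spec (CommRingCat.of A)).fromSpecResidueField t) :=
    isClosed_singleton_iff_isClosedImmersion.mp htcl
  obtain ⟨φ, sqf, hφι⟩ : ∃ φ : q.fiber t ⟶ f.fiber (h t),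
      IsPullback φ (q.fiberToSpecResidueField t) (f.fiberToSpecResidueField (h t))
        (Spec.map (h.residueFieldMap t)) ∧ φ ≫ f.fiberι (h t) = q.fiberι t ≫ p :=
    ⟨_, isPullback_fiberToSpecResidueField_of_isPullback sqX t, pullback.lift_fst _ _ _⟩
  obtain ⟨Vy, hVy⟩ : ∃ Vy : (f.fiber (h t)).Opens,
      Vy = ⟨(f.fiberι (h t)).base ⁻¹' Z, hop'⟩ := ⟨_, rfl⟩
  rw [← hVy] at h2'
  haveI : IsProper ((φ ⁻¹ᵁ Vy).ι ≫ q.fiberToSpecResidueField t) :=
    MorphismProperty.of_isPullback (P := @IsProper)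
      ((isPullback_morphismRestrict φ Vy).paste_vert sqf) h2'
  haveI : IsProper ((φ ⁻¹ᵁ Vy).ι ≫ q.fiberι t ≫ q) := by
    have h1' : q.fiberι t ≫ q = q.fiberToSpecResidueField t ≫
        (Spec (CommRingCat.of A)).fromSpecResidueField t := q.fiber_fac t
    rw [h1', ← Category.assoc]
    infer_instance
  have hJ : IsLocalRing.maximalIdeal A ≤ Ideal.jacobson ⊥ := by
    rw [IsLocalRing.jacobson_eq_maximalIdeal ⊥ bot_ne_top]
  have hr : Set.range (q.fiberι t) = q ⁻¹' Set.range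
      (Spec.map (CommRingCat.ofHom (Ideal.Quotient.mk (IsLocalRing.maximalIdeal A)))) := by
    rw [q.range_fiberι t]
    congr 1
    ext s
    rw [Set.mem_singleton_iff, Groth.Agent.Lib.Helper13.HensProper.mem_range_SpecMap_mk]
    constructor
    · intro hs
      rw [hs, ht]
      exact le_refl _
    · intro hs
      rw [ht]
      apply PrimeSpectrum.ext
      exact ((IsLocalRing.maximalIdeal.isMaximal A).eq_of_le s.isPrime.ne_top hs).symm
  obtain ⟨U, hUcl, hUp, hUV, -⟩ := clopen_proper_part A (IsLocalRing.maximalIdeal A) hJ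
    q (q.fiberι t) hr (φ ⁻¹ᵁ Vy)
  have hUfib : ∀ x, q x = t → p x ∈ Z → x ∈ U := by
    intro x hx hxZ
    have hx' : x ∈ Set.range (q.fiberι t) := by rw [q.range_fiberι t]; exact hx
    obtain ⟨w, rfl⟩ := hx'
    have hw : w ∈ q.fiberι t ⁻¹ᵁ U := by
      rw [hUV]
      show φ w ∈ Vy
      rw [hVy]
      show f.fiberι (h t) (φ w) ∈ Z
      rw [← Scheme.Hom.comp_apply, hφι, Scheme.Hom.comp_apply]
      exact hxZ
    exact hw
  have hsub : (p : _ → _) ⁻¹' Z ⊆ (U : Set ↥(pullback f h)) := by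
    rw [hp]
    refine subset_clopen f y Z h1 h3 h hcl U ⟨hUcl, U.isOpen⟩ ?_
    rw [← hp, ← hq, ← ht]
    exact hUfib
  have hsub2 : (p : _ → _) ⁻¹' (closure Z) ⊆ (U : Set ↥(pullback f h)) := by
    intro xA hxA
    obtain ⟨z, hzZ, hzx⟩ :=
      Groth.Agent.Lib.Helper11.IM1.exists_specializes_of_isLocallyConstructible hZ _ hxA
    obtain ⟨zA, hzA1, hzA2⟩ := (Flat.generalizingMap p) (a := xA) (b := z) hzx
    refine hzA1.mem_closed hUcl (hsub ?_)
    show p zA ∈ Z
    rw [hzA2]; exact hzZ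
  obtain ⟨κ, hκ1, hκ2⟩ : ∃ κ : P ⟶ pullback f h, κ ≫ p = a ≫ i ∧ κ ≫ q = b := by
    refine ⟨pullback.lift (a ≫ i) b (by rw [Category.assoc, sq.w]), ?_, ?_⟩
    · rw [hp, pullback.lift_fst]
    · rw [hq, pullback.lift_snd]
  have sqκ : IsPullback κ a p i := by
    refine IsPullback.of_right ?_ hκ1 sqX.flip
    rw [hκ2]; exact sq.flip
  haveI : IsClosedImmersion κ :=
    MorphismProperty.of_isPullback (P := @IsClosedImmersion) sqκ.flip inferInstance
  haveI : UniversallyClosed (U.ι ≫ q) := by haveI := hUp; infer_instance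
  have hrange : Set.range κ ⊆ Set.range U.ι := by
    rw [Scheme.Opens.range_ι]
    rintro _ ⟨w, rfl⟩
    apply hsub2
    show p (κ w) ∈ closure Z
    rw [← Scheme.Hom.comp_apply, hκ1, Scheme.Hom.comp_apply]
    exact hi ⟨_, rfl⟩
  have hfin := uc_of_range_subset κ U.ι q hrange
  rwa [hκ2] at hfin

/-- **Part I**: the closure of `Z` is proper over a neighbourhood of `y`. -/
theorem closure_proper_nhd [IsLocallyNoetherian Y] [IsSeparated f] [LocallyOfFiniteType f]
    [QuasiCompact f] (hZ : Topology.IsLocallyConstructible Z)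
    (h1 : ∀ y' : Y, y' ⤳ y → (∃ x ∈ Z, f.base x = y' ∧
        Z ∩ f.base ⁻¹' {y'} = connectedComponentIn (f.base ⁻¹' {y'}) x) ∧
      ∀ (K : Type u) [Field K] [Algebra (IsLocalRing.ResidueField (Y.presheaf.stalk y')) K],
        _root_.IsPreconnected
          ((FBase.bcπ (f.fiberToSpecResidueField y') K ≫ f.fiberι y').base ⁻¹' Z))
    (hop : IsOpen ((f.fiberι y).base ⁻¹' Z))
    (h2 : IsProper (Scheme.Opens.ι (⟨(f.fiberι y).base ⁻¹' Z, hop⟩ : (f.fiber y).Opens) ≫
      f.fiberToSpecResidueField y))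
    (h3 : ∀ (Y' : Scheme.{u}) (h : Y' ⟶ Y) (E : Set Y'), E ⊆ h.base ⁻¹' (f.base '' Z) →
      (∃ W : Set ↥(pullback f h), IsOpen W ∧
        W ∩ (pullback.fst f h).base ⁻¹' Z =
          (pullback.snd f h).base ⁻¹' E ∩ (pullback.fst f h).base ⁻¹' Z) →
      ∃ V : Set Y', IsOpen V ∧ V ∩ h.base ⁻¹' (f.base '' Z) = E)
    {Zb : Scheme.{u}} (i : Zb ⟶ X) [IsClosedImmersion i] (hi : Set.range i ⊆ closure Z) :
    ∃ U : Y.Opens, y ∈ U ∧ IsProper ((i ≫ f) ∣_ U) := by
  refine exists_nhd_of_affine (i ≫ f) y ?_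
  intro V _ _ v hv
  obtain ⟨A, _, _, _, _, h₀, _, hcl, hgen⟩ := exists_complete_local v
  have sqV : IsPullback ((i ≫ f) ⁻¹ᵁ V).ι ((i ≫ f) ∣_ V) (i ≫ f) V.ι :=
    (isPullback_morphismRestrict (i ≫ f) V).flip
  haveI : IsSeparated ((i ≫ f) ∣_ V) :=
    MorphismProperty.of_isPullback (P := @IsSeparated) sqV inferInstance
  haveI : LocallyOfFiniteType ((i ≫ f) ∣_ V) :=
    MorphismProperty.of_isPullback (P := @LocallyOfFiniteType) sqV inferInstance
  haveI : QuasiCompact ((i ≫ f) ∣_ V) :=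
    MorphismProperty.of_isPullback (P := @QuasiCompact) sqV inferInstance
  haveI : UniversallyClosed (pullback.snd ((i ≫ f) ∣_ V) h₀) := by
    have big := (IsPullback.of_hasPullback ((i ≫ f) ∣_ V) h₀).paste_horiz sqV
    refine uc_of_complete f y Z hZ h1 hop h2 h3 A (h₀ ≫ V.ι) ?_ i hi _ _ big
    rw [Scheme.Hom.comp_apply, hcl, hv]
  exact exists_nhd_isProper_of_flat ((i ≫ f) ∣_ V) v h₀ hgen

end Main

end Groth.Agent.Lib.Helper13.PropAtB
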