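import Mathlib
import Groth.Prelude
import Groth.Agent.Lib.Helper13.PropAtB
import Groth.Agent.Lib.Helper1.DVRConn
import Groth.Agent.S4950

/-!
# EGA IV 15.7.8-type statements: closedness near the point (helper13)
-/

set_option autoImplicit false
set_option linter.style.haveILetI false
set_option maxHeartbeats 1600000
universe u
open CategoryTheory CategoryTheory.Limits AlgebraicGeometry TopologicalSpace Opposite

namespace Groth.Agent.Lib.Helper13.PropAtC

open Groth.Agent.Lib.Helper13.PropAtA Groth.Agent.Lib.Helper13.PropAtB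
  Groth.Agent.Lib.Helper13.ProperNhd2

/-- range of the base change of a morphism in an arbitrary pullback square. -/
theorem range_of_isPullback {P A B C : Scheme.{u}} {k : P ⟶ A} {a : P ⟶ B} {p : A ⟶ C}
    {i : B ⟶ C} (sq : IsPullback k a p i) : Set.range k = (p : A → C) ⁻¹' Set.range i := by
  have h1 : sq.isoPullback.hom ≫ pullback.fst p i = k := sq.isoPullback_hom_fst
  have hs : Function.Surjective sq.isoPullback.hom := sq.isoPullback.hom.homeomorph.surjective
  rw [← h1, Scheme.Hom.comp_base, TopCat.coe_comp, Set.range_comp,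
    Set.range_eq_univ.mpr hs, Set.image_univ, Scheme.Pullback.range_fst]

section Main

variable {X Y : Scheme.{u}} (f : X ⟶ Y) (y : Y) (Z : Set X)

/-- **Part II**: points of the closure of `Z` over generizations of `y` lie in `Z`. -/
theorem mem_of_mem_closure [IsLocallyNoetherian Y] [IsSeparated f] [LocallyOfFiniteType f]
    [QuasiCompact f] (hZ : Topology.IsLocallyConstructible Z)
    (h1 : ∀ y' : Y, y' ⤳ y → (∃ x ∈ Z, f.base x = y' ∧
        Z ∩ f.base ⁻¹' {y'} = connectedComponentIn (f.base ⁻¹' {y'}) x) ∧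
      ∀ (K : Type u) [Field K] [Algebra (IsLocalRing.ResidueField (Y.presheaf.stalk y')) K],
        _root_.IsPreconnected
          ((FBase.bcπ (f.fiberToSpecResidueField y') K ≫ f.fiberι y').base ⁻¹' Z))
    (h3 : ∀ (Y' : Scheme.{u}) (h : Y' ⟶ Y) (E : Set Y'), E ⊆ h.base ⁻¹' (f.base '' Z) →
      (∃ W : Set ↥(pullback f h), IsOpen W ∧
        W ∩ (pullback.fst f h).base ⁻¹' Z =
          (pullback.snd f h).base ⁻¹' E ∩ (pullback.fst f h).base ⁻¹' Z) →
      ∃ V : Set Y', IsOpen V ∧ V ∩ h.base ⁻¹' (f.base '' Z) = E)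
    {Zb : Scheme.{u}} (i : Zb ⟶ X) [IsClosedImmersion i] (hi : closure Z ⊆ Set.range i)
    (U₀ : Y.Opens) (hy : y ∈ U₀) [IsProper ((i ≫ f) ∣_ U₀)]
    (x : X) (hx : x ∈ closure Z) (hfx : f x ⤳ y) : x ∈ Z := by
  haveI : IsLocallyNoetherian X := LocallyOfFiniteType.isLocallyNoetherian f
  obtain ⟨z, hzZ, hzx⟩ :=
    Groth.Agent.Lib.Helper11.IM1.exists_specializes_of_isLocallyConstructible hZ x hx
  by_cases hne : z = x
  · rw [← hne]; exact hzZ
  obtain ⟨D, _, _, _, σ, hσs, hση, -, -⟩ := Groth.Agent.S4950.result (𝟙 X) x z hne hzx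
  obtain ⟨s, hs⟩ : ∃ s : Spec (CommRingCat.of D), s = IsLocalRing.closedPoint D := ⟨_, rfl⟩
  obtain ⟨η, hη⟩ : ∃ η : Spec (CommRingCat.of D), η = genericPoint (Spec (CommRingCat.of D)) :=
    ⟨_, rfl⟩
  rw [← hs] at hσs
  rw [← hη] at hση
  have hηall : ∀ d : Spec (CommRingCat.of D), η ⤳ d := by
    intro d
    rw [hη]
    exact (genericPoint_spec (Spec (CommRingCat.of D))).specializes (Set.mem_univ d)
  have hηs : η ⤳ s := hηall s
  have hηne : η ≠ s := by
    intro h
    apply hne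
    rw [← hση, ← hσs, h]
  have hbot : ∀ d : Spec (CommRingCat.of D), d ≠ s →
      d = (⟨⊥, Ideal.isPrime_bot⟩ : PrimeSpectrum D) := by
    intro d hd
    by_contra h
    exact hd (by rw [hs]; exact Groth.Agent.Lib.Helper1.DVRConn.eq_closedPoint_of_ne d h)
  have hηeq : η = (⟨⊥, Ideal.isPrime_bot⟩ : PrimeSpectrum D) := hbot η hηne
  have hηbot : η.asIdeal = ⊥ := by rw [hηeq]
  have hdich : ∀ d : Spec (CommRingCat.of D), d ≠ s → d = η :=
    fun d hd => (hbot d hd).trans hηeq.symm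
  obtain ⟨h', hh'⟩ : ∃ h' : Spec (CommRingCat.of D) ⟶ Y, h' = σ ≫ f := ⟨_, rfl⟩
  obtain ⟨p, hp⟩ : ∃ p : pullback f h' ⟶ X, p = pullback.fst f h' := ⟨_, rfl⟩
  obtain ⟨q, hq⟩ : ∃ q : pullback f h' ⟶ Spec (CommRingCat.of D), q = pullback.snd f h' :=
    ⟨_, rfl⟩
  have sqX : IsPullback p q f h' := by rw [hp, hq]; exact IsPullback.of_hasPullback f h'
  haveI : IsSeparated q := by rw [hq]; infer_instance
  haveI : LocallyOfFiniteType q := by rw [hq]; infer_instance
  haveI : QuasiCompact q := by rw [hq]; infer_instance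
  have hcond : ∀ w, f (p w) = h' (q w) := by
    intro w
    rw [← Scheme.Hom.comp_apply, sqX.w, Scheme.Hom.comp_apply]
  obtain ⟨τ, hτ1, hτ2⟩ : ∃ τ : Spec (CommRingCat.of D) ⟶ pullback f h',
      τ ≫ p = σ ∧ τ ≫ q = 𝟙 _ :=
    ⟨pullback.lift σ (𝟙 _) (by rw [Category.id_comp, hh']), by rw [hp, pullback.lift_fst],
      by rw [hq, pullback.lift_snd]⟩
  have hh's : h' s = f x := by rw [hh', Scheme.Hom.comp_apply, hσs]
  have hh'η : h' η = f z := by rw [hh', Scheme.Hom.comp_apply, hση]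
  have hfz : f z ⤳ y := (hzx.map f.continuous).trans hfx
  have hgen' : ∀ d : Spec (CommRingCat.of D), h' d ⤳ y := by
    intro d
    by_cases hd : d = s
    · rw [hd, hh's]; exact hfx
    · rw [hdich d hd, hh'η]; exact hfz
  obtain ⟨ZO, hZO⟩ : ∃ ZO : Set ↥(pullback f h'),
      ZO = (p : _ → _) ⁻¹' Z ∩ (q : _ → _) ⁻¹' {η} := ⟨_, rfl⟩
  -- (a) a point of `Z` over the closed point in the closure of the generic part
  have hc : ∃ c, p c ∈ Z ∧ q c = s ∧ c ∈ closure ZO := by
    by_contra hcon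
    push_neg at hcon
    have hE : ({s} : Set ↥(Spec (CommRingCat.of D))) ⊆ h'.base ⁻¹' (f.base '' Z) := by
      rintro _ rfl
      obtain ⟨x₀, hx₀Z, hx₀, -⟩ := (h1 (f x) hfx).1
      exact ⟨x₀, hx₀Z, hx₀.trans hh's.symm⟩
    obtain ⟨V, hVo, hVE⟩ := h3 _ h' {s} hE ⟨(closure ZO)ᶜ, isClosed_closure.isOpen_compl, by
      rw [← hp, ← hq]
      ext w
      constructor
      · rintro ⟨hw1, hw2⟩
        refine ⟨?_, hw2⟩
        show q w = s
        by_contra hqw
        exact hw1 (subset_closure (by rw [hZO]; exact ⟨hw2, hdich _ hqw⟩))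
      · rintro ⟨hw1, hw2⟩
        exact ⟨fun hcl => hcon w hw2 hw1 hcl, hw2⟩⟩
    have hsV : s ∈ V := by
      have h4 : s ∈ V ∩ h'.base ⁻¹' (f.base '' Z) := by rw [hVE]; rfl
      exact h4.1
    have hηV : η ∈ V := hηs.mem_open hVo hsV
    have hηE : η ∈ V ∩ h'.base ⁻¹' (f.base '' Z) := ⟨hηV, z, hzZ, hh'η.symm⟩
    rw [hVE] at hηE
    exact hηne hηE
  -- (b) the section
  have hτη : τ η ∈ ZO := by
    rw [hZO]
    refine ⟨?_, ?_⟩
    · show p (τ η) ∈ Z
      rw [← Scheme.Hom.comp_apply, hτ1, hση]; exact hzZ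
    · show q (τ η) = η
      rw [← Scheme.Hom.comp_apply, hτ2]; rfl
  have hτs : τ s ∈ closure ZO := by
    have h5 : τ η ⤳ τ s := hηs.map τ.continuous
    exact h5.mem_closed isClosed_closure (subset_closure hτη)
  -- relative closedness of the generic part
  obtain ⟨x₁, hx₁Z, hx₁, hcomp⟩ := (h1 (f z) hfz).1
  obtain ⟨C, hCcl, hC⟩ : ∃ C : Set X, IsClosed C ∧
      C ∩ f.base ⁻¹' {f z} = Z ∩ f.base ⁻¹' {f z} := by
    have hx₁F : x₁ ∈ f.base ⁻¹' {f z} := hx₁
    have h6 : IsClosed (connectedComponent (⟨x₁, hx₁F⟩ : ↥(f.base ⁻¹' {f z}))) :=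
      isClosed_connectedComponent
    obtain ⟨C, hCcl, hC⟩ := isClosed_induced_iff.mp h6
    refine ⟨C, hCcl, ?_⟩
    rw [hcomp, connectedComponentIn_eq_image hx₁F, ← hC, Subtype.image_preimage_coe,
      Set.inter_comm]
  have hclo : ∀ w, w ∈ closure ZO → q w = η → p w ∈ Z := by
    intro w hw hqw
    have h7 : closure ZO ⊆ (p : _ → _) ⁻¹' C := by
      apply closure_minimal _ (hCcl.preimage p.continuous)
      rw [hZO]
      rintro w' ⟨hw'1, hw'2⟩
      have hw'3 : q w' = η := hw'2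
      have h8 : p w' ∈ C ∩ f.base ⁻¹' {f z} := by
        rw [hC]
        refine ⟨hw'1, ?_⟩
        show f (p w') = f z
        rw [hcond, hw'3, hh'η]
      exact h8.1
    have h8 : p w ∈ C ∩ f.base ⁻¹' {f z} := by
      refine ⟨h7 hw, ?_⟩
      show f (p w) = f z
      rw [hcond, hqw, hh'η]
    rw [hC] at h8
    exact h8.1
  -- the scheme `G`
  obtain ⟨Cη, hCη⟩ : ∃ Cη : Closeds ↥(q.fiber η),
      (Cη : Set ↥(q.fiber η)) = (q.fiberι η) ⁻¹' (closure ZO) :=
    ⟨⟨_, isClosed_closure.preimage (q.fiberι η).continuous⟩, rfl⟩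
  obtain ⟨j, hj⟩ : ∃ j : (Scheme.IdealSheafData.vanishingIdeal Cη).subscheme ⟶ pullback f h',
      j = (Scheme.IdealSheafData.vanishingIdeal Cη).subschemeι ≫ q.fiberι η := ⟨_, rfl⟩
  have hjr : Set.range j = closure ZO ∩ (q : _ → _) ⁻¹' {η} := by
    rw [hj, Scheme.Hom.comp_base, TopCat.coe_comp, Set.range_comp,
      Scheme.IdealSheafData.range_subschemeι, Scheme.IdealSheafData.coe_support_vanishingIdeal,
      hCη, Set.image_preimage_eq_inter_range, q.range_fiberι η]
  haveI : QuasiCompact (q.fiberι η) := Groth.Agent.Lib.Helper23.FlatCl.quasiCompact_fiberι q η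
  haveI : QuasiCompact j := by rw [hj]; infer_instance
  obtain ⟨iG, hiG⟩ : ∃ iG : j.image ⟶ pullback f h', iG = j.imageι := ⟨_, rfl⟩
  haveI : IsClosedImmersion iG := by rw [hiG]; infer_instance
  have hZOsub : ZO ⊆ closure ZO ∩ (q : _ → _) ⁻¹' {η} := by
    intro w hw
    refine ⟨subset_closure hw, ?_⟩
    rw [hZO] at hw
    exact hw.2
  have hGr : Set.range iG = closure ZO := by
    rw [hiG, Scheme.IdealSheafData.range_subschemeι, Scheme.Hom.support_ker, hjr]
    apply subset_antisymm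
    · exact closure_minimal Set.inter_subset_left isClosed_closure
    · exact closure_mono hZOsub
  obtain ⟨FG, hFG⟩ : ∃ FG : j.image ⟶ Spec (CommRingCat.of D), FG = iG ≫ q := ⟨_, rfl⟩
  haveI : Flat FG := by
    rw [hFG, hiG]
    refine flat_imageι_comp_of_range q η hηbot j ?_
    rw [hjr, q.range_fiberι η]
    exact Set.inter_subset_right
  haveI : IsSeparated FG := by rw [hFG]; infer_instance
  haveI : LocallyOfFiniteType FG := by rw [hFG]; infer_instance
  -- properness of `G`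
  have hrU : Set.range h' ⊆ Set.range U₀.ι := by
    rw [Scheme.Opens.range_ι]
    rintro _ ⟨d, rfl⟩
    exact (hgen' d).mem_open U₀.isOpen hy
  obtain ⟨h'', hh''⟩ : ∃ h'' : Spec (CommRingCat.of D) ⟶ U₀.toScheme, h'' ≫ U₀.ι = h' :=
    ⟨IsOpenImmersion.lift U₀.ι h' hrU, IsOpenImmersion.lift_fac _ _ _⟩
  have sqU : IsPullback ((i ≫ f) ⁻¹ᵁ U₀).ι ((i ≫ f) ∣_ U₀) (i ≫ f) U₀.ι :=
    (isPullback_morphismRestrict (i ≫ f) U₀).flip
  have bigU := (IsPullback.of_hasPullback ((i ≫ f) ∣_ U₀) h'').paste_horiz sqU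
  rw [hh''] at bigU
  obtain ⟨k, hk1, hk2⟩ : ∃ k : pullback ((i ≫ f) ∣_ U₀) h'' ⟶ pullback f h',
      k ≫ p = (pullback.fst ((i ≫ f) ∣_ U₀) h'' ≫ ((i ≫ f) ⁻¹ᵁ U₀).ι) ≫ i ∧
      k ≫ q = pullback.snd ((i ≫ f) ∣_ U₀) h'' := by
    refine ⟨pullback.lift ((pullback.fst ((i ≫ f) ∣_ U₀) h'' ≫ ((i ≫ f) ⁻¹ᵁ U₀).ι) ≫ i)
      (pullback.snd ((i ≫ f) ∣_ U₀) h'') (by rw [Category.assoc, bigU.w]), ?_, ?_⟩
    · rw [hp, pullback.lift_fst]
    · rw [hq, pullback.lift_snd]
  have sqk : IsPullback k (pullback.fst ((i ≫ f) ∣_ U₀) h'' ≫ ((i ≫ f) ⁻¹ᵁ U₀).ι) p i := by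
    refine IsPullback.of_right ?_ hk1 sqX.flip
    rw [hk2]; exact bigU.flip
  have hkr : Set.range k = (p : _ → _) ⁻¹' Set.range i := range_of_isPullback sqk
  haveI : UniversallyClosed (k ≫ q) := by rw [hk2]; infer_instance
  haveI : UniversallyClosed FG := by
    rw [hFG]
    refine uc_of_range_subset iG k q ?_
    rw [hGr, hkr]
    have h9 : closure ZO ⊆ (p : _ → _) ⁻¹' (closure Z) := by
      apply closure_minimal _ (isClosed_closure.preimage p.continuous)
      rw [hZO]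
      rintro w ⟨hw, -⟩
      exact subset_closure hw
    exact fun w hw => hi (h9 hw)
  haveI : IsProper FG := IsProper.mk
  haveI : LocallyOfFinitePresentation FG :=
    (LocallyOfFinitePresentation.iff_locallyOfFiniteType).mpr inferInstance
  obtain ⟨c, hcZ, hcs, hcc⟩ := hc
  have hFGq : ∀ g, FG g = q (iG g) := by
    intro g
    rw [hFG, Scheme.Hom.comp_apply]
  haveI : Nonempty ↥(FG.fiber s) := by
    rw [nonempty_fiber_iff]
    have hcG : c ∈ Set.range iG := by rw [hGr]; exact hcc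
    obtain ⟨gc, hgc⟩ := hcG
    exact ⟨gc, by rw [hFGq, hgc, hcs]⟩
  -- geometric connectedness of the generic fibre of `G`
  have hGCη : GeometricallyConnected (FG.fiberToSpecResidueField η) := by
    refine ⟨fun K _ yK P fst snd hsq => ?_⟩
    obtain ⟨cD, hcD⟩ : ∃ cD : Spec (CommRingCat.of K) ⟶ Spec (CommRingCat.of D),
        cD = yK ≫ (Spec (CommRingCat.of D)).fromSpecResidueField η := ⟨_, rfl⟩
    have sqG : IsPullback (fst ≫ FG.fiberι η) snd FG cD := by
      rw [hcD]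
      exact hsq.paste_horiz
        (IsPullback.of_hasPullback FG ((Spec (CommRingCat.of D)).fromSpecResidueField η))
    have hcDpt : ∀ pt, cD pt = η := by
      intro pt
      rw [hcD, Scheme.Hom.comp_apply, Scheme.fromSpecResidueField_apply]
    obtain ⟨aX, haX⟩ : ∃ aX : pullback q cD ⟶ pullback f h', aX = pullback.fst q cD := ⟨_, rfl⟩
    obtain ⟨bX, hbX⟩ : ∃ bX : pullback q cD ⟶ Spec (CommRingCat.of K),
        bX = pullback.snd q cD := ⟨_, rfl⟩
    have sqPX : IsPullback aX bX q cD := by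
      rw [haX, hbX]; exact IsPullback.of_hasPullback q cD
    have sqBig : IsPullback (aX ≫ p) bX f (cD ≫ h') := sqPX.paste_horiz sqX
    obtain ⟨pt⟩ : Nonempty (Spec (CommRingCat.of K)) := ⟨IsLocalRing.closedPoint K⟩
    have hpc : _root_.IsPreconnected (((aX ≫ p : pullback q cD ⟶ X) : _ → X) ⁻¹' Z) :=
      preconnected_of_isPullback f Z (aX ≫ p) bX (cD ≫ h') sqBig pt (f z)
        (by rw [Scheme.Hom.comp_apply, hcDpt, hh'η]) ((h1 (f z) hfz).2)
    have hqa : ∀ w, q (aX w) = η := by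
      intro w
      rw [← Scheme.Hom.comp_apply, sqPX.w, Scheme.Hom.comp_apply, hcDpt]
    obtain ⟨ιP, hιP1, hιP2⟩ : ∃ ιP : P ⟶ pullback q cD,
        ιP ≫ aX = (fst ≫ FG.fiberι η) ≫ iG ∧ ιP ≫ bX = snd := by
      refine ⟨pullback.lift ((fst ≫ FG.fiberι η) ≫ iG) snd
        (by rw [Category.assoc, ← hFG, sqG.w]), ?_, ?_⟩
      · rw [haX, pullback.lift_fst]
      · rw [hbX, pullback.lift_snd]
    have sqP : IsPullback ιP (fst ≫ FG.fiberι η) aX iG := by
      refine IsPullback.of_right ?_ hιP1 sqPX.flip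
      rw [hιP2, ← hFG]; exact sqG.flip
    haveI : IsClosedImmersion ιP :=
      MorphismProperty.of_isPullback (P := @IsClosedImmersion) sqP.flip inferInstance
    have hιPr : Set.range ιP = ((aX ≫ p : pullback q cD ⟶ X) : _ → X) ⁻¹' Z := by
      rw [range_of_isPullback sqP, hGr]
      ext w
      constructor
      · intro hw
        exact hclo (aX w) hw (hqa w)
      · intro hw
        refine subset_closure ?_
        rw [hZO]
        exact ⟨hw, hqa w⟩
    haveI : PreconnectedSpace ↥P := by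
      refine ⟨?_⟩
      rw [← ιP.isClosedEmbedding.isInducing.isPreconnected_image, Set.image_univ, hιPr]
      exact hpc
    haveI : Nonempty ↥P := by
      obtain ⟨w₀, hw₀1, -⟩ := Scheme.Pullback.exists_preimage_pullback (f := q) (g := cD)
        (τ η) pt (by
          rw [hcDpt, ← Scheme.Hom.comp_apply, hτ2]; rfl)
      have hw₀ : w₀ ∈ Set.range ιP := by
        rw [hιPr]
        show p (aX w₀) ∈ Z
        rw [haX, hw₀1, ← Scheme.Hom.comp_apply, hτ1, hση]
        exact hzZ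
      obtain ⟨v, -⟩ := hw₀
      exact ⟨v⟩
    exact { toNonempty := inferInstance }
  -- all fibres of `G` are geometrically connected
  have hGCs : GeometricallyConnected (FG.fiberToSpecResidueField s) := by
    refine geomConn_of_max FG ?_ s
    intro η₁ hmax
    have : η = η₁ := hmax η (hηall η₁)
    rw [← this]
    exact hGCη
  haveI : ConnectedSpace ↥(FG.fiber s) :=
    hGCs.geometrically_connectedSpace (𝟙 _) (𝟙 _) (FG.fiberToSpecResidueField s)
      (IsPullback.of_id_fst)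
  have hpre : _root_.IsPreconnected (closure ZO ∩ (q : _ → _) ⁻¹' {s}) := by
    have h10 : closure ZO ∩ (q : _ → _) ⁻¹' {s} = (FG.fiberι s ≫ iG) '' Set.univ := by
      rw [Set.image_univ, Scheme.Hom.comp_base, TopCat.coe_comp, Set.range_comp,
        FG.range_fiberι s]
      ext w
      constructor
      · rintro ⟨hw1, hw2⟩
        have hwG : w ∈ Set.range iG := by rw [hGr]; exact hw1
        obtain ⟨g, rfl⟩ := hwG
        refine ⟨g, ?_, rfl⟩
        show FG g = s
        rw [hFGq]; exact hw2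
      · rintro ⟨g, hg, rfl⟩
        have hg' : FG g = s := hg
        refine ⟨?_, ?_⟩
        · rw [← hGr]; exact ⟨g, rfl⟩
        · show q (iG g) = s
          rw [← hFGq]; exact hg'
    rw [h10]
    exact isPreconnected_univ.image _ (FG.fiberι s ≫ iG).continuous.continuousOn
  -- conclusion
  obtain ⟨x₀, hx₀Z, hx₀, hcomp₀⟩ := (h1 (f x) hfx).1
  have hS : _root_.IsPreconnected ((p : _ → _) '' (closure ZO ∩ (q : _ → _) ⁻¹' {s})) :=
    hpre.image _ p.continuous.continuousOn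
  have hSF : (p : _ → _) '' (closure ZO ∩ (q : _ → _) ⁻¹' {s}) ⊆ f.base ⁻¹' {f x} := by
    rintro _ ⟨w, ⟨-, hw⟩, rfl⟩
    have hw' : q w = s := hw
    show f (p w) = f x
    rw [hcond, hw', hh's]
  have hpcc : p c ∈ connectedComponentIn (f.base ⁻¹' {f x}) x₀ := by
    rw [← hcomp₀]
    refine ⟨hcZ, ?_⟩
    show f (p c) = f x
    rw [hcond, hcs, hh's]
  have hsub := hS.subset_connectedComponentIn (x := p c) ⟨c, ⟨hcc, hcs⟩, rfl⟩ hSF
  rw [← connectedComponentIn_eq hpcc, ← hcomp₀] at hsub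
  have hxS : x ∈ (p : _ → _) '' (closure ZO ∩ (q : _ → _) ⁻¹' {s}) := by
    refine ⟨τ s, ⟨hτs, ?_⟩, ?_⟩
    · show q (τ s) = s
      rw [← Scheme.Hom.comp_apply, hτ2]; rfl
    · rw [← Scheme.Hom.comp_apply, hτ1, hσs]
  exact (hsub hxS).1

end Main

end Groth.Agent.Lib.Helper13.PropAtC
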