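import Groth.Agent.Lib.Helper13.PropAtC
import Groth.Agent.Lib.Helper11.IM1
import Groth.Agent.Lib.Helper13.ProperNhd

/-!
# EGA IV 15.7.8-type statements: constructibility lemmas (helper13)
-/

set_option autoImplicit false
set_option linter.style.haveILetI false

open CategoryTheory AlgebraicGeometry Topology TopologicalSpace

universe u

namespace Groth.Agent.Lib.Helper13.PropAtD

/-- complements of locally constructible sets are locally constructible. -/
theorem isLocallyConstructible_compl {α : Type*} [TopologicalSpace α] {s : Set α}
    (hs : IsLocallyConstructible s) : IsLocallyConstructible sᶜ := by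
  intro x
  obtain ⟨U, hU, hUo, hc⟩ := hs x
  refine ⟨U, hU, hUo, ?_⟩
  have : (Subtype.val ⁻¹' sᶜ : Set U) = (Subtype.val ⁻¹' s : Set U)ᶜ := rfl
  rw [this]
  exact hc.compl

/-- closed sets of locally Noetherian schemes are locally constructible. -/
theorem isLocallyConstructible_of_isClosed {X : Scheme.{u}} [IsLocallyNoetherian X]
    {Z : Set X} (hZ : IsClosed Z) : IsLocallyConstructible Z := by
  intro x
  obtain ⟨U, hU, hxU, -⟩ := exists_isAffineOpen_mem_and_subset (x := x) (U := ⊤)
    (Opens.mem_top _)
  haveI : IsNoetherianRing Γ(X, U) := IsLocallyNoetherian.component_noetherian ⟨U, hU⟩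
  haveI : NoetherianSpace U := noetherianSpace_of_isAffineOpen U hU
  refine ⟨U, U.2.mem_nhds hxU, U.2, ?_⟩
  have hZU : IsClosed (Subtype.val ⁻¹' Z : Set U) := hZ.preimage continuous_subtype_val
  have hretro : ∀ V : Set U, IsRetrocompact V := fun V W _ _ => NoetherianSpace.isCompact _
  have := ((hretro (Subtype.val ⁻¹' Z : Set U)ᶜ).isConstructible hZU.isOpen_compl).compl
  rwa [compl_compl] at this

/-- the boundary `closure Z \ Z` of a locally constructible set has locally constructible
image, and a point all of whose generizations avoid that image has a neighbourhood avoiding it. -/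
theorem not_mem_closure_image {X Y : Scheme.{u}} [IsLocallyNoetherian Y] (f : X ⟶ Y)
    [LocallyOfFiniteType f] [QuasiCompact f] (Z : Set X) (hZ : IsLocallyConstructible Z) (y : Y)
    (hmem : ∀ x : X, x ∈ closure Z → f x ⤳ y → x ∈ Z) :
    y ∉ closure (f '' (closure Z \ Z)) := by
  haveI : IsLocallyNoetherian X := LocallyOfFiniteType.isLocallyNoetherian f
  haveI : LocallyOfFinitePresentation f :=
    (LocallyOfFinitePresentation.iff_locallyOfFiniteType).mpr inferInstance
  have hN : IsLocallyConstructible (closure Z \ Z) := by
    rw [Set.sdiff_eq]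
    exact (isLocallyConstructible_of_isClosed isClosed_closure).inter
      (isLocallyConstructible_compl hZ)
  have hfN := f.isLocallyConstructible_image hN
  intro hcl
  obtain ⟨e, ⟨x, hx, rfl⟩, hey⟩ :=
    Groth.Agent.Lib.Helper11.IM1.exists_specializes_of_isLocallyConstructible hfN y hcl
  exact hx.2 (hmem x hx.1 hey)

end Groth.Agent.Lib.Helper13.PropAtD
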