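import Groth.Agent.Lib.Helper13.PropAtD

/-!
# EGA IV 15.7.x: transfer of the "proper at y" hypothesis and conclusion under base change
(helper13)
-/

set_option autoImplicit false
set_option linter.style.haveILetI false

open CategoryTheory AlgebraicGeometry Topology TopologicalSpace Limits

universe u

namespace Groth.Agent.Lib.Helper13.PropAtE

open Groth.Agent.Lib.Helper13.PropAtA Groth.Agent.Lib.Helper13.PropAtC

/-- an open part `W` of `F` is proper over `S`. -/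
def PropW {F S : Scheme.{u}} (φ : F ⟶ S) (W : Set F) : Prop :=
  ∃ hop : IsOpen W, IsProper (Scheme.Opens.ι (⟨W, hop⟩ : F.Opens) ≫ φ)

theorem propW_congr {F S : Scheme.{u}} (φ : F ⟶ S) {W W' : Set F} (h : W = W') :
    PropW φ W ↔ PropW φ W' := by
  subst h
  rfl

/-- the hypothesis of EGA IV 15.7.8-type statements on the fibre at `y`. -/
def PropFib {X Y : Scheme.{u}} (f : X ⟶ Y) (Z : Set X) (y : Y) : Prop :=
  ∃ hop : IsOpen ((f.fiberι y).base ⁻¹' Z),
    IsProper (Scheme.Opens.ι (⟨(f.fiberι y).base ⁻¹' Z, hop⟩ : (f.fiber y).Opens) ≫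
      f.fiberToSpecResidueField y)

theorem propFib_iff_propW {X Y : Scheme.{u}} (f : X ⟶ Y) (Z : Set X) (y : Y) :
    PropFib f Z y ↔ PropW (f.fiberToSpecResidueField y) ((f.fiberι y).base ⁻¹' Z) := Iff.rfl

lemma fpqc_residueFieldMap {Y Z : Scheme.{u}} (g : Y ⟶ Z) (y : Y) :
    (@Surjective ⊓ @Flat ⊓ @QuasiCompact : MorphismProperty Scheme.{u})
      (Spec.map (g.residueFieldMap y)) := by
  refine ⟨⟨?_, ?_⟩, inferInstance⟩
  · exact ⟨fun x => ⟨IsLocalRing.closedPoint _, Subsingleton.elim (α := PrimeSpectrum _) _ _⟩⟩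
  · rw [HasRingHomProperty.Spec_iff (P := @Flat)]
    letI := (g.residueFieldMap y).hom.toAlgebra
    show Module.Flat (Z.residueField (g y)) (Y.residueField y)
    infer_instance

/-- transfer of `PropW` along an fpqc base change. -/
theorem propW_iff_of_isPullback {F F' S S' : Scheme.{u}} {π : F' ⟶ F} {φ' : F' ⟶ S'}
    {φ : F ⟶ S} {c : S' ⟶ S} (sq : IsPullback π φ' φ c) [IsSeparated φ] [LocallyOfFiniteType φ]
    (hc : (@Surjective ⊓ @Flat ⊓ @QuasiCompact : MorphismProperty Scheme.{u}) c) (W : Set F) :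
    PropW φ' ((π : F' → F) ⁻¹' W) ↔ PropW φ W := by
  haveI : Surjective c := hc.1.1
  haveI : Flat c := hc.1.2
  haveI : QuasiCompact c := hc.2
  haveI : Surjective π := MorphismProperty.of_isPullback (P := @Surjective) sq.flip inferInstance
  haveI : Flat π := MorphismProperty.of_isPullback (P := @Flat) sq.flip inferInstance
  haveI : QuasiCompact π :=
    MorphismProperty.of_isPullback (P := @QuasiCompact) sq.flip inferInstance
  have big : ∀ Wo : F.Opens, IsPullback (π ∣_ Wo) ((π ⁻¹ᵁ Wo).ι ≫ φ') (Wo.ι ≫ φ) c :=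
    fun Wo => (isPullback_morphismRestrict π Wo).paste_vert sq
  constructor
  · rintro ⟨hop', hp'⟩
    have hop : IsOpen W := (Flat.isQuotientMap_of_surjective π).isOpen_preimage.mp hop'
    refine ⟨hop, ?_⟩
    have hp'' : IsProper ((π ⁻¹ᵁ (⟨W, hop⟩ : F.Opens)).ι ≫ φ') := hp'
    haveI : UniversallyClosed (Scheme.Opens.ι (⟨W, hop⟩ : F.Opens) ≫ φ) :=
      MorphismProperty.DescendsAlong.of_isPullback (P := @UniversallyClosed)
        (Q := (@Surjective ⊓ @Flat ⊓ @QuasiCompact : MorphismProperty Scheme.{u}))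
        (big ⟨W, hop⟩).flip hc
        (inferInstance : UniversallyClosed ((π ⁻¹ᵁ (⟨W, hop⟩ : F.Opens)).ι ≫ φ'))
    exact IsProper.mk
  · rintro ⟨hop, hp⟩
    refine ⟨hop.preimage π.continuous, ?_⟩
    have : IsProper ((π ⁻¹ᵁ (⟨W, hop⟩ : F.Opens)).ι ≫ φ') :=
      MorphismProperty.of_isPullback (P := @IsProper) (big ⟨W, hop⟩) hp
    exact this

/-- transfer of `PropFib` along an arbitrary base change. -/
theorem propFib_iff_of_isPullback {X Y X' Y' : Scheme.{u}} {f : X ⟶ Y} {f' : X' ⟶ Y'}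
    {g' : X' ⟶ X} {g₀ : Y' ⟶ Y} (sq : IsPullback g' f' f g₀) [IsSeparated f]
    [LocallyOfFiniteType f] (Z : Set X) (y' : Y') :
    PropFib f' ((g' : X' → X) ⁻¹' Z) y' ↔ PropFib f Z (g₀ y') := by
  obtain ⟨φ, sqf, hφι⟩ : ∃ φ : f'.fiber y' ⟶ f.fiber (g₀ y'),
      IsPullback φ (f'.fiberToSpecResidueField y') (f.fiberToSpecResidueField (g₀ y'))
        (Spec.map (g₀.residueFieldMap y')) ∧ φ ≫ f.fiberι (g₀ y') = f'.fiberι y' ≫ g' :=
    ⟨_, isPullback_fiberToSpecResidueField_of_isPullback sq y', pullback.lift_fst _ _ _⟩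
  haveI : IsSeparated (f.fiberToSpecResidueField (g₀ y')) :=
    (inferInstance : IsSeparated (pullback.snd f (Y.fromSpecResidueField (g₀ y'))))
  haveI : LocallyOfFiniteType (f.fiberToSpecResidueField (g₀ y')) :=
    (inferInstance : LocallyOfFiniteType (pullback.snd f (Y.fromSpecResidueField (g₀ y'))))
  rw [propFib_iff_propW, propFib_iff_propW,
    ← propW_iff_of_isPullback sqf (fpqc_residueFieldMap g₀ y')]
  apply propW_congr
  ext w
  show g' (f'.fiberι y' w) ∈ Z ↔ f.fiberι (g₀ y') (φ w) ∈ Z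
  rw [← Scheme.Hom.comp_apply, ← Scheme.Hom.comp_apply, hφι]

/-- the conclusion of EGA IV 15.7.8-type statements. -/
def Concl {X Y : Scheme.{u}} (f : X ⟶ Y) (Z : Set X) (U : Y.Opens) : Prop :=
  ∃ hC : IsClosed ((f ⁻¹ᵁ U).ι.base ⁻¹' Z),
    IsProper ((Scheme.IdealSheafData.vanishingIdeal
      (⟨(f ⁻¹ᵁ U).ι.base ⁻¹' Z, hC⟩ : TopologicalSpace.Closeds ↥(f ⁻¹ᵁ U))).subschemeι ≫
        (f ∣_ U))

theorem concl_congr {X Y : Scheme.{u}} (f : X ⟶ Y) {Z Z' : Set X} (h : Z = Z') (U : Y.Opens) :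
    Concl f Z U ↔ Concl f Z' U := by
  subst h
  rfl

/-- criterion for the conclusion: `Z ∩ f⁻¹(U)` is the image of a scheme universally closed
over `U`. -/
theorem concl_of_cover {X Y T : Scheme.{u}} (f : X ⟶ Y) [IsSeparated f] [LocallyOfFiniteType f]
    (Z : Set X) (U : Y.Opens) (j₀ : T ⟶ X) (t : T ⟶ U.toScheme) (hcomm : j₀ ≫ f = t ≫ U.ι)
    [UniversallyClosed t] (hr : Set.range j₀ = Z ∩ (f : X → Y) ⁻¹' U) : Concl f Z U := by
  have sq := isPullback_morphismRestrict f U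
  haveI : IsSeparated (f ∣_ U) :=
    MorphismProperty.of_isPullback (P := @IsSeparated) sq.flip inferInstance
  haveI : LocallyOfFiniteType (f ∣_ U) :=
    MorphismProperty.of_isPullback (P := @LocallyOfFiniteType) sq.flip inferInstance
  let j : T ⟶ (f ⁻¹ᵁ U).toScheme := sq.lift t j₀ hcomm.symm
  have hj1 : j ≫ (f ∣_ U) = t := sq.lift_fst _ _ _
  have hj2 : j ≫ (f ⁻¹ᵁ U).ι = j₀ := sq.lift_snd _ _ _
  haveI : UniversallyClosed (j ≫ (f ∣_ U)) := by rw [hj1]; infer_instance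
  haveI : UniversallyClosed j := UniversallyClosed.of_comp_of_isSeparated j (f ∣_ U)
  have hrange : Set.range j = (f ⁻¹ᵁ U).ι.base ⁻¹' Z := by
    ext w
    constructor
    · rintro ⟨τ, rfl⟩
      show (f ⁻¹ᵁ U).ι (j τ) ∈ Z
      rw [← Scheme.Hom.comp_apply, hj2]
      exact (hr.le ⟨τ, rfl⟩).1
    · intro hw
      have hw' : (f ⁻¹ᵁ U).ι w ∈ Z ∩ (f : X → Y) ⁻¹' U := ⟨hw, w.2⟩
      rw [← hr] at hw'
      obtain ⟨τ, hτ⟩ := hw'
      refine ⟨τ, (f ⁻¹ᵁ U).ι.isEmbedding.injective ?_⟩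
      rw [← Scheme.Hom.comp_apply, hj2]
      exact hτ
  have hC : IsClosed ((f ⁻¹ᵁ U).ι.base ⁻¹' Z) := by
    rw [← hrange]
    exact j.isClosedMap.isClosed_range
  refine ⟨hC, ?_⟩
  exact isProper_vanishing (f ∣_ U) ⟨_, hC⟩ j hrange.ge

end Groth.Agent.Lib.Helper13.PropAtE
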