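import Groth.Agent.Lib.Helper13.PropAtE

/-!
# EGA IV 15.7.x: base change of the "proper at y" conclusion (helper13)
-/

set_option autoImplicit false
set_option linter.style.haveILetI false
set_option maxHeartbeats 400000

open CategoryTheory AlgebraicGeometry Topology TopologicalSpace Limits

universe u

namespace Groth.Agent.Lib.Helper13.PropAtF

open Groth.Agent.Lib.Helper13.PropAtA Groth.Agent.Lib.Helper13.PropAtC
  Groth.Agent.Lib.Helper13.PropAtE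

theorem range_vanishing {V : Scheme.{u}} (C : TopologicalSpace.Closeds V) :
    Set.range (Scheme.IdealSheafData.vanishingIdeal C).subschemeι = (C : Set V) := by
  rw [Scheme.IdealSheafData.range_subschemeι, Scheme.IdealSheafData.coe_support_vanishingIdeal]

theorem concl_exists {X Y : Scheme.{u}} {f : X ⟶ Y} (Z : Set X) (U : Y.Opens)
    (h : Concl f Z U) :
    ∃ (T₀ : Scheme.{u}) (i₀ : T₀ ⟶ (f ⁻¹ᵁ U).toScheme),
      Set.range i₀ = (f ⁻¹ᵁ U).ι.base ⁻¹' Z ∧ IsProper (i₀ ≫ (f ∣_ U)) := by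
  unfold Concl at h
  obtain ⟨hC, hp⟩ := h
  refine ⟨_, _, ?_, hp⟩
  exact range_vanishing (V := (f ⁻¹ᵁ U).toScheme) ⟨_, hC⟩

/-- the conclusion is stable under base change. -/
theorem concl_of_isPullback {X Y X' Y' : Scheme.{u}} {f : X ⟶ Y} {f' : X' ⟶ Y'}
    {g' : X' ⟶ X} {g₀ : Y' ⟶ Y} (sq : IsPullback g' f' f g₀) [IsSeparated f]
    [LocallyOfFiniteType f] (Z : Set X) (U : Y.Opens) (h : Concl f Z U) :
    Concl f' ((g' : X' → X) ⁻¹' Z) (g₀ ⁻¹ᵁ U) := by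
  haveI : IsSeparated f' := MorphismProperty.of_isPullback (P := @IsSeparated) sq inferInstance
  haveI : LocallyOfFiniteType f' :=
    MorphismProperty.of_isPullback (P := @LocallyOfFiniteType) sq inferInstance
  obtain ⟨T₀, i₀, hi₀r, hi₀p⟩ := concl_exists Z U h
  obtain ⟨a, ha⟩ : ∃ a : T₀ ⟶ U.toScheme, a = i₀ ≫ (f ∣_ U) := ⟨_, rfl⟩
  haveI : IsProper a := ha ▸ hi₀p
  obtain ⟨k, hk⟩ : ∃ k : T₀ ⟶ X, k = i₀ ≫ (f ⁻¹ᵁ U).ι := ⟨_, rfl⟩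
  have hkf : k ≫ f = a ≫ U.ι := by
    rw [hk, ha, Category.assoc, Category.assoc, morphismRestrict_ι]
  have hkr : Set.range k = Z ∩ (f : X → Y) ⁻¹' U := by
    rw [hk]
    ext x
    constructor
    · rintro ⟨τ, rfl⟩
      rw [Scheme.Hom.comp_apply]
      have h1 : i₀ τ ∈ (f ⁻¹ᵁ U).ι.base ⁻¹' Z := hi₀r.le ⟨τ, rfl⟩
      exact ⟨h1, (i₀ τ).2⟩
    · rintro ⟨hx1, hx2⟩
      have h1 : (⟨x, hx2⟩ : ↥(f ⁻¹ᵁ U)) ∈ (f ⁻¹ᵁ U).ι.base ⁻¹' Z := hx1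
      rw [← hi₀r] at h1
      obtain ⟨τ, hτ⟩ := h1
      refine ⟨τ, ?_⟩
      rw [Scheme.Hom.comp_apply, hτ]
      rfl
  -- the base change
  let T := pullback k g'
  let j₀ : T ⟶ X' := pullback.snd k g'
  have hj₀r : Set.range j₀ = (g' : X' → X) ⁻¹' Z ∩ (f' : X' → Y') ⁻¹' (g₀ ⁻¹ᵁ U) := by
    show Set.range (pullback.snd k g') = _
    rw [Scheme.Pullback.range_snd, hkr]
    ext x'
    have hfg : f (g' x') = g₀ (f' x') := by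
      rw [← Scheme.Hom.comp_apply, ← Scheme.Hom.comp_apply, sq.w]
    constructor
    · rintro ⟨h1, h2⟩
      refine ⟨h1, ?_⟩
      show g₀ (f' x') ∈ U
      rw [← hfg]
      exact h2
    · rintro ⟨h1, h2⟩
      refine ⟨h1, ?_⟩
      show f (g' x') ∈ U
      rw [hfg]
      exact h2
  have hrU : Set.range (j₀ ≫ f') ⊆ Set.range (g₀ ⁻¹ᵁ U).ι := by
    rintro _ ⟨τ, rfl⟩
    rw [Scheme.Opens.range_ι, Scheme.Hom.comp_apply]
    exact (hj₀r.le ⟨τ, rfl⟩).2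
  let t : T ⟶ (g₀ ⁻¹ᵁ U).toScheme := IsOpenImmersion.lift (g₀ ⁻¹ᵁ U).ι (j₀ ≫ f') hrU
  have ht : t ≫ (g₀ ⁻¹ᵁ U).ι = j₀ ≫ f' := IsOpenImmersion.lift_fac _ _ _
  -- `T = T₀ ×_Y Y'`
  have big : IsPullback (pullback.fst k g') (j₀ ≫ f') (k ≫ f) g₀ :=
    ((IsPullback.of_hasPullback k g').flip.paste_horiz sq.flip).flip
  have big' : IsPullback (t ≫ (g₀ ⁻¹ᵁ U).ι) (pullback.fst k g') g₀ (a ≫ U.ι) := by
    rw [ht, ← hkf]
    exact big.flip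
  have hp1 : t ≫ (g₀ ∣_ U) = pullback.fst k g' ≫ a := by
    rw [← cancel_mono U.ι, Category.assoc, Category.assoc, morphismRestrict_ι,
      ← Category.assoc, ht, ← hkf]
    exact big.w.symm
  have left : IsPullback t (pullback.fst k g') (g₀ ∣_ U) a :=
    IsPullback.of_right big' hp1 (isPullback_morphismRestrict g₀ U).flip
  haveI : UniversallyClosed t :=
    MorphismProperty.of_isPullback (P := @UniversallyClosed) left.flip inferInstance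
  exact concl_of_cover f' _ (g₀ ⁻¹ᵁ U) j₀ t ht.symm hj₀r

/-- the conclusion over an open `V` of the base gives the conclusion over the base. -/
theorem concl_of_restrict {X Y : Scheme.{u}} (f : X ⟶ Y) [IsSeparated f] [LocallyOfFiniteType f]
    (Z : Set X) (V : Y.Opens) (U' : V.toScheme.Opens)
    (h : Concl (f ∣_ V) ((f ⁻¹ᵁ V).ι.base ⁻¹' Z) U') : Concl f Z (V.ι ''ᵁ U') := by
  obtain ⟨T₀, i₀, hi₀r, hi₀p⟩ := concl_exists ((f ⁻¹ᵁ V).ι.base ⁻¹' Z) U' h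
  obtain ⟨a, ha⟩ : ∃ a : T₀ ⟶ U'.toScheme, a = i₀ ≫ ((f ∣_ V) ∣_ U') := ⟨_, rfl⟩
  haveI : IsProper a := ha ▸ hi₀p
  let j₀ : T₀ ⟶ X := i₀ ≫ ((f ∣_ V) ⁻¹ᵁ U').ι ≫ (f ⁻¹ᵁ V).ι
  let t : T₀ ⟶ (V.ι ''ᵁ U').toScheme := a ≫ (V.ι.isoImage U').hom
  have hcomm : j₀ ≫ f = t ≫ (V.ι ''ᵁ U').ι := by
    show (i₀ ≫ ((f ∣_ V) ⁻¹ᵁ U').ι ≫ (f ⁻¹ᵁ V).ι) ≫ f = (a ≫ (V.ι.isoImage U').hom) ≫ _
    rw [Category.assoc, Category.assoc, Category.assoc, Scheme.Hom.isoImage_hom_ι, ha,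
      Category.assoc, ← morphismRestrict_ι f V, ← Category.assoc ((f ∣_ V) ⁻¹ᵁ U').ι,
      ← morphismRestrict_ι (f ∣_ V) U', Category.assoc]
  haveI : UniversallyClosed t := by
    show UniversallyClosed (a ≫ (V.ι.isoImage U').hom)
    infer_instance
  have hr : Set.range j₀ = Z ∩ (f : X → Y) ⁻¹' (V.ι ''ᵁ U') := by
    ext x
    constructor
    · rintro ⟨τ, rfl⟩
      have h1 : i₀ τ ∈ ((f ∣_ V) ⁻¹ᵁ U').ι.base ⁻¹' ((f ⁻¹ᵁ V).ι.base ⁻¹' Z) := hi₀r.le ⟨τ, rfl⟩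
      refine ⟨h1, ?_⟩
      have h2 : f (j₀ τ) = (V.ι ''ᵁ U').ι (t τ) := by
        rw [← Scheme.Hom.comp_apply, ← Scheme.Hom.comp_apply, hcomm]
      show f (j₀ τ) ∈ V.ι ''ᵁ U'
      rw [h2]
      exact (t τ).2
    · rintro ⟨hx1, hx2⟩
      obtain ⟨v, hv, hvx⟩ := hx2
      have hxV : x ∈ f ⁻¹ᵁ V := by
        show f x ∈ V
        rw [← hvx]
        exact v.2
      have hxU' : (⟨x, hxV⟩ : ↥(f ⁻¹ᵁ V)) ∈ (f ∣_ V) ⁻¹ᵁ U' := by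
        show (f ∣_ V) ⟨x, hxV⟩ ∈ U'
        have : (f ∣_ V) ⟨x, hxV⟩ = v := by
          apply V.ι.isEmbedding.injective
          rw [← Scheme.Hom.comp_apply, morphismRestrict_ι, Scheme.Hom.comp_apply]
          exact hvx.symm
        rw [this]
        exact hv
      have h1 : (⟨⟨x, hxV⟩, hxU'⟩ : ↥((f ∣_ V) ⁻¹ᵁ U')) ∈
          ((f ∣_ V) ⁻¹ᵁ U').ι.base ⁻¹' ((f ⁻¹ᵁ V).ι.base ⁻¹' Z) := hx1
      rw [← hi₀r] at h1
      obtain ⟨τ, hτ⟩ := h1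
      refine ⟨τ, ?_⟩
      show (i₀ ≫ ((f ∣_ V) ⁻¹ᵁ U').ι ≫ (f ⁻¹ᵁ V).ι) τ = x
      rw [Scheme.Hom.comp_apply, Scheme.Hom.comp_apply, hτ]
      rfl
  exact concl_of_cover f Z (V.ι ''ᵁ U') j₀ t hcomm hr

end Groth.Agent.Lib.Helper13.PropAtF
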