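import Groth.Agent.S4977
import Groth.Agent.Lib.Helper13.PropAtF
import Groth.Agent.Lib.Helper12.SecCompCons

/-!
# EGA IV 15.6.x: section components are proper at `y` (Noetherian case, via S4977) (helper13)
-/

set_option autoImplicit false
set_option linter.style.haveILetI false
set_option maxHeartbeats 400000

open CategoryTheory AlgebraicGeometry Topology TopologicalSpace Limits

universe u

namespace Groth.Agent.Lib.Helper13.PropAtG

open Groth.Agent.Lib.Helper13.PropAtE Groth.Agent.Lib.Helper13.PropAtF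
  Groth.Agent.Lib.Helper12.SecCompCons

theorem sec_apply {X Y : Scheme.{u}} (f : X ⟶ Y) (g : Y ⟶ X) (hg : g ≫ f = 𝟙 Y) (y : Y) :
    f (g y) = y := by
  rw [← Scheme.Hom.comp_apply, hg]
  rfl

theorem mem_sc_iff {X Y : Scheme.{u}} (f : X ⟶ Y) (s : Y ⟶ X) (x : X) (y : Y)
    (hxy : f x = y) :
    x ∈ MoreMor.sectionComponents f s ↔ x ∈ connectedComponentIn (f ⁻¹' {y}) (s y) := by
  subst hxy
  rfl

theorem sec_mem {X Y : Scheme.{u}} (f : X ⟶ Y) (g : Y ⟶ X) (hg : g ≫ f = 𝟙 Y) (y : Y) :
    g y ∈ MoreMor.sectionComponents f g := by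
  rw [mem_sc_iff f g (g y) y (sec_apply f g hg y)]
  exact mem_connectedComponentIn (sec_apply f g hg y)

theorem isPreconnected_sc_of_subsingleton {X Y : Scheme.{u}} (f : X ⟶ Y) (s : Y ⟶ X)
    [Subsingleton Y] : _root_.IsPreconnected (MoreMor.sectionComponents f s) := by
  by_cases hne : Nonempty Y
  · obtain ⟨pt⟩ := hne
    have : MoreMor.sectionComponents f s = connectedComponentIn (f ⁻¹' {pt}) (s pt) := by
      ext x
      exact mem_sc_iff f s x pt (Subsingleton.elim _ _)
    rw [this]
    exact isPreconnected_connectedComponentIn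
  · have : MoreMor.sectionComponents f s = ∅ := by
      ext x
      exact (hne ⟨f x⟩).elim
    rw [this]
    exact isPreconnected_empty

/-- **Noetherian case** of EGA IV 15.6.x via S4977. -/
theorem noeth_case {X Y : Scheme.{u}} [IsLocallyNoetherian Y] (f : X ⟶ Y) [IsSeparated f]
    [LocallyOfFiniteType f] [QuasiCompact f] (g : Y ⟶ X) (hg : g ≫ f = 𝟙 Y) (y : Y)
    (h : PropFib f (MoreMor.sectionComponents f g) y) :
    ∃ U : Y.Opens, y ∈ U ∧ Concl f (MoreMor.sectionComponents f g) U := by
  haveI : LocallyOfFinitePresentation f :=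
    (LocallyOfFinitePresentation.iff_locallyOfFiniteType).mpr inferInstance
  have hZ := isLocallyConstructible_sectionComponents f g hg
  obtain ⟨hop, h2⟩ := h
  have hfg : ∀ y, f (g y) = y := sec_apply f g hg
  refine Groth.Agent.S4977.result y f _ hZ ?_ hop h2 ?_
  · intro y' _
    refine ⟨⟨g y', sec_mem f g hg y', hfg y', ?_⟩, ?_⟩
    · ext x
      constructor
      · rintro ⟨hx1, hx2⟩
        exact (mem_sc_iff f g x y' hx2).mp hx1
      · intro hx
        have hx2 : x ∈ f.base ⁻¹' {y'} := connectedComponentIn_subset _ _ hx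
        exact ⟨(mem_sc_iff f g x y' hx2).mpr hx, hx2⟩
    · intro K _ _
      have sq1 : IsPullback (FBase.bcπ (f.fiberToSpecResidueField y') K)
          (FBase.bcStr (f.fiberToSpecResidueField y') K) (f.fiberToSpecResidueField y') _ :=
        IsPullback.of_hasPullback _ _
      have sq2 : IsPullback (f.fiberι y') (f.fiberToSpecResidueField y') f
          (Y.fromSpecResidueField y') := IsPullback.of_hasPullback f _
      have big := sq1.paste_horiz sq2
      obtain ⟨s', hs'1, hs'2⟩ := exists_section f g hg big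
      have h1324 := Groth.Agent.S1324.result f g hg _ _ _ big s' hs'1 hs'2
      haveI : Subsingleton ↥(Spec (CommRingCat.of K)) :=
        inferInstanceAs (Subsingleton (PrimeSpectrum K))
      have hpc := isPreconnected_sc_of_subsingleton (FBase.bcStr (f.fiberToSpecResidueField y') K) s'
      rw [h1324] at hpc
      exact hpc
  · intro Y' h E hE hW
    obtain ⟨W, hWo, hWeq⟩ := hW
    let s' : Y' ⟶ pullback f h := pullback.lift (h ≫ g) (𝟙 Y')
      (by rw [Category.assoc, hg, Category.comp_id, Category.id_comp])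
    have hs1 : s' ≫ pullback.fst f h = h ≫ g := pullback.lift_fst _ _ _
    have hs2 : s' ≫ pullback.snd f h = 𝟙 Y' := pullback.lift_snd _ _ _
    refine ⟨s' ⁻¹' W, hWo.preimage s'.continuous, ?_⟩
    have hfst : ∀ y₁ : Y', (pullback.fst f h) (s' y₁) ∈ MoreMor.sectionComponents f g := by
      intro y₁
      rw [← Scheme.Hom.comp_apply, hs1, Scheme.Hom.comp_apply]
      exact sec_mem f g hg (h y₁)
    have hsnd : ∀ y₁ : Y', (pullback.snd f h) (s' y₁) = y₁ := by
      intro y₁
      rw [← Scheme.Hom.comp_apply, hs2]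
      rfl
    ext y₁
    constructor
    · rintro ⟨hy1, -⟩
      have h3 : s' y₁ ∈ W ∩ (pullback.fst f h).base ⁻¹' MoreMor.sectionComponents f g :=
        ⟨hy1, hfst y₁⟩
      rw [hWeq] at h3
      have h4 : (pullback.snd f h) (s' y₁) ∈ E := h3.1
      rwa [hsnd] at h4
    · intro hy1
      refine ⟨?_, hE hy1⟩
      have h3 : s' y₁ ∈ (pullback.snd f h).base ⁻¹' E ∩
          (pullback.fst f h).base ⁻¹' MoreMor.sectionComponents f g := by
        refine ⟨?_, hfst y₁⟩
        show (pullback.snd f h) (s' y₁) ∈ E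
        rw [hsnd]
        exact hy1
      rw [← hWeq] at h3
      exact h3.1

end Groth.Agent.Lib.Helper13.PropAtG
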