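import Mathlib
import Groth.Prelude
import Groth.Agent.Lib.Helper13.ProperNhd2
import Groth.Agent.S1335

/-!
# The locus of proper fibres (EGA IV 15.7.11-type statements) (helper13)

Noetherian case of: for `f` separated of finite type with geometrically connected fibres, admitting
a quasi-section over a proper or flat surjective cover, the set of points with proper fibre is open
and `f` is proper over it.
-/

set_option autoImplicit false
set_option linter.style.haveILetI false
universe u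
open CategoryTheory CategoryTheory.Limits AlgebraicGeometry TopologicalSpace Opposite

namespace Groth.Agent.Lib.Helper13.ProperLocus

open Groth.Agent.Lib.Helper13.ProperNhd Groth.Agent.Lib.Helper13.ProperNhd2
  Groth.Agent.Lib.Helper12.GeomConnLocus

/-- a morphism admitting a quasi-section over a proper or flat quasi-compact surjective cover is
universally submersive. -/
lemma univ_submersive_of_section {X Y Y' : Scheme.{u}} (f : X ⟶ Y) (σ : Y' ⟶ X)
    [Surjective (σ ≫ f)] [QuasiCompact (σ ≫ f)] (hg : IsProper (σ ≫ f) ∨ Flat (σ ≫ f)) :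
    MorphismProperty.universally (topologically fun g => Topology.IsQuotientMap g) f := by
  intro X' T i₁ i₂ f' sq
  have sqσ : IsPullback (pullback.snd σ i₁) (pullback.fst σ i₁) i₁ σ :=
    (IsPullback.of_hasPullback σ i₁).flip
  have big : IsPullback (pullback.snd σ i₁ ≫ f') (pullback.fst σ i₁) i₂ (σ ≫ f) :=
    sqσ.paste_horiz sq
  haveI : Surjective (pullback.snd σ i₁ ≫ f') :=
    MorphismProperty.of_isPullback (P := @Surjective) big.flip inferInstance
  haveI : QuasiCompact (pullback.snd σ i₁ ≫ f') :=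
    MorphismProperty.of_isPullback (P := @QuasiCompact) big.flip inferInstance
  have hq : Topology.IsQuotientMap (pullback.snd σ i₁ ≫ f') := by
    rcases hg with hp | hfl
    · haveI : IsProper (pullback.snd σ i₁ ≫ f') :=
        MorphismProperty.of_isPullback (P := @IsProper) big.flip hp
      exact (pullback.snd σ i₁ ≫ f').isClosedMap.isQuotientMap
        (pullback.snd σ i₁ ≫ f').continuous (pullback.snd σ i₁ ≫ f').surjective
    · haveI : Flat (pullback.snd σ i₁ ≫ f') :=
        MorphismProperty.of_isPullback (P := @Flat) big.flip hfl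
      exact Flat.isQuotientMap_of_surjective _
  show Topology.IsQuotientMap f'
  have h1 : ((pullback.snd σ i₁ ≫ f' : _ ⟶ _) : _ → _) = (f' : _ → _) ∘ (pullback.snd σ i₁ : _ → _) := by
    ext x
    rw [Scheme.Hom.comp_apply]; rfl
  rw [h1] at hq
  exact Topology.IsQuotientMap.of_comp (pullback.snd σ i₁).continuous f'.continuous hq

lemma nGeomConnComp_ne_zero {X S : Scheme.{u}} (f : X ⟶ S) (s : S) [Nonempty ↥(f.fiber s)] :
    MoreMor.nGeomConnComp f s ≠ 0 := by
  intro h0
  unfold MoreMor.nGeomConnComp at h0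
  rw [ENat.card_eq_zero_iff_empty] at h0
  obtain ⟨w⟩ := (inferInstance : Nonempty ↥(f.fiber s))
  obtain ⟨z, -, -⟩ := Scheme.Pullback.exists_preimage_pullback
    (f := f.fiberToSpecResidueField s)
    (g := Spec.map (CommRingCat.ofHom
      (algebraMap (S.residueField s) (SeparableClosure (S.residueField s)))))
    w (IsLocalRing.closedPoint _) (Subsingleton.elim (α := PrimeSpectrum _) _ _)
  have z' : ↥(MoreMor.geomFiber f s) := z
  exact h0.false (z' : _root_.ConnectedComponents ↥(MoreMor.geomFiber f s))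

lemma geomConn_fiber_of_le_one {X S : Scheme.{u}} (f : X ⟶ S) (s : S) [Nonempty ↥(f.fiber s)]
    (h : MoreMor.nGeomConnComp f s ≤ 1) : GeometricallyConnected (f.fiberToSpecResidueField s) := by
  apply (mem_GC_iff f s).mpr
  exact le_antisymm h (Order.one_le_iff_ne_zero.mpr (nGeomConnComp_ne_zero f s))

/-- properness of fibres is preserved by base change. -/
lemma isProper_fiber_of_isPullback {P X Y Z : Scheme.{u}} {fst : P ⟶ X} {snd : P ⟶ Y}
    {f : X ⟶ Z} {g : Y ⟶ Z} (sq : IsPullback fst snd f g) (y : Y)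
    (h : IsProper (f.fiberToSpecResidueField (g y))) : IsProper (snd.fiberToSpecResidueField y) :=
  MorphismProperty.of_isPullback (P := @IsProper)
    (isPullback_fiberToSpecResidueField_of_isPullback sq y) h

/-- properness of fibres descends along base change (fpqc descent for field extensions). -/
lemma isProper_fiber_of_isPullback' {P X Y Z : Scheme.{u}} {fst : P ⟶ X} {snd : P ⟶ Y}
    {f : X ⟶ Z} {g : Y ⟶ Z} [IsSeparated f] [LocallyOfFiniteType f] [QuasiCompact f]
    (sq : IsPullback fst snd f g) (y : Y)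
    (h : IsProper (snd.fiberToSpecResidueField y)) : IsProper (f.fiberToSpecResidueField (g y)) := by
  have sq' := (isPullback_fiberToSpecResidueField_of_isPullback sq y).flip
  have hQ : (@Surjective ⊓ @Flat ⊓ @QuasiCompact : MorphismProperty Scheme.{u})
      (Spec.map (g.residueFieldMap y)) := by
    refine ⟨⟨?_, ?_⟩, inferInstance⟩
    · exact ⟨fun x => ⟨IsLocalRing.closedPoint _, Subsingleton.elim (α := PrimeSpectrum _) _ _⟩⟩
    · rw [HasRingHomProperty.Spec_iff (P := @Flat)]
      letI := (g.residueFieldMap y).hom.toAlgebra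
      show Module.Flat (Z.residueField (g y)) (Y.residueField y)
      infer_instance
  haveI : UniversallyClosed (f.fiberToSpecResidueField (g y)) :=
    MorphismProperty.DescendsAlong.of_isPullback (P := @UniversallyClosed)
      (Q := (@Surjective ⊓ @Flat ⊓ @QuasiCompact : MorphismProperty Scheme.{u})) sq' hQ
      (inferInstance : UniversallyClosed (snd.fiberToSpecResidueField y))
  haveI : IsSeparated (f.fiberToSpecResidueField (g y)) :=
    (inferInstance : IsSeparated (pullback.snd f (Z.fromSpecResidueField (g y))))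
  haveI : LocallyOfFiniteType (f.fiberToSpecResidueField (g y)) :=
    (inferInstance : LocallyOfFiniteType (pullback.snd f (Z.fromSpecResidueField (g y))))
  exact IsProper.mk

/-- if `f` is proper over `W`, its fibres over the points of `W` are proper. -/
lemma isProper_fiber_of_restrict {X Y : Scheme.{u}} (f : X ⟶ Y) [IsSeparated f]
    [LocallyOfFiniteType f] [QuasiCompact f] (W : Y.Opens) (z : Y) (hz : z ∈ W)
    (h : IsProper (f ∣_ W)) : IsProper (f.fiberToSpecResidueField z) := by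
  have sq : IsPullback (f ⁻¹ᵁ W).ι (f ∣_ W) f W.ι := (isPullback_morphismRestrict f W).flip
  obtain ⟨z', hz'⟩ : ∃ z' : W.toScheme, W.ι z' = z := ⟨⟨z, hz⟩, rfl⟩
  subst hz'
  refine isProper_fiber_of_isPullback' sq z' ?_
  exact (inferInstance : IsProper (pullback.snd (f ∣_ W) (W.toScheme.fromSpecResidueField z')))

/-- properness over each member of a family of opens gives properness over the union. -/
lemma isProper_restrict_iSup {X Y : Scheme.{u}} (f : X ⟶ Y) {ι : Type*} (W : ι → Y.Opens)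
    (h : ∀ i, IsProper (f ∣_ W i)) : IsProper (f ∣_ (⨆ i, W i)) := by
  rw [IsZariskiLocalAtTarget.iff_of_iSup_eq_top (P := @IsProper)
    (U := fun i : ι ↦ (⨆ i, W i).ι ⁻¹ᵁ W i)]
  · intro i
    have himg : (⨆ i, W i).ι ''ᵁ ((⨆ i, W i).ι ⁻¹ᵁ W i) = W i := by
      rw [Scheme.Hom.image_preimage_eq_opensRange_inf, Scheme.Opens.opensRange_ι]
      exact inf_eq_right.mpr (le_iSup W i)
    have h1 : IsProper (f ∣_ ((⨆ i, W i).ι ''ᵁ ((⨆ i, W i).ι ⁻¹ᵁ W i))) := by
      rw [himg]; exact h i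
    exact (MorphismProperty.arrow_mk_iso_iff @IsProper (morphismRestrictRestrict f _ _)).mpr h1
  · apply (⨆ i, W i).ι.image_injective
    dsimp
    rw [Scheme.Hom.image_iSup, Scheme.Hom.image_top_eq_opensRange, Scheme.Opens.opensRange_ι]
    simp [Scheme.Hom.image_preimage_eq_opensRange_inf, le_iSup W]

/-- restriction over the preimage of an open is a base change of the restriction. -/
lemma isProper_restrict_of_isPullback {X S X₀ S₀ : Scheme.{u}} {f : X ⟶ S} {f₀ : X₀ ⟶ S₀}
    {p : S ⟶ S₀} {q : X ⟶ X₀} (sq : IsPullback q f f₀ p) (U₀ : S₀.Opens)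
    (h : IsProper (f₀ ∣_ U₀)) : IsProper (f ∣_ (p ⁻¹ᵁ U₀)) := by
  have big : IsPullback ((f ⁻¹ᵁ (p ⁻¹ᵁ U₀)).ι ≫ q) (f ∣_ (p ⁻¹ᵁ U₀)) f₀ ((p ⁻¹ᵁ U₀).ι ≫ p) :=
    (isPullback_morphismRestrict f (p ⁻¹ᵁ U₀)).flip.paste_horiz sq
  have hrange : Set.range ((f ⁻¹ᵁ (p ⁻¹ᵁ U₀)).ι ≫ q) ⊆ Set.range (f₀ ⁻¹ᵁ U₀).ι := by
    rw [Scheme.Opens.range_ι]
    rintro _ ⟨x, rfl⟩
    show f₀ (((f ⁻¹ᵁ (p ⁻¹ᵁ U₀)).ι ≫ q) x) ∈ U₀
    rw [← Scheme.Hom.comp_apply, Category.assoc, sq.w, ← Category.assoc, Scheme.Hom.comp_apply]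
    exact x.2
  obtain ⟨k, hk⟩ : ∃ k : (f ⁻¹ᵁ (p ⁻¹ᵁ U₀)).toScheme ⟶ (f₀ ⁻¹ᵁ U₀).toScheme,
      k ≫ (f₀ ⁻¹ᵁ U₀).ι = (f ⁻¹ᵁ (p ⁻¹ᵁ U₀)).ι ≫ q :=
    ⟨IsOpenImmersion.lift (f₀ ⁻¹ᵁ U₀).ι _ hrange, IsOpenImmersion.lift_fac _ _ _⟩
  have hbot : (p ⁻¹ᵁ U₀).ι ≫ p = (p ∣_ U₀) ≫ U₀.ι := (morphismRestrict_ι p U₀).symm
  rw [← hk, hbot] at big
  have comm : k ≫ (f₀ ∣_ U₀) = (f ∣_ (p ⁻¹ᵁ U₀)) ≫ (p ∣_ U₀) := by
    rw [← cancel_mono U₀.ι, Category.assoc, morphismRestrict_ι, ← Category.assoc, hk,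
      Category.assoc, sq.w, Category.assoc, ← hbot, ← Category.assoc, ← Category.assoc,
      morphismRestrict_ι]
  have sq2 : IsPullback k (f ∣_ (p ⁻¹ᵁ U₀)) (f₀ ∣_ U₀) (p ∣_ U₀) :=
    IsPullback.of_right big comm (isPullback_morphismRestrict f₀ U₀).flip
  exact MorphismProperty.of_isPullback (P := @IsProper) sq2 h

/-- **The locus of proper fibres, locally Noetherian case.** -/
theorem noeth_case {X Y Y' : Scheme.{u}} [IsLocallyNoetherian Y] (f : X ⟶ Y) [IsSeparated f]
    [LocallyOfFiniteType f] [QuasiCompact f] (σ : Y' ⟶ X) [Surjective (σ ≫ f)]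
    [QuasiCompact (σ ≫ f)] (hg : IsProper (σ ≫ f) ∨ Flat (σ ≫ f))
    (hconn : ∀ y : Y, MoreMor.nGeomConnComp f y ≤ 1) :
    ∃ U : Y.Opens, (U : Set Y) = {y : Y | IsProper (f.fiberToSpecResidueField y)} ∧
      IsProper (f ∣_ U) := by
  have hsub := univ_submersive_of_section f σ hg
  have hsurj : ∀ y : Y, ∃ x : X, f x = y := fun y => by
    obtain ⟨w, hw⟩ := (σ ≫ f).surjective y
    exact ⟨σ w, by rw [← Scheme.Hom.comp_apply]; exact hw⟩
  have hconn' : ∀ y : Y, GeometricallyConnected (f.fiberToSpecResidueField y) := fun y => by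
    haveI : Nonempty ↥(f.fiber y) := (nonempty_fiber_iff f y).mpr (hsurj y)
    exact geomConn_fiber_of_le_one f y (hconn y)
  have H : ∀ y : {y : Y // IsProper (f.fiberToSpecResidueField y)},
      ∃ U : Y.Opens, y.1 ∈ U ∧ IsProper (f ∣_ U) :=
    fun y => proper_nhd_submersive f hsub hconn' y.1 y.2
  choose W hW hWp using H
  refine ⟨⨆ y, W y, ?_, isProper_restrict_iSup f W hWp⟩
  ext z
  constructor
  · intro hz
    obtain ⟨y, hzy⟩ := TopologicalSpace.Opens.mem_iSup.mp hz
    exact isProper_fiber_of_restrict f (W y) z hzy (hWp y)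
  · intro hz
    exact TopologicalSpace.Opens.mem_iSup.mpr ⟨⟨z, hz⟩, hW ⟨z, hz⟩⟩

end Groth.Agent.Lib.Helper13.ProperLocus
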