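import Mathlib
import Groth.Prelude
import Groth.Agent.Lib.Helper13.ProperLocus
import Groth.Agent.Lib.Helper12.FlatProperApprox
import Groth.Agent.Lib.Helper12.StratTower
import Groth.Agent.Lib.Helper12.LimProCons
import Groth.Agent.Lib.Helper12.GeomConnLocus
import Groth.Agent.S9190
import Groth.Agent.S9218

/-!
# The locus of proper fibres: Noetherian approximation (helper13)

Reduction of EGA IV 15.7.11-type statements over an affine base to the Noetherian case, via the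
limit machinery of helper12.
-/

set_option autoImplicit false
set_option linter.style.haveILetI false
set_option backward.isDefEq.respectTransparency false
universe u
open CategoryTheory CategoryTheory.Limits AlgebraicGeometry TopologicalSpace Opposite

namespace Groth.Agent.Lib.Helper13.ProperLocusApprox

open Groth.Agent.Lib.Helper13.ProperLocus Groth.Agent.Lib.Helper13.ProperNhd2
  Groth.Agent.Lib.Helper12.GeomConnLocus Groth.Agent.Lib.Helper12.ConsPairGen
  Groth.Agent.Lib.Helper12.FpDesc Groth.Agent.Lib.Helper12.FlatProperApprox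
  Groth.Agent.Lib.Helper12.LimProCons Groth.Agent.Lib.Helper12.ConsPropGen
  Groth.Agent.Lib.Helper12.StratQBC Groth.Agent.Lib.Helper12.StratTower

theorem descendsLim_isSeparated : DescendsLim @IsSeparated := by
  intro I _ _ D c hc _ i₀ _ _ X₀ Y₀ f₀ g₀ _ _ _ _ _ _ X Y f g qY qX hY hX hf
  haveI : IsSeparated f := hf
  haveI : CompactSpace Y₀ := QuasiCompact.compactSpace_of_compactSpace g₀
  haveI : QuasiSeparatedSpace Y₀ := quasiSeparatedSpace_of_quasiSeparated g₀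
  haveI : CompactSpace X₀ := QuasiCompact.compactSpace_of_compactSpace (f₀ ≫ g₀)
  haveI : QuasiSeparatedSpace X₀ := quasiSeparatedSpace_of_quasiSeparated (f₀ ≫ g₀)
  exact Groth.Agent.S9190.result D c hc i₀ f₀ g₀ f g qY qX hY hX

/-- the last step: pull the Noetherian result back along the projection to a stage. -/
theorem final {S X S₀ X₀ Y₀ : Scheme.{u}} [IsNoetherian S₀] (f : X ⟶ S) [IsSeparated f]
    [LocallyOfFiniteType f] [QuasiCompact f] (x : X₀ ⟶ S₀) (s : Y₀ ⟶ X₀) (p : S ⟶ S₀)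
    (qX : X ⟶ X₀) (sqX : IsPullback qX f x p) [IsSeparated x] [LocallyOfFiniteType x]
    [QuasiCompact x] [GeometricallyConnected x] [Surjective (s ≫ x)] [QuasiCompact (s ≫ x)]
    (hg : IsProper (s ≫ x) ∨ Flat (s ≫ x)) :
    ∃ U : S.Opens, (U : Set S) = {y : S | IsProper (f.fiberToSpecResidueField y)} ∧
      IsProper (f ∣_ U) := by
  obtain ⟨U₀, hU₀, hU₀p⟩ := noeth_case x s hg (fun y => by
    have hy : y ∈ GC x :=
      (inferInstance : GeometricallyConnected (x.fiberToSpecResidueField y))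
    exact le_of_eq ((mem_GC_iff x y).mp hy))
  refine ⟨p ⁻¹ᵁ U₀, ?_, isProper_restrict_of_isPullback sqX U₀ hU₀p⟩
  ext z
  have h1 : z ∈ ((p ⁻¹ᵁ U₀ : S.Opens) : Set S) ↔ p z ∈ (U₀ : Set S₀) := Iff.rfl
  rw [h1, hU₀]
  constructor
  · intro hz
    exact isProper_fiber_of_isPullback sqX z hz
  · intro hz
    exact isProper_fiber_of_isPullback' sqX z hz

variable {J : Type u} [SmallCategory J] [IsCofiltered J] {𝔇 : J ⥤ Scheme.{u}} {c : Cone 𝔇}

/-- a model of `(f, σ)` at the stage `k`, with properties `Px` of the model of `f` and `Py` of the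
model of `σ ≫ f`. -/
def HasModel {X Y' : Scheme.{u}} (f : X ⟶ c.pt) (σ : Y' ⟶ X)
    (Px Py : MorphismProperty Scheme.{u}) (k : J) : Prop :=
  ∃ (Xk Yk : Scheme.{u}) (x : Xk ⟶ 𝔇.obj k) (y : Yk ⟶ 𝔇.obj k) (s : Yk ⟶ Xk) (qX : X ⟶ Xk)
    (qY : Y' ⟶ Yk),
    LocallyOfFinitePresentation x ∧ QuasiCompact x ∧ QuasiSeparated x ∧
    LocallyOfFinitePresentation y ∧ QuasiCompact y ∧ QuasiSeparated y ∧
    IsPullback qX f x (c.π.app k) ∧ IsPullback qY (σ ≫ f) y (c.π.app k) ∧ s ≫ x = y ∧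
    Px x ∧ Py y

lemma hasModel_restage {X Y' : Scheme.{u}} {f : X ⟶ c.pt} {σ : Y' ⟶ X}
    {Px' Py' : MorphismProperty Scheme.{u}} {k l : J} (φ : l ⟶ k) {Xk Yk : Scheme.{u}}
    {x : Xk ⟶ 𝔇.obj k} {y : Yk ⟶ 𝔇.obj k} {s : Yk ⟶ Xk} {qX : X ⟶ Xk} {qY : Y' ⟶ Yk}
    [LocallyOfFinitePresentation x] [QuasiCompact x] [QuasiSeparated x]
    [LocallyOfFinitePresentation y] [QuasiCompact y] [QuasiSeparated y]
    (sqX : IsPullback qX f x (c.π.app k)) (sqY : IsPullback qY (σ ≫ f) y (c.π.app k))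
    (hs : s ≫ x = y) (hx' : Px' (pullback.snd x (𝔇.map φ)))
    (hy' : Py' (pullback.snd y (𝔇.map φ))) : HasModel f σ Px' Py' l :=
  ⟨pullback x (𝔇.map φ), pullback y (𝔇.map φ), pullback.snd x (𝔇.map φ),
    pullback.snd y (𝔇.map φ),
    pullback.lift (pullback.fst y (𝔇.map φ) ≫ s) (pullback.snd y (𝔇.map φ))
      (by rw [Category.assoc, hs, pullback.condition]),
    _, _, inferInstance, inferInstance, inferInstance, inferInstance, inferInstance, inferInstance,
    isPullback_restage φ sqX (restage_w φ sqX), isPullback_restage φ sqY (restage_w φ sqY),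
    pullback.lift_snd _ _ _, hx', hy'⟩

lemma HasModel.improve_x (hc : IsLimit c) [∀ i, IsAffine (𝔇.obj i)] {X Y' : Scheme.{u}}
    {f : X ⟶ c.pt} {σ : Y' ⟶ X} {Px Py Q : MorphismProperty Scheme.{u}}
    [Px.IsStableUnderBaseChange] [Py.IsStableUnderBaseChange] [Q.RespectsIso]
    {k : J} (H : HasModel f σ Px Py k) (hQ : DescendsLim Q) (hf : Q f) :
    ∃ l, HasModel f σ (Px ⊓ Q) Py l := by
  obtain ⟨Xk, Yk, x, y, s, qX, qY, h1, h2, h3, h4, h5, h6, sqX, sqY, hs, hPx, hPy⟩ := H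
  haveI := h1; haveI := h2; haveI := h3; haveI := h4; haveI := h5; haveI := h6
  obtain ⟨l, φ, hQl⟩ := exists_stage_of_descendsLim hQ hc f hf x qX sqX
  exact ⟨l, hasModel_restage φ sqX sqY hs ⟨Px.pullback_snd _ _ hPx, hQl⟩
    (Py.pullback_snd _ _ hPy)⟩

lemma HasModel.improve_y (hc : IsLimit c) [∀ i, IsAffine (𝔇.obj i)] {X Y' : Scheme.{u}}
    {f : X ⟶ c.pt} {σ : Y' ⟶ X} {Px Py Q : MorphismProperty Scheme.{u}}
    [Px.IsStableUnderBaseChange] [Py.IsStableUnderBaseChange] [Q.RespectsIso]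
    {k : J} (H : HasModel f σ Px Py k) (hQ : DescendsLim Q) (hf : Q (σ ≫ f)) :
    ∃ l, HasModel f σ Px (Py ⊓ Q) l := by
  obtain ⟨Xk, Yk, x, y, s, qX, qY, h1, h2, h3, h4, h5, h6, sqX, sqY, hs, hPx, hPy⟩ := H
  haveI := h1; haveI := h2; haveI := h3; haveI := h4; haveI := h5; haveI := h6
  obtain ⟨l, φ, hQl⟩ := exists_stage_of_descendsLim hQ hc (σ ≫ f) hf y qY sqY
  exact ⟨l, hasModel_restage φ sqX sqY hs (Px.pullback_snd _ _ hPx)
    ⟨Py.pullback_snd _ _ hPy, hQl⟩⟩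

lemma HasModel.improve_gc (hc : IsLimit c) [∀ i, IsAffine (𝔇.obj i)]
    (hnoeth : ∀ j, IsNoetherian (𝔇.obj j)) {X Y' : Scheme.{u}}
    {f : X ⟶ c.pt} {σ : Y' ⟶ X} {Px Py : MorphismProperty Scheme.{u}}
    [Px.IsStableUnderBaseChange] [Py.IsStableUnderBaseChange]
    {k : J} (H : HasModel f σ Px Py k) (hgc : GeometricallyConnected f) :
    ∃ l, HasModel f σ (Px ⊓ @GeometricallyConnected) Py l := by
  obtain ⟨Xk, Yk, x, y, s, qX, qY, h1, h2, h3, h4, h5, h6, sqX, sqY, hs, hPx, hPy⟩ := H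
  haveI := h1; haveI := h2; haveI := h3; haveI := h4; haveI := h5; haveI := h6
  haveI := hnoeth k
  haveI : ∀ (i j : J) (a : i ⟶ j), IsAffineHom (𝔇.map a) := fun _ _ a => inferInstance
  have hE : Topology.IsConstructible (GC x) := isConstructible_GC_noetherian x
  have hK : ProCons.IsProConstructible (GC x)ᶜ := isProConstructible_of_isConstructible hE.compl
  have hempty : (⇑(c.π.app k) ⁻¹' (GC x)ᶜ : Set c.pt) = ∅ := by
    rw [Set.eq_empty_iff_forall_notMem]
    intro z hz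
    apply hz
    show (c.π.app k) z ∈ GC x
    have h1 : z ∈ GC f := by rw [(GC_eq_univ_iff f).mpr hgc]; trivial
    rw [GC_pullback sqX] at h1
    exact h1
  obtain ⟨l, φ, hl⟩ := exists_preimage_eq_empty_of_isProConstructible 𝔇 c hc k _ hK hempty
  have hgcl : GeometricallyConnected (pullback.snd x (𝔇.map φ)) := by
    rw [← GC_eq_univ_iff, Set.eq_univ_iff_forall]
    intro z
    rw [GC_pullback (IsPullback.of_hasPullback x (𝔇.map φ))]
    by_contra hz
    have hz' : z ∈ (⇑(𝔇.map φ) ⁻¹' (GC x)ᶜ : Set ↥(𝔇.obj l)) := hz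
    rw [hl] at hz'
    exact hz'
  exact ⟨l, hasModel_restage φ sqX sqY hs ⟨Px.pullback_snd _ _ hPx, hgcl⟩
    (Py.pullback_snd _ _ hPy)⟩

lemma hasModel_init (hc : IsLimit c) [∀ i, IsAffine (𝔇.obj i)] {X Y' : Scheme.{u}}
    (f : X ⟶ c.pt) (σ : Y' ⟶ X)
    [LocallyOfFinitePresentation f] [QuasiCompact f] [QuasiSeparated f]
    [LocallyOfFinitePresentation (σ ≫ f)] [QuasiCompact (σ ≫ f)] [QuasiSeparated (σ ≫ f)] :
    ∃ k, HasModel f σ ⊤ ⊤ k := by
  haveI : ∀ {i j : J} (a : i ⟶ j), IsAffineHom (𝔇.map a) := fun a => inferInstance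
  haveI : ∀ (i j : J) (a : i ⟶ j), IsAffineHom (𝔇.map a) := fun _ _ a => inferInstance
  obtain ⟨i₁, X₁, x₁, qX₁, hx1, hx2, hx3, sqX₁⟩ := descends_of_fp (D := 𝔇) (c := c) hc f
  obtain ⟨i₂, Y₂, y₂, qY₂, hy1, hy2, hy3, sqY₂⟩ := descends_of_fp (D := 𝔇) (c := c) hc (σ ≫ f)
  haveI := hx1; haveI := hx2; haveI := hx3; haveI := hy1; haveI := hy2; haveI := hy3
  obtain ⟨i₃, a, b⟩ : ∃ (i₃ : J) (_ : i₃ ⟶ i₁), Nonempty (i₃ ⟶ i₂) :=
    ⟨IsCofiltered.min i₁ i₂, IsCofiltered.minToLeft i₁ i₂, ⟨IsCofiltered.minToRight i₁ i₂⟩⟩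
  obtain ⟨b⟩ := b
  have sqX₃ := isPullback_restage a sqX₁ (restage_w a sqX₁)
  have sqY₃ := isPullback_restage b sqY₂ (restage_w b sqY₂)
  haveI : CompactSpace ↥(pullback y₂ (𝔇.map b)) :=
    QuasiCompact.compactSpace_of_compactSpace (pullback.snd y₂ (𝔇.map b))
  haveI : QuasiSeparatedSpace ↥(pullback y₂ (𝔇.map b)) :=
    quasiSeparatedSpace_of_quasiSeparated (pullback.snd y₂ (𝔇.map b))
  haveI : CompactSpace ↥(pullback x₁ (𝔇.map a)) :=
    QuasiCompact.compactSpace_of_compactSpace (pullback.snd x₁ (𝔇.map a))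
  haveI : QuasiSeparatedSpace ↥(pullback x₁ (𝔇.map a)) :=
    quasiSeparatedSpace_of_quasiSeparated (pullback.snd x₁ (𝔇.map a))
  obtain ⟨j, φ, fj, sX, sY, h1, h2, h3, h4, h5, h6⟩ := Groth.Agent.S9218.result 𝔇 c hc i₃
    (pullback.snd y₂ (𝔇.map b)) (pullback.snd x₁ (𝔇.map a)) _ (σ ≫ f) sqY₃ _ f sqX₃ σ rfl
  have hXj : IsPullback sY f (pullback.snd (pullback.snd x₁ (𝔇.map a)) (𝔇.map φ))
      (c.π.app j) := by
    refine IsPullback.of_right ?_ h5 (IsPullback.of_hasPullback _ (𝔇.map φ))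
    rw [h4, c.w]
    exact sqX₃
  have hYj : IsPullback sX (σ ≫ f) (pullback.snd (pullback.snd y₂ (𝔇.map b)) (𝔇.map φ))
      (c.π.app j) := by
    refine IsPullback.of_right ?_ h3 (IsPullback.of_hasPullback _ (𝔇.map φ))
    rw [h2, c.w]
    exact sqY₃
  exact ⟨j, _, _, _, _, fj, sY, sX, inferInstance, inferInstance, inferInstance, inferInstance,
    inferInstance, inferInstance, hXj, hYj, h1, trivial, trivial⟩

/-- **The locus of proper fibres over an affine open of an arbitrary scheme.** -/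
theorem approx_case {Y : Scheme.{u}} (V : Y.Opens) (hV : IsAffineOpen V) {X Y' : Scheme.{u}}
    (f : X ⟶ V.toScheme) [IsSeparated f] [LocallyOfFinitePresentation f] [QuasiCompact f]
    [QuasiSeparated f] (σ : Y' ⟶ X) [Surjective (σ ≫ f)] [LocallyOfFinitePresentation (σ ≫ f)]
    [QuasiCompact (σ ≫ f)] [QuasiSeparated (σ ≫ f)] (hg : IsProper (σ ≫ f) ∨ Flat (σ ≫ f))
    (hconn : ∀ y : V.toScheme, MoreMor.nGeomConnComp f y ≤ 1) :
    ∃ U : V.toScheme.Opens,
      (U : Set V.toScheme) = {y | IsProper (f.fiberToSpecResidueField y)} ∧ IsProper (f ∣_ U) := by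
  obtain ⟨J, _, _, 𝔇, π, hπ, haff, hnoeth⟩ := exists_noetherian_limit V hV
  haveI := haff
  haveI : ∀ {i j : J} (a : i ⟶ j), IsAffineHom (𝔇.map a) := fun a => inferInstance
  haveI : ∀ (i j : J) (a : i ⟶ j), IsAffineHom (𝔇.map a) := fun _ _ a => inferInstance
  have hgc : GeometricallyConnected f := by
    rw [GeometricallyConnected.iff_geometricallyConnected_fiber]
    intro y
    haveI : Nonempty ↥(f.fiber y) := by
      obtain ⟨w, hw⟩ := (σ ≫ f).surjective y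
      exact (nonempty_fiber_iff f y).mpr ⟨σ w, by rw [← Scheme.Hom.comp_apply]; exact hw⟩
    exact geomConn_fiber_of_le_one f y (hconn y)
  obtain ⟨k₀, M₀⟩ := hasModel_init (c := Cone.mk _ π) hπ f σ
  obtain ⟨k₁, M₁⟩ := M₀.improve_x hπ descendsLim_isSeparated (inferInstance : IsSeparated f)
  obtain ⟨k₂, M₂⟩ := M₁.improve_gc hπ hnoeth hgc
  obtain ⟨k₃, M₃⟩ := M₂.improve_y hπ descendsLim_surjective
    (inferInstance : Surjective (σ ≫ f))
  rcases hg with hp | hfl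
  · obtain ⟨k₄, M₄⟩ := M₃.improve_y hπ descendsLim_isProper hp
    obtain ⟨Xk, Yk, x, y, s, qX, qY, h1, h2, h3, h4, h5, h6, sqX, sqY, hs, hPx, hPy⟩ := M₄
    haveI := h1; haveI := h2; haveI := h3; haveI := h4; haveI := h5; haveI := h6
    haveI := hnoeth k₄
    haveI : IsSeparated x := hPx.1.2
    haveI : GeometricallyConnected x := hPx.2
    subst hs
    haveI : Surjective (s ≫ x) := hPy.1.2
    exact final f x s (π.app k₄) qX sqX (Or.inl hPy.2)
  · obtain ⟨k₄, M₄⟩ := M₃.improve_y hπ descendsLim_flat hfl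
    obtain ⟨Xk, Yk, x, y, s, qX, qY, h1, h2, h3, h4, h5, h6, sqX, sqY, hs, hPx, hPy⟩ := M₄
    haveI := h1; haveI := h2; haveI := h3; haveI := h4; haveI := h5; haveI := h6
    haveI := hnoeth k₄
    haveI : IsSeparated x := hPx.1.2
    haveI : GeometricallyConnected x := hPx.2
    subst hs
    haveI : Surjective (s ≫ x) := hPy.1.2
    exact final f x s (π.app k₄) qX sqX (Or.inr hPy.2)

end Groth.Agent.Lib.Helper13.ProperLocusApprox
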