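import Mathlib
import Groth.Prelude
import Groth.Agent.Lib.Helper13.ProperLocusApprox
import Groth.Agent.Lib.Helper12.SecCompCons

/-!
# Noetherian model of a separated finitely presented morphism with a section (helper13)
-/

set_option autoImplicit false
set_option linter.style.haveILetI false
set_option backward.isDefEq.respectTransparency false
universe u
open CategoryTheory CategoryTheory.Limits AlgebraicGeometry TopologicalSpace Opposite

namespace Groth.Agent.Lib.Helper13.PropAtH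

open Groth.Agent.Lib.Helper13.ProperLocusApprox
  Groth.Agent.Lib.Helper12.ConsPairGen
  Groth.Agent.Lib.Helper12.FpDesc Groth.Agent.Lib.Helper12.FlatProperApprox
  Groth.Agent.Lib.Helper12.ConsPropGen

theorem exists_noeth_model {Y : Scheme.{u}} (V : Y.Opens) (hV : IsAffineOpen V) {X : Scheme.{u}}
    (f : X ⟶ V.toScheme) [IsSeparated f] [LocallyOfFinitePresentation f] [QuasiCompact f]
    [QuasiSeparated f] (sV : V.toScheme ⟶ X) (hsV1 : sV ≫ f = 𝟙 _) :
    ∃ (Yj Xj : Scheme.{u}) (fj : Xj ⟶ Yj) (sj : Yj ⟶ Xj) (q : X ⟶ Xj) (p : V.toScheme ⟶ Yj),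
      IsNoetherian Yj ∧ sj ≫ fj = 𝟙 Yj ∧ IsPullback q f fj p ∧ sV ≫ q = p ≫ sj ∧
      LocallyOfFiniteType fj ∧ QuasiCompact fj ∧ IsSeparated fj := by
  classical
  obtain ⟨J, _, _, 𝔇, π, hπ, haff, hnoeth⟩ := exists_noetherian_limit V hV
  haveI := haff
  haveI : ∀ {i j : J} (a : i ⟶ j), IsAffineHom (𝔇.map a) := fun a => inferInstance
  haveI : ∀ (i j : J) (a : i ⟶ j), IsAffineHom (𝔇.map a) := fun _ _ a => inferInstance
  obtain ⟨i₀, X₀, x₀, qX₀, _, _, _, sq₀⟩ := descends_of_fp (D := 𝔇) (c := Cone.mk _ π) hπ f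
  obtain ⟨i₁, φ, hsep⟩ := exists_stage_of_descendsLim (D := 𝔇) (c := Cone.mk _ π)
    descendsLim_isSeparated hπ f (inferInstance : IsSeparated f) x₀ qX₀ sq₀
  have hw₀ := restage_w (D := 𝔇) (c := Cone.mk _ π) φ sq₀
  have sq₁ := isPullback_restage (D := 𝔇) (c := Cone.mk _ π) φ sq₀ hw₀
  obtain ⟨X₁, x₁, qX₁, hx1, hx2, hx3, hx4, sq⟩ : ∃ (X₁ : Scheme.{u}) (x₁ : X₁ ⟶ 𝔇.obj i₁)
      (qX₁ : X ⟶ X₁), LocallyOfFinitePresentation x₁ ∧ QuasiCompact x₁ ∧ QuasiSeparated x₁ ∧
        IsSeparated x₁ ∧ IsPullback qX₁ f x₁ ((Cone.mk _ π).π.app i₁) :=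
    ⟨_, _, _, inferInstance, inferInstance, inferInstance, hsep, sq₁⟩
  haveI := hx1; haveI := hx2; haveI := hx3; haveI := hx4
  -- descend the section
  let D' : Over i₁ ⥤ Scheme.{u} := Over.forget i₁ ⋙ 𝔇
  let t : D' ⟶ (Functor.const (Over i₁)).obj (𝔇.obj i₁) :=
    { app := fun o => 𝔇.map o.hom
      naturality := by
        intro o o' m
        show 𝔇.map m.left ≫ 𝔇.map o'.hom = 𝔇.map o.hom ≫ 𝟙 _
        rw [Category.comp_id, ← 𝔇.map_comp, Over.w] }
  let c' : Cone D' := (Cone.mk _ π).whisker (Over.forget i₁)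
  have hc' : IsLimit c' := (Functor.Initial.isLimitWhiskerEquiv (Over.forget i₁) _).symm hπ
  let a : (V : Scheme.{u}) ⟶ X₁ := sV ≫ qX₁
  have hax : a ≫ x₁ = π.app i₁ := by
    show (sV ≫ qX₁) ≫ x₁ = _
    rw [Category.assoc, sq.w, ← Category.assoc, hsV1, Category.id_comp]
  have ha : c'.π ≫ t = (Functor.const _).map (a ≫ x₁) := by
    ext o
    show π.app o.left ≫ 𝔇.map o.hom = a ≫ x₁
    rw [hax]
    have := π.naturality o.hom
    simp only [Functor.const_obj_obj, Functor.const_obj_map, Category.id_comp] at this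
    exact this.symm
  haveI : ∀ {i j : Over i₁} (m : i ⟶ j), IsAffineHom (D'.map m) := fun m =>
    inferInstanceAs (IsAffineHom (𝔇.map m.left))
  haveI : ∀ i : Over i₁, CompactSpace (D'.obj i) := fun i =>
    inferInstanceAs (CompactSpace (𝔇.obj i.left))
  haveI : ∀ i : Over i₁, QuasiSeparatedSpace (D'.obj i) := fun i =>
    inferInstanceAs (QuasiSeparatedSpace (𝔇.obj i.left))
  obtain ⟨o, g₀, hg1, hg2⟩ :=
    Scheme.exists_π_app_comp_eq_of_locallyOfFinitePresentation D' t x₁ c' hc' a ha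
  obtain ⟨g, hgg⟩ : ∃ g : 𝔇.obj o.left ⟶ X₁, g = g₀ := ⟨g₀, rfl⟩
  have hg1' : π.app o.left ≫ g = a := by rw [hgg]; exact hg1
  have hg2' : g ≫ x₁ = 𝔇.map o.hom := by rw [hgg]; exact hg2
  -- the stage
  let fj := pullback.snd x₁ (𝔇.map o.hom)
  let sj : 𝔇.obj o.left ⟶ pullback x₁ (𝔇.map o.hom) :=
    pullback.lift g (𝟙 _) (by rw [Category.id_comp]; exact hg2')
  have hsj : sj ≫ fj = 𝟙 _ := pullback.lift_snd _ _ _
  have hw : qX₁ ≫ x₁ = (f ≫ (Cone.mk _ π).π.app o.left) ≫ 𝔇.map o.hom := by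
    rw [sq.w, Category.assoc]
    congr 1
    have := π.naturality o.hom
    simp only [Functor.const_obj_obj, Functor.const_obj_map, Category.id_comp] at this
    exact this
  have sq' := isPullback_restage (D := 𝔇) (c := Cone.mk _ π) o.hom sq hw
  set q := pullback.lift qX₁ (f ≫ (Cone.mk _ π).π.app o.left) hw with hq
  have hsq' : sV ≫ q = π.app o.left ≫ sj := by
    apply pullback.hom_ext
    · rw [Category.assoc, pullback.lift_fst, Category.assoc, pullback.lift_fst, hg1']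
    · rw [Category.assoc, pullback.lift_snd, Category.assoc, pullback.lift_snd, Category.comp_id,
        ← Category.assoc, hsV1, Category.id_comp]
  haveI := hnoeth o.left
  refine ⟨𝔇.obj o.left, pullback x₁ (𝔇.map o.hom), fj, sj, q, π.app o.left, hnoeth o.left, hsj,
    sq', hsq', ?_, ?_, ?_⟩
  · exact (inferInstance : LocallyOfFiniteType (pullback.snd x₁ (𝔇.map o.hom)))
  · exact (inferInstance : QuasiCompact (pullback.snd x₁ (𝔇.map o.hom)))
  · exact (inferInstance : IsSeparated (pullback.snd x₁ (𝔇.map o.hom)))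

end Groth.Agent.Lib.Helper13.PropAtH
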