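import Groth.Agent.Lib.Helper13.PropAtG

/-!
# EGA IV 15.6.x: dimension of section components under generization (helper13)
-/

set_option autoImplicit false
set_option linter.style.haveILetI false
set_option maxHeartbeats 400000

open CategoryTheory AlgebraicGeometry Topology TopologicalSpace Limits

universe u

namespace Groth.Agent.Lib.Helper13.PropAtI

open Groth.Agent.Lib.Helper13.PropAtE Groth.Agent.Lib.Helper13.PropAtF
  Groth.Agent.Lib.Helper13.PropAtG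

theorem dim_eq_of_embedding {T X : Type*} [TopologicalSpace T] [TopologicalSpace X] (k : T → X)
    (hk : IsEmbedding k) (S : Set X) (hS : S ⊆ Set.range k) :
    topologicalKrullDim ↥(k ⁻¹' S) = topologicalKrullDim ↥S := by
  have he : IsEmbedding (S.restrictPreimage k) := hk.restrictPreimage S
  have hs : Function.Surjective (S.restrictPreimage k) := by
    rintro ⟨x, hx⟩
    obtain ⟨t, rfl⟩ := hS hx
    exact ⟨⟨t, hx⟩, rfl⟩
  exact IsHomeomorph.topologicalKrullDim_eq _ (isHomeomorph_iff_isEmbedding_surjective.mpr ⟨he, hs⟩)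

theorem concl_exists' {X Y : Scheme.{u}} {f : X ⟶ Y} (Z : Set X) (U : Y.Opens)
    (h : Concl f Z U) :
    ∃ (T₀ : Scheme.{u}) (i₀ : T₀ ⟶ (f ⁻¹ᵁ U).toScheme), IsClosedImmersion i₀ ∧
      Set.range i₀ = (f ⁻¹ᵁ U).ι.base ⁻¹' Z ∧ IsProper (i₀ ≫ (f ∣_ U)) := by
  unfold Concl at h
  obtain ⟨hC, hp⟩ := h
  refine ⟨_, _, ?_, ?_, hp⟩
  · infer_instance
  · exact range_vanishing (V := (f ⁻¹ᵁ U).toScheme) ⟨_, hC⟩

/-- under the conclusion of EGA IV 15.6.x, the dimension of the section components can only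
drop under generization. -/
theorem dim_le_of_concl {X Y : Scheme.{u}} (f : X ⟶ Y) (g : Y ⟶ X) (hg : g ≫ f = 𝟙 Y)
    (U : Y.Opens) (h : Concl f (MoreMor.sectionComponents f g) U)
    (dimfib : ∀ {T : Scheme.{u}} (a : T ⟶ U.toScheme) [IsProper a] (c : WithBot ℕ∞),
      IsOpen {s : U.toScheme | topologicalKrullDim (a.fiber s) ≤ c})
    (y y' : Y) (hyU : y ∈ U) (hy' : y' ⤳ y) :
    topologicalKrullDim ↥(connectedComponentIn (f.base ⁻¹' {y'}) (g.base y')) ≤
      topologicalKrullDim ↥(connectedComponentIn (f.base ⁻¹' {y}) (g.base y)) := by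
  obtain ⟨T₀, i₀, hcl, hi₀r, hi₀p⟩ := concl_exists' _ U h
  obtain ⟨a, ha⟩ : ∃ a : T₀ ⟶ U.toScheme, a = i₀ ≫ (f ∣_ U) := ⟨_, rfl⟩
  haveI : IsProper a := ha ▸ hi₀p
  obtain ⟨k, hk⟩ : ∃ k : T₀ ⟶ X, k = i₀ ≫ (f ⁻¹ᵁ U).ι := ⟨_, rfl⟩
  have hkemb : IsEmbedding k := by
    rw [hk]
    exact (i₀ ≫ (f ⁻¹ᵁ U).ι).isEmbedding
  have hkf : k ≫ f = a ≫ U.ι := by
    rw [hk, ha, Category.assoc, Category.assoc, morphismRestrict_ι]
  have hkr : Set.range k = MoreMor.sectionComponents f g ∩ (f : X → Y) ⁻¹' U := by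
    rw [hk]
    ext x
    constructor
    · rintro ⟨τ, rfl⟩
      rw [Scheme.Hom.comp_apply]
      have h1 : i₀ τ ∈ (f ⁻¹ᵁ U).ι.base ⁻¹' MoreMor.sectionComponents f g := hi₀r.le ⟨τ, rfl⟩
      exact ⟨h1, (i₀ τ).2⟩
    · rintro ⟨hx1, hx2⟩
      have h1 : (⟨x, hx2⟩ : ↥(f ⁻¹ᵁ U)) ∈ (f ⁻¹ᵁ U).ι.base ⁻¹' MoreMor.sectionComponents f g :=
        hx1
      rw [← hi₀r] at h1
      obtain ⟨τ, hτ⟩ := h1
      refine ⟨τ, ?_⟩
      rw [Scheme.Hom.comp_apply, hτ]
      rfl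
  -- fibres of `a`
  have key : ∀ s : U.toScheme, topologicalKrullDim ↥(a.fiber s) =
      topologicalKrullDim ↥(connectedComponentIn (f.base ⁻¹' {s.1}) (g.base s.1)) := by
    intro s
    have h1 : topologicalKrullDim ↥(a.fiber s) = topologicalKrullDim ↥((a : T₀ → U) ⁻¹' {s}) :=
      IsHomeomorph.topologicalKrullDim_eq _ (a.fiberHomeo s).isHomeomorph
    have hfk : ∀ τ : T₀, f (k τ) = (a τ).1 := by
      intro τ
      rw [← Scheme.Hom.comp_apply, hkf, Scheme.Hom.comp_apply]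
      rfl
    have h2 : (a : T₀ → U) ⁻¹' {s} =
        (k : T₀ → X) ⁻¹' (connectedComponentIn (f.base ⁻¹' {s.1}) (g.base s.1)) := by
      ext τ
      constructor
      · intro hτ
        have hτ' : a τ = s := hτ
        have h3 : k τ ∈ MoreMor.sectionComponents f g := (hkr.le ⟨τ, rfl⟩).1
        have h4 : f (k τ) = s.1 := by rw [hfk, hτ']
        exact (mem_sc_iff f g (k τ) s.1 h4).mp h3
      · intro hτ
        have h3 : k τ ∈ f.base ⁻¹' {s.1} := connectedComponentIn_subset _ _ hτ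
        have h4 : f (k τ) = s.1 := h3
        show a τ = s
        apply Subtype.ext
        rw [← hfk, h4]
    have h3 : connectedComponentIn (f.base ⁻¹' {s.1}) (g.base s.1) ⊆ Set.range k := by
      intro x hx
      have hx0 : x ∈ f.base ⁻¹' {s.1} := connectedComponentIn_subset _ _ hx
      have hx1 : f x = s.1 := hx0
      rw [hkr]
      refine ⟨(mem_sc_iff f g x s.1 hx1).mpr hx, ?_⟩
      show f x ∈ U
      rw [hx1]
      exact s.2
    rw [h1, h2]
    exact dim_eq_of_embedding k hkemb _ h3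
  have hy'U : y' ∈ U := hy'.mem_open U.2 hyU
  have hsp : (⟨y', hy'U⟩ : U.toScheme) ⤳ ⟨y, hyU⟩ :=
    (U.ι.isEmbedding.isInducing.specializes_iff).mp hy'
  have hO := dimfib a (topologicalKrullDim ↥(a.fiber ⟨y, hyU⟩))
  have hmem : (⟨y', hy'U⟩ : U.toScheme) ∈
      {s : U.toScheme | topologicalKrullDim (a.fiber s) ≤ topologicalKrullDim ↥(a.fiber ⟨y, hyU⟩)} :=
    hsp.mem_open hO (show topologicalKrullDim ↥(a.fiber ⟨y, hyU⟩) ≤
      topologicalKrullDim ↥(a.fiber ⟨y, hyU⟩) from le_refl _)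
  have hle : topologicalKrullDim ↥(a.fiber ⟨y', hy'U⟩) ≤
      topologicalKrullDim ↥(a.fiber ⟨y, hyU⟩) := hmem
  rw [key ⟨y', hy'U⟩, key ⟨y, hyU⟩] at hle
  exact hle

end Groth.Agent.Lib.Helper13.PropAtI
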