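import Mathlib
import Groth.Prelude
import Groth.Agent.Lib.Helper13.ProperLocusApprox

/-!
# The locus of proper fibres over an arbitrary base (EGA IV 15.7.11) (helper13)
-/

set_option autoImplicit false
set_option linter.style.haveILetI false
universe u
open CategoryTheory CategoryTheory.Limits AlgebraicGeometry TopologicalSpace Opposite

namespace Groth.Agent.Lib.Helper13.ProperLocusMain

open Groth.Agent.Lib.Helper13.ProperLocus Groth.Agent.Lib.Helper13.ProperNhd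
  Groth.Agent.Lib.Helper13.ProperLocusApprox

theorem main3461 {X Y Y' : Scheme.{u}} (f : X ⟶ Y)
    [IsSeparated f] [LocallyOfFinitePresentation f] [QuasiCompact f] [QuasiSeparated f]
    (g : Y' ⟶ Y) [Surjective g] [LocallyOfFinitePresentation g] [QuasiCompact g] [QuasiSeparated g]
    (hg : IsProper g ∨ Flat g) (σ : Y' ⟶ X) (hσ : σ ≫ f = g)
    (hconn : ∀ y : Y, MoreMor.nGeomConnComp f y ≤ 1) :
    ∃ U : Y.Opens, (U : Set Y) = {y : Y | IsProper (f.fiberToSpecResidueField y)} ∧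
      IsProper (f ∣_ U) := by
  subst hσ
  have sq : ∀ V : Y.Opens, IsPullback (f ⁻¹ᵁ V).ι (f ∣_ V) f V.ι := fun V =>
    (isPullback_morphismRestrict f V).flip
  have H : ∀ V : Y.affineOpens, ∃ U' : V.1.toScheme.Opens,
      (U' : Set V.1.toScheme) = {y | IsProper ((f ∣_ V.1).fiberToSpecResidueField y)} ∧
        IsProper ((f ∣_ V.1) ∣_ U') := by
    intro V
    haveI : IsSeparated (f ∣_ V.1) :=
      MorphismProperty.of_isPullback (P := @IsSeparated) (sq V.1) inferInstance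
    haveI : LocallyOfFinitePresentation (f ∣_ V.1) :=
      MorphismProperty.of_isPullback (P := @LocallyOfFinitePresentation) (sq V.1) inferInstance
    haveI : QuasiCompact (f ∣_ V.1) :=
      MorphismProperty.of_isPullback (P := @QuasiCompact) (sq V.1) inferInstance
    haveI : QuasiSeparated (f ∣_ V.1) :=
      MorphismProperty.of_isPullback (P := @QuasiSeparated) (sq V.1) inferInstance
    have sqg : IsPullback ((σ ≫ f) ⁻¹ᵁ V.1).ι ((σ ≫ f) ∣_ V.1) (σ ≫ f) V.1.ι :=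
      (isPullback_morphismRestrict (σ ≫ f) V.1).flip
    have hcomp : (σ ∣_ (f ⁻¹ᵁ V.1)) ≫ (f ∣_ V.1) = (σ ≫ f) ∣_ V.1 :=
      (morphismRestrict_comp σ f V.1).symm
    haveI : Surjective ((σ ∣_ (f ⁻¹ᵁ V.1)) ≫ (f ∣_ V.1)) := by
      rw [hcomp]
      exact MorphismProperty.of_isPullback (P := @Surjective) sqg inferInstance
    haveI : LocallyOfFinitePresentation ((σ ∣_ (f ⁻¹ᵁ V.1)) ≫ (f ∣_ V.1)) := by
      rw [hcomp]
      exact MorphismProperty.of_isPullback (P := @LocallyOfFinitePresentation) sqg inferInstance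
    haveI : QuasiCompact ((σ ∣_ (f ⁻¹ᵁ V.1)) ≫ (f ∣_ V.1)) := by
      rw [hcomp]
      exact MorphismProperty.of_isPullback (P := @QuasiCompact) sqg inferInstance
    haveI : QuasiSeparated ((σ ∣_ (f ⁻¹ᵁ V.1)) ≫ (f ∣_ V.1)) := by
      rw [hcomp]
      exact MorphismProperty.of_isPullback (P := @QuasiSeparated) sqg inferInstance
    have hg' : IsProper ((σ ∣_ (f ⁻¹ᵁ V.1)) ≫ (f ∣_ V.1)) ∨
        Flat ((σ ∣_ (f ⁻¹ᵁ V.1)) ≫ (f ∣_ V.1)) := by
      rw [hcomp]
      rcases hg with hp | hfl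
      · exact Or.inl (MorphismProperty.of_isPullback (P := @IsProper) sqg hp)
      · exact Or.inr (MorphismProperty.of_isPullback (P := @Flat) sqg hfl)
    have hconn' : ∀ v : V.1.toScheme, MoreMor.nGeomConnComp (f ∣_ V.1) v ≤ 1 := by
      intro v
      rw [Groth.Agent.S1335.result f (f ∣_ V.1) (f ⁻¹ᵁ V.1).ι V.1.ι (sq V.1) v]
      exact hconn _
    exact approx_case V.1 V.2 (f ∣_ V.1) (σ ∣_ (f ⁻¹ᵁ V.1)) hg' hconn'
  choose U' hU' hU'p using H
  refine ⟨⨆ V : Y.affineOpens, V.1.ι ''ᵁ U' V, ?_,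
    isProper_restrict_iSup f _ (fun V => of_affine_nhd f V.1 (U' V) (hU'p V))⟩
  haveI : LocallyOfFiniteType f := inferInstance
  ext z
  constructor
  · intro hz
    obtain ⟨V, hzV⟩ := TopologicalSpace.Opens.mem_iSup.mp hz
    obtain ⟨v, hv, rfl⟩ := hzV
    have hv' : v ∈ (U' V : Set V.1.toScheme) := hv
    rw [hU' V] at hv'
    exact isProper_fiber_of_isPullback' (sq V.1) v hv'
  · intro hz
    obtain ⟨V', hV, hzV, -⟩ := exists_isAffineOpen_mem_and_subset (x := z) (U := ⊤) trivial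
    obtain ⟨V, hVV'⟩ : ∃ V : Y.affineOpens, V.1 = V' := ⟨⟨V', hV⟩, rfl⟩
    subst hVV'
    refine TopologicalSpace.Opens.mem_iSup.mpr ⟨V, ⟨⟨z, hzV⟩, ?_, rfl⟩⟩
    show (⟨z, hzV⟩ : V.1.toScheme) ∈ (U' V : Set V.1.toScheme)
    rw [hU' V]
    exact isProper_fiber_of_isPullback (sq V.1) ⟨z, hzV⟩ hz

end Groth.Agent.Lib.Helper13.ProperLocusMain
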