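import Groth.Agent.Lib.Helper13.TildeFlasque
import Groth.Agent.Lib.Helper13.FunctorLES
import Groth.Agent.Lib.Helper13.SectOnLES
import Groth.Agent.Lib.Helper13.DerivedCommuteNat
import Groth.Agent.Lib.Helper13.SerreCrit1
import Groth.Agent.Lib.Helper2.GSS.DerivedDFun
import Groth.Agent.Lib.Helper4.LCDerived
import Groth.Agent.Lib.Helper1.FlasqueAcyclic
import Groth.Agent.Lib.Helper14.TildeExact
import Groth.Agent.Lib.Helper3.QCProps
import Groth.Agent.Lib.Helper2.Stk.LpullOpen

/-!
# Helper library (helper13): cohomology of `M~` on the punctured spectrum vs local cohomology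

For a Noetherian ring `R`, an ideal `I` and `U = Spec R ∖ V(I)`:
`H^p(U, M~|_U) ≃+ H^{p+1}_I(M)` for `p ≥ 1`.
-/

set_option autoImplicit false
set_option maxHeartbeats 1600000

namespace Groth.Agent.Lib.Helper13.PuncturedLC

open CategoryTheory CategoryTheory.Limits AlgebraicGeometry TopologicalSpace Opposite
open Groth.Agent.Lib.Helper6.TildePunctured Groth.Agent.Lib.Helper13.DeltaFun
open Groth.Agent.Lib.Helper13.SerreCrit1 Groth.Agent.Lib.Helper3.QCProps
open Groth.Agent.Lib.Helper2.Stk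

universe u
variable {R : CommRingCat.{u}} (I : Ideal R)

/-- `M ↦ (M~|_U)` as an abelian sheaf on `U`. -/
noncomputable def L : ModuleCat.{u} R ⥤
    Sheaf (Opens.grothendieckTopology (pOpen I).toScheme) AddCommGrpCat.{u} :=
  tilde.functor R ⋙ Scheme.Modules.restrictFunctor (pOpen I).ι ⋙ TT ↑(pOpen I)

instance : (L I).Additive :=
  inferInstanceAs ((tilde.functor R ⋙ Scheme.Modules.restrictFunctor (pOpen I).ι ⋙
    TT ↑(pOpen I)).Additive)

instance : PreservesFiniteLimits (L I) :=
  haveI := Groth.Agent.Lib.Helper14.preservesFiniteLimits_tilde R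
  inferInstanceAs (PreservesFiniteLimits (tilde.functor R ⋙
    Scheme.Modules.restrictFunctor (pOpen I).ι ⋙ TT ↑(pOpen I)))

instance : PreservesFiniteColimits (L I) :=
  haveI := Groth.Agent.Lib.Helper14.preservesFiniteColimits_tilde R
  inferInstanceAs (PreservesFiniteColimits (tilde.functor R ⋙
    Scheme.Modules.restrictFunctor (pOpen I).ι ⋙ TT ↑(pOpen I)))

/-- `M ↦ Γ(U, M~)` as an abelian group. -/
noncomputable def G : ModuleCat.{u} R ⥤ AddCommGrpCat.{u} :=
  L I ⋙ sheafToPresheaf _ _ ⋙ (evaluation _ _).obj (op ⊤)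

instance : (G I).Additive :=
  inferInstanceAs ((L I ⋙ sheafToPresheaf _ _ ⋙ (evaluation _ _).obj (op ⊤)).Additive)

instance : PreservesFiniteLimits (G I) :=
  inferInstanceAs (PreservesFiniteLimits (L I ⋙ sheafToPresheaf _ _ ⋙
    (evaluation _ _).obj (op ⊤)))

/-- the open `U.ι ''ᵁ ⊤` (equal to `U`). -/
noncomputable abbrev W : (Spec R).Opens := (pOpen I).ι ''ᵁ ⊤

lemma W_eq : W I = pOpen I := Scheme.Opens.ι_image_top _

/-- `M → Γ(U, M~)`. -/
noncomputable def βapp (M : ModuleCat.{u} R) :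
    (forget₂ (ModuleCat.{u} R) AddCommGrpCat.{u}).obj M ⟶ (G I).obj M :=
  AddCommGrpCat.ofHom (tilde.toOpen M (W I)).hom.toAddMonoidHom

/-- `M → Γ(U, M~)` as a natural transformation. -/
noncomputable def β : forget₂ (ModuleCat.{u} R) AddCommGrpCat.{u} ⟶ G I where
  app M := βapp I M
  naturality M N f := by
    ext x
    exact ConcreteCategory.congr_hom (tilde.toOpen_map_app f (W I)).symm x

/-- `Γ_I` as an abelian group valued functor. -/
noncomputable def F₁ : ModuleCat.{u} R ⥤ AddCommGrpCat.{u} :=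
  DRing.gammaI I ⋙ forget₂ (ModuleCat.{u} R) AddCommGrpCat.{u}

instance : (F₁ I).Additive :=
  inferInstanceAs ((DRing.gammaI I ⋙ forget₂ (ModuleCat.{u} R) AddCommGrpCat.{u}).Additive)

/-- `Γ_I M ⊆ M`. -/
noncomputable def α : F₁ I ⟶ forget₂ (ModuleCat.{u} R) AddCommGrpCat.{u} where
  app M := (forget₂ (ModuleCat.{u} R) AddCommGrpCat.{u}).map ((DRing.gammaIι I).app M)
  naturality M N f := by
    ext x
    rfl

lemma βapp_apply (M : ModuleCat.{u} R) (m : M) :
    (βapp I M).hom m = (tilde.toOpen M (W I)).hom m := rfl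

lemma toOpen_W_eq_zero_iff [IsNoetherianRing R] (M : ModuleCat.{u} R) (m : M) :
    (tilde.toOpen M (W I)).hom m = 0 ↔ ∃ n : ℕ, ∀ r ∈ I ^ n, r • m = 0 := by
  have h := toOpen_eq_zero_iff M I m
  rw [← W_eq I] at h
  exact h

lemma toOpen_W_surjective [IsNoetherianRing R] (E : ModuleCat.{u} R) [Module.Injective R E] :
    Function.Surjective (tilde.toOpen E (W I)).hom := by
  have h := TildeFlasque.toOpen_surjective E I
  rw [← W_eq I] at h
  exact h

lemma αβ [IsNoetherianRing R] : α I ≫ β I = 0 := by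
  ext M x
  have hx : ∃ n : ℕ, ∀ r ∈ I ^ n, r • (x : DRing.torsionSub I M).1 = 0 := x.2
  exact (toOpen_W_eq_zero_iff I M _).2 hx

lemma hex [IsNoetherianRing R] (E : ModuleCat.{u} R) (hE : Injective E) :
    (ShortComplex.mk ((α I).app E) ((β I).app E)
      (FunctorLES.app_zero (α I) (β I) (αβ I) E)).ShortExact := by
  haveI : Module.Injective R E := Module.injective_module_of_injective_object R E
  have hmono : Mono ((α I).app E) := by
    rw [AddCommGrpCat.mono_iff_injective]
    intro x y hxy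
    exact Subtype.ext hxy
  have hepi : Epi ((β I).app E) := by
    rw [AddCommGrpCat.epi_iff_surjective]
    exact toOpen_W_surjective I E
  refine ShortComplex.ShortExact.mk' ?_ hmono hepi
  rw [ShortComplex.ab_exact_iff]
  intro m hm
  have hm' : (tilde.toOpen E (W I)).hom m = 0 := hm
  rw [toOpen_W_eq_zero_iff] at hm'
  exact ⟨⟨m, hm'⟩, rfl⟩

/-- `R^{q+1} Γ(U, (-)~) ≅ R^{q+2} Γ_I` (abelian group valued). -/
noncomputable def δIso [IsNoetherianRing R] (q : ℕ) :
    (G I).rightDerived (q + 1) ≅ (F₁ I).rightDerived (q + 2) :=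
  FunctorLES.δIso (α I) (β I) (αβ I) (hex I) (q + 1)
    (fun X => SectOnLES.isZero_rightDerived_succ_of_exact _ q X)
    (fun X => SectOnLES.isZero_rightDerived_succ_of_exact _ (q + 1) X)

/-- `R^n Γ_I` (abelian group valued) is local cohomology. -/
noncomputable def F₁Iso (n : ℕ) :
    (F₁ I).rightDerived n ≅ localCohomology I n ⋙ forget₂ (ModuleCat.{u} R) AddCommGrpCat.{u} :=
  DerivedCommute.rightDerivedCompExactIso (DRing.gammaI I)
    (forget₂ (ModuleCat.{u} R) AddCommGrpCat.{u}) n ≪≫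
    Functor.isoWhiskerRight (Groth.Agent.Lib.Helper4.LCDerived.derivedIso I n) _

lemma isFlasque_L [IsNoetherianRing R] (E : ModuleCat.{u} R) [Module.Injective R E] :
    TopCat.Sheaf.IsFlasque ((L I).obj E) where
  epi {A B} i := by
    rw [AddCommGrpCat.epi_iff_surjective]
    intro s
    obtain ⟨t, ht⟩ := TildeFlasque.res_surjective E
      (Scheme.Hom.image_mono (pOpen I).ι (leOfHom i.unop)) s
    exact ⟨t, ht⟩

open Groth.Agent.Lib.Helper2.DerivedDFun

/-- the constant sheaf `ℤ` on `U`. -/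
noncomputable abbrev A : Sheaf (Opens.grothendieckTopology (pOpen I).toScheme) AddCommGrpCat.{u} :=
  (constantSheaf _ AddCommGrpCat.{u}).obj (AddCommGrpCat.of (ULift ℤ))

/-- the δ-functor `M ↦ H^n(U, M~|_U)`. -/
noncomputable abbrev T : DFun.{u} (ModuleCat.{u} R) := ofExt (L I) (A I)

lemma effaceable_T [IsNoetherianRing R] : Effaceable (T I) := by
  intro E hE n x
  haveI : Module.Injective R E := Module.injective_module_of_injective_object R E
  exact Groth.Agent.Lib.Helper1.FlasqueAcyclic.flasque_H_eq_zero n ((L I).obj E)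
    (isFlasque_L I E) x

/-- degree zero comparison. -/
noncomputable def e0 (M : ModuleCat.{u} R) : (T I).obj M 0 →+ (rdDFun (G I)).obj M 0 :=
  (((G I).rightDerivedZeroIsoSelf.inv.app M).hom).comp
    (Sheaf.H.equiv₀ ((L I).obj M) isTerminalTop).toAddMonoidHom

lemma e0_bijective (M : ModuleCat.{u} R) : Function.Bijective (e0 I M) := by
  have h1 : Function.Bijective ((G I).rightDerivedZeroIsoSelf.inv.app M).hom :=
    ConcreteCategory.bijective_of_isIso _
  exact h1.comp (Sheaf.H.equiv₀ ((L I).obj M) isTerminalTop).bijective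

lemma e0_natural {P Q : ModuleCat.{u} R} (φ : P ⟶ Q) (x : (T I).obj P 0) :
    e0 I Q ((T I).map φ 0 x) = (rdDFun (G I)).map φ 0 (e0 I P x) := by
  have h1 := Sheaf.H.equiv₀_naturality (hT := isTerminalTop) ((L I).map φ) x
  have h2 : ∀ y, ((G I).rightDerivedZeroIsoSelf.inv.app Q).hom (((G I).map φ).hom y) =
      (((G I).rightDerived 0).map φ).hom (((G I).rightDerivedZeroIsoSelf.inv.app P).hom y) :=
    fun y => ConcreteCategory.congr_hom ((G I).rightDerivedZeroIsoSelf.inv.naturality φ) y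
  change ((G I).rightDerivedZeroIsoSelf.inv.app Q).hom
    (Sheaf.H.equiv₀ ((L I).obj Q) isTerminalTop (Sheaf.H.map ((L I).map φ) 0 x)) = _
  rw [← h1]
  exact h2 _

theorem exists_compare [IsNoetherianRing R] :
    ∃ e : ∀ (P : ModuleCat.{u} R) (n : ℕ), (T I).obj P n →+ (rdDFun (G I)).obj P n,
      ∀ P n, Function.Bijective (e P n) := by
  obtain ⟨e, -, -, hb⟩ := bijective_of_zero (effaceable_T I) (effaceable_rdDFun (G I))
    (e0 I) (e0_natural I) (e0_bijective I)
  exact ⟨e, hb⟩

theorem main [IsNoetherianRing R] (M : ModuleCat.{u} R) (q : ℕ) :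
    Nonempty (Coh.HH (↑(pOpen I)) ((tilde M).restrict (pOpen I).ι) (q + 1) ≃+
      (localCohomology I (q + 2)).obj M) := by
  obtain ⟨e, hb⟩ := exists_compare I
  let e1 : Coh.HH (↑(pOpen I)) ((tilde M).restrict (pOpen I).ι) (q + 1) ≃+
      ((G I).rightDerived (q + 1)).obj M := AddEquiv.ofBijective (e M (q + 1)) (hb M (q + 1))
  let e2 : ((G I).rightDerived (q + 1)).obj M ≅
      (forget₂ (ModuleCat.{u} R) AddCommGrpCat.{u}).obj ((localCohomology I (q + 2)).obj M) :=
    (δIso I q).app M ≪≫ (F₁Iso I (q + 2)).app M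
  exact ⟨e1.trans e2.addCommGroupIsoToAddEquiv⟩

end Groth.Agent.Lib.Helper13.PuncturedLC
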