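import Mathlib
import Groth.Prelude.Def_CAlgX
import Groth.Prelude.Def_W4stkadequatePure

/-!
# Pure exactness basics (universally injective maps, character modules)

* `flipChar`: flip of a linear map into a character module.
* `univInj_charEval`: `M → M^∨∨` is universally injective.
* `pureInj_iff`: pure injective iff `I → I^∨∨` splits.
* `univInj_range`: image inclusion of a universally exact sequence is universally injective.
-/

set_option autoImplicit false
universe u

namespace Groth.Agent.Lib.Helper13.PureBasic

/-- the flip of a linear map into a character module -/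
def flipChar (R : Type u) [CommRing R] {M Q : Type u} [AddCommGroup M] [Module R M]
    [AddCommGroup Q] [Module R Q] (φ : M →ₗ[R] CharacterModule Q) : Q →ₗ[R] CharacterModule M where
  toFun q :=
    { toFun := fun m => φ m q
      map_zero' := by rw [map_zero]; rfl
      map_add' := fun m m' => by rw [map_add]; rfl }
  map_add' q q' := by
    ext m
    exact map_add (φ m) q q'
  map_smul' r q := by
    ext m
    change φ m (r • q) = φ (r • m) q
    rw [φ.map_smul r m, CharacterModule.smul_apply]

theorem univInj_charEval (R : Type u) [CommRing R] (M : Type u) [AddCommGroup M]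
    [Module R M] : CAlgX.UniversallyInjective R (PureExt.charEval R M) := by
  intro Q _ _
  rw [rTensor_injective_iff_lcomp_surjective]
  intro φ
  refine ⟨CharacterModule.dual (flipChar R φ), ?_⟩
  ext m q
  rfl

theorem pureInj_iff (R : Type u) [CommRing R] (I : Type u) [AddCommGroup I]
    [Module R I] :
    (∀ ⦃K L : Type u⦄ [AddCommGroup K] [Module R K] [AddCommGroup L] [Module R L] (f : K →ₗ[R] L),
        CAlgX.UniversallyInjective R f → ∀ φ : K →ₗ[R] I, ∃ ψ : L →ₗ[R] I, ψ ∘ₗ f = φ) ↔
    ∃ r : CharacterModule (CharacterModule I) →ₗ[R] I, r ∘ₗ PureExt.charEval R I = LinearMap.id := by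
  constructor
  · intro h
    exact h (PureExt.charEval R I) (univInj_charEval R I) LinearMap.id
  · rintro ⟨r, hr⟩ K L _ _ _ _ f hf φ
    have h1 := (rTensor_injective_iff_lcomp_surjective (B := CharacterModule I)).1
      (hf (CharacterModule I))
    obtain ⟨ψ', hψ'⟩ := h1 (PureExt.charEval R I ∘ₗ φ)
    refine ⟨r ∘ₗ ψ', ?_⟩
    have : ψ' ∘ₗ f = PureExt.charEval R I ∘ₗ φ := hψ'
    rw [LinearMap.comp_assoc, this, ← LinearMap.comp_assoc, hr, LinearMap.id_comp]

theorem univInj_range (R : Type u) [CommRing R]
    {L M N : Type u} [AddCommGroup L] [Module R L] [AddCommGroup M] [Module R M] [AddCommGroup N] [Module R N]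
    (f : L →ₗ[R] M) (g : M →ₗ[R] N)
    (h : ∀ (Q : Type u) [AddCommGroup Q] [Module R Q], Function.Exact (f.rTensor Q) (g.rTensor Q)) :
    CAlgX.UniversallyInjective R (LinearMap.range g).subtype := by
  have hgf : g ∘ₗ f = 0 := by
    ext l
    have h1 := (h R).apply_apply_eq_zero (l ⊗ₜ[R] (1 : R))
    rw [LinearMap.rTensor_tmul, LinearMap.rTensor_tmul] at h1
    have h2 := congrArg (TensorProduct.rid R N) h1
    simpa using h2
  have hrf : g.rangeRestrict ∘ₗ f = 0 := by
    ext l
    have := LinearMap.congr_fun hgf l
    simpa using this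
  intro Q _ _
  rw [injective_iff_map_eq_zero]
  intro x hx
  obtain ⟨y, rfl⟩ := LinearMap.rTensor_surjective Q (LinearMap.surjective_rangeRestrict g) x
  have h3 : g.rTensor Q y = 0 := by
    have : (LinearMap.range g).subtype ∘ₗ g.rangeRestrict = g := LinearMap.subtype_comp_codRestrict _ _ _
    rw [← this, LinearMap.rTensor_comp]
    exact hx
  obtain ⟨z, rfl⟩ := (h Q y).1 h3
  rw [← LinearMap.comp_apply, ← LinearMap.rTensor_comp, hrf, LinearMap.rTensor_zero]
  rfl

end Groth.Agent.Lib.Helper13.PureBasic
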