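import Mathlib
import Groth.Prelude
import Groth.Agent.Lib.Helper13.EdgeInIso
import Groth.Agent.Lib.Helper13.PushAcyclic

/-!
# Higher direct images of a composite when the first map is acyclic (topological spaces)
-/
set_option autoImplicit false
universe u
open CategoryTheory CategoryTheory.Limits Opposite TopologicalSpace

noncomputable section

namespace Groth.Agent.Lib.Helper13.PushComp

variable {X Y Z : TopCat.{u}} (f : X ⟶ Y) (g : Y ⟶ Z)

instance : (CohTop.push f).PreservesInjectiveObjects :=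
  ⟨fun {I} _ => PushAcyclic.push_injective f I⟩

instance : PreservesFiniteLimits (CohTop.push f) :=
  have : PreservesLimitsOfSize.{0, 0} (CohTop.push f) :=
    (ClosedEmbPush.adj f).rightAdjoint_preservesLimits
  PreservesLimitsOfSize.preservesFiniteLimits _

/-- `g_* ∘ f_* ≅ (g ∘ f)_*`. -/
def pushCompIso : CohTop.push f ⋙ CohTop.push g ≅ CohTop.push (f ≫ g) :=
  NatIso.ofComponents (fun _ => Iso.refl _)

/-- `R^p g_* (f_* F) ≅ R^p (g f)_* F` when `R^q f_* F = 0` for `q > 0`. -/
def RpushCompIso (F : CohTop.Ab X) (h : ∀ q : ℕ, IsZero ((CohTop.Rpush f (q + 1)).obj F)) (p : ℕ) :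
    (CohTop.Rpush g p).obj ((CohTop.push f).obj F) ≅ (CohTop.Rpush (f ≫ g) p).obj F :=
  have := EdgeInIso.isIso_edgeIn (CohTop.push f) (CohTop.push g) F h p
  asIso (RDer.edgeIn (CohTop.push f) (CohTop.push g) p F) ≪≫
    (RDer.rightDerivedIso (pushCompIso f g) p).app F

end Groth.Agent.Lib.Helper13.PushComp
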