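import Groth.Agent.S16463
import Mathlib

/-!
# Degree-one edge vanishing

If `R¹G F = 0` and `Ext¹(A, G F) = 0`, and `Hom(B, -) ≃ Hom(A, G -)` naturally, then
`Ext¹(B, F) = 0`.
-/

set_option autoImplicit false

universe v u v' u' w w'

open CategoryTheory CategoryTheory.Limits CategoryTheory.Abelian

namespace Groth.Agent.Lib.Helper13.R1Edge

variable {𝒳 : Type u} [Category.{v} 𝒳] [Abelian 𝒳] [EnoughInjectives 𝒳]
  {𝒴 : Type u'} [Category.{v'} 𝒴] [Abelian 𝒴]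
  (G : 𝒳 ⥤ 𝒴) [G.Additive] [PreservesFiniteLimits G]

theorem epi_map_of_isZero_R1 (S : ShortComplex 𝒳) (hS : S.ShortExact)
    (hR : IsZero ((G.rightDerived 1).obj S.X₁)) : Epi (G.map S.g) := by
  obtain ⟨Δ⟩ := Groth.Agent.S16463.result G
  have e3 := Δ.exact₃ S hS 0 1 rfl
  have hepi : Epi ((G.rightDerived 0).map S.g) :=
    (ShortComplex.exact_iff_epi _ (hR.eq_of_tgt _ _)).mp e3
  have hnat := G.rightDerivedZeroIsoSelf.hom.naturality S.g
  haveI : Epi (G.rightDerivedZeroIsoSelf.hom.app S.X₂ ≫ G.map S.g) := by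
    rw [← hnat]
    exact epi_comp _ _
  exact epi_of_epi (G.rightDerivedZeroIsoSelf.hom.app S.X₂) (G.map S.g)

theorem shortExact_map_of_isZero_R1 (S : ShortComplex 𝒳) (hS : S.ShortExact)
    (hR : IsZero ((G.rightDerived 1).obj S.X₁)) : (S.map G).ShortExact := by
  haveI := hS.mono_f
  haveI : Mono (S.map G).f := by
    change Mono (G.map S.f)
    infer_instance
  haveI : Epi (S.map G).g := epi_map_of_isZero_R1 G S hS hR
  exact ShortComplex.ShortExact.mk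
    (hS.exact.map_of_mono_of_preservesKernel G hS.mono_f inferInstance)

variable [HasExt.{w} 𝒳] [HasExt.{w'} 𝒴]

theorem ext_one_eq_zero (B : 𝒳) (A : 𝒴) (e : ∀ M : 𝒳, (B ⟶ M) ≃ (A ⟶ G.obj M))
    (he : ∀ {M M' : 𝒳} (φ : B ⟶ M) (g : M ⟶ M'), e M' (φ ≫ g) = e M φ ≫ G.map g)
    (F : 𝒳) (hR : IsZero ((G.rightDerived 1).obj F))
    (hA : ∀ x : Ext A (G.obj F) 1, x = 0) (x : Ext B F 1) : x = 0 := by
  let S : ShortComplex 𝒳 :=
    ShortComplex.mk (Injective.ι F) (cokernel.π (Injective.ι F)) (cokernel.condition _)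
  have hS : S.ShortExact := { exact := ShortComplex.exact_cokernel (Injective.ι F) }
  have hx0 : x.comp (Ext.mk₀ S.f) (add_zero 1) = 0 := by
    haveI : Injective S.X₂ := inferInstanceAs (Injective (Injective.under F))
    exact Ext.eq_zero_of_injective _
  obtain ⟨x₃, hx₃⟩ := Ext.covariant_sequence_exact₁ B hS x hx0 (zero_add 1)
  obtain ⟨φ, rfl⟩ := (Ext.mk₀_bijective B S.X₃).surjective x₃
  have hSG : (S.map G).ShortExact := shortExact_map_of_isZero_R1 G S hS hR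
  have h0 : (Ext.mk₀ (e S.X₃ φ)).comp hSG.extClass (zero_add 1) = 0 := hA _
  obtain ⟨y₂, hy₂⟩ := Ext.covariant_sequence_exact₃ A hSG (Ext.mk₀ (e S.X₃ φ)) (zero_add 1) h0
  obtain ⟨ψ', rfl⟩ := (Ext.mk₀_bijective A _).surjective y₂
  have hy₂' : Ext.mk₀ (ψ' ≫ G.map S.g) = Ext.mk₀ (e S.X₃ φ) := by
    rw [← Ext.mk₀_comp_mk₀]
    exact hy₂
  have hψ' : ψ' ≫ G.map S.g = e S.X₃ φ := (Ext.mk₀_bijective _ _).injective hy₂'
  have hψ : (e S.X₂).symm ψ' ≫ S.g = φ := by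
    apply (e S.X₃).injective
    rw [he, Equiv.apply_symm_apply]
    exact hψ'
  rw [← hx₃, ← hψ, ← Ext.mk₀_comp_mk₀, Ext.comp_assoc_of_second_deg_zero, hS.comp_extClass,
    Ext.comp_zero]

end Groth.Agent.Lib.Helper13.R1Edge
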