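import Mathlib
import Groth.Prelude
import Groth.Agent.Lib.Helper23.T2C
import Groth.Agent.Lib.Helper13.R1Edge
import Groth.Agent.Lib.Helper13.ModGrothendieck
import Groth.Agent.S16463

/-!
# The edge map `H^p(Y, f_* G) → H^p(X, G)` is bijective when the higher direct images vanish (helper13)

`CohPull.pushEdge f G p` is "pull back classes along `f`, then apply the counit".  At the level of `Ext`
groups of abelian sheaves it is `x ↦ (1 → f⁻¹ℤ) ∘ f⁻¹(x) ∘ κ_G` with `κ_G : f⁻¹ f_* G ⟶ G`; this
is natural in `G` and commutes with the connecting maps of the covariant long exact `Ext` sequences, and it is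
bijective in degree `0`.  Dimension shifting along an injective hull then gives bijectivity in all degrees
when `R^q f_* G = 0` for `q > 0`.
-/

set_option autoImplicit false
universe u
open CategoryTheory CategoryTheory.Limits AlgebraicGeometry TopologicalSpace Opposite
open CategoryTheory.Abelian

noncomputable section

namespace Groth.Agent.Lib.Helper13.PushEdge

section Top

variable {X Y : TopCat.{u}} (f : X ⟶ Y)

/-- pullback of classes along `f` followed by the map induced by `κ : f⁻¹F' ⟶ F`. -/
def EE {F' : CohTop.Ab Y} {F : CohTop.Ab X} (κ : (CohPull.inv f).obj F' ⟶ F) (p : ℕ) :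
    Sheaf.H F' p →+ Sheaf.H F p :=
  (Sheaf.H.map κ p).comp (CohPull.pullAb f F' p)

lemma EE_apply {F' : CohTop.Ab Y} {F : CohTop.Ab X} (κ : (CohPull.inv f).obj F' ⟶ F) (p : ℕ)
    (x : Sheaf.H F' p) :
    EE f κ p x = ((Ext.mk₀ (CohPull.oneTo f)).comp (x.mapExactFunctor (CohPull.inv f))
      (zero_add p)).comp (Ext.mk₀ κ) (add_zero p) := rfl

lemma EE_nat {F'₁ F'₂ : CohTop.Ab Y} {F₁ F₂ : CohTop.Ab X}
    (κ₁ : (CohPull.inv f).obj F'₁ ⟶ F₁) (κ₂ : (CohPull.inv f).obj F'₂ ⟶ F₂)
    (a : F'₁ ⟶ F'₂) (b : F₁ ⟶ F₂) (h : (CohPull.inv f).map a ≫ κ₂ = κ₁ ≫ b) (p : ℕ)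
    (x : Sheaf.H F'₁ p) :
    EE f κ₂ p (x.comp (Ext.mk₀ a) (add_zero p)) =
      (EE f κ₁ p x).comp (Ext.mk₀ b) (add_zero p) := by
  rw [EE_apply, EE_apply, Ext.mapExactFunctor_comp, Ext.mapExactFunctor_mk₀]
  simp only [Ext.comp_assoc_of_third_deg_zero, Ext.mk₀_comp_mk₀, h]

lemma EE_delta {T' : ShortComplex (CohTop.Ab Y)} (hT' : T'.ShortExact)
    {T : ShortComplex (CohTop.Ab X)} (hT : T.ShortExact)
    (φ : T'.map (CohPull.inv f) ⟶ T) (p : ℕ) (x : Sheaf.H T'.X₃ p) :
    EE f φ.τ₁ (p + 1) (x.comp hT'.extClass rfl) = (EE f φ.τ₃ p x).comp hT.extClass rfl := by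
  rw [EE_apply, EE_apply, Ext.mapExactFunctor_comp, Ext.mapExactFunctor_extClass]
  have hnat := ShortComplex.ShortExact.extClass_naturality
    (hT'.map_of_exact (CohPull.inv f)) hT φ
  have e1 : ((Ext.mk₀ (CohPull.oneTo f)).comp
      ((x.mapExactFunctor (CohPull.inv f)).comp
        (hT'.map_of_exact (CohPull.inv f)).extClass rfl) (zero_add (p + 1))).comp
        (Ext.mk₀ φ.τ₁) (add_zero (p + 1)) =
      (Ext.mk₀ (CohPull.oneTo f)).comp ((x.mapExactFunctor (CohPull.inv f)).comp
        ((Ext.mk₀ φ.τ₃).comp hT.extClass (zero_add 1)) rfl) (zero_add (p + 1)) := by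
    rw [Ext.comp_assoc_of_third_deg_zero, Ext.comp_assoc_of_third_deg_zero]
    exact congrArg (fun z => (Ext.mk₀ (CohPull.oneTo f)).comp
      ((x.mapExactFunctor (CohPull.inv f)).comp z rfl) (zero_add (p + 1))) hnat
  have e2 : (((Ext.mk₀ (CohPull.oneTo f)).comp (x.mapExactFunctor (CohPull.inv f))
      (zero_add p)).comp (Ext.mk₀ φ.τ₃) (add_zero p)).comp hT.extClass rfl =
      (Ext.mk₀ (CohPull.oneTo f)).comp ((x.mapExactFunctor (CohPull.inv f)).comp
        ((Ext.mk₀ φ.τ₃).comp hT.extClass (zero_add 1)) rfl) (zero_add (p + 1)) := by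
    rw [Ext.comp_assoc_of_second_deg_zero]
    exact Ext.comp_assoc _ _ _ (zero_add p) rfl (by omega)
  exact e1.trans e2.symm

end Top

section Sch

variable {X Y : Scheme.{u}} (f : X ⟶ Y)

/-- `κ_G : f⁻¹(f_* G) ⟶ G` on the underlying abelian sheaves. -/
def kap (G : X.Modules) :
    (CohPull.inv f.base).obj (Coh.toAb ((Scheme.Modules.pushforward f).obj G)) ⟶ Coh.toAb G :=
  CohPull.theta f ((Scheme.Modules.pushforward f).obj G) ≫
    (SheafOfModules.toSheaf X.ringCatSheaf).map
      ((Scheme.Modules.pullbackPushforwardAdjunction f).counit.app G)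

lemma pushEdge_eq (G : X.Modules) (p : ℕ)
    (x : Coh.HH Y ((Scheme.Modules.pushforward f).obj G) p) :
    CohPull.pushEdge f G p x = EE f.base (kap f G) p x :=
  (Sheaf.H.map_comp_apply (CohPull.theta f ((Scheme.Modules.pushforward f).obj G))
    ((SheafOfModules.toSheaf X.ringCatSheaf).map
      ((Scheme.Modules.pullbackPushforwardAdjunction f).counit.app G))
    (CohPull.pullAb f.base _ p x)).symm

lemma theta_nat {M M' : Y.Modules} (a : M ⟶ M') :
    (CohPull.inv f.base).map ((SheafOfModules.toSheaf Y.ringCatSheaf).map a) ≫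
        CohPull.theta f M' =
      CohPull.theta f M ≫
        (SheafOfModules.toSheaf X.ringCatSheaf).map ((Scheme.Modules.pullback f).map a) := by
  have hn := (Scheme.Modules.pullbackPushforwardAdjunction f).unit.naturality a
  simp only [Functor.id_map, Functor.comp_map] at hn
  have h1 : (SheafOfModules.toSheaf Y.ringCatSheaf).map a ≫
      (SheafOfModules.toSheaf Y.ringCatSheaf).map
        ((Scheme.Modules.pullbackPushforwardAdjunction f).unit.app M') =
      (SheafOfModules.toSheaf Y.ringCatSheaf).map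
        ((Scheme.Modules.pullbackPushforwardAdjunction f).unit.app M) ≫
      (CohTop.push f.base).map ((SheafOfModules.toSheaf X.ringCatSheaf).map
        ((Scheme.Modules.pullback f).map a)) :=
    ((SheafOfModules.toSheaf Y.ringCatSheaf).map_comp _ _).symm.trans
      ((congrArg (SheafOfModules.toSheaf Y.ringCatSheaf).map hn).trans
        ((SheafOfModules.toSheaf Y.ringCatSheaf).map_comp _ _))
  exact (Adjunction.homEquiv_naturality_left_symm (CohPull.invPushAdj f.base) _ _).symm.trans
    ((congrArg ((CohPull.invPushAdj f.base).homEquiv _ _).symm h1).trans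
      (Adjunction.homEquiv_naturality_right_symm (CohPull.invPushAdj f.base) _ _))

lemma kap_nat {G G' : X.Modules} (ψ : G ⟶ G') :
    (CohPull.inv f.base).map ((SheafOfModules.toSheaf Y.ringCatSheaf).map
        ((Scheme.Modules.pushforward f).map ψ)) ≫ kap f G' =
      kap f G ≫ (SheafOfModules.toSheaf X.ringCatSheaf).map ψ := by
  have hn := (Scheme.Modules.pullbackPushforwardAdjunction f).counit.naturality ψ
  simp only [Functor.id_map, Functor.comp_map] at hn
  unfold kap
  rw [← Category.assoc, theta_nat, Category.assoc, Category.assoc, ← Functor.map_comp,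
    ← Functor.map_comp]
  exact congrArg (fun z => CohPull.theta f ((Scheme.Modules.pushforward f).obj G) ≫
    (SheafOfModules.toSheaf X.ringCatSheaf).map z) hn

/-- in degree `0` the edge map is the identity on global sections. -/
lemma pushEdge_zero_eq (G : X.Modules)
    (s : Coh.HH Y ((Scheme.Modules.pushforward f).obj G) 0) :
    Sheaf.H.equiv₀ (Coh.toAb G) isTerminalTop (CohPull.pushEdge f G 0 s) =
      Sheaf.H.equiv₀ (Coh.toAb ((Scheme.Modules.pushforward f).obj G)) isTerminalTop s := by
  change Sheaf.H.equiv₀ (Coh.toAb G) isTerminalTop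
    (Sheaf.H.map ((SheafOfModules.toSheaf X.ringCatSheaf).map
      ((Scheme.Modules.pullbackPushforwardAdjunction f).counit.app G)) 0
      (CohPull.pullMod f ((Scheme.Modules.pushforward f).obj G) 0 s)) = _
  have e := CohPull.equiv₀_pullMod f ((Scheme.Modules.pushforward f).obj G) s
  rw [← Sheaf.H.equiv₀_naturality]
  refine Eq.trans (congrArg (fun z => (ConcreteCategory.hom
    (((SheafOfModules.toSheaf X.ringCatSheaf).map
      ((Scheme.Modules.pullbackPushforwardAdjunction f).counit.app G)).hom.app (op ⊤))) z) e) ?_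
  have tri := (Scheme.Modules.pullbackPushforwardAdjunction f).right_triangle_components G
  have h := congrArg (fun φ : (Scheme.Modules.pushforward f).obj G ⟶
      (Scheme.Modules.pushforward f).obj G =>
      (φ.app ⊤) (Sheaf.H.equiv₀ (Coh.toAb ((Scheme.Modules.pushforward f).obj G))
        isTerminalTop s)) tri
  exact h

lemma bijective_zero (G : X.Modules) : Function.Bijective (CohPull.pushEdge f G 0) := by
  constructor
  · intro s s' h
    have := congrArg (Sheaf.H.equiv₀ (Coh.toAb G) isTerminalTop) h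
    rw [pushEdge_zero_eq, pushEdge_zero_eq] at this
    exact (Sheaf.H.equiv₀ _ isTerminalTop).injective this
  · intro y
    refine ⟨(Sheaf.H.equiv₀ (Coh.toAb ((Scheme.Modules.pushforward f).obj G))
      isTerminalTop).symm (Sheaf.H.equiv₀ (Coh.toAb G) isTerminalTop y), ?_⟩
    apply (Sheaf.H.equiv₀ (Coh.toAb G) isTerminalTop).injective
    rw [pushEdge_zero_eq, AddEquiv.apply_symm_apply]

open Groth.Agent.Lib.Helper23.T2 in
lemma subsingleton_H_of_injective (I : X.Modules) (hI : Injective I) (p : ℕ) :
    Subsingleton (Sheaf.H (Coh.toAb I) (p + 1)) := by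
  have := isFlasque_toAb_of_isFlq (isFlq_of_injective I hI)
  exact Groth.Agent.Lib.Helper1.FlasqueAcyclic.flasque_H_subsingleton (Coh.toAb I) p

open Groth.Agent.Lib.Helper23.T2 in
lemma subsingleton_H_push_of_injective (I : X.Modules) (hI : Injective I) (p : ℕ) :
    Subsingleton (Sheaf.H (Coh.toAb ((Scheme.Modules.pushforward f).obj I)) (p + 1)) := by
  have := isFlasque_toAb_of_isFlq (isFlq_push f (isFlq_of_injective I hI))
  exact Groth.Agent.Lib.Helper1.FlasqueAcyclic.flasque_H_subsingleton
    (Coh.toAb ((Scheme.Modules.pushforward f).obj I)) p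

open Groth.Agent.Lib.Helper13.SerreCrit1 in
/-- **The edge map is bijective when the higher direct images vanish.** -/
theorem bijective_pushEdge [HasInjectiveResolutions X.Modules] (p : ℕ) :
    ∀ (G : X.Modules), (∀ q : ℕ, 0 < q → IsZero ((Coh.Rpush f q).obj G)) →
      Function.Bijective (CohPull.pushEdge f G p) := by
  haveI : EnoughInjectives X.Modules :=
    Groth.Agent.Lib.Helper13.ModGrothendieck.enoughInjectives X.ringCatSheaf
  induction p with
  | zero => exact fun G _ => bijective_zero f G
  | succ p ih =>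
    intro G hG
    let ι : G ⟶ Injective.under G := Injective.ι G
    let S : ShortComplex X.Modules :=
      ShortComplex.mk ι (cokernel.π ι) (cokernel.condition ι)
    have hS : S.ShortExact :=
      { exact := ShortComplex.exact_cokernel ι
        mono_f := inferInstanceAs (Mono ι)
        epi_g := inferInstanceAs (Epi (cokernel.π ι)) }
    have hInj : Injective S.X₂ := inferInstanceAs (Injective (Injective.under G))
    have hI : ∀ q : ℕ, 0 < q → IsZero ((Coh.Rpush f q).obj S.X₂) := by
      intro q hq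
      obtain ⟨k, rfl⟩ : ∃ k, q = k + 1 := ⟨q - 1, by omega⟩
      exact Functor.isZero_rightDerived_obj_injective_succ (Scheme.Modules.pushforward f) k S.X₂
    obtain ⟨Δ⟩ := Groth.Agent.S16463.result (Scheme.Modules.pushforward f)
    have hQ : ∀ q : ℕ, 0 < q → IsZero ((Coh.Rpush f q).obj S.X₃) := by
      intro q hq
      exact (Δ.exact₃ S hS q (q + 1) rfl).isZero_of_both_zeros
        ((hI q hq).eq_zero_of_src _) ((hG (q + 1) (Nat.succ_pos q)).eq_zero_of_tgt _)
    have hS' : (S.map (Scheme.Modules.pushforward f)).ShortExact :=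
      Groth.Agent.Lib.Helper13.R1Edge.shortExact_map_of_isZero_R1
        (Scheme.Modules.pushforward f) S hS (hG 1 Nat.one_pos)
    have hT := shortExact_map_toSheaf S hS
    have hT' := shortExact_map_toSheaf (S.map (Scheme.Modules.pushforward f)) hS'
    let φ : ((S.map (Scheme.Modules.pushforward f)).map (TT Y)).map (CohPull.inv f.base) ⟶
        S.map (TT X) :=
      { τ₁ := kap f S.X₁
        τ₂ := kap f S.X₂
        τ₃ := kap f S.X₃
        comm₁₂ := (kap_nat f S.f).symm
        comm₂₃ := (kap_nat f S.g).symm }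
    have bQ := ih S.X₃ hQ
    have bI := ih S.X₂ hI
    have hδ : ∀ x : Sheaf.H (Coh.toAb ((Scheme.Modules.pushforward f).obj S.X₃)) p,
        CohPull.pushEdge f S.X₁ (p + 1) (x.comp hT'.extClass rfl) =
          (CohPull.pushEdge f S.X₃ p x).comp hT.extClass rfl := by
      intro x
      rw [pushEdge_eq, pushEdge_eq]
      exact EE_delta f.base hT' hT φ p x
    have hnat : ∀ x : Sheaf.H (Coh.toAb ((Scheme.Modules.pushforward f).obj S.X₂)) p,
        CohPull.pushEdge f S.X₃ p
            (x.comp (Ext.mk₀ ((TT Y).map ((Scheme.Modules.pushforward f).map S.g)))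
              (add_zero p)) =
          (CohPull.pushEdge f S.X₂ p x).comp (Ext.mk₀ ((TT X).map S.g)) (add_zero p) := by
      intro x
      rw [pushEdge_eq, pushEdge_eq]
      exact EE_nat f.base (kap f S.X₂) (kap f S.X₃) _ _ (kap_nat f S.g) p x
    haveI hIX := subsingleton_H_of_injective S.X₂ hInj p
    haveI hIY := subsingleton_H_push_of_injective f S.X₂ hInj p
    change Function.Bijective (CohPull.pushEdge f S.X₁ (p + 1))
    constructor
    · rw [injective_iff_map_eq_zero]
      intro x hx
      have hx0 : x.comp (Ext.mk₀ ((S.map (Scheme.Modules.pushforward f)).map (TT Y)).f)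
          (add_zero (p + 1)) = 0 := @Subsingleton.elim _ hIY _ _
      obtain ⟨q', rfl⟩ := Ext.covariant_sequence_exact₁ _ hT' x hx0 rfl
      have h1 : (CohPull.pushEdge f S.X₃ p q').comp hT.extClass rfl = 0 :=
        (hδ q').symm.trans hx
      obtain ⟨i, hi⟩ := Ext.covariant_sequence_exact₃ _ hT (CohPull.pushEdge f S.X₃ p q') rfl h1
      obtain ⟨i', rfl⟩ := bI.2 i
      have h2 := (hnat i').trans hi
      have h3 := bQ.1 h2
      have hz : (Ext.mk₀ ((TT Y).map ((Scheme.Modules.pushforward f).map S.g))).comp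
          hT'.extClass (zero_add 1) = 0 := hT'.comp_extClass
      rw [← h3]
      exact (Ext.comp_assoc_of_second_deg_zero _ _ _ _).trans
        ((congrArg (fun z => i'.comp z rfl) hz).trans (Ext.comp_zero _ _ _ _ _))
    · intro y
      have hy : y.comp (Ext.mk₀ (S.map (TT X)).f) (add_zero (p + 1)) = 0 :=
        @Subsingleton.elim _ hIX _ _
      obtain ⟨q, hq⟩ := Ext.covariant_sequence_exact₁ _ hT y hy rfl
      obtain ⟨q', rfl⟩ := bQ.2 q
      exact ⟨q'.comp hT'.extClass rfl, (hδ q').trans hq⟩

end Sch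

end Groth.Agent.Lib.Helper13.PushEdge
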