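import Mathlib
import Groth.Prelude
import Groth.Agent.S2331
import Groth.Agent.S2337

/-!
# G3 for helper3 (S19377): quasi-projective followed by a quasi-compact open immersion
-/

set_option autoImplicit false
universe u
open CategoryTheory CategoryTheory.Limits AlgebraicGeometry

namespace Groth.Agent.Lib.Helper13.QProjOpenImm

theorem isQuasiAffine_of_openImmersion {V S : Scheme.{u}} (j : V ⟶ S) [IsOpenImmersion j]
    [QuasiCompact j] : Mor2.IsQuasiAffine j := by
  refine ⟨inferInstance, fun W hW => ?_⟩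
  haveI : IsAffine (W : Scheme.{u}) := hW
  haveI : CompactSpace ((j ⁻¹ᵁ W : V.Opens) : Scheme.{u}) :=
    isCompact_iff_compactSpace.mp (QuasiCompact.isCompact_preimage (f := j) _ W.2 hW.isCompact)
  exact Scheme.IsQuasiAffine.of_isImmersion (j ∣_ W)

theorem isQuasiProjective_comp_openImmersion {X V S : Scheme.{u}} [CompactSpace S] (h : X ⟶ V)
    (j : V ⟶ S) [IsOpenImmersion j] [QuasiCompact j] (hq : RelProj.IsQuasiProjective h) :
    RelProj.IsQuasiProjective (h ≫ j) := by
  obtain ⟨hlft, hqc, L, hL⟩ := hq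
  haveI := hlft
  haveI := hqc
  have hK : RelAmple.IsRelAmple j (Coh.structureModule V) :=
    (Groth.Agent.S2337.result j).mp (isQuasiAffine_of_openImmersion j)
  obtain ⟨n₀, -, hn₀⟩ := Groth.Agent.S2331.result h j L (Coh.structureModule V) hL hK
  exact ⟨inferInstance, inferInstance, _, hn₀ n₀ le_rfl⟩

end Groth.Agent.Lib.Helper13.QProjOpenImm
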