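import Mathlib

/-!
# L3' for helper27 (S5309): a point whose infinitesimal neighbourhood factors through `xi` is in
the range of `xi`
-/

set_option autoImplicit false
universe u
open CategoryTheory CategoryTheory.Limits AlgebraicGeometry

namespace Groth.Agent.Lib.Helper13.QfFiltL3p

/-- (L3') the point is in the range -/
theorem mem_range_of_factor {X Xi : Scheme.{u}} (xi : Xi ⟶ X) (p : X) (n : ℕ)
    (μ : Spec (CommRingCat.of (X.presheaf.stalk p ⧸
        IsLocalRing.maximalIdeal (X.presheaf.stalk p) ^ (n + 1))) ⟶ Xi)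
    (hμ : μ ≫ xi = Spec.map (CommRingCat.ofHom (Ideal.Quotient.mk
        (IsLocalRing.maximalIdeal (X.presheaf.stalk p) ^ (n + 1)))) ≫ X.fromSpecStalk p) :
    p ∈ Set.range xi := by
  have hI : IsLocalRing.maximalIdeal (X.presheaf.stalk p) ^ (n + 1) ≠ ⊤ := by
    intro h
    have h2 : IsLocalRing.maximalIdeal (X.presheaf.stalk p) = ⊤ := by
      apply top_unique
      rw [← h]
      exact Ideal.pow_le_self (Nat.succ_ne_zero n)
    exact (IsLocalRing.maximalIdeal.isMaximal (X.presheaf.stalk p)).ne_top h2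
  haveI : Nontrivial (X.presheaf.stalk p ⧸
      IsLocalRing.maximalIdeal (X.presheaf.stalk p) ^ (n + 1)) :=
    Ideal.Quotient.nontrivial_iff.2 hI
  obtain ⟨z⟩ : Nonempty ↥(Spec (CommRingCat.of (X.presheaf.stalk p ⧸
      IsLocalRing.maximalIdeal (X.presheaf.stalk p) ^ (n + 1)))) :=
    inferInstanceAs (Nonempty (PrimeSpectrum (X.presheaf.stalk p ⧸
      IsLocalRing.maximalIdeal (X.presheaf.stalk p) ^ (n + 1))))
  refine ⟨μ z, ?_⟩
  have h1 : xi (μ z) = (X.fromSpecStalk p) ((Spec.map (CommRingCat.ofHom (Ideal.Quotient.mk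
      (IsLocalRing.maximalIdeal (X.presheaf.stalk p) ^ (n + 1))))) z) := by
    rw [← Scheme.Hom.comp_apply, hμ, Scheme.Hom.comp_apply]
  rw [h1]
  have h2 : (Spec.map (CommRingCat.ofHom (Ideal.Quotient.mk
      (IsLocalRing.maximalIdeal (X.presheaf.stalk p) ^ (n + 1))))) z =
      IsLocalRing.closedPoint (X.presheaf.stalk p) := by
    apply PrimeSpectrum.ext
    change Ideal.comap (Ideal.Quotient.mk
      (IsLocalRing.maximalIdeal (X.presheaf.stalk p) ^ (n + 1))) z.asIdeal =
      IsLocalRing.maximalIdeal (X.presheaf.stalk p)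
    refine le_antisymm (IsLocalRing.le_maximalIdeal ?_) ?_
    · exact (Ideal.comap_ne_top _ z.isPrime.ne_top)
    · intro a ha
      rw [Ideal.mem_comap]
      have h3 : (Ideal.Quotient.mk
          (IsLocalRing.maximalIdeal (X.presheaf.stalk p) ^ (n + 1)) a) ^ (n + 1) = 0 := by
        rw [← map_pow, Ideal.Quotient.eq_zero_iff_mem]
        exact Ideal.pow_mem_pow ha (n + 1)
      exact z.isPrime.mem_of_pow_mem (n + 1) (h3 ▸ z.asIdeal.zero_mem)
  rw [h2]
  exact Scheme.fromSpecStalk_closedPoint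

end Groth.Agent.Lib.Helper13.QfFiltL3p
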