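import Mathlib

/-!
# L5 for helper27 (S5309): a closed immersion which is injective on sections of an affine cover
is an isomorphism
-/

set_option autoImplicit false
universe u
open CategoryTheory CategoryTheory.Limits AlgebraicGeometry

namespace Groth.Agent.Lib.Helper13.QfFiltL5

lemma injective_app_of_eq {X Y : Scheme.{u}} (f : X ⟶ Y) {V V' : Y.Opens} (h : V = V')
    (hinj : Function.Injective (f.app V)) : Function.Injective (f.app V') := by
  subst h
  exact hinj

/-- (L5) closed immersion injective on sections of an affine cover is iso -/
theorem isIso_of_isClosedImmersion_of_app_injective {X Y : Scheme.{u}} (f : X ⟶ Y)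
    [IsClosedImmersion f] {κ : Type u} (W : κ → Y.Opens) (hW : ∀ k, IsAffineOpen (W k))
    (hcov : ⨆ k, W k = ⊤) (hinj : ∀ k, Function.Injective (f.app (W k))) : IsIso f := by
  change MorphismProperty.isomorphisms Scheme f
  refine IsZariskiLocalAtTarget.of_iSup_eq_top (P := MorphismProperty.isomorphisms Scheme) W hcov
    fun k => ?_
  change IsIso (f ∣_ W k)
  haveI : IsAffine ((W k : Y.Opens) : Scheme.{u}) := hW k
  apply IsClosedImmersion.isIso_of_injective_of_isAffine
  rw [morphismRestrict_appTop]
  have h1 : Function.Injective (f.app ((W k).ι ''ᵁ ⊤)) :=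
    injective_app_of_eq f (by simp) (hinj k)
  have h2 : Function.Injective
      (X.presheaf.map (eqToHom (image_morphismRestrict_preimage f (W k) ⊤)).op) :=
    ((ConcreteCategory.bijective_of_isIso _)).1
  exact h2.comp h1

end Groth.Agent.Lib.Helper13.QfFiltL5
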