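/-
Helper13 library: every `S`-scheme `X` has a finite free surjective (hence epimorphic) cover
`X' ⟶ X` carrying a global function `s` with `s (1 - s) = 1` (adjoin a root of `T² - T + 1`), so that
`1 = s + (1 - s)` is a sum of two units.  Used to avoid density arguments over residue field `𝔽₂`.
-/
import Groth.Prelude.Def_Red2
import Mathlib.RingTheory.AdjoinRoot
import Mathlib.RingTheory.Flat.FaithfullyFlat.Basic

set_option autoImplicit false
universe u
open CategoryTheory AlgebraicGeometry CategoryTheory.Limits Polynomial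

namespace Groth.Agent.Lib.Helper13

/-- the polynomial `T² - T + 1` over `ULift ℤ` -/
noncomputable def cyc6 : Polynomial (ULift.{u} ℤ) := X ^ 2 - (X - C 1)

lemma cyc6_monic : (cyc6.{u}).Monic := by
  unfold cyc6
  apply monic_X_pow_sub
  rw [degree_X_sub_C]
  norm_num

lemma cyc6_natDegree : (cyc6.{u}).natDegree = 2 := by
  unfold cyc6
  rw [natDegree_sub_eq_left_of_natDegree_lt, natDegree_X_pow]
  rw [natDegree_X_pow]
  exact lt_of_le_of_lt (natDegree_X_sub_C_le _) (by norm_num)

lemma cyc6_root_mul : AdjoinRoot.root cyc6.{u} * (1 - AdjoinRoot.root cyc6.{u}) = 1 := by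
  have h : eval₂ (AdjoinRoot.of cyc6.{u}) (AdjoinRoot.root cyc6.{u}) (X ^ 2 - (X - C 1)) = 0 :=
    AdjoinRoot.eval₂_root cyc6.{u}
  simp only [eval₂_sub, eval₂_pow, eval₂_X, eval₂_one, map_one] at h
  linear_combination -h

instance : Nontrivial (AdjoinRoot cyc6.{u}) := by
  refine ⟨⟨1, 0, fun h => ?_⟩⟩
  have h1 : AdjoinRoot.mk cyc6.{u} 1 = 0 := by rw [map_one]; exact h
  rw [AdjoinRoot.mk_eq_zero] at h1
  have h2 := cyc6_monic.eq_one_of_isUnit (isUnit_of_dvd_one h1)
  have h3 := cyc6_natDegree.{u}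
  rw [h2, natDegree_one] at h3
  exact absurd h3 (by norm_num)

instance : Module.Free (ULift.{u} ℤ) (AdjoinRoot cyc6.{u}) := cyc6_monic.free_adjoinRoot

theorem exists_cover_units_sum_one {S : Scheme.{u}} (X : Over S) :
    ∃ (X' : Over S) (π : X' ⟶ X) (s : Γ(X'.left, ⊤)), Epi π ∧ s * (1 - s) = 1 := by
  let g : Spec (CommRingCat.of (AdjoinRoot cyc6.{u})) ⟶ Spec (CommRingCat.of (ULift.{u} ℤ)) :=
    Spec.map (CommRingCat.ofHom (algebraMap _ _))
  have hg : Flat g ∧ Surjective g := by
    rw [flat_and_surjective_SpecMap_iff]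
    exact (RingHom.faithfullyFlat_algebraMap_iff).mpr
      (show Module.FaithfullyFlat (ULift.{u} ℤ) (AdjoinRoot cyc6.{u}) from inferInstance)
  have := hg.1
  have := hg.2
  let f : X.left ⟶ Spec (CommRingCat.of (ULift.{u} ℤ)) := specULiftZIsTerminal.from _
  let X' : Over S := Over.mk (pullback.fst f g ≫ X.hom)
  let π : X' ⟶ X := Over.homMk (pullback.fst f g) rfl
  let s : Γ(X'.left, ⊤) := (pullback.snd f g).appTop
    ((Scheme.ΓSpecIso (CommRingCat.of (AdjoinRoot cyc6.{u}))).inv (AdjoinRoot.root cyc6.{u}))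
  refine ⟨X', π, s, ?_, ?_⟩
  · have h1 : Flat π.left := by change Flat (pullback.fst f g); infer_instance
    have h2 : Surjective π.left := by change Surjective (pullback.fst f g); infer_instance
    have : Epi π.left := Flat.epi_of_flat_of_surjective π.left
    exact (Over.forget S).epi_of_epi_map this
  · change (pullback.snd f g).appTop _ * (1 - (pullback.snd f g).appTop _) = 1
    rw [← map_one ((pullback.snd f g).appTop.hom), ← map_sub, ← map_mul,
      ← map_one ((Scheme.ΓSpecIso (CommRingCat.of (AdjoinRoot cyc6.{u}))).inv.hom), ← map_sub, ← map_mul,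
      cyc6_root_mul]

end Groth.Agent.Lib.Helper13
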