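/-
Helper13 library: formal consequences of the rank-one commutation rule
`p₊(x) p₋(y) = p₋(y/(1+xy)) α^*(1+xy) p₊(x/(1+xy))` (SGA3 XX §1–3), for the Weyl elements
`w(x) = p₊(x) p₋(-x⁻¹) p₊(x)`.
-/
import Groth.Agent.Lib.Helper13.GaGm
import Groth.Agent.Lib.Helper13.UnitCover

set_option autoImplicit false
set_option linter.unusedSectionVars false
universe u
open CategoryTheory MonoidalCategory CartesianMonoidalCategory MonObj GrpObj AlgebraicGeometry CategoryTheory.Limits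
open Red

namespace Groth.Agent.Lib.Helper13

section RankOne

variable {S : Scheme.{u}} {G T : Over S} [GrpObj G] [GrpObj T] (i : T ⟶ G) [IsMonHom i]
  (α : T ⟶ Red.Gm S) [IsMonHom α] (pp pm : Red.Ga S ⟶ G) [IsMonHom pp] [IsMonHom pm]
  (av : Red.Gm S ⟶ T) [IsMonHom av]

/-- `α ∘ α^*` is squaring, on functions. -/
theorem gmFn_av_α (h2 : av ≫ α = (𝟙 (Red.Gm S)) ^ 2) {X : Over S} (z : X ⟶ Red.Gm S) :
    Red.gmFn ((z ≫ av) ≫ α) = Red.gmFn z ^ 2 := by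
  rw [Category.assoc, h2, MonObj.comp_pow, Category.comp_id, gmFn_pow]

/-- a point of `𝔾_a` whose coordinate has a left inverse up to sign has invertible coordinate -/
theorem isUnit_gaFn_of_mul_eq_neg_one {X : Over S} {x x' : X ⟶ Red.Ga S}
    (hx : Red.gaFn x' * Red.gaFn x = -1) : IsUnit (Red.gaFn x) :=
  IsUnit.of_mul_eq_one (- Red.gaFn x') (by rw [mul_comm, neg_mul, hx, neg_neg])

/-- `w(zx) = α^*(z) w(x)`. -/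
theorem weyl_smul
    (hpp : ∀ (X : Over S) (t : X ⟶ T) (x : X ⟶ Red.Ga S), ∃ x' : X ⟶ Red.Ga S,
      x' ≫ pp = (t ≫ i) * (x ≫ pp) * (t ≫ i)⁻¹ ∧ Red.gaFn x' = Red.gmFn (t ≫ α) * Red.gaFn x)
    (h2 : av ≫ α = (𝟙 (Red.Gm S)) ^ 2)
    (hF : ∀ (X : Over S) (x y : X ⟶ Red.Ga S), IsUnit (1 + Red.gaFn x * Red.gaFn y) →
      ∃ (x' y' : X ⟶ Red.Ga S) (z : X ⟶ Red.Gm S), Red.gmFn z = 1 + Red.gaFn x * Red.gaFn y ∧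
        Red.gaFn x' * Red.gmFn z = Red.gaFn x ∧ Red.gaFn y' * Red.gmFn z = Red.gaFn y ∧
        (x ≫ pp) * (y ≫ pm) = (y' ≫ pm) * (z ≫ av ≫ i) * (x' ≫ pp))
    {X : Over S} (x x' : X ⟶ Red.Ga S) (hx : Red.gaFn x' * Red.gaFn x = -1)
    (z : X ⟶ Red.Gm S) (y y' : X ⟶ Red.Ga S) (hy : Red.gaFn y = Red.gmFn z * Red.gaFn x)
    (hy' : Red.gaFn y' * Red.gaFn y = -1) :
    (y ≫ pp) * (y' ≫ pm) * (y ≫ pp) = (z ≫ av ≫ i) * ((x ≫ pp) * (x' ≫ pm) * (x ≫ pp)) := by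
  have hu : IsUnit (Red.gmFn z) := isUnit_gmFn z
  have hux : IsUnit (Red.gaFn x) := isUnit_gaFn_of_mul_eq_neg_one hx
  -- the commutation rule for `d = y - x` and `-x'`
  have h1 : 1 + Red.gaFn (y * x⁻¹) * Red.gaFn x'⁻¹ = Red.gmFn z := by
    rw [gaFn_mul, gaFn_inv, gaFn_inv, hy]
    linear_combination (1 - Red.gmFn z) * hx
  obtain ⟨a, b, z', hz', ha, hb, hmul⟩ := hF X (y * x⁻¹) x'⁻¹ (by rw [h1]; exact hu)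
  have hzz : z' = z := gmFn_injective (hz'.trans h1)
  subst hzz
  -- `y' * b = 1`
  have hy'z : Red.gaFn y' * Red.gmFn z' = Red.gaFn x' := by
    apply hux.mul_right_cancel
    rw [hx, _root_.mul_assoc, ← hy, hy']
  have hb1 : y' * b = 1 := by
    apply gaFn_injective
    apply hu.mul_right_cancel
    rw [gaFn_mul, gaFn_one, add_mul, hb, hy'z, gaFn_inv]; ring
  -- move `α^*(z)` past `p₊`
  obtain ⟨c', hc'1, hc'2⟩ := hpp X (z' ≫ av) (a * x⁻¹)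
  have hc' : c' = y⁻¹ := by
    apply gaFn_injective
    rw [hc'2, gmFn_av_α α av h2, gaFn_mul, gaFn_inv, gaFn_inv, hy]
    have : Red.gaFn a * Red.gmFn z' = Red.gaFn y - Red.gaFn x := by
      rw [ha, gaFn_mul, gaFn_inv]; ring
    rw [hy] at this
    linear_combination Red.gmFn z' * this
  subst hc'
  rw [MonObj.mul_comp, GrpObj.inv_comp, GrpObj.inv_comp] at hmul
  rw [MonObj.mul_comp, GrpObj.inv_comp, GrpObj.inv_comp, Category.assoc] at hc'1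
  have hb2 : (y' ≫ pm) * (b ≫ pm) = 1 := by
    rw [← MonObj.mul_comp y' b pm, hb1, MonObj.one_comp]
  -- assemble
  have e1 : (y ≫ pp) * (y' ≫ pm) * (y ≫ pp) * ((x ≫ pp) * (x' ≫ pm) * (x ≫ pp))⁻¹ =
      (y ≫ pp) * (y' ≫ pm) * ((y ≫ pp) * (x ≫ pp)⁻¹ * (x' ≫ pm)⁻¹) * (x ≫ pp)⁻¹ := by group
  have e2 : (y ≫ pp) * (y' ≫ pm) * ((b ≫ pm) * (z' ≫ av ≫ i) * (a ≫ pp)) * (x ≫ pp)⁻¹ =
      (y ≫ pp) * ((y' ≫ pm) * (b ≫ pm)) * (z' ≫ av ≫ i) * ((a ≫ pp) * (x ≫ pp)⁻¹) * (z' ≫ av ≫ i)⁻¹ *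
        (z' ≫ av ≫ i) := by group
  rw [← mul_inv_eq_iff_eq_mul, e1, hmul, e2, hb2, _root_.mul_one, _root_.mul_assoc (y ≫ pp),
    _root_.mul_assoc (y ≫ pp), ← hc'1]
  group


/-- `w(x) i(t) w(x)⁻¹ = i(α^*(α(t)))⁻¹ i(t)`. -/
theorem weyl_conj_torus
    (hpp : ∀ (X : Over S) (t : X ⟶ T) (x : X ⟶ Red.Ga S), ∃ x' : X ⟶ Red.Ga S,
      x' ≫ pp = (t ≫ i) * (x ≫ pp) * (t ≫ i)⁻¹ ∧ Red.gaFn x' = Red.gmFn (t ≫ α) * Red.gaFn x)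
    (hpm : ∀ (X : Over S) (t : X ⟶ T) (y : X ⟶ Red.Ga S), ∃ y' : X ⟶ Red.Ga S,
      y' ≫ pm = (t ≫ i) * (y ≫ pm) * (t ≫ i)⁻¹ ∧ Red.gaFn y' * Red.gmFn (t ≫ α) = Red.gaFn y)
    (h2 : av ≫ α = (𝟙 (Red.Gm S)) ^ 2)
    (hF : ∀ (X : Over S) (x y : X ⟶ Red.Ga S), IsUnit (1 + Red.gaFn x * Red.gaFn y) →
      ∃ (x' y' : X ⟶ Red.Ga S) (z : X ⟶ Red.Gm S), Red.gmFn z = 1 + Red.gaFn x * Red.gaFn y ∧
        Red.gaFn x' * Red.gmFn z = Red.gaFn x ∧ Red.gaFn y' * Red.gmFn z = Red.gaFn y ∧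
        (x ≫ pp) * (y ≫ pm) = (y' ≫ pm) * (z ≫ av ≫ i) * (x' ≫ pp))
    {X : Over S} (x x' : X ⟶ Red.Ga S) (hx : Red.gaFn x' * Red.gaFn x = -1) (t : X ⟶ T) :
    ((x ≫ pp) * (x' ≫ pm) * (x ≫ pp)) * (t ≫ i) * ((x ≫ pp) * (x' ≫ pm) * (x ≫ pp))⁻¹ =
        (t ≫ α ≫ av ≫ i)⁻¹ * (t ≫ i) := by
  obtain ⟨x₁, hx₁1, hx₁2⟩ := hpp X t x
  obtain ⟨x₁', hx₁'1, hx₁'2⟩ := hpm X t x'
  have h1 : Red.gaFn x₁' * Red.gaFn x₁ = -1 := by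
    rw [hx₁2, ← _root_.mul_assoc, hx₁'2, hx]
  have h3 := weyl_smul i α pp pm av hpp h2 hF x x' hx (t ≫ α) x₁ x₁' hx₁2 h1
  rw [hx₁1, hx₁'1, Category.assoc] at h3
  have key : ∀ (A W B : X ⟶ G), A * W * A⁻¹ = B * W → W * A * W⁻¹ = B⁻¹ * A := by
    intro A W B h
    have : B = A * W * A⁻¹ * W⁻¹ := by rw [h]; group
    rw [this]; group
  apply key
  rw [← h3]; group

/-- `w(zx) = w(x) α^*(z)⁻¹`. -/
theorem weyl_smul'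
    (hpp : ∀ (X : Over S) (t : X ⟶ T) (x : X ⟶ Red.Ga S), ∃ x' : X ⟶ Red.Ga S,
      x' ≫ pp = (t ≫ i) * (x ≫ pp) * (t ≫ i)⁻¹ ∧ Red.gaFn x' = Red.gmFn (t ≫ α) * Red.gaFn x)
    (hpm : ∀ (X : Over S) (t : X ⟶ T) (y : X ⟶ Red.Ga S), ∃ y' : X ⟶ Red.Ga S,
      y' ≫ pm = (t ≫ i) * (y ≫ pm) * (t ≫ i)⁻¹ ∧ Red.gaFn y' * Red.gmFn (t ≫ α) = Red.gaFn y)
    (h2 : av ≫ α = (𝟙 (Red.Gm S)) ^ 2)
    (hF : ∀ (X : Over S) (x y : X ⟶ Red.Ga S), IsUnit (1 + Red.gaFn x * Red.gaFn y) →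
      ∃ (x' y' : X ⟶ Red.Ga S) (z : X ⟶ Red.Gm S), Red.gmFn z = 1 + Red.gaFn x * Red.gaFn y ∧
        Red.gaFn x' * Red.gmFn z = Red.gaFn x ∧ Red.gaFn y' * Red.gmFn z = Red.gaFn y ∧
        (x ≫ pp) * (y ≫ pm) = (y' ≫ pm) * (z ≫ av ≫ i) * (x' ≫ pp))
    {X : Over S} (x x' : X ⟶ Red.Ga S) (hx : Red.gaFn x' * Red.gaFn x = -1)
    (z : X ⟶ Red.Gm S) (y y' : X ⟶ Red.Ga S) (hy : Red.gaFn y = Red.gmFn z * Red.gaFn x)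
    (hy' : Red.gaFn y' * Red.gaFn y = -1) :
    (y ≫ pp) * (y' ≫ pm) * (y ≫ pp) = ((x ≫ pp) * (x' ≫ pm) * (x ≫ pp)) * (z ≫ av ≫ i)⁻¹ := by
  rw [weyl_smul i α pp pm av hpp h2 hF x x' hx z y y' hy hy']
  have h3 := weyl_conj_torus i α pp pm av hpp hpm h2 hF x x' hx (z ≫ av)
  have h4 : (z ≫ av) ≫ α ≫ av ≫ i = (z ≫ av ≫ i) ^ 2 := by
    rw [← Category.assoc, ← Category.assoc, Category.assoc z, h2, MonObj.comp_pow, Category.comp_id,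
      Category.assoc, MonObj.pow_comp]
  rw [h4, Category.assoc] at h3
  have key : ∀ (W Z : X ⟶ G), W * Z * W⁻¹ = (Z ^ 2)⁻¹ * Z → Z * W = W * Z⁻¹ := by
    intro W Z h
    have h5 : W * Z * W⁻¹ = Z⁻¹ := by rw [h]; group
    have h6 : W * Z = Z⁻¹ * W := by rw [← h5]; group
    have : Z * (W * Z) * Z⁻¹ = Z * (Z⁻¹ * W) * Z⁻¹ := by rw [h6]
    calc Z * W = Z * (W * Z) * Z⁻¹ := by group
      _ = Z * (Z⁻¹ * W) * Z⁻¹ := this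
      _ = W * Z⁻¹ := by group
  exact key _ _ h3

/-- `w(x)⁻¹ = w(-x)`. -/
theorem weyl_inv {X : Over S} (x x' : X ⟶ Red.Ga S) :
    ((x ≫ pp) * (x' ≫ pm) * (x ≫ pp))⁻¹ = (x⁻¹ ≫ pp) * (x'⁻¹ ≫ pm) * (x⁻¹ ≫ pp) := by
  rw [GrpObj.inv_comp, GrpObj.inv_comp]; group

/-- `w(x) w(y) = α^*(-x/y)`. -/
theorem weyl_mul_weyl
    (hpp : ∀ (X : Over S) (t : X ⟶ T) (x : X ⟶ Red.Ga S), ∃ x' : X ⟶ Red.Ga S,
      x' ≫ pp = (t ≫ i) * (x ≫ pp) * (t ≫ i)⁻¹ ∧ Red.gaFn x' = Red.gmFn (t ≫ α) * Red.gaFn x)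
    (h2 : av ≫ α = (𝟙 (Red.Gm S)) ^ 2)
    (hF : ∀ (X : Over S) (x y : X ⟶ Red.Ga S), IsUnit (1 + Red.gaFn x * Red.gaFn y) →
      ∃ (x' y' : X ⟶ Red.Ga S) (z : X ⟶ Red.Gm S), Red.gmFn z = 1 + Red.gaFn x * Red.gaFn y ∧
        Red.gaFn x' * Red.gmFn z = Red.gaFn x ∧ Red.gaFn y' * Red.gmFn z = Red.gaFn y ∧
        (x ≫ pp) * (y ≫ pm) = (y' ≫ pm) * (z ≫ av ≫ i) * (x' ≫ pp))
    {X : Over S} (x x' y y' : X ⟶ Red.Ga S) (hx : Red.gaFn x' * Red.gaFn x = -1)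
    (hy : Red.gaFn y' * Red.gaFn y = -1) (m : X ⟶ Red.Gm S)
    (hm : Red.gmFn m * Red.gaFn y = - Red.gaFn x) :
    ((x ≫ pp) * (x' ≫ pm) * (x ≫ pp)) * ((y ≫ pp) * (y' ≫ pm) * (y ≫ pp)) = m ≫ av ≫ i := by
  have hy1 : Red.gaFn y'⁻¹ * Red.gaFn y⁻¹ = -1 := by
    rw [gaFn_inv, gaFn_inv, neg_mul_neg, hy]
  have h3 := weyl_smul i α pp pm av hpp h2 hF y⁻¹ y'⁻¹ hy1 m x x'
    (by rw [gaFn_inv, mul_neg, hm, neg_neg]) hx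
  rw [h3, ← weyl_inv]; group


/-- The reversed commutation rule `p₋(y) p₊(x) = p₊(x/u) α^*(u)⁻¹ p₋(y/u)`, `u = 1 + xy`, existential form. -/
theorem comm_rule_rev_exists
    (hF : ∀ (X : Over S) (x y : X ⟶ Red.Ga S), IsUnit (1 + Red.gaFn x * Red.gaFn y) →
      ∃ (x' y' : X ⟶ Red.Ga S) (z : X ⟶ Red.Gm S), Red.gmFn z = 1 + Red.gaFn x * Red.gaFn y ∧
        Red.gaFn x' * Red.gmFn z = Red.gaFn x ∧ Red.gaFn y' * Red.gmFn z = Red.gaFn y ∧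
        (x ≫ pp) * (y ≫ pm) = (y' ≫ pm) * (z ≫ av ≫ i) * (x' ≫ pp))
    {X : Over S} (x y : X ⟶ Red.Ga S) (hu : IsUnit (1 + Red.gaFn x * Red.gaFn y)) :
    ∃ (x' y' : X ⟶ Red.Ga S) (z : X ⟶ Red.Gm S), Red.gmFn z = 1 + Red.gaFn x * Red.gaFn y ∧
        Red.gaFn x' * Red.gmFn z = Red.gaFn x ∧ Red.gaFn y' * Red.gmFn z = Red.gaFn y ∧
        (y ≫ pm) * (x ≫ pp) = (x' ≫ pp) * (z ≫ av ≫ i)⁻¹ * (y' ≫ pm) := by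
  have h1 : 1 + Red.gaFn x⁻¹ * Red.gaFn y⁻¹ = 1 + Red.gaFn x * Red.gaFn y := by
    rw [gaFn_inv, gaFn_inv, neg_mul_neg]
  obtain ⟨a, b, z, hz, ha, hb, hmul⟩ := hF X x⁻¹ y⁻¹ (by rw [h1]; exact hu)
  refine ⟨a⁻¹, b⁻¹, z, hz.trans h1, ?_, ?_, ?_⟩
  · rw [gaFn_inv, neg_mul, ha, gaFn_inv, neg_neg]
  · rw [gaFn_inv, neg_mul, hb, gaFn_inv, neg_neg]
  · rw [GrpObj.inv_comp, GrpObj.inv_comp] at hmul
    rw [GrpObj.inv_comp, GrpObj.inv_comp]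
    have : (y ≫ pm) * (x ≫ pp) = ((x ≫ pp)⁻¹ * (y ≫ pm)⁻¹)⁻¹ := by group
    rw [this, hmul]; group

/-- The reversed commutation rule `p₋(y) p₊(x) = p₊(x/u) α^*(u)⁻¹ p₋(y/u)`, `u = 1 + xy`. -/
theorem comm_rule_rev
    (hF : ∀ (X : Over S) (x y : X ⟶ Red.Ga S), IsUnit (1 + Red.gaFn x * Red.gaFn y) →
      ∃ (x' y' : X ⟶ Red.Ga S) (z : X ⟶ Red.Gm S), Red.gmFn z = 1 + Red.gaFn x * Red.gaFn y ∧
        Red.gaFn x' * Red.gmFn z = Red.gaFn x ∧ Red.gaFn y' * Red.gmFn z = Red.gaFn y ∧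
        (x ≫ pp) * (y ≫ pm) = (y' ≫ pm) * (z ≫ av ≫ i) * (x' ≫ pp))
    {X : Over S} (x y x' y' : X ⟶ Red.Ga S) (z : X ⟶ Red.Gm S)
    (hz : Red.gmFn z = 1 + Red.gaFn x * Red.gaFn y)
    (hx' : Red.gaFn x' * Red.gmFn z = Red.gaFn x) (hy' : Red.gaFn y' * Red.gmFn z = Red.gaFn y) :
    (y ≫ pm) * (x ≫ pp) = (x' ≫ pp) * (z ≫ av ≫ i)⁻¹ * (y' ≫ pm) := by
  have hu : IsUnit (Red.gmFn z) := isUnit_gmFn z
  obtain ⟨a, b, z', hz', ha, hb, hmul⟩ := comm_rule_rev_exists i pp pm av hF x y (by rw [← hz]; exact hu)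
  have hzz : z' = z := gmFn_injective (hz'.trans hz.symm)
  subst hzz
  have e1 : a = x' := gaFn_injective (hu.mul_right_cancel (ha.trans hx'.symm))
  have e2 : b = y' := gaFn_injective (hu.mul_right_cancel (hb.trans hy'.symm))
  rw [← e1, ← e2]; exact hmul

/-- `w(x) p₊(a) w(x)⁻¹ = p₋(-a x⁻²)` whenever `1 - a x⁻¹` is invertible. -/
theorem weyl_conj_rootElt_of_isUnit
    (hpp : ∀ (X : Over S) (t : X ⟶ T) (x : X ⟶ Red.Ga S), ∃ x' : X ⟶ Red.Ga S,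
      x' ≫ pp = (t ≫ i) * (x ≫ pp) * (t ≫ i)⁻¹ ∧ Red.gaFn x' = Red.gmFn (t ≫ α) * Red.gaFn x)
    (h2 : av ≫ α = (𝟙 (Red.Gm S)) ^ 2)
    (hF : ∀ (X : Over S) (x y : X ⟶ Red.Ga S), IsUnit (1 + Red.gaFn x * Red.gaFn y) →
      ∃ (x' y' : X ⟶ Red.Ga S) (z : X ⟶ Red.Gm S), Red.gmFn z = 1 + Red.gaFn x * Red.gaFn y ∧
        Red.gaFn x' * Red.gmFn z = Red.gaFn x ∧ Red.gaFn y' * Red.gmFn z = Red.gaFn y ∧
        (x ≫ pp) * (y ≫ pm) = (y' ≫ pm) * (z ≫ av ≫ i) * (x' ≫ pp))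
    {X : Over S} (x x' : X ⟶ Red.Ga S) (hx : Red.gaFn x' * Red.gaFn x = -1)
    (a b : X ⟶ Red.Ga S) (hu : IsUnit (1 + Red.gaFn a * Red.gaFn x'))
    (hb : Red.gaFn b = - Red.gaFn a * Red.gaFn x' ^ 2) :
    ((x ≫ pp) * (x' ≫ pm) * (x ≫ pp)) * (a ≫ pp) * ((x ≫ pp) * (x' ≫ pm) * (x ≫ pp))⁻¹ = b ≫ pm := by
  -- step 1
  obtain ⟨a₁, y₁, z, hz, ha₁, hy₁, e1⟩ := comm_rule_rev_exists i pp pm av hF a x' hu
  have hzi : Red.gmFn z⁻¹ * Red.gmFn z = 1 := gmFn_inv_mul z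
  have huz : IsUnit (Red.gmFn z) := isUnit_gmFn z
  -- step 3
  have h3 : 1 + Red.gaFn x⁻¹ * Red.gaFn (y₁ * x'⁻¹) = Red.gmFn z⁻¹ := by
    apply huz.mul_right_cancel
    rw [gaFn_inv, gaFn_mul, gaFn_inv]
    linear_combination (- Red.gaFn x) * hy₁ + (Red.gmFn z - 1) * hx - hzi
  obtain ⟨a₃, y₃, z₂, hz₂, ha₃, hy₃, e3⟩ := comm_rule_rev_exists i pp pm av hF x⁻¹ (y₁ * x'⁻¹)
    (by rw [h3]; exact isUnit_gmFn _)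
  have hz₂' : z₂ = z⁻¹ := gmFn_injective (hz₂.trans h3)
  subst hz₂'
  rw [gaFn_inv] at ha₃
  rw [gaFn_mul, gaFn_inv] at hy₃
  -- step 4
  obtain ⟨a₄, e4, ha₄⟩ := hpp X (z ≫ av)⁻¹ a₃
  have hm : Red.gmFn ((z ≫ av)⁻¹ ≫ α) * Red.gmFn z ^ 2 = 1 := by
    rw [← gmFn_av_α α av h2, gmFn_inv_comp_mul]
  -- coordinates
  have hy₃b : y₃ = b := by
    apply gaFn_injective
    rw [hb]
    linear_combination (- Red.gaFn y₃) * hzi + Red.gmFn z * hy₃ + hy₁ - Red.gaFn x' * hz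
  have hG : Red.gaFn a₄ * Red.gmFn z + Red.gaFn x = 0 := by
    linear_combination Red.gmFn z * ha₄ + Red.gmFn ((z ≫ av)⁻¹ ≫ α) * Red.gmFn z ^ 2 * ha₃
      - Red.gaFn x * hm - Red.gmFn ((z ≫ av)⁻¹ ≫ α) * Red.gmFn z * Red.gaFn a₃ * hzi
  have hsum : x * a₁ * a₄ = 1 := by
    apply gaFn_injective
    apply huz.mul_right_cancel
    rw [gaFn_mul, gaFn_mul, gaFn_one]
    linear_combination Red.gaFn x * hz + Red.gaFn a * hx + ha₁ + hG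
  have hPA : (x ≫ pp) * (a₁ ≫ pp) * (a₄ ≫ pp) = 1 := by
    rw [← MonObj.mul_comp x a₁ pp, ← MonObj.mul_comp (x * a₁) a₄ pp, hsum, MonObj.one_comp]
  have hcomm : (x ≫ pp) * (a ≫ pp) = (a ≫ pp) * (x ≫ pp) := by
    rw [← MonObj.mul_comp x a pp, ← MonObj.mul_comp a x pp, ga_mul_comm]
  have hY₂ : (y₁ * x'⁻¹) ≫ pm = (y₁ ≫ pm) * (x' ≫ pm)⁻¹ := by
    rw [MonObj.mul_comp, GrpObj.inv_comp]
  rw [GrpObj.inv_comp] at e3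
  rw [GrpObj.inv_comp, hY₂] at e3
  rw [GrpObj.inv_comp, Category.assoc] at e4
  rw [← hy₃b]
  -- assemble
  have e5 : (x ≫ pp) * (x' ≫ pm) * (x ≫ pp) * (a ≫ pp) * ((x ≫ pp) * (x' ≫ pm) * (x ≫ pp))⁻¹ =
      (x ≫ pp) * (x' ≫ pm) * ((x ≫ pp) * (a ≫ pp)) * (x ≫ pp)⁻¹ * (x' ≫ pm)⁻¹ * (x ≫ pp)⁻¹ := by group
  rw [e5, hcomm]
  have e5' : (x ≫ pp) * (x' ≫ pm) * ((a ≫ pp) * (x ≫ pp)) * (x ≫ pp)⁻¹ * (x' ≫ pm)⁻¹ * (x ≫ pp)⁻¹ =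
      (x ≫ pp) * ((x' ≫ pm) * (a ≫ pp)) * (x' ≫ pm)⁻¹ * (x ≫ pp)⁻¹ := by group
  rw [e5', e1]
  have e6 : (x ≫ pp) * ((a₁ ≫ pp) * (z ≫ av ≫ i)⁻¹ * (y₁ ≫ pm)) * (x' ≫ pm)⁻¹ * (x ≫ pp)⁻¹ =
      (x ≫ pp) * (a₁ ≫ pp) * (z ≫ av ≫ i)⁻¹ * ((y₁ ≫ pm) * (x' ≫ pm)⁻¹ * (x ≫ pp)⁻¹) := by group
  rw [e6, e3]
  have e7 : (x ≫ pp) * (a₁ ≫ pp) * (z ≫ av ≫ i)⁻¹ *
      ((a₃ ≫ pp) * ((z ≫ av ≫ i)⁻¹)⁻¹ * (y₃ ≫ pm)) =
      (x ≫ pp) * (a₁ ≫ pp) * ((z ≫ av ≫ i)⁻¹ * (a₃ ≫ pp) * ((z ≫ av ≫ i)⁻¹)⁻¹) * (y₃ ≫ pm) := by group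
  rw [e7, ← e4, hPA, _root_.one_mul]


/-- `w(x) p₊(x) w(x)⁻¹ = p₋(-x⁻¹)` (SGA3 XX 3.1 (iv) at `Y = X`), proved after the finite free cover
adjoining `s` with `s (1 - s) = 1`, on which `x = s x + (1 - s) x` splits into two pieces to which
the commutation rule applies. -/
theorem weyl_conj_rootElt
    (hpp : ∀ (X : Over S) (t : X ⟶ T) (x : X ⟶ Red.Ga S), ∃ x' : X ⟶ Red.Ga S,
      x' ≫ pp = (t ≫ i) * (x ≫ pp) * (t ≫ i)⁻¹ ∧ Red.gaFn x' = Red.gmFn (t ≫ α) * Red.gaFn x)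
    (h2 : av ≫ α = (𝟙 (Red.Gm S)) ^ 2)
    (hF : ∀ (X : Over S) (x y : X ⟶ Red.Ga S), IsUnit (1 + Red.gaFn x * Red.gaFn y) →
      ∃ (x' y' : X ⟶ Red.Ga S) (z : X ⟶ Red.Gm S), Red.gmFn z = 1 + Red.gaFn x * Red.gaFn y ∧
        Red.gaFn x' * Red.gmFn z = Red.gaFn x ∧ Red.gaFn y' * Red.gmFn z = Red.gaFn y ∧
        (x ≫ pp) * (y ≫ pm) = (y' ≫ pm) * (z ≫ av ≫ i) * (x' ≫ pp))
    {X : Over S} (x x' : X ⟶ Red.Ga S) (hx : Red.gaFn x' * Red.gaFn x = -1) :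
    ((x ≫ pp) * (x' ≫ pm) * (x ≫ pp)) * (x ≫ pp) * ((x ≫ pp) * (x' ≫ pm) * (x ≫ pp))⁻¹ = x' ≫ pm := by
  obtain ⟨X', π, s, hπ, hs⟩ := exists_cover_units_sum_one X
  rw [← cancel_epi π]
  have hx₀ : Red.gaFn (π ≫ x') * Red.gaFn (π ≫ x) = -1 := by
    rw [gaFn_comp, gaFn_comp, ← map_mul, hx, map_neg, map_one]
  obtain ⟨a₁, ha₁⟩ := exists_gaFn_eq (X := X') (s * Red.gaFn (π ≫ x))
  obtain ⟨a₂, ha₂⟩ := exists_gaFn_eq (X := X') ((1 - s) * Red.gaFn (π ≫ x))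
  obtain ⟨b₁, hb₁⟩ := exists_gaFn_eq (X := X') (s * Red.gaFn (π ≫ x'))
  obtain ⟨b₂, hb₂⟩ := exists_gaFn_eq (X := X') ((1 - s) * Red.gaFn (π ≫ x'))
  have hs1 : IsUnit s := IsUnit.of_mul_eq_one _ hs
  have hs2 : IsUnit (1 - s) := IsUnit.of_mul_eq_one s (by rw [mul_comm]; exact hs)
  have e1 := weyl_conj_rootElt_of_isUnit i α pp pm av hpp h2 hF (π ≫ x) (π ≫ x') hx₀ a₁ b₁
    (by
      have : 1 + Red.gaFn a₁ * Red.gaFn (π ≫ x') = 1 - s := by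
        rw [ha₁]; linear_combination s * hx₀
      rw [this]; exact hs2)
    (by rw [ha₁, hb₁]; linear_combination (s * Red.gaFn (π ≫ x')) * hx₀)
  have e2 := weyl_conj_rootElt_of_isUnit i α pp pm av hpp h2 hF (π ≫ x) (π ≫ x') hx₀ a₂ b₂
    (by
      have : 1 + Red.gaFn a₂ * Red.gaFn (π ≫ x') = s := by
        rw [ha₂]; linear_combination (1 - s) * hx₀
      rw [this]; exact hs1)
    (by rw [ha₂, hb₂]; linear_combination ((1 - s) * Red.gaFn (π ≫ x')) * hx₀)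
  have ea : π ≫ x = a₁ * a₂ := by
    apply gaFn_injective
    rw [gaFn_mul, ha₁, ha₂]; ring
  have eb : π ≫ x' = b₁ * b₂ := by
    apply gaFn_injective
    rw [gaFn_mul, hb₁, hb₂]; ring
  rw [MonObj.comp_mul, MonObj.comp_mul, GrpObj.comp_inv, MonObj.comp_mul, MonObj.comp_mul]
  simp only [← Category.assoc]
  have e3 : ((π ≫ x) ≫ pp * (π ≫ x') ≫ pm * (π ≫ x) ≫ pp) * (π ≫ x) ≫ pp *
      ((π ≫ x) ≫ pp * (π ≫ x') ≫ pm * (π ≫ x) ≫ pp)⁻¹ = (b₁ ≫ pm) * (b₂ ≫ pm) := by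
    rw [← e1, ← e2]
    conv_lhs => rw [show ((π ≫ x) ≫ pp * (π ≫ x') ≫ pm * (π ≫ x) ≫ pp) * (π ≫ x) ≫ pp = 
      ((π ≫ x) ≫ pp * (π ≫ x') ≫ pm * (π ≫ x) ≫ pp) * ((a₁ * a₂) ≫ pp) by rw [← ea]]
    rw [MonObj.mul_comp a₁ a₂ pp]
    group
  rw [e3, ← MonObj.mul_comp b₁ b₂ pm, ← eb]


/-- `(w(x) p₊(x))³ = 1`. -/
theorem weyl_mul_rootElt_pow_three
    (hpp : ∀ (X : Over S) (t : X ⟶ T) (x : X ⟶ Red.Ga S), ∃ x' : X ⟶ Red.Ga S,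
      x' ≫ pp = (t ≫ i) * (x ≫ pp) * (t ≫ i)⁻¹ ∧ Red.gaFn x' = Red.gmFn (t ≫ α) * Red.gaFn x)
    (h2 : av ≫ α = (𝟙 (Red.Gm S)) ^ 2)
    (hF : ∀ (X : Over S) (x y : X ⟶ Red.Ga S), IsUnit (1 + Red.gaFn x * Red.gaFn y) →
      ∃ (x' y' : X ⟶ Red.Ga S) (z : X ⟶ Red.Gm S), Red.gmFn z = 1 + Red.gaFn x * Red.gaFn y ∧
        Red.gaFn x' * Red.gmFn z = Red.gaFn x ∧ Red.gaFn y' * Red.gmFn z = Red.gaFn y ∧
        (x ≫ pp) * (y ≫ pm) = (y' ≫ pm) * (z ≫ av ≫ i) * (x' ≫ pp))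
    {X : Over S} (x x' : X ⟶ Red.Ga S) (hx : Red.gaFn x' * Red.gaFn x = -1) :
    (((x ≫ pp) * (x' ≫ pm) * (x ≫ pp)) * (x ≫ pp)) ^ 3 = 1 := by
  obtain ⟨n, hn⟩ := exists_gmFn_eq (X := X) (-1) (IsUnit.neg isUnit_one)
  have hW2 := weyl_mul_weyl i α pp pm av hpp h2 hF x x' x x' hx hx n (by rw [hn]; ring)
  have hQ := weyl_conj_rootElt i α pp pm av hpp h2 hF x x' hx
  obtain ⟨x₁, hx₁, hx₁'⟩ := hpp X (n ≫ av) x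
  have hxx : x₁ = x := gaFn_injective (by rw [hx₁', gmFn_av_α α av h2, hn]; ring)
  rw [hxx, Category.assoc] at hx₁
  have hc2 : (n ≫ av ≫ i) * (n ≫ av ≫ i) = 1 := by
    rw [← MonObj.mul_comp n n (av ≫ i)]
    have : n * n = 1 := gmFn_injective (by rw [gmFn_mul, gmFn_one, hn]; ring)
    rw [this, MonObj.one_comp]
  generalize (n ≫ av ≫ i) = c at *
  generalize (x ≫ pp) = P at *
  generalize (x' ≫ pm) = Q at *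
  generalize hw : P * Q * P = w at *
  rw [← hQ] at hw
  have e1 : P * w * P = w * P⁻¹ * w := by
    calc P * w * P = (P * (w * P * w⁻¹) * P) * P⁻¹ * w := by group
      _ = w * P⁻¹ * w := by rw [hw]
  have e0 : c * P = P * c := by
    calc c * P = (c * P * c⁻¹) * c := by group
      _ = P * c := by rw [← hx₁]
  have e2 : c * P⁻¹ = P⁻¹ * c := by
    calc c * P⁻¹ = P⁻¹ * (P * c) * P⁻¹ := by group
      _ = P⁻¹ * (c * P) * P⁻¹ := by rw [e0]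
      _ = P⁻¹ * c := by group
  calc (w * P) ^ 3 = w * (P * w * P) * w * P := by
        rw [_root_.pow_succ, _root_.pow_succ, _root_.pow_one]; group
    _ = w * (w * P⁻¹ * w) * w * P := by rw [e1]
    _ = (w * w) * P⁻¹ * (w * w) * P := by group
    _ = c * P⁻¹ * c * P := by rw [hW2]
    _ = P⁻¹ * c * c * P := by rw [e2]
    _ = P⁻¹ * (c * c) * P := by group
    _ = 1 := by rw [hc2]; group


/-- The braid relation `p₋(-x⁻¹) p₊(x) p₋(-x⁻¹) = p₊(x) p₋(-x⁻¹) p₊(x)` (SGA3 XX 3.1 (iii)). -/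
theorem weyl_braid
    (hpp : ∀ (X : Over S) (t : X ⟶ T) (x : X ⟶ Red.Ga S), ∃ x' : X ⟶ Red.Ga S,
      x' ≫ pp = (t ≫ i) * (x ≫ pp) * (t ≫ i)⁻¹ ∧ Red.gaFn x' = Red.gmFn (t ≫ α) * Red.gaFn x)
    (h2 : av ≫ α = (𝟙 (Red.Gm S)) ^ 2)
    (hF : ∀ (X : Over S) (x y : X ⟶ Red.Ga S), IsUnit (1 + Red.gaFn x * Red.gaFn y) →
      ∃ (x' y' : X ⟶ Red.Ga S) (z : X ⟶ Red.Gm S), Red.gmFn z = 1 + Red.gaFn x * Red.gaFn y ∧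
        Red.gaFn x' * Red.gmFn z = Red.gaFn x ∧ Red.gaFn y' * Red.gmFn z = Red.gaFn y ∧
        (x ≫ pp) * (y ≫ pm) = (y' ≫ pm) * (z ≫ av ≫ i) * (x' ≫ pp))
    {X : Over S} (x x' : X ⟶ Red.Ga S) (hx : Red.gaFn x' * Red.gaFn x = -1) :
    (x' ≫ pm) * (x ≫ pp) * (x' ≫ pm) = (x ≫ pp) * (x' ≫ pm) * (x ≫ pp) := by
  have hQ := weyl_conj_rootElt i α pp pm av hpp h2 hF x x' hx
  generalize (x ≫ pp) = P at *
  generalize (x' ≫ pm) = Q at *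
  calc Q * P * Q = (P * Q * P * P * (P * Q * P)⁻¹) * P * Q := by rw [hQ]
    _ = P * Q * P := by group

end RankOne

end Groth.Agent.Lib.Helper13
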