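import Mathlib.LinearAlgebra.Matrix.Determinant.Basic
import Mathlib.LinearAlgebra.Matrix.NonsingularInverse
import Mathlib.LinearAlgebra.Matrix.Basis
import Mathlib.LinearAlgebra.FreeModule.Basic
import Mathlib.LinearAlgebra.Dual.Basis
import Mathlib.LinearAlgebra.Dimension.StrongRankCondition
import Mathlib.RingTheory.TensorProduct.Free
import Mathlib.LinearAlgebra.FreeModule.Finite.Basic
import Mathlib.LinearAlgebra.Dimension.Free

set_option autoImplicit false
open scoped TensorProduct Matrix

namespace Groth.Agent.Lib.Helper13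

theorem exists_vec_forall_sum_smul_ne_zero {k K : Type*} [Field k] [Field K] [Algebra k K] {n : ℕ}
    (A : Matrix (Fin n) (Fin n) K) (hA : A.det ≠ 0) :
    ∃ c : Fin n → k, ∀ i, ∑ j, c j • A i j ≠ 0 := by
  classical
  let β := Module.Free.chooseBasis k K
  let T : Finset (Module.Free.ChooseBasisIndex k K) :=
    Finset.univ.biUnion fun i : Fin n => Finset.univ.biUnion fun j : Fin n => (β.repr (A i j)).support
  have hT : ∀ i j, (β.repr (A i j)).support ⊆ T := by
    intro i j s hs
    exact Finset.mem_biUnion.mpr ⟨i, Finset.mem_univ _, Finset.mem_biUnion.mpr ⟨j, Finset.mem_univ _, hs⟩⟩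
  have hrow : ∀ i j, A i j = ∑ s ∈ T, β s * algebraMap k K (β.repr (A i j) s) := by
    intro i j
    conv_lhs => rw [← β.linearCombination_repr (A i j)]
    rw [Finsupp.linearCombination_apply, Finsupp.sum]
    rw [Finset.sum_subset (hT i j) (fun s _ hs => by simp [Finsupp.notMem_support_iff.mp hs])]
    refine Finset.sum_congr rfl fun s _ => ?_
    rw [Algebra.smul_def, mul_comm]
  have hrows : A = fun i => ∑ s ∈ T, β s • (fun j => algebraMap k K (β.repr (A i j) s)) := by
    funext i j
    rw [Finset.sum_apply]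
    simp only [Pi.smul_apply, smul_eq_mul]
    exact hrow i j
  have hdet : A.det = ∑ σ ∈ Fintype.piFinset (fun _ : Fin n => T),
      (∏ i, β (σ i)) * algebraMap k K (Matrix.det (Matrix.of fun i j => β.repr (A i j) (σ i))) := by
    conv_lhs => rw [hrows]
    change Matrix.detRowAlternating.toMultilinearMap
      (fun i => ∑ s ∈ T, β s • (fun j => algebraMap k K (β.repr (A i j) s))) = _
    rw [MultilinearMap.map_sum_finset]
    refine Finset.sum_congr rfl fun σ _ => ?_
    rw [MultilinearMap.map_smul_univ, smul_eq_mul]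
    congr 1
    rw [RingHom.map_det]
    rfl
  obtain ⟨σ, -, hσ⟩ := Finset.exists_ne_zero_of_sum_ne_zero (hdet ▸ hA)
  set R : Matrix (Fin n) (Fin n) k := Matrix.of fun i j => β.repr (A i j) (σ i) with hRdef
  have hR : R.det ≠ 0 := by
    intro h0
    apply hσ
    rw [h0, map_zero, mul_zero]
  have hRu : IsUnit R.det := isUnit_iff_ne_zero.mpr hR
  let c : Fin n → k := R⁻¹ *ᵥ (fun _ => 1)
  have hc : R *ᵥ c = fun _ => 1 := by
    rw [Matrix.mulVec_mulVec, Matrix.mul_nonsing_inv _ hRu, Matrix.one_mulVec]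
  refine ⟨c, fun i h0 => ?_⟩
  have h1 := congrArg (fun z => β.repr z (σ i)) h0
  simp only [map_sum, map_smul, Finsupp.coe_finsetSum, Finset.sum_apply, Finsupp.smul_apply,
    map_zero, Finsupp.zero_apply, smul_eq_mul] at h1
  have h2 : (R *ᵥ c) i = 1 := congrFun hc i
  rw [Matrix.mulVec, dotProduct] at h2
  have h3 : ∑ j, R i j * c j = ∑ j, c j * β.repr (A i j) (σ i) :=
    Finset.sum_congr rfl fun j _ => by rw [mul_comm]; rfl
  rw [h3, h1] at h2
  exact zero_ne_one h2

/-- For a field extension `K/k`, a finite-dimensional `k`-space `V` and a basis `θ` of the dual of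
`K ⊗ V`, some `k`-rational vector avoids all the hyperplanes `ker θ i`. -/
theorem exists_forall_dualBasis_ne_zero {k K : Type*} [Field k] [Field K] [Algebra k K]
    {V : Type*} [AddCommGroup V] [Module k V] [Module.Finite k V] {ι : Type*} [Fintype ι]
    (θ : Module.Basis ι K (Module.Dual K (K ⊗[k] V))) :
    ∃ x : V, ∀ i : ι, θ i ((1 : K) ⊗ₜ[k] x) ≠ 0 := by
  classical
  let b : Module.Basis (Fin (Module.finrank k V)) k V := Module.finBasis k V
  let B : Module.Basis (Fin (Module.finrank k V)) K (K ⊗[k] V) := Algebra.TensorProduct.basis K b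
  let e : ι ≃ Fin (Module.finrank k V) := θ.indexEquiv B.dualBasis
  let θ' : Module.Basis (Fin (Module.finrank k V)) K (Module.Dual K (K ⊗[k] V)) := θ.reindex e
  let A : Matrix (Fin (Module.finrank k V)) (Fin (Module.finrank k V)) K := fun i j => θ' i (B j)
  have hA : A.det ≠ 0 := by
    have h1 : Aᵀ = B.dualBasis.toMatrix θ' := by
      ext j i
      simp [Module.Basis.toMatrix_apply, A]
    have h2 : (B.dualBasis.toMatrix θ') * (θ'.toMatrix B.dualBasis) = 1 :=
      Module.Basis.toMatrix_mul_toMatrix_flip _ _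
    have h3 : IsUnit (B.dualBasis.toMatrix θ').det := by
      have := congrArg Matrix.det h2
      rw [Matrix.det_mul, Matrix.det_one] at this
      exact IsUnit.of_mul_eq_one _ this
    rw [← Matrix.det_transpose, h1]
    exact h3.ne_zero
  obtain ⟨c, hc⟩ := exists_vec_forall_sum_smul_ne_zero (k := k) A hA
  refine ⟨∑ j, c j • b j, fun i => ?_⟩
  have hθ : θ i = θ' (e i) := by simp [θ']
  rw [hθ]
  have : θ' (e i) ((1 : K) ⊗ₜ[k] ∑ j, c j • b j) = ∑ j, c j • A (e i) j := by
    rw [TensorProduct.tmul_sum, map_sum]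
    refine Finset.sum_congr rfl fun j _ => ?_
    rw [TensorProduct.tmul_smul, LinearMap.map_smul_of_tower]
    simp [A, B]
  rw [this]
  exact hc (e i)

end Groth.Agent.Lib.Helper13
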