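import Groth.Agent.Lib.Helper13.RelSpecBasic

set_option autoImplicit false
universe u
open CategoryTheory CategoryTheory.Limits AlgebraicGeometry Opposite TopologicalSpace
open scoped HomogeneousIdeal

noncomputable section
namespace Groth.Agent.Lib.Helper13

variable {S : Scheme.{u}} (A : RelSpec.QCAlg S)

theorem ι_injective (U : S.Opens) (hU : IsAffineOpen U) : Function.Injective (A.ι U hU).base :=
  (A.ι U hU).isOpenEmbedding.injective

theorem mem_range_ι_iff (U : S.Opens) (hU : IsAffineOpen U) (y : A.spec) :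
    y ∈ Set.range (A.ι U hU).base ↔ A.π.base y ∈ U := by
  have h := A.π_preimage U hU
  have : y ∈ A.π ⁻¹ᵁ U ↔ y ∈ (A.ι U hU).opensRange := by rw [h]
  exact this.symm

theorem exists_chart_of_mem (U : S.Opens) (hU : IsAffineOpen U) (y : A.spec) (hy : A.π.base y ∈ U) :
    ∃ x : Spec (A.presheaf.obj (op U)), (A.ι U hU).base x = y :=
  (mem_range_ι_iff A U hU y).mpr hy

theorem π_ι_mem (U : S.Opens) (hU : IsAffineOpen U) (x : Spec (A.presheaf.obj (op U))) :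
    A.π.base ((A.ι U hU).base x) ∈ U :=
  (mem_range_ι_iff A U hU _).mp ⟨x, rfl⟩


section cone

variable {Y : Scheme.{u}} (𝒮 : RelProj.QCGrAlg Y)

theorem irrelevant_le_ker_aug (aug : 𝒮.toQCAlg ⟶ RelSpec.QCAlg.unit Y) (haug : RelCone.IsAugmentation 𝒮 aug)
    (U : Y.Opens) (hU : IsAffineOpen U) (x : 𝒮.presheaf.obj (op U))
    (hx : x ∈ (HomogeneousIdeal.irrelevant (𝒮.deg U hU)).toIdeal) :
    (augApp 𝒮.toQCAlg aug U).hom x = 0 := by
  have h : (HomogeneousIdeal.irrelevant (𝒮.deg U hU)).toIdeal ≤ RingHom.ker (augApp 𝒮.toQCAlg aug U).hom := by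
    rw [HomogeneousIdeal.toIdeal_irrelevant_le]
    intro i hi x hx
    obtain ⟨d, rfl⟩ : ∃ d, i = d + 1 := ⟨i - 1, by omega⟩
    exact haug U hU d x hx
  exact h hx

theorem vertex_apply (aug : 𝒮.toQCAlg ⟶ RelSpec.QCAlg.unit Y) (ε : Y ⟶ 𝒮.toQCAlg.spec)
    (hε : RelCone.IsVertex 𝒮 aug ε) (U : Y.Opens) (hU : IsAffineOpen U) (t : Spec Γ(Y, U)) :
    ε.base (hU.fromSpec.base t) =
      (𝒮.toQCAlg.ι U hU).base ((Spec.map (augApp 𝒮.toQCAlg aug U)).base t) := by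
  have h2 : (hU.fromSpec ≫ ε).base t =
      (Spec.map (augApp 𝒮.toQCAlg aug U) ≫ 𝒮.toQCAlg.ι U hU).base t := by
    rw [hε.chart U hU]
    rfl
  exact h2


theorem mem_pointedCone_iff (y : 𝒮.toQCAlg.spec) :
    y ∈ RelCone.pointedCone 𝒮 ↔ ∃ (U : Y.Opens) (hU : IsAffineOpen U) (P : Spec (𝒮.presheaf.obj (op U))),
      P ∈ RelCone.vertexCompl (𝒮.deg U hU) ∧ (𝒮.toQCAlg.ι U hU).base P = y := by
  rw [RelCone.pointedCone, Opens.mem_iSup]
  constructor
  · rintro ⟨⟨U, hU⟩, P, hP, hPy⟩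
    exact ⟨U, hU, P, hP, hPy⟩
  · rintro ⟨U, hU, P, hP, hPy⟩
    exact ⟨⟨U, hU⟩, P, hP, hPy⟩

theorem mem_vertexCompl_iff {R : CommRingCat.{u}} (𝒜 : ℕ → AddSubgroup R) [GradedRing 𝒜] (P : Spec R) :
    P ∈ RelCone.vertexCompl 𝒜 ↔ ¬ ((HomogeneousIdeal.irrelevant 𝒜).toIdeal ≤ P.asIdeal) := by
  exact Iff.rfl

theorem sub_str_aug_mem_irrelevant (h0 : RelCone.StrZeroBij 𝒮) (aug : 𝒮.toQCAlg ⟶ RelSpec.QCAlg.unit Y)
    (haug : RelCone.IsAugmentation 𝒮 aug) (U : Y.Opens) (hU : IsAffineOpen U) (x : 𝒮.presheaf.obj (op U)) :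
    x - (𝒮.str.app (op U)).hom ((augApp 𝒮.toQCAlg aug U).hom x) ∈
      (HomogeneousIdeal.irrelevant (𝒮.deg U hU)).toIdeal := by
  classical
  set x0 : 𝒮.presheaf.obj (op U) := GradedRing.proj (𝒮.deg U hU) 0 x with hx0
  have hx0mem : x0 ∈ 𝒮.deg U hU 0 := by
    rw [hx0, GradedRing.proj_apply]; exact SetLike.coe_mem _
  obtain ⟨r, hr⟩ := (h0 U hU).2 ⟨x0, hx0mem⟩
  have hr' : (𝒮.str.app (op U)).hom r = x0 := congrArg Subtype.val hr
  have h1 : x - x0 ∈ (HomogeneousIdeal.irrelevant (𝒮.deg U hU)).toIdeal := by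
    change x - x0 ∈ HomogeneousIdeal.irrelevant (𝒮.deg U hU)
    rw [HomogeneousIdeal.mem_irrelevant_iff, map_sub, ← hx0]
    have : GradedRing.proj (𝒮.deg U hU) 0 x0 = x0 := by
      rw [GradedRing.proj_apply, DirectSum.decompose_of_mem_same _ hx0mem]
    rw [this, sub_self]
  have h2 := irrelevant_le_ker_aug 𝒮 aug haug U hU _ h1
  rw [map_sub, sub_eq_zero] at h2
  have h3 : (augApp 𝒮.toQCAlg aug U).hom x0 = r := by
    rw [← hr']
    have := str_augApp 𝒮.toQCAlg aug U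
    exact congrArg (fun f => f.hom r) this
  rw [h2, h3, hr']
  exact h1

theorem pointedCone_eq (h0 : RelCone.StrZeroBij 𝒮) (aug : 𝒮.toQCAlg ⟶ RelSpec.QCAlg.unit Y)
    (haug : RelCone.IsAugmentation 𝒮 aug) (ε : Y ⟶ 𝒮.toQCAlg.spec) (hε : RelCone.IsVertex 𝒮 aug ε) :
    ((RelCone.pointedCone 𝒮 : 𝒮.toQCAlg.spec.Opens) : Set 𝒮.toQCAlg.spec) = (Set.range ε.base)ᶜ := by
  ext y
  rw [Set.mem_compl_iff, SetLike.mem_coe, mem_pointedCone_iff]
  constructor
  · rintro ⟨U, hU, P, hP, rfl⟩ ⟨t, ht⟩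
    have htU : t ∈ U := by
      have h1 := π_ι_mem 𝒮.toQCAlg U hU P
      rw [← ht, ← Scheme.Hom.comp_apply, hε.comp_π] at h1
      exact h1
    obtain ⟨t', rfl⟩ : ∃ t' : Spec Γ(Y, U), hU.fromSpec.base t' = t := by
      have := hU.range_fromSpec
      have h2 : t ∈ Set.range hU.fromSpec.base := by rw [this]; exact htU
      exact h2
    rw [vertex_apply 𝒮 aug ε hε U hU t'] at ht
    have hP' := ι_injective 𝒮.toQCAlg U hU ht
    rw [mem_vertexCompl_iff] at hP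
    apply hP
    intro x hx
    rw [← hP']
    change (augApp 𝒮.toQCAlg aug U).hom x ∈ t'.asIdeal
    rw [irrelevant_le_ker_aug 𝒮 aug haug U hU x hx]
    exact zero_mem _
  · intro hy
    obtain ⟨U, hU, P, rfl⟩ := exists_chart 𝒮.toQCAlg y
    refine ⟨U, hU, P, ?_, rfl⟩
    rw [mem_vertexCompl_iff]
    intro hle
    apply hy
    refine ⟨hU.fromSpec.base ((Spec.map (𝒮.str.app (op U))).base P), ?_⟩
    rw [vertex_apply 𝒮 aug ε hε U hU]
    congr 1
    -- comap aug (comap str P) = P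
    apply PrimeSpectrum.ext
    ext x
    change (𝒮.str.app (op U)).hom ((augApp 𝒮.toQCAlg aug U).hom x) ∈ P.asIdeal ↔ x ∈ P.asIdeal
    have hmem := hle (sub_str_aug_mem_irrelevant 𝒮 h0 aug haug U hU x)
    constructor
    · intro h
      have := add_mem hmem h
      rwa [sub_add_cancel] at this
    · intro h
      have := sub_mem h hmem
      rwa [sub_sub_cancel] at this

end cone

end Groth.Agent.Lib.Helper13
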