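import Mathlib
import Groth.Agent.Lib.Helper13.SheafHomExact
import Groth.Agent.Lib.Helper13.FlfResolution
import Groth.Agent.Lib.Helper13.FunctorLES2
import Groth.Agent.Lib.Helper3.QCExact

/-!
# Relative internal hom `P ∘ ℋ(M, -)` (helper13)

For an additive left exact functor `P` out of `Mod O` which sends `ℋ(M₂, I) → ℋ(M₁, I)` to an
epimorphism for `M₁ ↪ M₂` and `I` injective (e.g. a direct image functor):
* the long exact sequence in the first variable;
* computation of `R^i (P ∘ ℋ(F, -))(G)` via a resolution of `F` by modules `L_j` with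
  `R^p (P ∘ ℋ(L_j, -))(G) = 0`.
-/

set_option autoImplicit false
universe u v u₁ v₁

open CategoryTheory CategoryTheory.Limits Opposite

noncomputable section

namespace Groth.Agent.Lib.Helper13.RelHomExact

open Groth.Agent.Lib.Helper13 Groth.Agent.Lib.Helper13.SheafHomExact
  Groth.Agent.Lib.Helper13.FlfResolution

variable {C : Type u} [SmallCategory C] {J : GrothendieckTopology C} {O : Sheaf J CommRingCat.{u}}

/-- every module has an internal hom -/
local instance hsh' (N : ModSite.Mod O) : ModSite.HasSheafHom N := ModSiteTensor.hasSheafHom O N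

/-- sectionwise surjectivity of `ℋ(M₂, I) → ℋ(M₁, I)` -/
theorem surjective_sheafHomMap_app_of_injective {M₁ M₂ : ModSite.Mod O} (ι : M₁ ⟶ M₂) [Mono ι]
    (I : ModSite.Mod O) [Injective I] (X' : C) :
    Function.Surjective (((ExtSupp.sheafHomMap ι).app I).val.app (op X')) := by
  intro s
  let b := (ModSiteFreeOn.freeOnHomEquiv O X' ((ModSite.sheafHom M₁).obj I)).symm s
  haveI : Mono ((TL (ModSite.freeOn O X')).map ι) :=
    ModSiteFlatSES.mono_obj_map_of_isFlat (ModSiteFreeOn.isFlat_freeOn O X') ι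
  let a := trInv M₂ (Injective.factorThru (tr M₁ b) ((TL (ModSite.freeOn O X')).map ι))
  have ha : a ≫ (ExtSupp.sheafHomMap ι).app I = b := by
    apply tr_injective
    rw [tr_sheafHomMap, tr_trInv, Injective.comp_factorThru]
  refine ⟨ModSiteFreeOn.freeOnHomEquiv O X' _ a, ?_⟩
  rw [← ModSiteFreeOn.freeOnHomEquiv_naturality, ha, Equiv.apply_symm_apply]

section General

variable {ℬ : Type u₁} [Category.{v₁} ℬ] [Abelian ℬ] (P : ModSite.Mod O ⥤ ℬ) [P.Additive]
  [PreservesFiniteLimits P]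

/-- `P ∘ ℋ(M, -)` -/
abbrev TP (M : ModSite.Mod O) : ModSite.Mod O ⥤ ℬ := ModSite.sheafHom M ⋙ P

/-- contravariance -/
abbrev TPmap {M M' : ModSite.Mod O} (g : M' ⟶ M) : TP P M ⟶ TP P M' :=
  Functor.whiskerRight (ExtSupp.sheafHomMap g) P

theorem leftExact_map (S : ShortComplex (ModSite.Mod O)) (h : S.Exact) (hm : Mono S.f) :
    (S.map P).Exact ∧ Mono (P.map S.f) := by
  have hpl : PreservesFiniteLimits P := inferInstance
  have hiff : PreservesFiniteLimits P ↔ ∀ S : ShortComplex (ModSite.Mod O),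
      S.Exact ∧ Mono S.f → (S.map P).Exact ∧ Mono (P.map S.f) :=
    (Functor.preservesFiniteLimits_tfae P).out 3 1
  exact hiff.mp hpl S ⟨h, hm⟩

instance pfl_TP (M : ModSite.Mod O) : PreservesFiniteLimits (TP P M) := by
  haveI := pfl_sheafHom M
  exact comp_preservesFiniteLimits _ _

theorem TPmap_comp_zero {M₁ M₂ M₃ : ModSite.Mod O} (f : M₁ ⟶ M₂) (g : M₂ ⟶ M₃)
    (h : f ≫ g = 0) : TPmap P g ≫ TPmap P f = 0 := by
  dsimp only [TPmap]
  rw [← Functor.whiskerRight_comp, sheafHomMap_comp_zero f g h]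
  ext G
  exact P.map_zero _ _

variable (hP : ∀ {M₁ M₂ : ModSite.Mod O} (ι : M₁ ⟶ M₂), Mono ι → ∀ (I : ModSite.Mod O),
  Injective I → Epi (P.map ((ExtSupp.sheafHomMap ι).app I)))

section Shift

variable {K' E K : ModSite.Mod O} (ι : K' ⟶ E) (p : E ⟶ K) (w : ι ≫ p = 0)
  (hS : (ShortComplex.mk ι p w).ShortExact)

include hS hP in
theorem shortExact_TP_of_injective (I : ModSite.Mod O) (hI : Injective I) :
    (ShortComplex.mk ((TPmap P p).app I) ((TPmap P ι).app I)
      (FunctorLES.app_zero _ _ (TPmap_comp_zero P ι p w) I)).ShortExact := by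
  have h0 := shortExact_of_injective ι p w hS I hI
  have h1 := leftExact_map P _ h0.exact h0.mono_f
  haveI : Mono ι := hS.mono_f
  exact ShortComplex.ShortExact.mk' h1.1 h1.2 (hP ι inferInstance I hI)

variable [HasInjectiveResolutions (ModSite.Mod O)]

include hS hP in
theorem nonempty_rel_iso (q : ℕ) (G : ModSite.Mod O)
    (hz : IsZero (((TP P E).rightDerived (q + 1)).obj G))
    (hz' : IsZero (((TP P E).rightDerived (q + 2)).obj G)) :
    Nonempty (((TP P K').rightDerived (q + 1)).obj G ≅ ((TP P K).rightDerived (q + 2)).obj G) := by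
  have := FunctorLES.isIso_δNat_app (TPmap P p) (TPmap P ι)
    (TPmap_comp_zero P ι p w) (shortExact_TP_of_injective P hP ι p w hS) (q + 1) G hz hz'
  exact ⟨asIso ((FunctorLES.δNat (TPmap P p) (TPmap P ι)
    (TPmap_comp_zero P ι p w) (shortExact_TP_of_injective P hP ι p w hS) (q + 1)).app G)⟩

include hS hP in
theorem nonempty_rel_cokernel_iso (G : ModSite.Mod O)
    (hz : IsZero (((TP P E).rightDerived 1).obj G)) :
    Nonempty (cokernel ((TPmap P ι).app G) ≅ ((TP P K).rightDerived 1).obj G) := by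
  have hex := FunctorLES.exact_app (TPmap P p) (TPmap P ι)
    (TPmap_comp_zero P ι p w) (shortExact_TP_of_injective P hP ι p w hS) G
  have hepi : Epi ((FunctorLES.π' (TPmap P p) (TPmap P ι)
      (TPmap_comp_zero P ι p w) (shortExact_TP_of_injective P hP ι p w hS)).app G) := by
    have := FunctorLES.epi_δNat_app (TPmap P p) (TPmap P ι)
      (TPmap_comp_zero P ι p w) (shortExact_TP_of_injective P hP ι p w hS) 0 G hz
    dsimp only [FunctorLES.π', NatTrans.comp_app]
    infer_instance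
  haveI : Epi (ShortComplex.mk ((TPmap P ι).app G)
      ((FunctorLES.π' (TPmap P p) (TPmap P ι)
      (TPmap_comp_zero P ι p w) (shortExact_TP_of_injective P hP ι p w hS)).app G)
      (FunctorLES.β_π'_app _ _ _ _ G)).g := hepi
  exact ⟨(colimit.isColimit (parallelPair ((TPmap P ι).app G) 0)).coconePointUniqueUpToIso
    hex.gIsCokernel⟩

end Shift

/-! ### resolutions -/

variable (G : ModSite.Mod O) (E : ChainComplex (ModSite.Mod O) ℕ)

/-- the short complex `Pℋ(E_n,G) → Pℋ(E_{n+1},G) → Pℋ(E_{n+2},G)` -/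
def HscP (n : ℕ) : ShortComplex ℬ := (Hsc G E n).map P

theorem HscP_homology (j : ℕ) :
    Nonempty ((HscP P G E j).homology ≅ cokernel (P.map ((ExtSupp.sheafHomMap (ι E j)).app G))) := by
  have hmono : Mono ((ExtSupp.sheafHomMap (p' E j)).app G) := mono_sheafHomMap_app (p' E j) G
  have hmonoP : Mono (P.map ((ExtSupp.sheafHomMap (p' E j)).app G)) := inferInstance
  have ha : P.map ((ExtSupp.sheafHomMap (ι E j)).app G) ≫
      P.map ((ExtSupp.sheafHomMap (p' E j)).app G) = (HscP P G E j).f := by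
    rw [← P.map_comp, sheafHomMap_comp_app, p'_ι]
    rfl
  have hex0 := exact_sheafHomMap (E.d (j + 2) (j + 1)) (p' E j) (cokernel.condition _)
      (ShortComplex.exact_cokernel _) G
  have h1 := leftExact_map P _ hex0 hmono
  exact @nonempty_homology_iso_cokernel _ _ _ (HscP P G E j) _
    (P.map ((ExtSupp.sheafHomMap (p' E j)).app G)) hmonoP
    (by
      change P.map ((ExtSupp.sheafHomMap (p' E j)).app G) ≫
        P.map ((ExtSupp.sheafHomMap (E.d (j + 2) (j + 1))).app G) = 0
      rw [← P.map_comp, sheafHomMap_comp_app, cokernel.condition, sheafHomMap_zero_app,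
        P.map_zero])
    h1.1 (P.map ((ExtSupp.sheafHomMap (ι E j)).app G)) ha

variable [HasInjectiveResolutions (ModSite.Mod O)]

include hP in
theorem claimP (hex : ∀ j : ℕ, E.ExactAt (j + 1))
    (hE : ∀ j q : ℕ, IsZero (((TP P (E.X j)).rightDerived (q + 1)).obj G)) (i : ℕ) :
    ∀ (j : ℕ) (K : ModSite.Mod O) (p : E.X j ⟶ K) [Epi p] (hp : E.d (j + 1) j ≫ p = 0)
      (_ : (ShortComplex.mk (E.d (j + 1) j) p hp).Exact),
      Nonempty (((TP P K).rightDerived (i + 1)).obj G ≅ (HscP P G E (j + i)).homology) := by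
  induction i with
  | zero =>
    intro j K p _ hp hpe
    obtain ⟨e1⟩ := nonempty_rel_cokernel_iso P hP (ι E j) p (w_ι E j p hp)
      (shortExact_ι E j (hex j) p hp hpe) G (hE j 0)
    obtain ⟨e2⟩ := HscP_homology P G E j
    exact ⟨(e2 ≪≫ e1).symm⟩
  | succ i ih =>
    intro j K p _ hp hpe
    obtain ⟨e1⟩ := nonempty_rel_iso P hP (ι E j) p (w_ι E j p hp)
      (shortExact_ι E j (hex j) p hp hpe) i G (hE j i) (hE j (i + 1))
    obtain ⟨e2⟩ := ih (j + 1) (K' E j) (p' E j) (cokernel.condition _)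
      (ShortComplex.exact_cokernel _)
    have h : j + 1 + i = j + (i + 1) := by omega
    rw [← h]
    exact ⟨e1.symm ≪≫ e2⟩

include hP in
theorem mainP (F : ModSite.Mod O) (π : E.X 0 ⟶ F) [Epi π] (hπ : E.d 1 0 ≫ π = 0)
    (hex0 : (ShortComplex.mk (E.d 1 0) π hπ).Exact) (hex : ∀ j : ℕ, E.ExactAt (j + 1))
    (hE : ∀ j q : ℕ, IsZero (((TP P (E.X j)).rightDerived (q + 1)).obj G))
    (Cx : CochainComplex ℬ ℕ)
    (e : ∀ j : ℕ, Cx.X j ≅ P.obj ((ModSite.sheafHom (E.X j)).obj G))
    (hC : ∀ j : ℕ, Cx.d j (j + 1) ≫ (e (j + 1)).hom =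
      (e j).hom ≫ P.map ((ExtSupp.sheafHomMap (E.d (j + 1) j)).app G))
    (i : ℕ) :
    Nonempty (Cx.homology i ≅ ((TP P F).rightDerived i).obj G) := by
  cases i with
  | zero =>
    have hC' : Cx.d 0 1 = (e 0).hom ≫ P.map ((ExtSupp.sheafHomMap (E.d 1 0)).app G) ≫
        (e 1).inv := by
      rw [← Category.assoc, ← hC, Category.assoc, Iso.hom_inv_id, Category.comp_id]
    let S := Cx.sc' 0 0 1
    let iso0 : Cx.homology 0 ≅ S.homology :=
      ShortComplex.homologyMapIso (Cx.isoSc' 0 0 1 (by simp) (by simp))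
    have hmono : Mono ((ExtSupp.sheafHomMap π).app G) := mono_sheafHomMap_app π G
    haveI : Mono (P.map ((ExtSupp.sheafHomMap π).app G)) := inferInstance
    let m : P.obj ((ModSite.sheafHom F).obj G) ⟶ S.X₂ :=
      P.map ((ExtSupp.sheafHomMap π).app G) ≫ (e 0).inv
    haveI : Mono m := mono_comp _ _
    have hz : P.map ((ExtSupp.sheafHomMap π).app G) ≫
        P.map ((ExtSupp.sheafHomMap (E.d 1 0)).app G) = 0 := by
      rw [← P.map_comp, sheafHomMap_comp_app, hπ, sheafHomMap_zero_app, P.map_zero]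
    have wm : m ≫ S.g = 0 := by
      change (P.map ((ExtSupp.sheafHomMap π).app G) ≫ (e 0).inv) ≫ Cx.d 0 1 = 0
      rw [hC', Category.assoc, Iso.inv_hom_id_assoc, reassoc_of% hz, zero_comp]
    have h1 := leftExact_map P _ (exact_sheafHomMap (E.d 1 0) π hπ hex0 G) hmono
    have hm : (ShortComplex.mk m S.g wm).Exact := by
      refine ShortComplex.exact_of_iso ?_ h1.1
      refine ShortComplex.isoMk (Iso.refl _) (e 0).symm (e 1).symm ?_ ?_
      · exact Category.id_comp _
      · change (e 0).inv ≫ Cx.d 0 1 = P.map ((ExtSupp.sheafHomMap (E.d 1 0)).app G) ≫ (e 1).inv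
        rw [hC', Iso.inv_hom_id_assoc]
    have ha : (0 : S.X₁ ⟶ P.obj ((ModSite.sheafHom F).obj G)) ≫ m = S.f := by
      rw [zero_comp]
      exact (Cx.shape 0 0 (by simp)).symm
    obtain ⟨e3⟩ := nonempty_homology_iso_cokernel S m wm hm 0 ha
    exact ⟨iso0 ≪≫ e3 ≪≫ cokernelZeroIsoTarget ≪≫
      ((TP P F).rightDerivedZeroIsoSelf.app G).symm⟩
  | succ i =>
    have h := claimP P hP G E hex hE i 0 F π hπ hex0
    rw [Nat.zero_add] at h
    obtain ⟨e1⟩ := h
    let S := Cx.sc' i (i + 1) (i + 2)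
    let iso0 : Cx.homology (i + 1) ≅ S.homology :=
      ShortComplex.homologyMapIso (Cx.isoSc' i (i + 1) (i + 2) (by simp) (by simp))
    let iso1 : S ≅ HscP P G E i :=
      ShortComplex.isoMk (e i) (e (i + 1)) (e (i + 2)) (hC i).symm (hC (i + 1)).symm
    exact ⟨iso0 ≪≫ ShortComplex.homologyMapIso iso1 ≪≫ e1.symm⟩

end General

end Groth.Agent.Lib.Helper13.RelHomExact
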