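import Mathlib
import Groth.Agent.Lib.Helper13.RelHomExact

/-!
# Relative Ext sheaves `R^p (f_* ∘ ℋ(M, -))` on schemes (helper13)
-/

set_option autoImplicit false
universe u

open CategoryTheory CategoryTheory.Limits Opposite AlgebraicGeometry

noncomputable section

namespace Groth.Agent.Lib.Helper13.RelHomScheme

open Groth.Agent.Lib.Helper13 Groth.Agent.Lib.Helper13.SheafHomExact
  Groth.Agent.Lib.Helper13.RelHomExact Groth.Agent.Lib.Helper3

variable {X Y : Scheme.{u}} (f : X ⟶ Y)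

theorem epi_push_of_surjective {M N : X.Modules} (φ : M ⟶ N)
    (h : ∀ U : X.Opens, Function.Surjective (φ.app U)) :
    Epi ((Scheme.Modules.pushforward f).map φ) := by
  apply QCExact.epi_of_locally_surjective
  intro W s x hx
  obtain ⟨t, ht⟩ := h (f ⁻¹ᵁ W) s
  exact ⟨W, le_rfl, hx, t, by rw [QCSec.res_self]; exact ht⟩

/-- every module has an internal hom -/
local instance hsh'' (N : ModSite.Mod X.sheaf) : ModSite.HasSheafHom N :=
  ModSiteTensor.hasSheafHom X.sheaf N

/-- pushforward, as a functor out of `ModSite.Mod X.sheaf` -/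
abbrev Pf : ModSite.Mod X.sheaf ⥤ Y.Modules := Scheme.Modules.pushforward f

instance : (Pf f).Additive := inferInstanceAs (Scheme.Modules.pushforward f).Additive

instance : PreservesFiniteLimits (Pf f) :=
  inferInstanceAs (PreservesFiniteLimits (Scheme.Modules.pushforward f))

theorem hP : ∀ {M₁ M₂ : ModSite.Mod X.sheaf} (ι : M₁ ⟶ M₂), Mono ι → ∀ (I : ModSite.Mod X.sheaf),
    Injective I → Epi ((Pf f).map ((ExtSupp.sheafHomMap ι).app I)) := by
  intro M₁ M₂ ι hι I hI
  apply epi_push_of_surjective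
  intro U
  exact surjective_sheafHomMap_app_of_injective ι I U

theorem main16286 [HasInjectiveResolutions (ModSite.Mod X.sheaf)] (F G : ModSite.Mod X.sheaf)
    (L : ChainComplex (ModSite.Mod X.sheaf) ℕ) (π : L.X 0 ⟶ F) [Epi π] (hπ : L.d 1 0 ≫ π = 0)
    (hex0 : (ShortComplex.mk (L.d 1 0) π hπ).Exact) (hex : ∀ j : ℕ, L.ExactAt (j + 1))
    (hL : ∀ (j : ℕ) (p : ℕ), 1 ≤ p →
      IsZero (((ModSite.sheafHom (L.X j) ⋙ Pf f).rightDerived p).obj G))
    (Cx : CochainComplex Y.Modules ℕ)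
    (e : ∀ j : ℕ, Cx.X j ≅ (Pf f).obj ((ModSite.sheafHom (L.X j)).obj G))
    (hC : ∀ j : ℕ, Cx.d j (j + 1) ≫ (e (j + 1)).hom =
      (e j).hom ≫ (Pf f).map ((ExtSupp.sheafHomMap (L.d (j + 1) j)).app G))
    (i : ℕ) :
    Nonempty (Cx.homology i ≅ ((ModSite.sheafHom F ⋙ Pf f).rightDerived i).obj G) :=
  mainP (Pf f) (fun ι hι I hI => hP f ι hι I hI) G L F π hπ hex0 hex
    (fun j q => hL j (q + 1) (by omega)) Cx e hC i

end Groth.Agent.Lib.Helper13.RelHomScheme
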