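import Mathlib
import Groth.Agent.Lib.Helper13.RelHomScheme

/-!
# The long exact sequence of relative Ext sheaves in the first variable (helper13)
-/

set_option autoImplicit false
universe u v u₁ v₁

open CategoryTheory CategoryTheory.Limits Opposite AlgebraicGeometry

noncomputable section

namespace Groth.Agent.Lib.Helper13.RelHomLES

open Groth.Agent.Lib.Helper13 Groth.Agent.Lib.Helper13.SheafHomExact
  Groth.Agent.Lib.Helper13.RelHomExact

section General

variable {C : Type u} [SmallCategory C] {J : GrothendieckTopology C} {O : Sheaf J CommRingCat.{u}}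

/-- every module has an internal hom -/
local instance hsh3 (N : ModSite.Mod O) : ModSite.HasSheafHom N := ModSiteTensor.hasSheafHom O N

variable {ℬ : Type u₁} [Category.{v₁} ℬ] [Abelian ℬ] (P : ModSite.Mod O ⥤ ℬ) [P.Additive]
  [PreservesFiniteLimits P]
  (hP : ∀ {M₁ M₂ : ModSite.Mod O} (ι : M₁ ⟶ M₂), Mono ι → ∀ (I : ModSite.Mod O),
    Injective I → Epi (P.map ((ExtSupp.sheafHomMap ι).app I)))
  [HasInjectiveResolutions (ModSite.Mod O)]
  {K' E K : ModSite.Mod O} (ι : K' ⟶ E) (p : E ⟶ K) (w : ι ≫ p = 0)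
  (hS : (ShortComplex.mk ι p w).ShortExact)

include hP hS in
theorem les (G : ModSite.Mod O) :
    Mono ((NatTrans.rightDerived (TPmap P p) 0).app G) ∧
    (∀ q : ℕ, ∃ w : (NatTrans.rightDerived (TPmap P p) q).app G ≫
        (NatTrans.rightDerived (TPmap P ι) q).app G = 0, (ShortComplex.mk _ _ w).Exact) ∧
    ∃ δ : ∀ q : ℕ, ((TP P K').rightDerived q).obj G ⟶ ((TP P K).rightDerived (q + 1)).obj G,
      ∀ q : ℕ,
        (∃ w : (NatTrans.rightDerived (TPmap P ι) q).app G ≫ δ q = 0,
          (ShortComplex.mk _ _ w).Exact) ∧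
        (∃ w : δ q ≫ (NatTrans.rightDerived (TPmap P p) (q + 1)).app G = 0,
          (ShortComplex.mk _ _ w).Exact) := by
  haveI : Epi p := hS.epi_g
  have hm : Mono ((ExtSupp.sheafHomMap p).app G) := mono_sheafHomMap_app p G
  haveI : Mono ((TPmap P p).app G) := by
    change Mono (P.map ((ExtSupp.sheafHomMap p).app G))
    infer_instance
  refine ⟨FunctorLES.mono_rightDerived_zero_app (TPmap P p) G, ?_, ?_⟩
  · intro q
    exact FunctorLES.exact₂ (TPmap P p) (TPmap P ι) (TPmap_comp_zero P ι p w)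
      (shortExact_TP_of_injective P hP ι p w hS) q G
  · refine ⟨fun q => (FunctorLES.δNat (TPmap P p) (TPmap P ι) (TPmap_comp_zero P ι p w)
      (shortExact_TP_of_injective P hP ι p w hS) q).app G, ?_⟩
    intro q
    exact ⟨FunctorLES.exact₃ (TPmap P p) (TPmap P ι) (TPmap_comp_zero P ι p w)
      (shortExact_TP_of_injective P hP ι p w hS) q G,
      FunctorLES.exact₁ (TPmap P p) (TPmap P ι) (TPmap_comp_zero P ι p w)
      (shortExact_TP_of_injective P hP ι p w hS) q G⟩

end General

open Groth.Agent.Lib.Helper13.RelHomScheme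

variable {X Y : Scheme.{u}} (f : X ⟶ Y)

/-- every module has an internal hom -/
local instance hsh4 (N : ModSite.Mod X.sheaf) : ModSite.HasSheafHom N :=
  ModSiteTensor.hasSheafHom X.sheaf N

theorem main16289 [HasInjectiveResolutions (ModSite.Mod X.sheaf)]
    (S : ShortComplex (ModSite.Mod X.sheaf)) (hS : S.ShortExact) (G : ModSite.Mod X.sheaf) :
    Mono ((NatTrans.rightDerived (TPmap (Pf f) S.g) 0).app G) ∧
    (∀ q : ℕ, ∃ w : (NatTrans.rightDerived (TPmap (Pf f) S.g) q).app G ≫
        (NatTrans.rightDerived (TPmap (Pf f) S.f) q).app G = 0, (ShortComplex.mk _ _ w).Exact) ∧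
    ∃ δ : ∀ q : ℕ, ((TP (Pf f) S.X₁).rightDerived q).obj G ⟶
        ((TP (Pf f) S.X₃).rightDerived (q + 1)).obj G,
      ∀ q : ℕ,
        (∃ w : (NatTrans.rightDerived (TPmap (Pf f) S.f) q).app G ≫ δ q = 0,
          (ShortComplex.mk _ _ w).Exact) ∧
        (∃ w : δ q ≫ (NatTrans.rightDerived (TPmap (Pf f) S.g) (q + 1)).app G = 0,
          (ShortComplex.mk _ _ w).Exact) :=
  les (Pf f) (fun ι hι I hI => hP f ι hι I hI) S.f S.g S.zero hS G

end Groth.Agent.Lib.Helper13.RelHomLES
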