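import Groth.Agent.Lib.Helper13.OverRestrAcyclic
import Groth.Agent.Lib.Helper13.DerivedCommute
import Groth.Prelude.Def_CohTop

/-!
# Higher direct images commute with restriction to opens of the base
-/

set_option autoImplicit false
universe u
open CategoryTheory CategoryTheory.Limits Opposite TopologicalSpace
open Groth.Agent.Lib.Helper13.OverRestrAcyclic Groth.Agent.Lib.Helper13.DerivedCommute

noncomputable section

namespace Groth.Agent.Lib.Helper13.RestrPush

variable {X Y : TopCat.{u}}

section Restr

variable (U : Opens X)

lemma restrFunctor_eq : CohTop.restrFunctor U =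
    restrAb (Opens.grothendieckTopology X) U ⋙
      (U.sheafEquivOver (A := AddCommGrpCat.{u})).functor := rfl

instance restrFunctor_preservesFiniteLimits : PreservesFiniteLimits (CohTop.restrFunctor U) := by
  rw [restrFunctor_eq]
  infer_instance

instance restrFunctor_preservesFiniteColimits :
    PreservesFiniteColimits (CohTop.restrFunctor U) := by
  rw [restrFunctor_eq]
  infer_instance

lemma injective_restr (I : CohTop.Ab X) (hI : Injective I) :
    Injective ((CohTop.restrFunctor U).obj I) := by
  haveI := hI
  haveI : Injective ((restrAb (Opens.grothendieckTopology X) U).obj I) :=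
    Injective.injective_of_adjoint (adjAb (Opens.grothendieckTopology X) U) I
  exact Injective.injective_of_adjoint
    (U.sheafEquivOver (A := AddCommGrpCat.{u})).symm.toAdjunction
    ((restrAb (Opens.grothendieckTopology X) U).obj I)

end Restr

variable (f : X ⟶ Y) (V : Opens Y)

/-- the restriction of `f` over `V`. -/
abbrev fV : TopCat.of ((Opens.map f).obj V) ⟶ TopCat.of V :=
  TopCat.ofHom ⟨(V : Set Y).restrictPreimage f, f.hom.continuous.restrictPreimage⟩

/-- the inclusion of an open subspace, as an open-map functor on opens. -/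
abbrev incl {Z : TopCat.{u}} (W : Opens Z) : Opens (TopCat.of W) ⥤ Opens Z :=
  (W.isOpenEmbedding (X := Z)).isOpenMap.functor

/-- `f⁻¹(ι_V W) = ι_U (g⁻¹ W)`. -/
def opensIso : incl V ⋙ Opens.map f ≅ Opens.map (fV f V) ⋙ incl ((Opens.map f).obj V) :=
  NatIso.ofComponents (fun W => eqToIso (by
    ext x
    constructor
    · rintro ⟨v, hv, hvx⟩
      have hx : x ∈ (Opens.map f).obj V := by
        change f x ∈ V
        rw [← hvx]
        exact v.2
      refine ⟨⟨x, hx⟩, ?_, rfl⟩
      change (⟨f x, hx⟩ : V) ∈ W
      have : (⟨f x, hx⟩ : V) = v := Subtype.ext hvx.symm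
      rw [this]
      exact hv
    · rintro ⟨u, hu, rfl⟩
      exact ⟨⟨f u.1, u.2⟩, hu, rfl⟩)) (fun _ => Subsingleton.elim _ _)


lemma map_isContinuous {A B : TopCat.{u}} (g : A ⟶ B) :
    (Opens.map g).IsContinuous (Opens.grothendieckTopology B) (Opens.grothendieckTopology A) :=
  inferInstance

lemma push_additive {A B : TopCat.{u}} (g : A ⟶ B) : (CohTop.push g).Additive := inferInstance

lemma incl_isContinuous {Z : TopCat.{u}} (W : Opens Z) :
    (incl W).IsContinuous (Opens.grothendieckTopology (TopCat.of W))
      (Opens.grothendieckTopology Z) :=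
  (W.isOpenEmbedding (X := Z)).functor_isContinuous

def baseChangeIso : CohTop.push f ⋙ CohTop.restrFunctor V ≅
    CohTop.restrFunctor ((Opens.map f).obj V) ⋙ CohTop.push (fV f V) := by
  haveI hV := incl_isContinuous V
  haveI hU := incl_isContinuous ((Opens.map f).obj V)
  haveI hg := map_isContinuous (fV f V)
  haveI h1 : (incl V ⋙ Opens.map f).IsContinuous (Opens.grothendieckTopology (TopCat.of V))
      (Opens.grothendieckTopology X) :=
    Functor.isContinuous_comp _ _ _ (Opens.grothendieckTopology Y) _
  haveI h2 : (Opens.map (fV f V) ⋙ incl ((Opens.map f).obj V)).IsContinuous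
      (Opens.grothendieckTopology (TopCat.of V)) (Opens.grothendieckTopology X) :=
    Functor.isContinuous_comp _ _ _
      (Opens.grothendieckTopology (TopCat.of ((Opens.map f).obj V))) _
  exact Functor.sheafPushforwardContinuousIso (opensIso f V) AddCommGrpCat.{u} _ _

theorem nonempty_restr_Rpush_iso (F : CohTop.Ab X) (p : ℕ) :
    Nonempty (CohTop.restr ((CohTop.Rpush f p).obj F) V ≅
      (CohTop.Rpush (fV f V) p).obj (CohTop.restr F ((Opens.map f).obj V))) :=
  haveI := push_additive (fV f V)
  ⟨rightDerivedBaseChangeObjIso (CohTop.push f) (CohTop.restrFunctor V)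
    (CohTop.restrFunctor ((Opens.map f).obj V))
    (fun I hI => injective_restr ((Opens.map f).obj V) I hI)
    (CohTop.push (fV f V)) (baseChangeIso f V) p F⟩

end Groth.Agent.Lib.Helper13.RestrPush
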