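import Groth.Prelude.Def_CohCx
import Groth.Agent.Lib.Helper2.GSS.NatDerived
import Groth.Agent.Lib.Helper1.FlasqueAcyclic
import Groth.Agent.Lib.Helper13.RestrPush
import Mathlib.Algebra.Homology.CommSq
import Mathlib.CategoryTheory.Abelian.CommSq

/-!
# Relative Mayer–Vietoris for higher direct images (helper13)

* abstract part: for additive functors `T₁ G₁ G₂ G₃ : 𝒜 ⥤ ℬ` with a square of natural transformations which is a
  pullback objectwise and with `G₁ I ⟶ G₃ I` epi for injective `I`, one gets a long exact sequence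
  `… ⟶ RⁿT₁ ⟶ RⁿG₁ ⊞ RⁿG₂ ⟶ RⁿG₃ ⟶ Rⁿ⁺¹T₁ ⟶ …` (uses helper2's `FunctorSES`).
* topological part: the square `f_* F ⟶ a_*(F|_U), b_*(F|_V) ⟶ c_*(F|_{U ∩ V})` is a pullback for `U ∪ V = X`,
  and restriction maps of injective sheaves are epi.
-/

set_option autoImplicit false
universe v₁ v₂ u₁ u₂ u

namespace Groth.Agent.Lib.Helper13.RelMV

open CategoryTheory CategoryTheory.Limits

section Abstract

variable {𝒜 : Type u₁} [Category.{v₁} 𝒜] [Abelian 𝒜] [HasInjectiveResolutions 𝒜]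
  {ℬ : Type u₂} [Category.{v₂} ℬ] [Abelian ℬ]

/-! ### Additivity of `NatTrans.rightDerived` -/

lemma rightDerived_add_app {F G : 𝒜 ⥤ ℬ} [F.Additive] [G.Additive] (α β : F ⟶ G) (n : ℕ) (X : 𝒜) :
    (NatTrans.rightDerived (α + β) n).app X =
      (NatTrans.rightDerived α n).app X + (NatTrans.rightDerived β n).app X := by
  have h : (NatTrans.mapHomologicalComplex (α + β) (ComplexShape.up ℕ)).app
      (injectiveResolution X).cocomplex =
      (NatTrans.mapHomologicalComplex α (ComplexShape.up ℕ)).app (injectiveResolution X).cocomplex +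
      (NatTrans.mapHomologicalComplex β (ComplexShape.up ℕ)).app (injectiveResolution X).cocomplex := by
    ext i
    first | rfl | simp
  rw [InjectiveResolution.rightDerived_app_eq (α + β) (injectiveResolution X) n,
    InjectiveResolution.rightDerived_app_eq α (injectiveResolution X) n,
    InjectiveResolution.rightDerived_app_eq β (injectiveResolution X) n, h, Functor.map_add,
    Preadditive.add_comp, Preadditive.comp_add]

lemma rightDerived_zero_app {F G : 𝒜 ⥤ ℬ} [F.Additive] [G.Additive] (n : ℕ) (X : 𝒜) :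
    (NatTrans.rightDerived (0 : F ⟶ G) n).app X = 0 := by
  have h := rightDerived_add_app (0 : F ⟶ G) 0 n X
  rw [add_zero] at h
  exact add_eq_left.mp h.symm

lemma rightDerived_neg_app {F G : 𝒜 ⥤ ℬ} [F.Additive] [G.Additive] (α : F ⟶ G) (n : ℕ) (X : 𝒜) :
    (NatTrans.rightDerived (-α) n).app X = -(NatTrans.rightDerived α n).app X := by
  have h := rightDerived_add_app α (-α) n X
  rw [add_neg_cancel, rightDerived_zero_app] at h
  exact eq_neg_of_add_eq_zero_right h.symm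

lemma rd_comp_app {F G H : 𝒜 ⥤ ℬ} [F.Additive] [G.Additive] [H.Additive] (α : F ⟶ G) (β : G ⟶ H)
    (γ : F ⟶ H) (h : α ≫ β = γ) (n : ℕ) (X : 𝒜) :
    (NatTrans.rightDerived α n).app X ≫ (NatTrans.rightDerived β n).app X =
      (NatTrans.rightDerived γ n).app X := by
  rw [← h, NatTrans.rightDerived_comp]
  rfl

/-! ### The pointwise biproduct of two functors -/

/-- pointwise biproduct of two functors. -/
noncomputable def biprodFunctor (G₁ G₂ : 𝒜 ⥤ ℬ) : 𝒜 ⥤ ℬ where
  obj X := G₁.obj X ⊞ G₂.obj X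
  map f := biprod.map (G₁.map f) (G₂.map f)
  map_id X := by
    apply biprod.hom_ext <;> simp
  map_comp f g := by
    apply biprod.hom_ext <;> simp

lemma biprod_map_add (G₁ G₂ : 𝒜 ⥤ ℬ) [G₁.Additive] [G₂.Additive] {X Y : 𝒜} (f g : X ⟶ Y) :
    biprod.map (G₁.map (f + g)) (G₂.map (f + g)) =
      biprod.map (G₁.map f) (G₂.map f) + biprod.map (G₁.map g) (G₂.map g) := by
  apply biprod.hom_ext
  · rw [Preadditive.add_comp]
    simp [Functor.map_add]
  · rw [Preadditive.add_comp]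
    simp [Functor.map_add]

instance (G₁ G₂ : 𝒜 ⥤ ℬ) [G₁.Additive] [G₂.Additive] : (biprodFunctor G₁ G₂).Additive where
  map_add {X Y f g} := biprod_map_add G₁ G₂ f g

variable (G₁ G₂ : 𝒜 ⥤ ℬ)

/-- first projection. -/
noncomputable def bfst : biprodFunctor G₁ G₂ ⟶ G₁ where
  app X := (biprod.fst : G₁.obj X ⊞ G₂.obj X ⟶ G₁.obj X)
  naturality X Y f := by
    change biprod.map _ _ ≫ biprod.fst = biprod.fst ≫ _
    simp

/-- second projection. -/
noncomputable def bsnd : biprodFunctor G₁ G₂ ⟶ G₂ where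
  app X := (biprod.snd : G₁.obj X ⊞ G₂.obj X ⟶ G₂.obj X)
  naturality X Y f := by
    change biprod.map _ _ ≫ biprod.snd = biprod.snd ≫ _
    simp

/-- first inclusion. -/
noncomputable def binl : G₁ ⟶ biprodFunctor G₁ G₂ where
  app X := (biprod.inl : G₁.obj X ⟶ G₁.obj X ⊞ G₂.obj X)
  naturality X Y f := by
    change _ ≫ biprod.inl = biprod.inl ≫ biprod.map _ _
    simp

/-- second inclusion. -/
noncomputable def binr : G₂ ⟶ biprodFunctor G₁ G₂ where
  app X := (biprod.inr : G₂.obj X ⟶ G₁.obj X ⊞ G₂.obj X)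
  naturality X Y f := by
    change _ ≫ biprod.inr = biprod.inr ≫ biprod.map _ _
    simp

variable {G₁ G₂} {T₁ G₃ : 𝒜 ⥤ ℬ}

/-- the map into the pointwise biproduct. -/
noncomputable def blift (a₁ : T₁ ⟶ G₁) (a₂ : T₁ ⟶ G₂) : T₁ ⟶ biprodFunctor G₁ G₂ where
  app X := (biprod.lift (a₁.app X) (a₂.app X) : T₁.obj X ⟶ G₁.obj X ⊞ G₂.obj X)
  naturality X Y f := by
    change _ ≫ biprod.lift _ _ = biprod.lift _ _ ≫ biprod.map _ _
    apply biprod.hom_ext <;> simp

/-- the map out of the pointwise biproduct. -/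
noncomputable def bdesc (r₁ : G₁ ⟶ G₃) (r₂ : G₂ ⟶ G₃) : biprodFunctor G₁ G₂ ⟶ G₃ where
  app X := (biprod.desc (r₁.app X) (r₂.app X) : G₁.obj X ⊞ G₂.obj X ⟶ G₃.obj X)
  naturality X Y f := by
    change biprod.map _ _ ≫ biprod.desc _ _ = biprod.desc _ _ ≫ _
    apply biprod.hom_ext' <;> simp

lemma blift_bfst (a₁ : T₁ ⟶ G₁) (a₂ : T₁ ⟶ G₂) : blift a₁ a₂ ≫ bfst G₁ G₂ = a₁ := by
  ext X
  exact biprod.lift_fst _ _

lemma blift_bsnd (a₁ : T₁ ⟶ G₁) (a₂ : T₁ ⟶ G₂) : blift a₁ a₂ ≫ bsnd G₁ G₂ = a₂ := by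
  ext X
  exact biprod.lift_snd _ _

lemma binl_bdesc (r₁ : G₁ ⟶ G₃) (r₂ : G₂ ⟶ G₃) : binl G₁ G₂ ≫ bdesc r₁ r₂ = r₁ := by
  ext X
  exact biprod.inl_desc _ _

lemma binr_bdesc (r₁ : G₁ ⟶ G₃) (r₂ : G₂ ⟶ G₃) : binr G₁ G₂ ≫ bdesc r₁ r₂ = r₂ := by
  ext X
  exact biprod.inr_desc _ _

variable (G₁ G₂)

lemma binl_bfst : binl G₁ G₂ ≫ bfst G₁ G₂ = 𝟙 G₁ := by
  ext X
  exact biprod.inl_fst

lemma binl_bsnd : binl G₁ G₂ ≫ bsnd G₁ G₂ = 0 := by
  ext X
  exact biprod.inl_snd

lemma binr_bfst : binr G₁ G₂ ≫ bfst G₁ G₂ = 0 := by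
  ext X
  exact biprod.inr_fst

lemma binr_bsnd : binr G₁ G₂ ≫ bsnd G₁ G₂ = 𝟙 G₂ := by
  ext X
  exact biprod.inr_snd

lemma btotal : bfst G₁ G₂ ≫ binl G₁ G₂ + bsnd G₁ G₂ ≫ binr G₁ G₂ = 𝟙 (biprodFunctor G₁ G₂) := by
  ext X
  exact biprod.total

/-- `Rⁿ(G₁ ⊞ G₂) ≅ RⁿG₁ ⊞ RⁿG₂`, objectwise. -/
noncomputable def theta [G₁.Additive] [G₂.Additive] (n : ℕ) (F : 𝒜) :
    ((biprodFunctor G₁ G₂).rightDerived n).obj F ≅
      (G₁.rightDerived n).obj F ⊞ (G₂.rightDerived n).obj F where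
  hom := biprod.lift ((NatTrans.rightDerived (bfst G₁ G₂) n).app F)
    ((NatTrans.rightDerived (bsnd G₁ G₂) n).app F)
  inv := biprod.desc ((NatTrans.rightDerived (binl G₁ G₂) n).app F)
    ((NatTrans.rightDerived (binr G₁ G₂) n).app F)
  hom_inv_id := by
    rw [biprod.lift_desc, rd_comp_app _ _ _ rfl n F, rd_comp_app _ _ _ rfl n F,
      ← rightDerived_add_app, btotal, NatTrans.rightDerived_id]
    rfl
  inv_hom_id := by
    have h11 : (NatTrans.rightDerived (binl G₁ G₂) n).app F ≫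
        (NatTrans.rightDerived (bfst G₁ G₂) n).app F = 𝟙 _ := by
      rw [rd_comp_app _ _ _ (binl_bfst G₁ G₂) n F, NatTrans.rightDerived_id]
      rfl
    have h12 : (NatTrans.rightDerived (binl G₁ G₂) n).app F ≫
        (NatTrans.rightDerived (bsnd G₁ G₂) n).app F = 0 := by
      rw [rd_comp_app _ _ _ (binl_bsnd G₁ G₂) n F, rightDerived_zero_app]
    have h21 : (NatTrans.rightDerived (binr G₁ G₂) n).app F ≫
        (NatTrans.rightDerived (bfst G₁ G₂) n).app F = 0 := by
      rw [rd_comp_app _ _ _ (binr_bfst G₁ G₂) n F, rightDerived_zero_app]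
    have h22 : (NatTrans.rightDerived (binr G₁ G₂) n).app F ≫
        (NatTrans.rightDerived (bsnd G₁ G₂) n).app F = 𝟙 _ := by
      rw [rd_comp_app _ _ _ (binr_bsnd G₁ G₂) n F, NatTrans.rightDerived_id]
      rfl
    apply biprod.hom_ext' <;> apply biprod.hom_ext <;>
      simp only [Category.assoc, biprod.lift_fst, biprod.lift_snd, biprod.inl_desc_assoc,
        biprod.inr_desc_assoc, Category.comp_id, biprod.inl_fst, biprod.inl_snd, biprod.inr_fst,
        biprod.inr_snd, h11, h12, h21, h22]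

variable {G₁ G₂}

lemma alpha_theta [T₁.Additive] [G₁.Additive] [G₂.Additive] (a₁ : T₁ ⟶ G₁) (a₂ : T₁ ⟶ G₂) (n : ℕ)
    (F : 𝒜) :
    (NatTrans.rightDerived (blift a₁ a₂) n).app F ≫ (theta G₁ G₂ n F).hom =
      biprod.lift ((NatTrans.rightDerived a₁ n).app F) ((NatTrans.rightDerived a₂ n).app F) := by
  apply biprod.hom_ext
  · simp only [theta, Category.assoc, biprod.lift_fst]
    exact rd_comp_app _ _ _ (blift_bfst a₁ a₂) n F
  · simp only [theta, Category.assoc, biprod.lift_snd]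
    exact rd_comp_app _ _ _ (blift_bsnd a₁ a₂) n F

lemma theta_beta [G₁.Additive] [G₂.Additive] [G₃.Additive] (r₁ : G₁ ⟶ G₃) (r₂ : G₂ ⟶ G₃) (n : ℕ)
    (F : 𝒜) :
    (theta G₁ G₂ n F).hom ≫ biprod.desc ((NatTrans.rightDerived r₁ n).app F)
        (-((NatTrans.rightDerived r₂ n).app F)) =
      (NatTrans.rightDerived (bdesc r₁ (-r₂)) n).app F := by
  rw [← cancel_epi (theta G₁ G₂ n F).inv, Iso.inv_hom_id_assoc]
  apply biprod.hom_ext'
  · simp only [theta, biprod.inl_desc, biprod.inl_desc_assoc]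
    exact (rd_comp_app _ _ _ (binl_bdesc r₁ (-r₂)) n F).symm
  · simp only [theta, biprod.inr_desc, biprod.inr_desc_assoc]
    rw [rd_comp_app _ _ _ (binr_bdesc r₁ (-r₂)) n F, rightDerived_neg_app]

/-- transport of exactness along an isomorphism of three-term sequences. -/
lemma exact_mk₂_of_iso {C : Type u₁} [Category.{v₁} C] [Abelian C] {A B D A' B' D' : C}
    {f : A ⟶ B} {g : B ⟶ D} {w : f ≫ g = 0}
    (h : (ShortComplex.mk f g w).Exact) (a : A ≅ A') (b : B ≅ B') (d : D ≅ D') (f' : A' ⟶ B')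
    (g' : B' ⟶ D') (hf : f ≫ b.hom = a.hom ≫ f') (hg : g ≫ d.hom = b.hom ≫ g') :
    (ComposableArrows.mk₂ f' g').Exact := by
  have w' : f' ≫ g' = 0 := by
    rw [← cancel_epi a.hom, comp_zero, ← Category.assoc, ← hf, Category.assoc, ← hg,
      ← Category.assoc, w, zero_comp]
  exact ((ShortComplex.exact_iff_of_iso (ShortComplex.isoMk a b d hf.symm hg.symm :
    ShortComplex.mk f g w ≅ ShortComplex.mk f' g' w')).1 h).exact_toComposableArrows

open Groth.Agent.Lib.Helper2 in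
/-- **Abstract relative Mayer–Vietoris**. -/
theorem exists_delta [T₁.Additive] [G₁.Additive] [G₂.Additive] [G₃.Additive]
    (a₁ : T₁ ⟶ G₁) (a₂ : T₁ ⟶ G₂) (r₁ : G₁ ⟶ G₃) (r₂ : G₂ ⟶ G₃)
    (hpb : ∀ I : 𝒜, IsPullback (a₁.app I) (a₂.app I) (r₁.app I) (r₂.app I))
    (hepi : ∀ I : 𝒜, Injective I → Epi (r₁.app I)) (F : 𝒜) :
    ∃ δ : ∀ n : ℕ, (G₃.rightDerived n).obj F ⟶ (T₁.rightDerived (n + 1)).obj F,
      ∀ n : ℕ,
        (ComposableArrows.mk₂
          (biprod.lift ((NatTrans.rightDerived a₁ n).app F) ((NatTrans.rightDerived a₂ n).app F))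
          (biprod.desc ((NatTrans.rightDerived r₁ n).app F)
            (-((NatTrans.rightDerived r₂ n).app F)))).Exact ∧
        (ComposableArrows.mk₂
          (biprod.desc ((NatTrans.rightDerived r₁ n).app F)
            (-((NatTrans.rightDerived r₂ n).app F))) (δ n)).Exact ∧
        (ComposableArrows.mk₂ (δ n)
          (biprod.lift ((NatTrans.rightDerived a₁ (n + 1)).app F)
            ((NatTrans.rightDerived a₂ (n + 1)).app F))).Exact := by
  have hαβ : blift a₁ a₂ ≫ bdesc r₁ (-r₂) = 0 := by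
    ext X
    change biprod.lift (a₁.app X) (a₂.app X) ≫ biprod.desc (r₁.app X) (-(r₂.app X)) = 0
    rw [biprod.lift_desc, Preadditive.comp_neg, (hpb X).w, add_neg_cancel]
  have hI : ∀ I : 𝒜, Injective I → (ShortComplex.mk ((blift a₁ a₂).app I) ((bdesc r₁ (-r₂)).app I)
      (FunctorSES.app_comp_app _ _ hαβ I)).ShortExact := by
    intro I hInj
    have hp := hpb I
    haveI := hepi I hInj
    exact { exact := hp.exact_shortComplex'
            mono_f := hp.mono_shortComplex'_f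
            epi_g := epi_of_epi_fac (biprod.inl_desc (r₁.app I) (-(r₂.app I))) }
  refine ⟨fun n => (FunctorSES.delta _ _ hαβ hI n).app F, fun n => ⟨?_, ?_, ?_⟩⟩
  · exact exact_mk₂_of_iso (FunctorSES.exact₂ _ _ hαβ hI n F) (Iso.refl _) (theta G₁ G₂ n F)
      (Iso.refl _) _ _ ((alpha_theta a₁ a₂ n F).trans (Category.id_comp _).symm)
      ((Category.comp_id _).trans (theta_beta r₁ r₂ n F).symm)
  · exact exact_mk₂_of_iso (FunctorSES.exact₃ _ _ hαβ hI n F) (theta G₁ G₂ n F) (Iso.refl _)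
      (Iso.refl _) _ _ ((Category.comp_id _).trans (theta_beta r₁ r₂ n F).symm)
      ((Category.comp_id _).trans (Category.id_comp _).symm)
  · exact exact_mk₂_of_iso (FunctorSES.exact₁ _ _ hαβ hI n F) (Iso.refl _) (Iso.refl _)
      (theta G₁ G₂ (n + 1) F) _ _ ((Category.comp_id _).trans (Category.id_comp _).symm)
      ((alpha_theta a₁ a₂ (n + 1) F).trans (Category.id_comp _).symm)

open Groth.Agent.Lib.Helper2 in
/-- injectivity of `R⁰T₁ ⟶ R⁰G₁ ⊞ R⁰G₂` for left exact functors. -/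
theorem mono_lift_zero [T₁.Additive] [G₁.Additive] [G₂.Additive] [PreservesFiniteLimits T₁]
    [PreservesFiniteLimits G₁] [PreservesFiniteLimits G₂] (a₁ : T₁ ⟶ G₁) (a₂ : T₁ ⟶ G₂) (F : 𝒜)
    (hmono : Mono (biprod.lift (a₁.app F) (a₂.app F))) :
    Mono (biprod.lift ((NatTrans.rightDerived a₁ 0).app F) ((NatTrans.rightDerived a₂ 0).app F)) := by
  have h1 := NatDerived.toRightDerivedZero_naturality a₁ F
  have h2 := NatDerived.toRightDerivedZero_naturality a₂ F
  have key : T₁.toRightDerivedZero.app F ≫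
      biprod.lift ((NatTrans.rightDerived a₁ 0).app F) ((NatTrans.rightDerived a₂ 0).app F) =
      biprod.lift (a₁.app F) (a₂.app F) ≫
        biprod.map (G₁.toRightDerivedZero.app F) (G₂.toRightDerivedZero.app F) := by
    apply biprod.hom_ext
    · simp only [Category.assoc, biprod.lift_fst, biprod.map_fst, biprod.lift_fst_assoc]
      exact h1.symm
    · simp only [Category.assoc, biprod.lift_snd, biprod.map_snd, biprod.lift_snd_assoc]
      exact h2.symm
  haveI : Mono (biprod.map (G₁.toRightDerivedZero.app F) (G₂.toRightDerivedZero.app F)) :=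
    (inferInstance : Mono (biprod.mapIso (asIso (G₁.toRightDerivedZero.app F))
      (asIso (G₂.toRightDerivedZero.app F))).hom)
  have e : biprod.lift ((NatTrans.rightDerived a₁ 0).app F) ((NatTrans.rightDerived a₂ 0).app F) =
      inv (T₁.toRightDerivedZero.app F) ≫ (biprod.lift (a₁.app F) (a₂.app F) ≫
        biprod.map (G₁.toRightDerivedZero.app F) (G₂.toRightDerivedZero.app F)) := by
    rw [← key, IsIso.inv_hom_id_assoc]
  rw [e]
  infer_instance

end Abstract

section Top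

open TopologicalSpace Opposite

variable {X Y : TopCat.{u}} (f : X ⟶ Y)

lemma push_pfl {A B : TopCat.{u}} (g : A ⟶ B) : PreservesFiniteLimits (CohTop.push g) := by
  have : PreservesLimitsOfSize.{0, 0} (CohTop.push g) :=
    (TopCat.Sheaf.pullbackPushforwardAdjunction _ g).rightAdjoint_preservesLimits
  exact PreservesLimitsOfSize.preservesFiniteLimits _

/-- the Mayer–Vietoris pullback square of sections of a sheaf. -/
lemma isPullback_of_sup_inf (F : CohTop.Ab X) {A A₁ A₂ A₁₂ : Opens X} (h₁ : A₁ ≤ A) (h₂ : A₂ ≤ A)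
    (h₃ : A₁₂ ≤ A₁) (h₄ : A₁₂ ≤ A₂) (hsup : A ≤ A₁ ⊔ A₂) (hinf : A₁ ⊓ A₂ ≤ A₁₂) :
    IsPullback (F.obj.map (homOfLE h₁).op) (F.obj.map (homOfLE h₂).op)
      (F.obj.map (homOfLE h₃).op) (F.obj.map (homOfLE h₄).op) := by
  obtain rfl : A = A₁ ⊔ A₂ := le_antisymm hsup (sup_le h₁ h₂)
  obtain rfl : A₁₂ = A₁ ⊓ A₂ := le_antisymm (le_inf h₃ h₄) hinf
  exact IsPullback.of_isLimit (TopCat.Sheaf.isLimitPullbackCone F A₁ A₂)

/-- the square `f_* F ⟶ a_*(F|_U), b_*(F|_V) ⟶ c_*(F|_{U ∩ V})` is a pullback when `U ∪ V = X`. -/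
lemma isPullback_app (U V : Opens X) (hUV : U ⊔ V = ⊤) (F : CohTop.Ab X) :
    IsPullback ((CohCx.pushToRestrPush f U).app F) ((CohCx.pushToRestrPush f V).app F)
      ((CohCx.restrPushToRestrPush f (inf_le_left : U ⊓ V ≤ U)).app F)
      ((CohCx.restrPushToRestrPush f (inf_le_right : U ⊓ V ≤ V)).app F) := by
  refine IsPullback.of_map_of_faithful
    (sheafToPresheaf (Opens.grothendieckTopology Y) AddCommGrpCat.{u})
    (IsPullback.of_forall_isPullback_app fun W => ?_)
  refine isPullback_of_sup_inf F _ _ _ _ ?_ ?_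
  · intro x hx
    have hx' : x ∈ (U ⊔ V : Opens X) := by
      rw [hUV]
      trivial
    rcases Opens.mem_sup.1 hx' with h | h
    · exact Opens.mem_sup.2 (Or.inl ⟨⟨x, h⟩, hx, rfl⟩)
    · exact Opens.mem_sup.2 (Or.inr ⟨⟨x, h⟩, hx, rfl⟩)
  · rintro _ ⟨⟨y, hy, rfl⟩, ⟨z, hz, hzy⟩⟩
    have hyV : (y : X) ∈ V := by
      have h2 := z.2
      rwa [show (z : X) = y from hzy] at h2
    exact ⟨⟨y.1, ⟨y.2, hyV⟩⟩, hy, rfl⟩

/-- restriction maps of an injective sheaf are epi. -/
lemma epi_restrPush_app {U V : Opens X} (h : V ≤ U) (I : CohTop.Ab X) [Injective I] :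
    Epi ((CohCx.restrPushToRestrPush f h).app I) := by
  haveI := Groth.Agent.Lib.Helper1.FlasqueAcyclic.isFlasque_of_injective I
  haveI : ∀ W, Epi (((CohCx.restrPushToRestrPush f h).app I).hom.app W) := fun W =>
    TopCat.Presheaf.IsFlasque.epi (F := I.obj) _
  have h3 : Epi ((CohCx.restrPushToRestrPush f h).app I).hom := NatTrans.epi_of_epi_app _
  exact (sheafToPresheaf (Opens.grothendieckTopology Y) AddCommGrpCat.{u}).epi_of_epi_map h3

/-- **Relative Mayer–Vietoris**. -/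
theorem relative_mv (U V : Opens X) (hUV : U ⊔ V = ⊤) (F : CohTop.Ab X) :
    ∃ δ : ∀ n : ℕ, (CohCx.RpushOn f (U ⊓ V) n).obj F ⟶ (CohTop.Rpush f (n + 1)).obj F,
      Mono (biprod.lift ((NatTrans.rightDerived (CohCx.pushToRestrPush f U) 0).app F)
        ((NatTrans.rightDerived (CohCx.pushToRestrPush f V) 0).app F)) ∧
      ∀ n : ℕ,
        (ComposableArrows.mk₂
          (biprod.lift ((NatTrans.rightDerived (CohCx.pushToRestrPush f U) n).app F)
            ((NatTrans.rightDerived (CohCx.pushToRestrPush f V) n).app F))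
          (biprod.desc
            ((NatTrans.rightDerived (CohCx.restrPushToRestrPush f (inf_le_left : U ⊓ V ≤ U)) n).app F)
            (-((NatTrans.rightDerived (CohCx.restrPushToRestrPush f (inf_le_right : U ⊓ V ≤ V)) n).app F)))).Exact ∧
        (ComposableArrows.mk₂
          (biprod.desc
            ((NatTrans.rightDerived (CohCx.restrPushToRestrPush f (inf_le_left : U ⊓ V ≤ U)) n).app F)
            (-((NatTrans.rightDerived (CohCx.restrPushToRestrPush f (inf_le_right : U ⊓ V ≤ V)) n).app F)))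
          (δ n)).Exact ∧
        (ComposableArrows.mk₂ (δ n)
          (biprod.lift ((NatTrans.rightDerived (CohCx.pushToRestrPush f U) (n + 1)).app F)
            ((NatTrans.rightDerived (CohCx.pushToRestrPush f V) (n + 1)).app F))).Exact := by
  haveI : ∀ {A B : TopCat.{u}} (g : A ⟶ B), PreservesFiniteLimits (CohTop.push g) := push_pfl
  obtain ⟨δ, hδ⟩ := exists_delta (CohCx.pushToRestrPush f U) (CohCx.pushToRestrPush f V)
    (CohCx.restrPushToRestrPush f (inf_le_left : U ⊓ V ≤ U))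
    (CohCx.restrPushToRestrPush f (inf_le_right : U ⊓ V ≤ V))
    (fun I => isPullback_app f U V hUV I)
    (fun I hI => by
      haveI := hI
      exact epi_restrPush_app f _ I) F
  exact ⟨δ, mono_lift_zero _ _ F (isPullback_app f U V hUV F).mono_shortComplex'_f, hδ⟩

end Top

end Groth.Agent.Lib.Helper13.RelMV
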