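import Mathlib
import Groth.Prelude
import Groth.Agent.Lib.Helper23.T2A
import Groth.Agent.Lib.Helper3.QCSec

/-!
# (E) for helper23's S19496: multiplication by a global function acts on cohomology as the scalar (helper13)
-/

set_option autoImplicit false
set_option linter.style.haveILetI false
universe u
open CategoryTheory CategoryTheory.Limits AlgebraicGeometry Opposite

namespace Groth.Agent.Lib.Helper13.RelNefE

open Groth.Agent.Lib.Helper3.QCSec Groth.Agent.Lib.Helper23.T2 Groth.Agent.Lib.Helper13.SerreCrit1

/-- (E) a module endomorphism which is multiplication by the global function `g` acts on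
cohomology as the scalar `g`. -/
theorem E_Hmap_eq_smul (X : Scheme.{u}) (L : X.Modules) (g : Coh.Γtop X) (μ : L ⟶ L)
    (hμ : ∀ (U : X.Opens) (s : Γ(L, U)), μ.app U s = rres X (le_top : U ≤ ⊤) g • s)
    (p : ℕ) (x : Coh.HH X L p) : Hmap μ p x = g • x := by
  have h : (TT X).map μ = Coh.smulAb L g := by
    ext U m
    change ((TT X).map μ).hom.app U m = (Coh.smulAb L g).hom.app U m
    rw [Coh.smulAb_app]
    exact hμ U.unop m
  rw [Hmap_apply, h]
  rfl

end Groth.Agent.Lib.Helper13.RelNefE
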