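import Mathlib
import Groth.Prelude
import Groth.Agent.Lib.Helper17.DevStep
import Groth.Agent.Lib.Helper23.T2A
import Groth.Agent.Lib.Helper3.GlobGen
import Groth.Agent.Lib.Helper3.FreeSec
import Groth.Agent.Lib.Helper3.SubIdeal
import Groth.Agent.Lib.Helper3.PbBasic

/-!
# (H) for helper23's S19496: global generation of an invertible module on a proper scheme over an affine
base can be checked on the closed fibres (helper13)

Route: the base locus is closed, its image in `Spec A` is closed, so if it is non-empty it meets a closed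
fibre; there a generating section of the restriction lifts to a global section (surjectivity on `H⁰`),
and the generating locus is compatible with pullback (S4413).
-/

set_option autoImplicit false
set_option linter.style.haveILetI false
set_option linter.unusedVariables false
universe u
open CategoryTheory CategoryTheory.Limits AlgebraicGeometry TopologicalSpace Opposite

noncomputable section

namespace Groth.Agent.Lib.Helper13.RelNefH

open Groth.Agent.Lib.Helper3 Groth.Agent.Lib.Helper3.QCSec Groth.Agent.Lib.Helper3.InvGen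
  Groth.Agent.Lib.Helper3.InvAmple Groth.Agent.Lib.Helper3.SubIdeal Groth.Agent.Lib.Helper3.PbBasic
  Groth.Agent.Lib.Helper3.FreeSec Groth.Agent.Lib.Helper17 Groth.Agent.Lib.Helper23.T2

variable {X : Scheme.{u}}

/-- an invertible module without base points is globally generated (copy of
`Helper7.CurvePair.isGloballyGenerated_of_forall_mem_genLocus`, to keep the import closure small). -/
theorem isGloballyGenerated_of_forall_mem_genLocus {L : X.Modules} (hL : PicF.IsInvertible L)
    (h : ∀ y : X, ∃ s : Coh.structureModule X ⟶ L, y ∈ CohB1.genLocus L s) :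
    Curv2.IsGloballyGenerated L := by
  haveI := InvCoh.isQuasicoherent_of_isInvertible hL
  refine Groth.Agent.Lib.Helper3.GlobGen.isGloballyGenerated_of_span L
    (fun m : Γ(L, ⊤) => m) (fun y => ?_)
  obtain ⟨s, hs⟩ := h y
  obtain ⟨W, hyW, hW⟩ := (mem_genLocus_iff _ y).mp hs
  obtain ⟨U, hU, hyU, hUW⟩ := Opens.isBasis_iff_nbhd.mp X.isBasis_affineOpens hyW
  refine ⟨U, hU, hyU, ?_⟩
  have hg : IsGenAt L U (res L (le_top : U ≤ ⊤) (sec s ⊤)) := by
    have h1 := hW U hUW
    rwa [res_sec] at h1 ⊢
  rw [eq_top_iff]
  intro t _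
  obtain ⟨a, ha⟩ := hg.exists_coord t
  rw [← ha]
  exact Submodule.smul_mem _ a (Submodule.subset_span ⟨sec s ⊤, rfl⟩)

/-- lifting a section of `ι^* L` to a global section of `L`, given surjectivity on `H⁰`. -/
theorem exists_lift_section (J : X.IdealSheafData) (L : X.Modules)
    (hsurj : Function.Surjective (Hmap (DevStep.proj J L) 0))
    (t : Coh.structureModule J.subscheme ⟶ (Scheme.Modules.pullback J.subschemeι).obj L) :
    ∃ s : Coh.structureModule X ⟶ L,
      (pbUnit J.subschemeι).inv ≫ (Scheme.Modules.pullback J.subschemeι).map s = t := by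
  let adj := Scheme.Modules.pullbackPushforwardAdjunction J.subschemeι
  let t' : (Scheme.Modules.pullback J.subschemeι).obj (Coh.structureModule X) ⟶
      (Scheme.Modules.pullback J.subschemeι).obj L := (pbUnit J.subschemeι).hom ≫ t
  let σ : Coh.structureModule X ⟶ DevStep.quot J L := adj.homEquiv _ _ t'
  obtain ⟨x, hx⟩ := hsurj ((H0equiv (DevStep.quot J L)).symm (sec σ ⊤))
  have hm : (DevStep.proj J L).app ⊤ (H0equiv L x) = sec σ ⊤ := by
    have h1 := H0equiv_naturality (DevStep.proj J L) x
    rw [hx] at h1
    have h2 : (H0equiv (DevStep.quot J L)) ((H0equiv (DevStep.quot J L)).symm (sec σ ⊤)) =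
        sec σ ⊤ := LinearEquiv.apply_symm_apply _ _
    exact (h2.symm.trans h1).symm
  refine ⟨globalHom L (H0equiv L x), ?_⟩
  have hsσ : globalHom L (H0equiv L x) ≫ DevStep.proj J L = σ :=
    (globalHom_comp _ _).trans ((congrArg (globalHom _) hm).trans (globalHom_sec σ))
  have hst : (Scheme.Modules.pullback J.subschemeι).map (globalHom L (H0equiv L x)) = t' := by
    apply (adj.homEquiv _ _).injective
    rw [Adjunction.homEquiv_unit]
    have hnat := adj.unit.naturality (globalHom L (H0equiv L x))
    exact hnat.symm.trans hsσ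
  rw [hst, Iso.inv_hom_id_assoc]

/-- (H) global generation can be checked on the closed fibres; `fibIdeal f m` is written unfolded:
`(Spec.map (CommRingCat.ofHom (Ideal.Quotient.mk m))).ker.comap f`. -/
theorem gg_of_fibres {A : Type u} [CommRing A] {X : Scheme.{u}}
    (f : X ⟶ Spec (CommRingCat.of A)) [IsProper f] (L : X.Modules) (hL : PicF.IsInvertible L)
    (h : ∀ m : Ideal A, m.IsMaximal →
      Function.Surjective (Hmap (DevStep.proj
        ((Spec.map (CommRingCat.ofHom (Ideal.Quotient.mk m))).ker.comap f) L) 0) ∧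
        Curv2.IsGloballyGenerated ((Scheme.Modules.pullback
          ((Spec.map (CommRingCat.ofHom (Ideal.Quotient.mk m))).ker.comap f).subschemeι).obj L)) :
    Curv2.IsGloballyGenerated L := by
  classical
  apply isGloballyGenerated_of_forall_mem_genLocus hL
  by_contra hcon
  push Not at hcon
  obtain ⟨y₁, hy₁⟩ := hcon
  let Z : Set X := ⋂ s : Coh.structureModule X ⟶ L, ((CohB1.genLocus L s : Set X))ᶜ
  have hZcl : IsClosed Z := isClosed_iInter fun s => (CohB1.genLocus L s).isOpen.isClosed_compl
  have hy₁Z : y₁ ∈ Z := Set.mem_iInter.mpr fun s => hy₁ s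
  have hC : IsClosed (f.base '' Z) := f.isClosedMap _ hZcl
  obtain ⟨m, hm, hpm⟩ := Ideal.exists_le_maximal (f.base y₁).asIdeal (f.base y₁).isPrime.ne_top
  haveI := hm
  letI := Ideal.Quotient.field m
  haveI : IsClosedImmersion (Spec.map (CommRingCat.ofHom (Ideal.Quotient.mk m))) :=
    IsClosedImmersion.spec_of_surjective _ Ideal.Quotient.mk_surjective
  haveI : Unique ↥(Spec (CommRingCat.of (A ⧸ m))) :=
    inferInstanceAs (Unique (PrimeSpectrum (A ⧸ m)))
  obtain ⟨hsurj, hgg⟩ := h m hm
  -- the closed point
  have hq : f.base y₁ ⤳ (Spec.map (CommRingCat.ofHom (Ideal.Quotient.mk m))).base default := by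
    refine (PrimeSpectrum.le_iff_specializes (R := A) (f.base y₁)
      ((Spec.map (CommRingCat.ofHom (Ideal.Quotient.mk m))).base default)).mp ?_
    intro a ha
    have h0 : Ideal.Quotient.mk m a = 0 := Ideal.Quotient.eq_zero_iff_mem.mpr (hpm ha)
    show Ideal.Quotient.mk m a ∈ PrimeSpectrum.asIdeal _
    rw [h0]
    exact zero_mem _
  generalize hg : Spec.map (CommRingCat.ofHom (Ideal.Quotient.mk m)) = g at *
  have hqC : g.base default ∈ f.base '' Z :=
    hC.stableUnderSpecialization hq ⟨y₁, hy₁Z, rfl⟩
  obtain ⟨y₀, hy₀Z, hy₀⟩ := hqC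
  have hsupp : (g.ker.support : Set ↥(Spec (CommRingCat.of A))) = {g.base default} := by
    rw [Scheme.Hom.support_ker, g.isClosedEmbedding.isClosed_range.closure_eq, Set.range_unique]
  have hJ : ((g.ker.comap f).support : Set X) = f.base ⁻¹' {g.base default} := by
    rw [Scheme.IdealSheafData.support_comap, TopologicalSpace.Closeds.coe_preimage, hsupp]
  have hrange : Set.range (g.ker.comap f).subschemeι.base = f.base ⁻¹' {g.base default} := by
    rw [Scheme.IdealSheafData.range_subschemeι, hJ]
  have hy₀r : y₀ ∈ Set.range (g.ker.comap f).subschemeι.base := by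
    rw [hrange]
    exact hy₀
  obtain ⟨y', hy'⟩ := hy₀r
  have hM : PicF.IsInvertible
      ((Scheme.Modules.pullback (g.ker.comap f).subschemeι).obj L) :=
    isInvertible_pullback _ hL
  obtain ⟨t, ht⟩ := exists_mem_genLocus_of_isGloballyGenerated hM hgg y'
  obtain ⟨s, hs⟩ := exists_lift_section (g.ker.comap f) L hsurj t
  have hpb := genLocus_pullback (g.ker.comap f).subschemeι hL s
    (pbUnit (g.ker.comap f).subschemeι).symm
  rw [Iso.symm_hom, hs] at hpb
  rw [hpb] at ht
  have hy₀s : y₀ ∈ CohB1.genLocus L s := by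
    rw [← hy']
    exact ht
  exact (Set.mem_iInter.mp hy₀Z s) hy₀s

/-- (H) with the binder list of helper23's stub (`fibIdeal f m` unfolded). -/
theorem H_gg_of_fibres {A : Type u} [CommRing A] [IsNoetherianRing A] {X : Scheme.{u}}
    (f : X ⟶ Spec (CommRingCat.of A)) [IsProper f] (L : X.Modules) (hL : PicF.IsInvertible L)
    (h : ∀ m : Ideal A, m.IsMaximal →
      Function.Surjective (Hmap (DevStep.proj
        ((Spec.map (CommRingCat.ofHom (Ideal.Quotient.mk m))).ker.comap f) L) 0) ∧
        Curv2.IsGloballyGenerated ((Scheme.Modules.pullback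
          ((Spec.map (CommRingCat.ofHom (Ideal.Quotient.mk m))).ker.comap f).subschemeι).obj L)) :
    Curv2.IsGloballyGenerated L :=
  gg_of_fibres f L hL h

end Groth.Agent.Lib.Helper13.RelNefH

end
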