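import Groth.Prelude.Def_RelSpec2
import Mathlib.AlgebraicGeometry.Morphisms.ClosedImmersion

set_option autoImplicit false
universe u
open CategoryTheory CategoryTheory.Limits AlgebraicGeometry Opposite TopologicalSpace

noncomputable section
namespace Groth.Agent.Lib.Helper13

variable {S : Scheme.{u}} (A : RelSpec.QCAlg S)

theorem spec_hom_ext {Z : Scheme.{u}} {f g : A.spec ⟶ Z}
    (h : ∀ (U : S.Opens) (hU : IsAffineOpen U), A.ι U hU ≫ f = A.ι U hU ≫ g) : f = g := by
  apply A.glueData.cover.hom_ext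
  intro U
  exact h U.1 U.2

theorem exists_chart (y : A.spec) : ∃ (U : S.Opens) (hU : IsAffineOpen U) (x : Spec (A.presheaf.obj (op U))),
    (A.ι U hU).base x = y := by
  obtain ⟨U, x, hx⟩ := A.glueData.cover.exists_eq y
  exact ⟨U.1, U.2, x, hx⟩

/-- component of an algebra map to the structure sheaf, with its codomain spelled `Γ(S, U)` -/
abbrev augApp (aug : A ⟶ RelSpec.QCAlg.unit S) (U : S.Opens) : A.presheaf.obj (op U) ⟶ Γ(S, U) :=
  aug.hom.app (op U)

theorem str_augApp (aug : A ⟶ RelSpec.QCAlg.unit S) (U : S.Opens) :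
    A.str.app (op U) ≫ augApp A aug U = 𝟙 _ := by
  have := NatTrans.congr_app aug.comm (op U)
  exact this

theorem augApp_naturality (aug : A ⟶ RelSpec.QCAlg.unit S) {U V : S.Opens} (i : op U ⟶ op V) :
    A.presheaf.map i ≫ augApp A aug V = augApp A aug U ≫ S.presheaf.map i :=
  aug.hom.naturality i

theorem sectionLeg_naturality (aug : A ⟶ RelSpec.QCAlg.unit S) {V U : S.AffineZariskiSite} (i : V ⟶ U) :
    Spec.map (S.presheaf.map (homOfLE (Scheme.AffineZariskiSite.toOpens_mono i.le)).op) ≫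
        Spec.map (augApp A aug U.toOpens) ≫ A.ι U.toOpens U.2 =
      Spec.map (augApp A aug V.toOpens) ≫ A.ι V.toOpens V.2 := by
  rw [← A.ι_res i, ← Spec.map_comp_assoc, ← Spec.map_comp_assoc, augApp_naturality]

/-- the cocone on the affine opens with point `A.spec` attached to an algebra map `A ⟶ O_S` -/
def sectionCocone (aug : A ⟶ RelSpec.QCAlg.unit S) :
    Cocone (Scheme.AffineZariskiSite.toOpensFunctor S ⋙ S.presheaf.rightOp ⋙ Scheme.Spec) where
  pt := A.spec
  ι :=
    { app := fun U => Spec.map (augApp A aug U.toOpens) ≫ A.ι U.toOpens U.2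
      naturality := fun V U i => by
        refine (sectionLeg_naturality A aug i).trans ?_
        exact (Category.comp_id _).symm }

/-- the section of `Spec(A) ⟶ S` attached to an algebra map `A ⟶ O_S` -/
def sectionOf (aug : A ⟶ RelSpec.QCAlg.unit S) : S ⟶ A.spec :=
  (Scheme.AffineZariskiSite.isColimitCocone S).desc (sectionCocone A aug)

theorem fromSpec_sectionOf (aug : A ⟶ RelSpec.QCAlg.unit S) (U : S.Opens) (hU : IsAffineOpen U) :
    hU.fromSpec ≫ sectionOf A aug = Spec.map (augApp A aug U) ≫ A.ι U hU :=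
  (Scheme.AffineZariskiSite.isColimitCocone S).fac (sectionCocone A aug) ⟨U, hU⟩

theorem hom_ext_fromSpec {Z : Scheme.{u}} {f g : S ⟶ Z}
    (h : ∀ (U : S.Opens) (hU : IsAffineOpen U), hU.fromSpec ≫ f = hU.fromSpec ≫ g) : f = g :=
  (Scheme.AffineZariskiSite.isColimitCocone S).hom_ext fun U => h U.1 U.2

theorem sectionOf_π (aug : A ⟶ RelSpec.QCAlg.unit S) : sectionOf A aug ≫ A.π = 𝟙 S := by
  apply hom_ext_fromSpec
  intro U hU
  rw [reassoc_of% (fromSpec_sectionOf A aug U hU), A.ι_π, ← Spec.map_comp_assoc, Category.comp_id,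
    str_augApp, Spec.map_id, Category.id_comp]

end Groth.Agent.Lib.Helper13
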