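import Mathlib
import Groth.Prelude
import Groth.Agent.Lib.Helper13.Rigid4
import Groth.Agent.Lib.Helper13.CBCSeesawG

/-!
# `h⁰ = 1` for proper morphisms with geometrically reduced and connected fibres; maps to
quasi-finite targets collapse connected fibres
-/

set_option autoImplicit false
set_option linter.style.haveILetI false
universe u
open CategoryTheory CategoryTheory.Limits AlgebraicGeometry TopologicalSpace

namespace Groth.Agent.Lib.Helper13.Rigid

/-- `h⁰(X_y, O) = 1` for proper morphisms with geometrically reduced and geometrically connected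
fibres. -/
theorem finrank_eq_one_of_geomRed_geomConn {X Y : Scheme.{u}} (f : X ⟶ Y) [IsProper f]
    [GeometricallyReduced f] [GeometricallyConnected f]
    (y : Y) : Module.finrank (Y.residueField y) Γ(f.fiber y, ⊤) = 1 := by
  letI over' : (f.fiber y).Over (Spec (CommRingCat.of ↑(Y.residueField y))) :=
    ⟨f.fiberToSpecResidueField y⟩
  haveI : IsProper ((f.fiber y) ↘ Spec (CommRingCat.of ↑(Y.residueField y))) :=
    (inferInstance : IsProper (pullback.snd f (Y.fromSpecResidueField y)))
  haveI : GeometricallyReduced ((f.fiber y) ↘ Spec (CommRingCat.of ↑(Y.residueField y))) :=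
    (inferInstance : GeometricallyReduced (f.fiberToSpecResidueField y))
  haveI : GeometricallyConnected ((f.fiber y) ↘ Spec (CommRingCat.of ↑(Y.residueField y))) :=
    (inferInstance : GeometricallyConnected (f.fiberToSpecResidueField y))
  have h1 := Groth.Agent.S1536.result ↑(Y.residueField y) (f.fiber y)
  have e2 : Coh.HH (f.fiber y) (Coh.structureModule (f.fiber y)) 0
      ≃ₗ[↑(Y.residueField y)] Γ(f.fiber y, ⊤) :=
    Groth.Agent.Lib.Helper23.GeomH0.H0structEquiv ↑(Y.residueField y) (f.fiber y)
  exact e2.finrank_eq.symm.trans h1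

/-- a morphism over `S` from a family with connected fibres to a locally quasi-finite `S`-scheme
collapses every fibre. -/
theorem collapsed_eq_univ_of_locallyQuasiFinite {X S Y : Scheme.{u}} (p : X ⟶ S)
    (hconn : ∀ s : S, _root_.IsConnected (p.base ⁻¹' {s}))
    (q : Y ⟶ S) [LocallyQuasiFinite q] (f : X ⟶ Y) (hf : f ≫ q = p) :
    collapsed p f = Set.univ := by
  rw [Set.eq_univ_iff_forall]
  intro t
  obtain ⟨x₀, hx₀⟩ := (hconn t).nonempty
  refine ⟨f.base x₀, fun x hx => ?_⟩
  haveI : ConnectedSpace ↥(p.base ⁻¹' {t}) := isConnected_iff_connectedSpace.1 (hconn t)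
  haveI : DiscreteTopology ↥(q.base ⁻¹' {t}) := (q.isDiscrete_preimage_singleton t).to_subtype
  have hmem : ∀ z : ↥(p.base ⁻¹' {t}), f.base z.1 ∈ q.base ⁻¹' {t} := by
    intro z
    have h1 := congrArg (fun φ => φ.base z.1) hf
    simp only [Scheme.Hom.comp_base, TopCat.hom_comp, ContinuousMap.comp_apply] at h1
    show q.base (f.base z.1) = t
    rw [h1]
    exact z.2
  let g : ↥(p.base ⁻¹' {t}) → ↥(q.base ⁻¹' {t}) := fun z => ⟨f.base z.1, hmem z⟩
  have hg : Continuous g := (f.continuous.comp continuous_subtype_val).subtype_mk _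
  have h2 := PreconnectedSpace.constant (inferInstance : PreconnectedSpace ↥(p.base ⁻¹' {t})) hg
    (x := ⟨x, hx⟩) (y := ⟨x₀, hx₀⟩)
  exact congrArg Subtype.val h2

end Groth.Agent.Lib.Helper13.Rigid
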