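import Mathlib
import Groth.Prelude
import Groth.Agent.Lib.Helper13.Rigid6

/-!
# Rigidity lemma for a product, with the collapsed fibre given by a `T`-valued point
-/

set_option autoImplicit false
set_option linter.style.haveILetI false
universe u
open CategoryTheory CategoryTheory.Limits MonoidalCategory CartesianMonoidalCategory AlgebraicGeometry
  TopologicalSpace

namespace Groth.Agent.Lib.Helper13.Rigid

/-- rigidity: `f : X ⊗ Y ⟶ Z` with `X` proper flat, `h⁰ = 1` on the fibres of `X ⊗ Y ⟶ Y`, `Y`
connected locally Noetherian, `Z` separated; if `f` is constant along `X ⊗ T` for a nonempty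
`T ⟶ Y`, then `f` factors through the second projection. -/
theorem exists_factor_snd_of_point {S : Scheme.{u}}
    (X Y Z : Over S) [IsSeparated Z.hom] [IsProper X.hom] [Flat X.hom]
    [IsLocallyNoetherian Y.left] [ConnectedSpace Y.left]
    (h0 : ∀ y : Y.left, Module.finrank (Y.left.residueField y)
      Γ((pullback.snd X.hom Y.hom).fiber y, ⊤) = 1)
    (f : X ⊗ Y ⟶ Z) (T : Over S) [Nonempty T.left] (y₀ : T ⟶ Y) (z₀ : T ⟶ Z)
    (h : (X ◁ y₀) ≫ f = snd X T ≫ z₀) :
    ∃ g : Y ⟶ Z, f = snd X Y ≫ g := by
  have hw : f.left ≫ Z.hom = pullback.snd X.hom Y.hom ≫ Y.hom := by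
    rw [Over.w f, ← pullback.condition]
    rfl
  let p : pullback X.hom Y.hom ⟶ Y.left := pullback.snd X.hom Y.hom
  let f' : pullback X.hom Y.hom ⟶ pullback Z.hom Y.hom :=
    pullback.lift f.left (pullback.snd X.hom Y.hom) hw
  have hf'1 : f' ≫ pullback.fst Z.hom Y.hom = f.left := pullback.lift_fst _ _ _
  have hf'2 : f' ≫ pullback.snd Z.hom Y.hom = pullback.snd X.hom Y.hom := pullback.lift_snd _ _ _
  have hzy : z₀.left ≫ Z.hom = y₀.left ≫ Y.hom := by
    rw [Over.w z₀, Over.w y₀]
  let c : T.left ⟶ pullback Z.hom Y.hom := pullback.lift z₀.left y₀.left hzy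
  -- the comparison map
  have hcond : (pullback.fst p y₀.left ≫ pullback.fst X.hom Y.hom) ≫ X.hom =
      pullback.snd p y₀.left ≫ T.hom := by
    rw [Category.assoc, pullback.condition, ← Category.assoc]
    show (pullback.fst p y₀.left ≫ p) ≫ Y.hom = _
    rw [pullback.condition, Category.assoc, Over.w y₀]
  let d : pullback p y₀.left ⟶ pullback X.hom T.hom :=
    pullback.lift (pullback.fst p y₀.left ≫ pullback.fst X.hom Y.hom) (pullback.snd p y₀.left) hcond
  have hwl1 : (X ◁ y₀).left ≫ pullback.fst X.hom Y.hom = pullback.fst X.hom T.hom := by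
    have h1 : (X ◁ y₀) ≫ fst X Y = fst X T := whiskerLeft_fst _ _
    exact congrArg CommaMorphism.left h1
  have hwl2 : (X ◁ y₀).left ≫ pullback.snd X.hom Y.hom = pullback.snd X.hom T.hom ≫ y₀.left := by
    have h1 : (X ◁ y₀) ≫ snd X Y = snd X T ≫ y₀ := whiskerLeft_snd _ _
    exact congrArg CommaMorphism.left h1
  have hd : d ≫ (X ◁ y₀).left = pullback.fst p y₀.left := by
    apply pullback.hom_ext
    · rw [Category.assoc, hwl1, pullback.lift_fst]
    · rw [Category.assoc, hwl2, ← Category.assoc, pullback.lift_snd]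
      exact pullback.condition.symm
  have hh : (X ◁ y₀).left ≫ f.left = pullback.snd X.hom T.hom ≫ z₀.left :=
    congrArg CommaMorphism.left h
  have hfc : pullback.fst p y₀.left ≫ f' = pullback.snd p y₀.left ≫ c := by
    apply pullback.hom_ext
    · rw [Category.assoc, hf'1, Category.assoc, pullback.lift_fst, ← hd, Category.assoc, hh,
        ← Category.assoc, pullback.lift_snd]
    · rw [Category.assoc, hf'2, Category.assoc, pullback.lift_snd]
      exact pullback.condition
  obtain ⟨t⟩ : Nonempty T.left := inferInstance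
  have hcol : y₀.left.base t ∈ collapsed (pullback.snd X.hom Y.hom) f' := by
    refine ⟨c.base t, fun w hw' => ?_⟩
    obtain ⟨z, hz1, hz2⟩ := Scheme.Pullback.exists_preimage_pullback
      (f := p) (g := y₀.left) w t hw'
    have h3 := congrArg (fun φ => φ.base z) hfc
    simp only [Scheme.Hom.comp_base, TopCat.hom_comp, ContinuousMap.comp_apply] at h3
    rw [← hz1, h3, hz2]
  obtain ⟨σ, hσ1, hσ2⟩ := exists_section_factor (pullback.snd X.hom Y.hom)
    h0 (pullback.snd Z.hom Y.hom) f' hf'2 _ hcol
  refine ⟨Over.homMk (σ ≫ pullback.fst Z.hom Y.hom) (by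
    rw [Category.assoc, pullback.condition, ← Category.assoc, hσ1, Category.id_comp]), ?_⟩
  apply Over.OverMorphism.ext
  rw [Over.comp_left]
  show f.left = pullback.snd X.hom Y.hom ≫ σ ≫ pullback.fst Z.hom Y.hom
  rw [← Category.assoc, ← hσ2, hf'1]

/-- the second projection is an epimorphism when its fibres have `h⁰ = 1` and `X` is proper flat. -/
theorem epi_snd_of_h0 {S : Scheme.{u}}
    (X Y : Over S) [IsProper X.hom] [Flat X.hom]
    (h0 : ∀ y : Y.left, Module.finrank (Y.left.residueField y)
      Γ((pullback.snd X.hom Y.hom).fiber y, ⊤) = 1) : Epi (snd X Y) := by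
  haveI : Surjective (pullback.snd X.hom Y.hom) := surjective_of_h0 _ h0
  haveI : EffectiveEpi (pullback.snd X.hom Y.hom) := inferInstance
  haveI : Epi (pullback.snd X.hom Y.hom) := inferInstance
  haveI : Epi (snd X Y).left := (inferInstance : Epi (pullback.snd X.hom Y.hom))
  exact Over.epi_of_epi_left _

end Groth.Agent.Lib.Helper13.Rigid
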