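import Mathlib
import Groth.Prelude
import Groth.Agent.Lib.Helper13.Rigid5

/-!
# `h⁰ = 1` from reduced connected geometric fibres
-/

set_option autoImplicit false
set_option linter.style.haveILetI false
universe u
open CategoryTheory CategoryTheory.Limits AlgebraicGeometry TopologicalSpace

namespace Groth.Agent.Lib.Helper13.Rigid

theorem finrank_eq_one_of_geomFibre_reduced {X S : Scheme.{u}} (f : X ⟶ S) [IsProper f]
    (s : S) (hred : IsReduced (pullback f (Red.geomPt s)))
    (hc : ConnectedSpace ↥(pullback f (Red.geomPt s))) :
    Module.finrank (S.residueField s) Γ(f.fiber s, ⊤) = 1 := by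
  letI over' : (f.fiber s).Over (Spec (CommRingCat.of ↑(S.residueField s))) :=
    ⟨f.fiberToSpecResidueField s⟩
  letI overK : (pullback f (Red.geomPt s)).Over
      (Spec (CommRingCat.of (AlgebraicClosure (S.residueField s)))) :=
    ⟨pullback.snd f (Red.geomPt s)⟩
  let π : pullback f (Red.geomPt s) ⟶ f.fiber s :=
    pullback.lift (pullback.fst f (Red.geomPt s))
      (pullback.snd f (Red.geomPt s) ≫ Spec.map (CommRingCat.ofHom
        (algebraMap (S.residueField s) (AlgebraicClosure (S.residueField s)))))
      (by rw [pullback.condition, Category.assoc]; rfl)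
  have hpb : IsPullback π
      ((pullback f (Red.geomPt s)) ↘
        Spec (CommRingCat.of (AlgebraicClosure (S.residueField s))))
      ((f.fiber s) ↘ Spec (CommRingCat.of ↑(S.residueField s)))
      (Spec.map (CommRingCat.ofHom
        (algebraMap (S.residueField s) (AlgebraicClosure (S.residueField s))))) := by
    have hπ1 : π ≫ pullback.fst f (S.fromSpecResidueField s) =
        pullback.fst f (Red.geomPt s) := pullback.lift_fst _ _ _
    have hbig : IsPullback (π ≫ pullback.fst f (S.fromSpecResidueField s))
        (pullback.snd f (Red.geomPt s)) f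
        (Spec.map (CommRingCat.ofHom
          (algebraMap (S.residueField s) (AlgebraicClosure (S.residueField s)))) ≫
          S.fromSpecResidueField s) := by
      rw [hπ1]
      exact IsPullback.of_hasPullback f (Red.geomPt s)
    exact IsPullback.of_right hbig (pullback.lift_snd _ _ _)
      (IsPullback.of_hasPullback f (S.fromSpecResidueField s))
  haveI : IsProper ((pullback f (Red.geomPt s)) ↘
      Spec (CommRingCat.of (AlgebraicClosure (S.residueField s)))) :=
    (inferInstance : IsProper (pullback.snd f (Red.geomPt s)))
  haveI : IsReduced (pullback f (Red.geomPt s)) := hred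
  haveI : ConnectedSpace ↥(pullback f (Red.geomPt s)) := hc
  haveI : IsProper ((f.fiber s) ↘ Spec (CommRingCat.of ↑(S.residueField s))) :=
    (inferInstance : IsProper (pullback.snd f (S.fromSpecResidueField s)))
  have h1 := Groth.Agent.Lib.Helper23.GeomH0.finrank_H0_eq_one_of_isAlgClosed
    (AlgebraicClosure (S.residueField s)) (pullback f (Red.geomPt s))
  have e0 := (Groth.Agent.Lib.Helper23.FBC.HmapEquivK (AlgebraicClosure (S.residueField s))
    (Groth.Agent.Lib.Helper3.PbBasic.pbUnit π) 0).finrank_eq
  have f0 := Groth.Agent.Lib.Helper23.FBC.finrank_eq_of_isProper ↑(S.residueField s)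
    (AlgebraicClosure (S.residueField s)) hpb 0 (Coh.structureModule (f.fiber s))
  have h2 : Module.finrank ↑(S.residueField s)
      (Coh.HH (f.fiber s) (Coh.structureModule (f.fiber s)) 0) = 1 := by
    rw [← f0, e0, h1]
  have e2 : Coh.HH (f.fiber s) (Coh.structureModule (f.fiber s)) 0
      ≃ₗ[↑(S.residueField s)] Γ(f.fiber s, ⊤) :=
    Groth.Agent.Lib.Helper23.GeomH0.H0structEquiv ↑(S.residueField s) (f.fiber s)
  exact e2.finrank_eq.symm.trans h2

end Groth.Agent.Lib.Helper13.Rigid
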