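import Mathlib
import Groth.Prelude
import Groth.Agent.S11468

/-!
# Rigidity lemma, closed-map case: infinitesimal ingredients (helper13)
-/

set_option autoImplicit false
set_option linter.style.haveILetI false
universe u
open CategoryTheory CategoryTheory.Limits AlgebraicGeometry TopologicalSpace Opposite

namespace Groth.Agent.Lib.Helper13.RigidCl1

/-- **Krull separation** for morphisms out of the spectrum of a Noetherian local ring. -/
theorem eq_of_forall_quot {R : Type u} [CommRing R] [IsNoetherianRing R] [IsLocalRing R]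
    (I : Ideal R) (hI : I ≠ ⊤) {Y : Scheme.{u}} (V : Y.Opens) (hV : IsAffineOpen V)
    (a a' : Spec (CommRingCat.of R) ⟶ Y)
    (ha : Set.range a ⊆ (V : Set Y)) (ha' : Set.range a' ⊆ (V : Set Y))
    (h : ∀ n : ℕ, Spec.map (CommRingCat.ofHom (Ideal.Quotient.mk (I ^ (n + 1)))) ≫ a =
      Spec.map (CommRingCat.ofHom (Ideal.Quotient.mk (I ^ (n + 1)))) ≫ a') : a = a' := by
  have hr : Set.range hV.fromSpec = (V : Set Y) := hV.range_fromSpec
  let ã := IsOpenImmersion.lift hV.fromSpec a (by rw [hr]; exact ha)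
  let ã' := IsOpenImmersion.lift hV.fromSpec a' (by rw [hr]; exact ha')
  have hã : ã ≫ hV.fromSpec = a := IsOpenImmersion.lift_fac _ _ _
  have hã' : ã' ≫ hV.fromSpec = a' := IsOpenImmersion.lift_fac _ _ _
  obtain ⟨α, hα⟩ : ∃ α : Γ(Y, V) ⟶ CommRingCat.of R, Spec.map α = ã :=
    ⟨Spec.preimage ã, Spec.map_preimage _⟩
  obtain ⟨α', hα'⟩ : ∃ α' : Γ(Y, V) ⟶ CommRingCat.of R, Spec.map α' = ã' :=
    ⟨Spec.preimage ã', Spec.map_preimage _⟩
  have key : ∀ n : ℕ, α ≫ CommRingCat.ofHom (Ideal.Quotient.mk (I ^ (n + 1))) =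
      α' ≫ CommRingCat.ofHom (Ideal.Quotient.mk (I ^ (n + 1))) := by
    intro n
    apply Spec.map_injective
    rw [Spec.map_comp, Spec.map_comp, hα, hα']
    have h1 := h n
    rw [← hã, ← hã', ← Category.assoc, ← Category.assoc] at h1
    exact (cancel_mono hV.fromSpec).mp h1
  have hαα' : α = α' := by
    ext b
    have hb : α.hom b - α'.hom b ∈ (⊥ : Ideal R) := by
      rw [← Ideal.iInf_pow_eq_bot_of_isLocalRing I hI, Ideal.mem_iInf]
      intro n
      have h2 := congrArg (fun φ : Γ(Y, V) ⟶ CommRingCat.of (R ⧸ I ^ (n + 1)) => φ.hom b) (key n)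
      have h3 : Ideal.Quotient.mk (I ^ (n + 1)) (α.hom b) =
          Ideal.Quotient.mk (I ^ (n + 1)) (α'.hom b) := h2
      have h4 : α.hom b - α'.hom b ∈ I ^ (n + 1) := by
        rw [← Ideal.Quotient.eq]
        exact h3
      exact Ideal.pow_le_pow_right (Nat.le_succ n) h4
    rw [Ideal.mem_bot, sub_eq_zero] at hb
    exact hb
  rw [← hã, ← hã', ← hα, ← hα', hαα']

/-- **Artinian step**: over a local Artinian ring, a morphism from a flat scheme with a section
and trivial functions on the closed fibre, landing in an affine open, factors through the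
base. -/
theorem eq_comp_section_of_artinian (C : Type u) [CommRing C] [IsLocalRing C] [IsArtinianRing C]
    {Xc X₀ Y : Scheme.{u}} (g : Xc ⟶ Spec (CommRingCat.of C)) [Flat g]
    (ε : Spec (CommRingCat.of C) ⟶ Xc) (hε : ε ≫ g = 𝟙 _) (i : X₀ ⟶ Xc)
    (f₀ : X₀ ⟶ Spec (CommRingCat.of (C ⧸ IsLocalRing.maximalIdeal C)))
    (hsq : IsPullback i f₀ g
      (Spec.map (CommRingCat.ofHom (Ideal.Quotient.mk (IsLocalRing.maximalIdeal C)))))
    (h0 : Function.Bijective
      ((Scheme.ΓSpecIso (CommRingCat.of (C ⧸ IsLocalRing.maximalIdeal C))).inv ≫ f₀.appTop))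
    (V : Y.Opens) (hV : IsAffineOpen V) (F : Xc ⟶ Y) (hF : Set.range F ⊆ (V : Set Y)) :
    F = g ≫ ε ≫ F := by
  have hbij := Groth.Agent.S11468.result C Xc X₀ g i f₀ hsq h0
  haveI hiso1 : IsIso ((Scheme.ΓSpecIso (CommRingCat.of C)).inv ≫ g.appTop) :=
    (ConcreteCategory.isIso_iff_bijective _).mpr hbij
  haveI hiso : IsIso g.appTop := by
    have : g.appTop = (Scheme.ΓSpecIso (CommRingCat.of C)).hom ≫
        ((Scheme.ΓSpecIso (CommRingCat.of C)).inv ≫ g.appTop) := by
      rw [Iso.hom_inv_id_assoc]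
    rw [this]
    infer_instance
  have h1 : g.appTop ≫ ε.appTop = 𝟙 _ := by
    rw [← Scheme.Hom.comp_appTop, hε]
    rfl
  have h2 : ε.appTop ≫ g.appTop = 𝟙 _ := by
    have : ε.appTop = inv g.appTop := by
      rw [← cancel_epi g.appTop, h1, IsIso.hom_inv_id]
    rw [this, IsIso.inv_hom_id]
  have hr : Set.range hV.fromSpec = (V : Set Y) := hV.range_fromSpec
  let F' := IsOpenImmersion.lift hV.fromSpec F (by rw [hr]; exact hF)
  have hF' : F' ≫ hV.fromSpec = F := IsOpenImmersion.lift_fac _ _ _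
  have h3 : F' = g ≫ ε ≫ F' := by
    apply ext_of_isAffine
    rw [Scheme.Hom.comp_appTop, Scheme.Hom.comp_appTop, Category.assoc, h2, Category.comp_id]
  calc F = F' ≫ hV.fromSpec := hF'.symm
    _ = (g ≫ ε ≫ F') ≫ hV.fromSpec := by rw [← h3]
    _ = g ≫ ε ≫ F := by rw [Category.assoc, Category.assoc, hF']

lemma isIso_appTop {X Y : Scheme.{u}} (φ : X ⟶ Y) [IsIso φ] : IsIso φ.appTop :=
  ⟨⟨(inv φ).appTop, by rw [← Scheme.Hom.comp_appTop, IsIso.inv_hom_id]; rfl,
    by rw [← Scheme.Hom.comp_appTop, IsIso.hom_inv_id]; rfl⟩⟩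

/-- transfer of the hypothesis on functions of the fibre along an isomorphism of residue
fields. -/
theorem bijective_of_iso_residue {X S X₀ : Scheme.{u}} (p : X ⟶ S) (s : S)
    (h0s : Function.Bijective (pullback.snd p (S.fromSpecResidueField s)).appTop)
    {K : CommRingCat.{u}} (θ : S.residueField s ⟶ K) [IsIso θ] (i₀ : X₀ ⟶ X)
    (f₀ : X₀ ⟶ Spec K)
    (hsq : IsPullback i₀ f₀ p (Spec.map θ ≫ S.fromSpecResidueField s)) :
    Function.Bijective ((Scheme.ΓSpecIso K).inv ≫ f₀.appTop) := by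
  have sq' : IsPullback i₀ (f₀ ≫ Spec.map θ) p (S.fromSpecResidueField s) :=
    hsq.of_iso (Iso.refl _) (Iso.refl _) (asIso (Spec.map θ)) (Iso.refl _)
      (by simp) (by simp) (by simp) (by simp)
  have h1 : sq'.isoPullback.hom ≫ pullback.snd p (S.fromSpecResidueField s) =
      f₀ ≫ Spec.map θ := sq'.isoPullback_hom_snd
  have h2 : (Spec.map θ).appTop ≫ f₀.appTop =
      (pullback.snd p (S.fromSpecResidueField s)).appTop ≫ sq'.isoPullback.hom.appTop := by
    rw [← Scheme.Hom.comp_appTop, ← Scheme.Hom.comp_appTop, h1]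
  haveI : IsIso (pullback.snd p (S.fromSpecResidueField s)).appTop :=
    (ConcreteCategory.isIso_iff_bijective _).mpr h0s
  haveI : IsIso sq'.isoPullback.hom.appTop := isIso_appTop _
  haveI : IsIso (Spec.map θ).appTop := isIso_appTop _
  haveI : IsIso ((Spec.map θ).appTop ≫ f₀.appTop) := by rw [h2]; infer_instance
  haveI : IsIso f₀.appTop := IsIso.of_isIso_comp_left (Spec.map θ).appTop f₀.appTop
  exact (ConcreteCategory.isIso_iff_bijective _).mp inferInstance

end Groth.Agent.Lib.Helper13.RigidCl1
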