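import Mathlib
import Groth.Prelude
import Groth.Agent.Lib.Helper13.RigidCl1

/-!
# Rigidity lemma, closed-map case: germs agree over a collapsed fibre (helper13)
-/

set_option autoImplicit false
set_option linter.style.haveILetI false
universe u
open CategoryTheory CategoryTheory.Limits AlgebraicGeometry TopologicalSpace Opposite IsLocalRing

namespace Groth.Agent.Lib.Helper13.RigidCl2

section ring
variable (A : Type u) [CommRing A] [IsLocalRing A] [IsNoetherianRing A] (n : ℕ)

lemma pow_succ_ne_top : maximalIdeal A ^ (n + 1) ≠ ⊤ := fun h =>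
  (maximalIdeal.isMaximal A).ne_top
    (top_le_iff.mp (h ▸ Ideal.pow_le_self (Nat.succ_ne_zero n)))

lemma nontrivial_quot : Nontrivial (A ⧸ maximalIdeal A ^ (n + 1)) :=
  Ideal.Quotient.nontrivial_iff.mpr (pow_succ_ne_top A n)

lemma isLocalRing_quot : IsLocalRing (A ⧸ maximalIdeal A ^ (n + 1)) :=
  haveI := nontrivial_quot A n
  IsLocalRing.of_surjective' (Ideal.Quotient.mk _) Ideal.Quotient.mk_surjective

lemma isLocalHom_quot :
    IsLocalHom (Ideal.Quotient.mk (maximalIdeal A ^ (n + 1))) :=
  haveI := nontrivial_quot A n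
  IsLocalHom.of_surjective _ Ideal.Quotient.mk_surjective

lemma isArtinianRing_quot : IsArtinianRing (A ⧸ maximalIdeal A ^ (n + 1)) := by
  have hp : maximalIdeal A ∈ (maximalIdeal A ^ (n + 1)).minimalPrimes := by
    refine ⟨⟨inferInstance, Ideal.pow_le_self (Nat.succ_ne_zero n)⟩, ?_⟩
    rintro q ⟨hq, hle⟩ _
    exact (Ideal.IsPrime.pow_le_iff (Nat.succ_ne_zero n)).mp hle
  exact IsLocalRing.quotient_artinian_of_mem_minimalPrimes_of_isLocalRing _ hp

end ring

/-- every point of the spectrum of a local Artinian ring is the closed point. -/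
lemma eq_closedPoint_of_artinian (C : Type u) [CommRing C] [IsLocalRing C] [IsArtinianRing C]
    (w : PrimeSpectrum C) : w = closedPoint C := by
  apply PrimeSpectrum.ext
  haveI : w.asIdeal.IsMaximal := IsArtinianRing.isMaximal_of_isPrime w.asIdeal
  exact IsLocalRing.eq_maximalIdeal ‹_›

/-- **Infinitesimal step**: over the `n`-th infinitesimal neighbourhood of `s`, the morphism `f`
factors through the section. -/
theorem thickening_eq {S X Y : Scheme.{u}} [IsLocallyNoetherian S]
    (p : X ⟶ S) [Flat p] (e : S ⟶ X) (he : e ≫ p = 𝟙 S) (f : X ⟶ Y) (s : S)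
    (h0 : Function.Bijective (pullback.snd p (S.fromSpecResidueField s)).appTop)
    (V : Y.Opens) (hV : IsAffineOpen V)
    (hs : ∀ x' : X, p.base x' = s → f.base x' ∈ V) (n : ℕ) :
    pullback.fst p (Spec.map (CommRingCat.ofHom
        (Ideal.Quotient.mk (maximalIdeal (S.presheaf.stalk s) ^ (n + 1)))) ≫
        S.fromSpecStalk s) ≫ f =
      pullback.fst p (Spec.map (CommRingCat.ofHom
        (Ideal.Quotient.mk (maximalIdeal (S.presheaf.stalk s) ^ (n + 1)))) ≫
        S.fromSpecStalk s) ≫ p ≫ e ≫ f := by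
  haveI := isLocalRing_quot (S.presheaf.stalk s) n
  haveI := isArtinianRing_quot (S.presheaf.stalk s) n
  haveI := isLocalHom_quot (S.presheaf.stalk s) n
  set mkA : (S.presheaf.stalk s : Type u) →+*
      (S.presheaf.stalk s) ⧸ maximalIdeal (S.presheaf.stalk s) ^ (n + 1) :=
    Ideal.Quotient.mk (maximalIdeal (S.presheaf.stalk s) ^ (n + 1)) with hmkA
  set C : Type u := (S.presheaf.stalk s) ⧸ maximalIdeal (S.presheaf.stalk s) ^ (n + 1) with hC
  set c : Spec (CommRingCat.of C) ⟶ S := Spec.map (CommRingCat.ofHom mkA) ≫ S.fromSpecStalk s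
    with hc
  -- the section
  let ε : Spec (CommRingCat.of C) ⟶ pullback p c :=
    pullback.lift (c ≫ e) (𝟙 _) (by rw [Category.assoc, he, Category.comp_id, Category.id_comp])
  have hε : ε ≫ pullback.snd p c = 𝟙 _ := pullback.lift_snd _ _ _
  have hε1 : ε ≫ pullback.fst p c = c ≫ e := pullback.lift_fst _ _ _
  -- residue field comparison
  let θ : S.residueField s ⟶ CommRingCat.of (C ⧸ maximalIdeal C) :=
    CommRingCat.ofHom (IsLocalRing.ResidueField.map mkA)
  have hθbij : Function.Bijective θ.hom := by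
    refine ⟨(IsLocalRing.ResidueField.map mkA).injective, ?_⟩
    intro z
    obtain ⟨z', rfl⟩ := Ideal.Quotient.mk_surjective z
    obtain ⟨a, rfl⟩ := Ideal.Quotient.mk_surjective (I := maximalIdeal _ ^ (n + 1)) z'
    exact ⟨IsLocalRing.residue _ a, IsLocalRing.ResidueField.map_residue mkA a⟩
  haveI : IsIso θ := (ConcreteCategory.isIso_iff_bijective θ).mpr hθbij
  have hθ : S.residue s ≫ θ =
      CommRingCat.ofHom mkA ≫ CommRingCat.ofHom (Ideal.Quotient.mk (maximalIdeal C)) := by
    ext a
    exact IsLocalRing.ResidueField.map_residue mkA a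
  -- closed fibre
  have hsq := IsPullback.of_hasPullback (pullback.snd p c)
    (Spec.map (CommRingCat.ofHom (Ideal.Quotient.mk (maximalIdeal C))))
  have hbig := hsq.paste_horiz (IsPullback.of_hasPullback p c)
  have hbot : Spec.map (CommRingCat.ofHom (Ideal.Quotient.mk (maximalIdeal C))) ≫ c =
      Spec.map θ ≫ S.fromSpecResidueField s := by
    rw [hc, Scheme.fromSpecResidueField, ← Spec.map_comp_assoc, ← Spec.map_comp_assoc, hθ]
  rw [hbot] at hbig
  have h0' := RigidCl1.bijective_of_iso_residue p s h0 θ _ _ hbig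
  -- the image lies in `V`
  have hF : Set.range (pullback.fst p c ≫ f) ⊆ (V : Set Y) := by
    rintro _ ⟨z, rfl⟩
    rw [Scheme.Hom.comp_apply]
    apply hs
    have h1 : p.base (pullback.fst p c z) = c (pullback.snd p c z) := by
      rw [← Scheme.Hom.comp_apply, ← Scheme.Hom.comp_apply, pullback.condition]
    rw [h1]
    show (S.fromSpecStalk s) ((Spec.map (CommRingCat.ofHom mkA)) (pullback.snd p c z)) = s
    have h2 : Spec.map (CommRingCat.ofHom mkA) (pullback.snd p c z) =
        closedPoint (S.presheaf.stalk s) := by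
      rw [eq_closedPoint_of_artinian C (pullback.snd p c z)]
      exact IsLocalRing.comap_closedPoint mkA
    rw [h2]
    exact Scheme.fromSpecStalk_closedPoint
  have key := RigidCl1.eq_comp_section_of_artinian C (pullback.snd p c) ε hε _ _ hsq h0' V hV
    (pullback.fst p c ≫ f) hF
  rw [key, ← Category.assoc ε, hε1, Category.assoc, ← pullback.condition_assoc]

end Groth.Agent.Lib.Helper13.RigidCl2
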