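import Mathlib
import Groth.Prelude
import Groth.Agent.Lib.Helper13.RigidCl2

/-!
# Rigidity lemma, closed-map case: germs agree at points of a collapsed fibre (helper13)
-/

set_option autoImplicit false
set_option linter.style.haveILetI false
universe u
open CategoryTheory CategoryTheory.Limits AlgebraicGeometry TopologicalSpace Opposite IsLocalRing

namespace Groth.Agent.Lib.Helper13.RigidCl3

theorem germ_eq {S X Y : Scheme.{u}} [IsLocallyNoetherian S] [IsLocallyNoetherian X]
    (p : X ⟶ S) [Flat p] (e : S ⟶ X) (he : e ≫ p = 𝟙 S) (f : X ⟶ Y) (x : X)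
    (h0 : Function.Bijective (pullback.snd p (S.fromSpecResidueField (p.base x))).appTop)
    (hs : ∀ x' : X, p.base x' = p.base x → f.base x' = f.base x) :
    X.fromSpecStalk x ≫ f = X.fromSpecStalk x ≫ p ≫ e ≫ f := by
  obtain ⟨_, ⟨V, hV, rfl⟩, hyV, -⟩ := Y.isBasis_affineOpens.exists_subset_of_mem_open
    (Set.mem_univ (f.base x)) isOpen_univ
  have hyV' : f.base x ∈ V := hyV
  let φ : (S.presheaf.stalk (p.base x) : Type u) →+* (X.presheaf.stalk x : Type u) :=
    (p.stalkMap x).hom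
  haveI : IsLocalHom φ := inferInstanceAs (IsLocalHom (p.stalkMap x).hom)
  let I : Ideal (X.presheaf.stalk x) := (maximalIdeal (S.presheaf.stalk (p.base x))).map φ
  have hI : I ≠ ⊤ := by
    have h02 := (IsLocalRing.local_hom_TFAE φ).out 0 2
    have hle : I ≤ maximalIdeal (X.presheaf.stalk x) := h02.mp ‹IsLocalHom φ›
    exact fun h => (maximalIdeal.isMaximal _).ne_top (top_le_iff.mp (h ▸ hle))
  have hsV : ∀ x' : X, p.base x' = p.base x → f.base x' ∈ V := fun x' hx' => by
    rw [hs x' hx']; exact hyV'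
  have hgen : ∀ z, (X.fromSpecStalk x) z ⤳ x := by
    intro z
    have : (X.fromSpecStalk x) z ∈ Set.range (X.fromSpecStalk x) := ⟨z, rfl⟩
    rw [Scheme.range_fromSpecStalk] at this
    exact this
  have ha : Set.range (X.fromSpecStalk x ≫ f) ⊆ (V : Set Y) := by
    rintro _ ⟨z, rfl⟩
    rw [Scheme.Hom.comp_apply]
    exact ((hgen z).map f.continuous).mem_open V.2 hyV'
  have ha' : Set.range (X.fromSpecStalk x ≫ p ≫ e ≫ f) ⊆ (V : Set Y) := by
    rintro _ ⟨z, rfl⟩
    rw [Scheme.Hom.comp_apply]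
    have h1 : (p ≫ e ≫ f) x ∈ V := by
      rw [Scheme.Hom.comp_apply, Scheme.Hom.comp_apply]
      apply hsV
      rw [← Scheme.Hom.comp_apply, he]
      rfl
    exact ((hgen z).map (p ≫ e ≫ f).continuous).mem_open V.2 h1
  apply RigidCl1.eq_of_forall_quot (R := X.presheaf.stalk x) I hI V hV _ _ ha ha'
  intro n
  have hle : maximalIdeal (S.presheaf.stalk (p.base x)) ^ (n + 1) ≤ (I ^ (n + 1)).comap φ := by
    rw [← Ideal.map_le_iff_le_comap, Ideal.map_pow]
  let ψ := Ideal.quotientMap (I ^ (n + 1)) φ hle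
  have hψ : p.stalkMap x ≫ CommRingCat.ofHom (Ideal.Quotient.mk (I ^ (n + 1))) =
      CommRingCat.ofHom (Ideal.Quotient.mk
        (maximalIdeal (S.presheaf.stalk (p.base x)) ^ (n + 1))) ≫ CommRingCat.ofHom ψ := by
    ext a
    rfl
  have hcomm : (Spec.map (CommRingCat.ofHom (Ideal.Quotient.mk (I ^ (n + 1)))) ≫
      X.fromSpecStalk x) ≫ p = Spec.map (CommRingCat.ofHom ψ) ≫
      (Spec.map (CommRingCat.ofHom (Ideal.Quotient.mk
        (maximalIdeal (S.presheaf.stalk (p.base x)) ^ (n + 1)))) ≫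
        S.fromSpecStalk (p.base x)) := by
    rw [Category.assoc, ← Scheme.SpecMap_stalkMap_fromSpecStalk, ← Spec.map_comp_assoc,
      ← Spec.map_comp_assoc]
    exact congrArg (fun t => Spec.map t ≫ S.fromSpecStalk (p.base x)) hψ
  have hk := RigidCl2.thickening_eq p e he f (p.base x) h0 V hV hsV n
  have hl := pullback.lift_fst _ _ hcomm
  calc Spec.map (CommRingCat.ofHom (Ideal.Quotient.mk (I ^ (n + 1)))) ≫ X.fromSpecStalk x ≫ f
      = pullback.lift _ _ hcomm ≫ pullback.fst _ _ ≫ f := by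
        rw [← Category.assoc (pullback.lift _ _ hcomm), hl, Category.assoc]
    _ = pullback.lift _ _ hcomm ≫ pullback.fst _ _ ≫ p ≫ e ≫ f := by rw [hk]
    _ = Spec.map (CommRingCat.ofHom (Ideal.Quotient.mk (I ^ (n + 1)))) ≫
        X.fromSpecStalk x ≫ p ≫ e ≫ f := by
        rw [← Category.assoc (pullback.lift _ _ hcomm), hl, Category.assoc]

end Groth.Agent.Lib.Helper13.RigidCl3
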