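import Mathlib
import Groth.Prelude
import Groth.Agent.Lib.Helper13.RigidCl3
import Groth.Agent.Lib.Helper13.H0LocConst

/-!
# Rigidity lemma, closed-map case (helper13)
-/

set_option autoImplicit false
set_option linter.style.haveILetI false
universe u
open CategoryTheory CategoryTheory.Limits AlgebraicGeometry TopologicalSpace Opposite IsLocalRing

namespace Groth.Agent.Lib.Helper13.RigidCl4

theorem closed_case (S X Y : Scheme.{u}) [IsLocallyNoetherian S] [IsLocallyNoetherian X]
    (p : X ⟶ S) (q : Y ⟶ S) (f : X ⟶ Y) (hf : f ≫ q = p) [Flat p] [IsSeparated q]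
    [ConnectedSpace S]
    (h0 : ∀ s : S, Function.Bijective (pullback.snd p (S.fromSpecResidueField s)).appTop)
    (hcl : IsClosedMap p.base) (e : S ⟶ X) (he : e ≫ p = 𝟙 S)
    (s : S) (hs : ∀ x x' : X, p.base x = s → p.base x' = s → f.base x = f.base x') :
    ∃ t : S ⟶ Y, t ≫ q = 𝟙 S ∧ f = p ≫ t := by
  have ht : (e ≫ f) ≫ q = 𝟙 S := by rw [Category.assoc, hf, he]
  refine ⟨e ≫ f, ht, ?_⟩
  -- the collapsed locus
  let C : Set S := {s' | ∀ x x' : X, p.base x = s' → p.base x' = s' → f.base x = f.base x'}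
  -- the locus where germs agree
  let G : Set X := {x | X.fromSpecStalk x ≫ f = X.fromSpecStalk x ≫ p ≫ e ≫ f}
  have hCG : ∀ x : X, p.base x ∈ C → x ∈ G := fun x hx =>
    RigidCl3.germ_eq p e he f x (h0 _) (fun x' hx' => hx x' x hx' rfl)
  have hGpt : ∀ x : X, x ∈ G → f.base x = (e ≫ f).base (p.base x) := by
    intro x hx
    have h1 := congrArg (fun φ : Spec (X.presheaf.stalk x) ⟶ Y =>
      φ.base (closedPoint (X.presheaf.stalk x))) hx
    simp only [Scheme.Hom.comp_base, TopCat.comp_app] at h1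
    rw [Scheme.fromSpecStalk_closedPoint] at h1
    simpa using h1
  have hGopen : IsOpen G := by
    rw [isOpen_iff_forall_mem_open]
    intro x hx
    obtain ⟨U, hxU, hU⟩ := spread_out_unique_of_isGermInjective' f (p ≫ e ≫ f) hx
    refine ⟨U, ?_, U.2, hxU⟩
    intro x' hx'
    show X.fromSpecStalk x' ≫ f = X.fromSpecStalk x' ≫ p ≫ e ≫ f
    rw [← U.fromSpecStalkOfMem_ι x' hx', Category.assoc, Category.assoc, hU]
  have hCopen : IsOpen C := by
    rw [isOpen_iff_forall_mem_open]
    intro s' hs'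
    refine ⟨(p.base '' Gᶜ)ᶜ, ?_, (hcl _ hGopen.isClosed_compl).isOpen_compl, ?_⟩
    · intro s'' hs'' x x' hx hx'
      have hxG : x ∈ G := by
        by_contra hcon
        exact hs'' ⟨x, hcon, hx⟩
      have hxG' : x' ∈ G := by
        by_contra hcon
        exact hs'' ⟨x', hcon, hx'⟩
      rw [hGpt x hxG, hGpt x' hxG', hx, hx']
    · rintro ⟨x, hxG, hx⟩
      exact hxG (hCG x (hx ▸ hs'))
  haveI : IsClosedImmersion ((e ≫ f) ≫ q) := by rw [ht]; infer_instance
  haveI : IsClosedImmersion (e ≫ f) := IsClosedImmersion.of_comp (e ≫ f) q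
  have hrange : IsClosed (Set.range (e ≫ f).base) := (e ≫ f).isClosedEmbedding.isClosed_range
  have hCclosed : IsClosed C := by
    rw [← closure_subset_iff_isClosed]
    intro s' hs'
    obtain ⟨N, hNo, hsN, hN⟩ := H0LocConst.exists_open_common_generization s'
    obtain ⟨c, hcN, hcC⟩ : (N ∩ C).Nonempty := mem_closure_iff.mp hs' N hNo hsN
    obtain ⟨η, hηc, hηs⟩ := hN c hcN
    have hηC : η ∈ C := hηc.mem_open hCopen hcC
    -- every point over `s'` maps to `t s'`
    have key : ∀ x : X, p.base x = s' → f.base x = (e ≫ f).base s' := by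
      intro x hx
      obtain ⟨x', hx'x, hx'η⟩ := Flat.generalizingMap p (a := x) (b := η) (hx ▸ hηs)
      have hx'G : x' ∈ G := hCG x' (by rw [hx'η]; exact hηC)
      have h1 : f.base x' ∈ Set.range (e ≫ f).base := ⟨p.base x', (hGpt x' hx'G).symm⟩
      have h2 : f.base x' ⤳ f.base x := hx'x.map f.continuous
      have h3 : f.base x ∈ Set.range (e ≫ f).base :=
        hrange.closure_subset_iff.mpr (Set.singleton_subset_iff.mpr h1)
          (specializes_iff_mem_closure.mp h2)
      obtain ⟨s'', hs''⟩ := h3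
      have h4 : q.base (f.base x) = s' := by
        rw [← Scheme.Hom.comp_apply, hf, hx]
      have h5 : q.base ((e ≫ f).base s'') = s'' := by
        rw [← Scheme.Hom.comp_apply, ht]
        rfl
      rw [← hs'', h5] at h4
      rw [← hs'', h4]
    intro x x' hx hx'
    rw [key x hx, key x' hx']
  have hCuniv : C = Set.univ := IsClopen.eq_univ ⟨hCclosed, hCopen⟩ ⟨s, hs⟩
  apply Scheme.hom_ext_of_forall
  intro x
  apply spread_out_unique_of_isGermInjective'
  exact hCG x (by rw [hCuniv]; trivial)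

end Groth.Agent.Lib.Helper13.RigidCl4
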