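import Mathlib
import Groth.Prelude
import Groth.Agent.Lib.Helper13.CBCUniv4
import Groth.Agent.Lib.Helper13.Rigid7

/-!
# The rigidity lemma over an arbitrary base

`p : X ⟶ S` proper flat of finite presentation with `h⁰(X_s, O) = 1`, `q : Y ⟶ S` separated,
`f : X ⟶ Y` over `S`.  Same statements as in `Rigid`, without Noetherian hypotheses (the input is the
universal `O_S = p_* O_X` of `CBCUniv4`).
-/

set_option autoImplicit false
set_option linter.style.haveILetI false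
universe u
open CategoryTheory CategoryTheory.Limits AlgebraicGeometry TopologicalSpace

namespace Groth.Agent.Lib.Helper13.RigidG

variable {X S Y : Scheme.{u}}

theorem exists_local_factor (p : X ⟶ S) [IsProper p] [Flat p] [LocallyOfFinitePresentation p]
    (h0 : ∀ s : S, Module.finrank (S.residueField s) Γ(p.fiber s, ⊤) = 1)
    (f : X ⟶ Y) (s : S) (y : Y) (hs : ∀ x : X, p.base x = s → f.base x = y) :
    ∃ (W : S.Opens) (_ : s ∈ W) (t : (W : Scheme.{u}) ⟶ Y),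
      ∀ {Z : Scheme.{u}} (a : Z ⟶ X) (b : Z ⟶ (W : Scheme.{u})),
        a ≫ p = b ≫ W.ι → a ≫ f = b ≫ t := by
  obtain ⟨V, hV, hyV⟩ : ∃ V : Y.Opens, IsAffineOpen V ∧ y ∈ V := by
    obtain ⟨V, hV, hyV, -⟩ := (Opens.isBasis_iff_nbhd.1 Y.isBasis_affineOpens)
      (show y ∈ (⊤ : Y.Opens) from trivial)
    exact ⟨V, hV, hyV⟩
  have hcl : IsClosed (p.base '' ((f ⁻¹ᵁ V : Set X)ᶜ)) :=
    p.isClosedMap _ (f ⁻¹ᵁ V).isOpen.isClosed_compl
  have hsn : s ∈ (p.base '' ((f ⁻¹ᵁ V : Set X)ᶜ))ᶜ := by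
    rintro ⟨x, hx, rfl⟩
    apply hx
    show f.base x ∈ V
    rw [hs x rfl]
    exact hyV
  obtain ⟨W, hW, hsW, hWsub⟩ : ∃ W : S.Opens, IsAffineOpen W ∧ s ∈ W ∧
      (W : Set S) ⊆ (p.base '' ((f ⁻¹ᵁ V : Set X)ᶜ))ᶜ := by
    obtain ⟨W, hW, hsW, hWsub⟩ := (Opens.isBasis_iff_nbhd.1 S.isBasis_affineOpens)
      (show s ∈ (⟨(p.base '' ((f ⁻¹ᵁ V : Set X)ᶜ))ᶜ, hcl.isOpen_compl⟩ : S.Opens) from hsn)
    exact ⟨W, hW, hsW, hWsub⟩
  haveI : IsAffine (W : Scheme.{u}) := hW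
  haveI : IsAffine (V : Scheme.{u}) := hV
  have hbij := Groth.Agent.Lib.Helper13.CBCUnivG.bijective_app_affine p h0 W.ι ⊤
    (isAffineOpen_top _)
  have hrange : Set.range (pullback.fst p W.ι ≫ f).base ⊆ Set.range V.ι.base := by
    rintro _ ⟨z, rfl⟩
    rw [Scheme.Opens.range_ι]
    by_contra hz
    have hzW : p.base ((pullback.fst p W.ι).base z) ∈ (W : Set S) := by
      have h1 : p.base ((pullback.fst p W.ι).base z) = W.ι.base ((pullback.snd p W.ι).base z) := by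
        rw [← Scheme.Hom.comp_apply, ← Scheme.Hom.comp_apply, pullback.condition]
      rw [h1]
      exact ((pullback.snd p W.ι).base z).2
    exact hWsub hzW ⟨(pullback.fst p W.ι).base z, hz, rfl⟩
  obtain ⟨t', ht'⟩ := Rigid.exists_factor_of_bijective_appTop (pullback.snd p W.ι) hbij
    (IsOpenImmersion.lift V.ι (pullback.fst p W.ι ≫ f) hrange)
  refine ⟨W, hsW, t' ≫ V.ι, fun {Z} a b hab => ?_⟩
  have h1 : pullback.snd p W.ι ≫ t' ≫ V.ι = pullback.fst p W.ι ≫ f := by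
    rw [← Category.assoc, ht', IsOpenImmersion.lift_fac]
  calc a ≫ f = pullback.lift a b hab ≫ pullback.fst p W.ι ≫ f := by
        rw [← Category.assoc, pullback.lift_fst]
    _ = pullback.lift a b hab ≫ pullback.snd p W.ι ≫ t' ≫ V.ι := by rw [h1]
    _ = b ≫ t' ≫ V.ι := by rw [← Category.assoc, pullback.lift_snd]

/-- two morphisms into `X` with the same composite to `S`, landing over a small neighbourhood of a
Rigid.collapsed point, have the same composite with `f`. -/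
theorem exists_nhd_agree (p : X ⟶ S) [IsProper p] [Flat p] [LocallyOfFinitePresentation p]
    (h0 : ∀ s : S, Module.finrank (S.residueField s) Γ(p.fiber s, ⊤) = 1)
    (f : X ⟶ Y) (s : S) (hs : s ∈ Rigid.collapsed p f) :
    ∃ W : S.Opens, s ∈ W ∧ ∀ {Z : Scheme.{u}} (a₁ a₂ : Z ⟶ X), a₁ ≫ p = a₂ ≫ p →
      Set.range (a₁ ≫ p).base ⊆ (W : Set S) → a₁ ≫ f = a₂ ≫ f := by
  obtain ⟨y, hy⟩ := hs
  obtain ⟨W, hsW, t, ht⟩ := exists_local_factor p h0 f s y hy
  refine ⟨W, hsW, fun {Z} a₁ a₂ h hr => ?_⟩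
  have hr' : Set.range (a₁ ≫ p).base ⊆ Set.range W.ι.base := by
    rwa [Scheme.Opens.range_ι]
  have hb : IsOpenImmersion.lift W.ι (a₁ ≫ p) hr' ≫ W.ι = a₁ ≫ p := IsOpenImmersion.lift_fac _ _ _
  rw [ht a₁ _ hb.symm, ht a₂ _ (h.symm.trans hb.symm)]

theorem isOpen_collapsed (p : X ⟶ S) [IsProper p] [Flat p] [LocallyOfFinitePresentation p]
    (h0 : ∀ s : S, Module.finrank (S.residueField s) Γ(p.fiber s, ⊤) = 1)
    (f : X ⟶ Y) : IsOpen (Rigid.collapsed p f) := by
  rw [isOpen_iff_forall_mem_open]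
  rintro s ⟨y, hy⟩
  obtain ⟨W, hsW, t, ht⟩ := exists_local_factor p h0 f s y hy
  refine ⟨W, fun s' hs' => ?_, W.isOpen, hsW⟩
  refine ⟨t.base ⟨s', hs'⟩, fun x hx => ?_⟩
  obtain ⟨z, hz1, hz2⟩ := Scheme.Pullback.exists_preimage_pullback (f := p) (g := W.ι) x
    (⟨s', hs'⟩ : ↥(W : Scheme.{u})) hx
  have h1 := ht (pullback.fst p W.ι) (pullback.snd p W.ι) pullback.condition
  have h2 := congrArg (fun φ => φ.base z) h1
  simp only [Scheme.Hom.comp_base, TopCat.hom_comp, ContinuousMap.comp_apply] at h2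
  rw [← hz1, ← hz2]
  exact h2

theorem isClosed_collapsed (p : X ⟶ S) [IsProper p] [Flat p] [LocallyOfFinitePresentation p]
    (h0 : ∀ s : S, Module.finrank (S.residueField s) Γ(p.fiber s, ⊤) = 1)
    (q : Y ⟶ S) [IsSeparated q] (f : X ⟶ Y) (hf : f ≫ q = p) : IsClosed (Rigid.collapsed p f) := by
  haveI : Surjective p := Rigid.surjective_of_h0 p h0
  let ξ : pullback p p ⟶ S := pullback.fst p p ≫ p
  let XP : Over S := Over.mk ξ
  let YY : Over S := Over.mk q
  let F₁ : XP ⟶ YY := Over.homMk (pullback.fst p p ≫ f) (by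
    show (pullback.fst p p ≫ f) ≫ q = ξ
    rw [Category.assoc, hf])
  let F₂ : XP ⟶ YY := Over.homMk (pullback.snd p p ≫ f) (by
    show (pullback.snd p p ≫ f) ≫ q = ξ
    rw [Category.assoc, hf, ← pullback.condition])
  haveI : IsSeparated YY.hom := (inferInstance : IsSeparated q)
  let ι : (equalizer F₁ F₂).left ⟶ pullback p p := (equalizer.ι F₁ F₂).left
  haveI : IsClosedImmersion ι := isClosedImmersion_equalizer_ι_left F₁ F₂
  have hcond : ι ≫ pullback.fst p p ≫ f = ι ≫ pullback.snd p p ≫ f := by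
    have h1 := congrArg CommaMorphism.left (equalizer.condition F₁ F₂)
    exact h1
  have hopen : IsOpenMap ξ.base := ξ.isOpenMap
  have key : (Rigid.collapsed p f)ᶜ = ξ.base '' (Set.range ι.base)ᶜ := by
    ext s
    constructor
    · intro hs
      obtain ⟨x₀, hx₀⟩ := ‹Surjective p›.surj s
      have h1 : ∃ x : X, p.base x = s ∧ f.base x ≠ f.base x₀ := by
        by_contra hcon
        push Not at hcon
        exact hs ⟨f.base x₀, hcon⟩
      obtain ⟨x, hx, hne⟩ := h1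
      obtain ⟨w, hw1, hw2⟩ := Scheme.Pullback.exists_preimage_pullback (f := p) (g := p) x x₀
        (hx.trans hx₀.symm)
      refine ⟨w, ?_, ?_⟩
      · rintro ⟨e, rfl⟩
        apply hne
        have h2 := congrArg (fun φ => φ.base e) hcond
        simp only [Scheme.Hom.comp_base, TopCat.hom_comp, ContinuousMap.comp_apply] at h2
        rw [← hw1, ← hw2]
        exact h2
      · show p.base ((pullback.fst p p).base w) = s
        rw [show (pullback.fst p p).base w = x from hw1, hx]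
    · rintro ⟨w, hw, rfl⟩ hs
      obtain ⟨W, hsW, hW⟩ := exists_nhd_agree p h0 f (ξ.base w) hs
      apply hw
      have h1 : ((ξ ⁻¹ᵁ W).ι ≫ pullback.fst p p) ≫ f = ((ξ ⁻¹ᵁ W).ι ≫ pullback.snd p p) ≫ f := by
        refine hW _ _ ?_ ?_
        · rw [Category.assoc, Category.assoc, pullback.condition]
        · rintro _ ⟨z, rfl⟩
          exact z.2
      let G : Over.mk ((ξ ⁻¹ᵁ W).ι ≫ ξ) ⟶ XP := Over.homMk (ξ ⁻¹ᵁ W).ι rfl
      have hG : G ≫ F₁ = G ≫ F₂ := by
        apply Over.OverMorphism.ext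
        show (ξ ⁻¹ᵁ W).ι ≫ pullback.fst p p ≫ f = (ξ ⁻¹ᵁ W).ι ≫ pullback.snd p p ≫ f
        rw [← Category.assoc, h1, Category.assoc]
      have h2 : (equalizer.lift G hG).left ≫ ι = (ξ ⁻¹ᵁ W).ι := by
        have h3 := congrArg CommaMorphism.left (equalizer.lift_ι G hG)
        exact h3
      have hwW : w ∈ Set.range (ξ ⁻¹ᵁ W).ι.base := by
        rw [Scheme.Opens.range_ι]
        exact hsW
      obtain ⟨w', rfl⟩ := hwW
      exact ⟨(equalizer.lift G hG).left.base w', congrArg (fun φ => φ.base w') h2⟩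
  rw [← isOpen_compl_iff, key]
  exact hopen _ ι.isClosedEmbedding.isClosed_range.isOpen_compl

/-- **Rigidity lemma** over a connected locally Noetherian base. -/
theorem exists_section_factor (p : X ⟶ S) [IsProper p] [Flat p] [LocallyOfFinitePresentation p]
    [ConnectedSpace S]
    (h0 : ∀ s : S, Module.finrank (S.residueField s) Γ(p.fiber s, ⊤) = 1)
    (q : Y ⟶ S) [IsSeparated q] (f : X ⟶ Y) (hf : f ≫ q = p) (s : S)
    (hs : s ∈ Rigid.collapsed p f) : ∃ σ : S ⟶ Y, σ ≫ q = 𝟙 S ∧ f = p ≫ σ := by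
  have hall : Rigid.collapsed p f = Set.univ :=
    IsClopen.eq_univ ⟨isClosed_collapsed p h0 q f hf, isOpen_collapsed p h0 f⟩ ⟨s, hs⟩
  haveI : Surjective p := Rigid.surjective_of_h0 p h0
  have key : ∀ {Z : Scheme.{u}} (g₁ g₂ : Z ⟶ X), g₁ ≫ p = g₂ ≫ p → g₁ ≫ f = g₂ ≫ f := by
    intro Z g₁ g₂ h
    choose W hW using fun s : S =>
      exists_nhd_agree p h0 f s (hall ▸ Set.mem_univ s)
    have hcov : IsOpenCover (fun s : S => (g₁ ≫ p) ⁻¹ᵁ W s) := by
      apply IsOpenCover.mk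
      rw [eq_top_iff]
      intro z _
      rw [Opens.mem_iSup]
      exact ⟨(g₁ ≫ p).base z, (hW _).1⟩
    refine (Z.openCoverOfIsOpenCover _ hcov).hom_ext _ _ ?_
    intro (s : S)
    show ((g₁ ≫ p) ⁻¹ᵁ W s).ι ≫ g₁ ≫ f = ((g₁ ≫ p) ⁻¹ᵁ W s).ι ≫ g₂ ≫ f
    rw [← Category.assoc, ← Category.assoc]
    refine (hW s).2 _ _ ?_ ?_
    · rw [Category.assoc, Category.assoc]
      exact congrArg (_ ≫ ·) h
    · rintro _ ⟨z, rfl⟩
      exact z.2
  haveI : EffectiveEpi p := inferInstance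
  refine ⟨EffectiveEpi.desc p f key, ?_, (EffectiveEpi.fac p f key).symm⟩
  haveI : Epi p := inferInstance
  rw [← cancel_epi p, ← Category.assoc, EffectiveEpi.fac, hf, Category.comp_id]

end Groth.Agent.Lib.Helper13.RigidG
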