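import Mathlib
import Groth.Prelude
import Groth.Agent.Lib.Helper13.RigidG2

/-!
# More on the rigidity lemma over an arbitrary base

* closedness of the collapsed locus when the target is separated over a further base;
* agreement over an open inside the collapsed locus, factorisation over it;
* maps into the fibres of a locally quasi-finite morphism collapse connected fibres.
-/

set_option autoImplicit false
set_option linter.style.haveILetI false
universe u
open CategoryTheory CategoryTheory.Limits AlgebraicGeometry TopologicalSpace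

namespace Groth.Agent.Lib.Helper13.RigidG

variable {X S Y : Scheme.{u}}

theorem isClosed_collapsed' {B : Scheme.{u}} (p : X ⟶ S) [IsProper p] [Flat p]
    [LocallyOfFinitePresentation p]
    (h0 : ∀ s : S, Module.finrank (S.residueField s) Γ(p.fiber s, ⊤) = 1)
    (r : S ⟶ B) (q : Y ⟶ B) [IsSeparated q] (f : X ⟶ Y) (hf : f ≫ q = p ≫ r) :
    IsClosed (Rigid.collapsed p f) := by
  haveI : Surjective p := Rigid.surjective_of_h0 p h0
  let ξ : pullback p p ⟶ S := pullback.fst p p ≫ p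
  let XP : Over B := Over.mk (ξ ≫ r)
  let YY : Over B := Over.mk q
  let F₁ : XP ⟶ YY := Over.homMk (pullback.fst p p ≫ f) (by
    show (pullback.fst p p ≫ f) ≫ q = (pullback.fst p p ≫ p) ≫ r
    rw [Category.assoc, hf, ← Category.assoc])
  let F₂ : XP ⟶ YY := Over.homMk (pullback.snd p p ≫ f) (by
    show (pullback.snd p p ≫ f) ≫ q = (pullback.fst p p ≫ p) ≫ r
    rw [Category.assoc, hf, ← Category.assoc, ← pullback.condition])
  haveI : IsSeparated YY.hom := (inferInstance : IsSeparated q)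
  let ι : (equalizer F₁ F₂).left ⟶ pullback p p := (equalizer.ι F₁ F₂).left
  haveI : IsClosedImmersion ι := isClosedImmersion_equalizer_ι_left F₁ F₂
  have hcond : ι ≫ pullback.fst p p ≫ f = ι ≫ pullback.snd p p ≫ f := by
    have h1 := congrArg CommaMorphism.left (equalizer.condition F₁ F₂)
    exact h1
  have hopen : IsOpenMap ξ.base := ξ.isOpenMap
  have key : (Rigid.collapsed p f)ᶜ = ξ.base '' (Set.range ι.base)ᶜ := by
    ext s
    constructor
    · intro hs
      obtain ⟨x₀, hx₀⟩ := ‹Surjective p›.surj s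
      have h1 : ∃ x : X, p.base x = s ∧ f.base x ≠ f.base x₀ := by
        by_contra hcon
        push Not at hcon
        exact hs ⟨f.base x₀, hcon⟩
      obtain ⟨x, hx, hne⟩ := h1
      obtain ⟨w, hw1, hw2⟩ := Scheme.Pullback.exists_preimage_pullback (f := p) (g := p) x x₀
        (hx.trans hx₀.symm)
      refine ⟨w, ?_, ?_⟩
      · rintro ⟨e, rfl⟩
        apply hne
        have h2 := congrArg (fun φ => φ.base e) hcond
        simp only [Scheme.Hom.comp_base, TopCat.hom_comp, ContinuousMap.comp_apply] at h2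
        rw [← hw1, ← hw2]
        exact h2
      · show p.base ((pullback.fst p p).base w) = s
        rw [show (pullback.fst p p).base w = x from hw1, hx]
    · rintro ⟨w, hw, rfl⟩ hs
      obtain ⟨W, hsW, hW⟩ := exists_nhd_agree p h0 f (ξ.base w) hs
      apply hw
      have h1 : ((ξ ⁻¹ᵁ W).ι ≫ pullback.fst p p) ≫ f = ((ξ ⁻¹ᵁ W).ι ≫ pullback.snd p p) ≫ f := by
        refine hW _ _ ?_ ?_
        · rw [Category.assoc, Category.assoc, pullback.condition]
        · rintro _ ⟨z, rfl⟩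
          exact z.2
      let G : Over.mk ((ξ ⁻¹ᵁ W).ι ≫ ξ ≫ r) ⟶ XP := Over.homMk (ξ ⁻¹ᵁ W).ι rfl
      have hG : G ≫ F₁ = G ≫ F₂ := by
        apply Over.OverMorphism.ext
        show (ξ ⁻¹ᵁ W).ι ≫ pullback.fst p p ≫ f = (ξ ⁻¹ᵁ W).ι ≫ pullback.snd p p ≫ f
        rw [← Category.assoc, h1, Category.assoc]
      have h2 : (equalizer.lift G hG).left ≫ ι = (ξ ⁻¹ᵁ W).ι := by
        have h3 := congrArg CommaMorphism.left (equalizer.lift_ι G hG)
        exact h3
      have hwW : w ∈ Set.range (ξ ⁻¹ᵁ W).ι.base := by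
        rw [Scheme.Opens.range_ι]
        exact hsW
      obtain ⟨w', rfl⟩ := hwW
      exact ⟨(equalizer.lift G hG).left.base w', congrArg (fun φ => φ.base w') h2⟩
  rw [← isOpen_compl_iff, key]
  exact hopen _ ι.isClosedEmbedding.isClosed_range.isOpen_compl


/-- over an open contained in the collapsed locus, `f` does not distinguish points with the same
image in the base. -/
theorem agree_of_subset_collapsed (p : X ⟶ S) [IsProper p] [Flat p]
    [LocallyOfFinitePresentation p]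
    (h0 : ∀ s : S, Module.finrank (S.residueField s) Γ(p.fiber s, ⊤) = 1)
    (f : X ⟶ Y) (U : Set S) (hU : U ⊆ Rigid.collapsed p f)
    {Z : Scheme.{u}} (g₁ g₂ : Z ⟶ X) (h : g₁ ≫ p = g₂ ≫ p)
    (hr : Set.range (g₁ ≫ p).base ⊆ U) : g₁ ≫ f = g₂ ≫ f := by
  choose W hW using fun s : Rigid.collapsed p f => exists_nhd_agree p h0 f s.1 s.2
  have hmem : ∀ z : Z, (g₁ ≫ p).base z ∈ Rigid.collapsed p f := fun z => hU (hr ⟨z, rfl⟩)
  have hcov : IsOpenCover (fun z : Z => (g₁ ≫ p) ⁻¹ᵁ W ⟨(g₁ ≫ p).base z, hmem z⟩) := by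
    apply IsOpenCover.mk
    rw [eq_top_iff]
    intro z _
    rw [Opens.mem_iSup]
    exact ⟨z, (hW _).1⟩
  refine (Z.openCoverOfIsOpenCover _ hcov).hom_ext _ _ ?_
  intro (z : Z)
  show ((g₁ ≫ p) ⁻¹ᵁ W ⟨(g₁ ≫ p).base z, hmem z⟩).ι ≫ g₁ ≫ f =
    ((g₁ ≫ p) ⁻¹ᵁ W ⟨(g₁ ≫ p).base z, hmem z⟩).ι ≫ g₂ ≫ f
  rw [← Category.assoc, ← Category.assoc]
  refine (hW ⟨(g₁ ≫ p).base z, hmem z⟩).2 _ _ ?_ ?_
  · rw [Category.assoc, Category.assoc]
    exact congrArg (_ ≫ ·) h
  · rintro _ ⟨z', rfl⟩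
    exact z'.2

/-- over an open contained in the collapsed locus, `f` factors through `p`. -/
theorem exists_factor_on_opens (p : X ⟶ S) [IsProper p] [Flat p]
    [LocallyOfFinitePresentation p]
    (h0 : ∀ s : S, Module.finrank (S.residueField s) Γ(p.fiber s, ⊤) = 1)
    (f : X ⟶ Y) (W : S.Opens) (hW : (W : Set S) ⊆ Rigid.collapsed p f) :
    ∃ k : (W : Scheme.{u}) ⟶ Y, (p ⁻¹ᵁ W).ι ≫ f = (p ∣_ W) ≫ k := by
  haveI : Surjective p := Rigid.surjective_of_h0 p h0
  haveI : Surjective (p ∣_ W) :=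
    MorphismProperty.of_isPullback (P := @Surjective) (isPullback_morphismRestrict p W).flip
      inferInstance
  have key : ∀ {Z : Scheme.{u}} (g₁ g₂ : Z ⟶ (p ⁻¹ᵁ W : Scheme.{u})),
      g₁ ≫ (p ∣_ W) = g₂ ≫ (p ∣_ W) → g₁ ≫ (p ⁻¹ᵁ W).ι ≫ f = g₂ ≫ (p ⁻¹ᵁ W).ι ≫ f := by
    intro Z g₁ g₂ h
    have h1 : (g₁ ≫ (p ⁻¹ᵁ W).ι) ≫ p = (g₂ ≫ (p ⁻¹ᵁ W).ι) ≫ p := by
      rw [Category.assoc, Category.assoc, ← morphismRestrict_ι, ← Category.assoc, h,
        Category.assoc]
    have h2 := agree_of_subset_collapsed p h0 f (W : Set S) hW (g₁ ≫ (p ⁻¹ᵁ W).ι)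
      (g₂ ≫ (p ⁻¹ᵁ W).ι) h1 (by
        rintro _ ⟨z, rfl⟩
        have h3 : ((g₁ ≫ (p ⁻¹ᵁ W).ι) ≫ p) = (g₁ ≫ (p ∣_ W)) ≫ W.ι := by
          rw [Category.assoc, Category.assoc, morphismRestrict_ι]
        rw [h3]
        exact ((g₁ ≫ (p ∣_ W)).base z).2)
    rw [← Category.assoc, h2, Category.assoc]
  haveI : EffectiveEpi (p ∣_ W) := inferInstance
  exact ⟨EffectiveEpi.desc (p ∣_ W) ((p ⁻¹ᵁ W).ι ≫ f) key,
    (EffectiveEpi.fac (p ∣_ W) ((p ⁻¹ᵁ W).ι ≫ f) key).symm⟩

/-- a morphism into the fibres of a locally quasi-finite morphism collapses connected fibres. -/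
theorem collapsed_eq_univ_of_locallyQuasiFinite' {S' : Scheme.{u}} (p : X ⟶ S)
    (hconn : ∀ s : S, _root_.IsConnected (p.base ⁻¹' {s}))
    (q : Y ⟶ S') [LocallyQuasiFinite q] (e : S ⟶ S') (f : X ⟶ Y) (hf : f ≫ q = p ≫ e) :
    Rigid.collapsed p f = Set.univ := by
  rw [Set.eq_univ_iff_forall]
  intro t
  obtain ⟨x₀, hx₀⟩ := (hconn t).nonempty
  refine ⟨f.base x₀, fun x hx => ?_⟩
  haveI : ConnectedSpace ↥(p.base ⁻¹' {t}) := isConnected_iff_connectedSpace.1 (hconn t)
  haveI : DiscreteTopology ↥(q.base ⁻¹' {e.base t}) :=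
    (q.isDiscrete_preimage_singleton (e.base t)).to_subtype
  have hmem : ∀ z : ↥(p.base ⁻¹' {t}), f.base z.1 ∈ q.base ⁻¹' {e.base t} := by
    intro z
    have h1 := congrArg (fun φ => φ.base z.1) hf
    simp only [Scheme.Hom.comp_base, TopCat.hom_comp, ContinuousMap.comp_apply] at h1
    show q.base (f.base z.1) = e.base t
    rw [h1]
    exact congrArg e.base z.2
  let g : ↥(p.base ⁻¹' {t}) → ↥(q.base ⁻¹' {e.base t}) := fun z => ⟨f.base z.1, hmem z⟩
  have hg : Continuous g := (f.continuous.comp continuous_subtype_val).subtype_mk _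
  have h2 := PreconnectedSpace.constant (inferInstance : PreconnectedSpace ↥(p.base ⁻¹' {t})) hg
    (x := ⟨x, hx⟩) (y := ⟨x₀, hx₀⟩)
  exact congrArg Subtype.val h2

end Groth.Agent.Lib.Helper13.RigidG
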