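import Mathlib
import Groth.Prelude.Def_ModSite2
import Groth.Agent.Lib.Helper13.DerivedCommuteNat
import Groth.Agent.Lib.Helper13.ModSiteExtZero
import Groth.Agent.Lib.Helper13.ModSiteProj
import Groth.Agent.Lib.Helper13.ModSiteRestr
import Groth.Agent.Lib.Helper13.ExtShRestr
import Groth.Agent.Lib.Helper2.RestrExact

/-!
# Sections with support on a ringed site commute with localisation

* `comp_unit_eq_zero_iff`: for `L ⊣ R`, `t ≫ η = 0 ↔ L t = 0`.
* `subsingleton_of_isZero`, `isZero_of_subsingleton`: zero modules, sectionwise.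
* `isZero_restr_restr` (a module vanishing on `U` vanishes on `U × X → X`),
  `isZero_restr_extZero` (`T|_{U × X} = 0 ⇒ (j_{X!} T)|_U = 0`).
* `sectOnRestrIso : sectOn O U ⋙ restr O X ≅ restr O X ⋙ sectOn (O.over X) (U × X → X)`.
* `main`: the same for the derived functors `HZsh`.
-/

set_option autoImplicit false
universe u
open CategoryTheory CategoryTheory.Limits Opposite
open Groth.Agent.Lib.Helper13 Groth.Agent.Lib.Helper13.ModSiteTensor

namespace Groth.Agent.Lib.Helper13.SectOnRestr

section General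

variable {A B : Type*} [Category A] [Category B] [Preadditive A] [Preadditive B]
  {L : A ⥤ B} {R : B ⥤ A} (adj : L ⊣ R) [R.PreservesZeroMorphisms]

lemma comp_unit_eq_zero_iff {T X : A} (t : T ⟶ X) :
    t ≫ adj.unit.app X = 0 ↔ L.map t = 0 := by
  have h : t ≫ adj.unit.app X = adj.homEquiv T (L.obj X) (L.map t) := by
    rw [Adjunction.homEquiv_unit]
    exact (adj.unit.naturality t)
  rw [h]
  constructor
  · intro h0
    apply (adj.homEquiv T (L.obj X)).injective
    rw [h0, Adjunction.homEquiv_unit, R.map_zero, comp_zero]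
  · intro h0
    rw [h0, Adjunction.homEquiv_unit, R.map_zero, comp_zero]

end General

variable {C : Type u} [SmallCategory C] {J : GrothendieckTopology C} (O : Sheaf J CommRingCat.{u})

lemma subsingleton_of_isZero (M : ModSite.Mod O) (h : IsZero M) (V : Cᵒᵖ) :
    Subsingleton (M.val.obj V) := by
  have h1 : (𝟙 M : M ⟶ M) = 0 := h.eq_of_src _ _
  refine ⟨fun s t => ?_⟩
  have hs : ∀ s : M.val.obj V, s = 0 := by
    intro s
    have := congrArg (fun f : M ⟶ M => (f.val.app V).hom s) h1
    exact this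
  rw [hs s, hs t]

lemma isZero_of_subsingleton (M : ModSite.Mod O) (h : ∀ V : Cᵒᵖ, Subsingleton (M.val.obj V)) :
    IsZero M := by
  rw [IsZero.iff_id_eq_zero]
  apply SheafOfModules.hom_ext
  apply PresheafOfModules.hom_ext
  intro V
  apply ModuleCat.hom_ext
  apply LinearMap.ext
  intro s
  have := h V
  exact Subsingleton.elim _ _

lemma isZero_pre_of_subsingleton {D : Type u} [SmallCategory D] {R : Dᵒᵖ ⥤ RingCat.{u}}
    (P : PresheafOfModules.{u} R) (h : ∀ V : Dᵒᵖ, Subsingleton (P.obj V)) : IsZero P := by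
  rw [IsZero.iff_id_eq_zero]
  apply PresheafOfModules.hom_ext
  intro V
  apply ModuleCat.hom_ext
  apply LinearMap.ext
  intro s
  have := h V
  exact Subsingleton.elim _ _

section

variable (U : C) [ModSite.HasPushOver O U]

open Groth.Agent.Lib.Helper2.RestrExact in
/-- `Γ_Z(F)` vanishes on `U`. -/
lemma isZero_restr_sectOn (F : ModSite.Mod O) :
    IsZero ((ModSite.restr O U).obj ((ModSite.sectOn O U).obj F)) := by
  have h0 : (ModSite.sectOnι O U).app F ≫ (ModSite.restrPushOverAdj O U).unit.app F = 0 :=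
    kernel.condition _
  have h1 : (ModSite.restr O U).map ((ModSite.sectOnι O U).app F) = 0 :=
    (comp_unit_eq_zero_iff (ModSite.restrPushOverAdj O U) _).1 h0
  haveI : Mono ((ModSite.sectOnι O U).app F) := by
    change Mono (kernel.ι _)
    infer_instance
  haveI : Mono ((ModSite.restr O U).map ((ModSite.sectOnι O U).app F)) := inferInstance
  exact IsZero.of_mono_eq_zero _ h1

end

section Lift

variable (U : C) [ModSite.HasPushOver O U]

/-- lifting a map killed by the unit to `Γ_Z`. -/
noncomputable def sectOnLift {T F : ModSite.Mod O} (t : T ⟶ F)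
    (h : t ≫ (ModSite.restrPushOverAdj O U).unit.app F = 0) : T ⟶ (ModSite.sectOn O U).obj F :=
  kernel.lift _ t h

lemma sectOnLift_ι {T F : ModSite.Mod O} (t : T ⟶ F)
    (h : t ≫ (ModSite.restrPushOverAdj O U).unit.app F = 0) :
    sectOnLift O U t h ≫ (ModSite.sectOnι O U).app F = t :=
  kernel.lift_ι _ _ _

end Lift

variable [HasBinaryProducts C] (U X : C)

/-- the object `U × X → X` of `C/X`. -/
noncomputable abbrev UX : Over X := Over.mk (Limits.prod.snd : U ⨯ X ⟶ X)

/-- (L1) a module vanishing on `U` vanishes on `U × X → X` after restriction to `X`. -/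
lemma isZero_restr_restr (G : ModSite.Mod O) (h : IsZero ((ModSite.restr O U).obj G)) :
    IsZero ((ModSite.restr (O.over X) (UX U X)).obj ((ModSite.restr O X).obj G)) := by
  apply isZero_of_subsingleton
  intro Y
  have a : Y.unop.left.left ⟶ U := Y.unop.hom.left ≫ Limits.prod.fst
  exact subsingleton_of_isZero (O.over U) _ h (op (Over.mk a))

/-- (L2) if `T` vanishes on `U × X → X` then `j_{X!} T` vanishes on `U`. -/
lemma isZero_restr_extZero (T : ModSite.Mod (O.over X))
    (h : IsZero ((ModSite.restr (O.over X) (UX U X)).obj T)) :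
    IsZero ((ModSite.restr O U).obj ((ModSite.extZero O X).obj T)) := by
  let P := (ModSiteExtZero.fgtU O X).obj T
  let Q := (OverShriek.shriekFunctor X (ModSite.ringSh O).obj).obj P
  have hQ : IsZero ((ModSiteRestr.restrPM O U).obj Q) := by
    apply isZero_pre_of_subsingleton
    intro Y
    change Subsingleton (OverShriek.Tot P Y.unop.left)
    have : ∀ φ : Y.unop.left ⟶ X, Subsingleton (OverShriek.cmp P φ) := by
      intro φ
      let b : Over.mk φ ⟶ UX U X := Over.homMk (prod.lift Y.unop.hom φ) (prod.lift_snd _ _)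
      exact subsingleton_of_isZero ((O.over X).over (UX U X)) _ h (op (Over.mk b))
    infer_instance
  have : (shf (O.over U)).IsLeftAdjoint := (shfAdj (O.over U)).isLeftAdjoint
  have hQ2 : IsZero ((shf (O.over U)).obj ((ModSiteRestr.restrPM O U).obj Q)) :=
    (shf (O.over U)).map_isZero hQ
  let P' := (PresheafOfModules.pullback.{u} (ModSiteExtZero.idOver O X).hom).obj P
  have e3 : Q ≅ P' := (OverShriek.shriekIsoPullback X (ModSite.ringSh O).obj).app P
  have e2 := ModSiteRestr.restrShfApp O U P'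
  have e1 := (ModSite.restr O U).mapIso ((ModSiteExtZero.extZeroIso O X).app T)
  have e4 : (shf (O.over U)).obj ((ModSiteRestr.restrPM O U).obj Q) ≅
      (shf (O.over U)).obj ((ModSiteRestr.restrPM O U).obj P') :=
    (shf (O.over U)).mapIso ((ModSiteRestr.restrPM O U).mapIso e3)
  exact hQ2.of_iso (e1 ≪≫ e2.symm ≪≫ e4.symm)

section Compare

variable [ModSite.HasPushOver (O.over X) (UX U X)]

open Groth.Agent.Lib.Helper2.RestrExact

/-- the mono `Γ_Z(F)|_X ⟶ F|_X`. -/
noncomputable abbrev m1 (F : ModSite.Mod O) :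
    (ModSite.restr O X).obj ((ModSite.sectOn O U).obj F) ⟶ (ModSite.restr O X).obj F :=
  (ModSite.restr O X).map ((ModSite.sectOnι O U).app F)

/-- the mono `Γ_{Z/X}(F|_X) ⟶ F|_X`. -/
noncomputable abbrev m2 (F : ModSite.Mod O) :
    (ModSite.sectOn (O.over X) (UX U X)).obj ((ModSite.restr O X).obj F) ⟶
      (ModSite.restr O X).obj F :=
  (ModSite.sectOnι (O.over X) (UX U X)).app ((ModSite.restr O X).obj F)

instance mono_sectOnι {D : Type u} [SmallCategory D] {K : GrothendieckTopology D}
    (O' : Sheaf K CommRingCat.{u}) (V : D) [ModSite.HasPushOver O' V] (F : ModSite.Mod O') :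
    Mono ((ModSite.sectOnι O' V).app F) := by
  change Mono (kernel.ι _)
  infer_instance

instance mono_m1 (F : ModSite.Mod O) : Mono (m1 O U X F) := inferInstance

lemma m1_comp_unit (F : ModSite.Mod O) :
    m1 O U X F ≫ (ModSite.restrPushOverAdj (O.over X) (UX U X)).unit.app
      ((ModSite.restr O X).obj F) = 0 := by
  rw [comp_unit_eq_zero_iff]
  exact (isZero_restr_restr O U X _ (isZero_restr_sectOn O U F)).eq_of_src _ _

/-- `Γ_Z(F)|_X ⟶ Γ_{Z/X}(F|_X)`. -/
noncomputable def a1 (F : ModSite.Mod O) :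
    (ModSite.restr O X).obj ((ModSite.sectOn O U).obj F) ⟶
      (ModSite.sectOn (O.over X) (UX U X)).obj ((ModSite.restr O X).obj F) :=
  sectOnLift (O.over X) (UX U X) (m1 O U X F) (m1_comp_unit O U X F)

lemma a1_m2 (F : ModSite.Mod O) : a1 O U X F ≫ m2 O U X F = m1 O U X F :=
  sectOnLift_ι _ _ _ _

/-- the adjunct `j_{X!} Γ_{Z/X}(F|_X) ⟶ F` of `m2`. -/
noncomputable def t' (F : ModSite.Mod O) :
    (ModSite.extZero O X).obj
      ((ModSite.sectOn (O.over X) (UX U X)).obj ((ModSite.restr O X).obj F)) ⟶ F :=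
  ((ModSite.extZeroAdj O X).homEquiv _ _).symm (m2 O U X F)

lemma t'_comp_unit (F : ModSite.Mod O) :
    t' O U X F ≫ (ModSite.restrPushOverAdj O U).unit.app F = 0 := by
  rw [comp_unit_eq_zero_iff]
  exact (isZero_restr_extZero O U X _
    (isZero_restr_sectOn (O.over X) (UX U X) _)).eq_of_src _ _

/-- `Γ_{Z/X}(F|_X) ⟶ Γ_Z(F)|_X`. -/
noncomputable def b1 (F : ModSite.Mod O) :
    (ModSite.sectOn (O.over X) (UX U X)).obj ((ModSite.restr O X).obj F) ⟶
      (ModSite.restr O X).obj ((ModSite.sectOn O U).obj F) :=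
  (ModSite.extZeroAdj O X).homEquiv _ _ (sectOnLift O U (t' O U X F) (t'_comp_unit O U X F))

lemma b1_m1 (F : ModSite.Mod O) : b1 O U X F ≫ m1 O U X F = m2 O U X F := by
  unfold b1 m1
  rw [← Adjunction.homEquiv_naturality_right]
  rw [sectOnLift_ι]
  exact Equiv.apply_symm_apply _ _

/-- the comparison isomorphism, objectwise. -/
noncomputable def compIso (F : ModSite.Mod O) :
    (ModSite.restr O X).obj ((ModSite.sectOn O U).obj F) ≅
      (ModSite.sectOn (O.over X) (UX U X)).obj ((ModSite.restr O X).obj F) where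
  hom := a1 O U X F
  inv := b1 O U X F
  hom_inv_id := by
    rw [← cancel_mono (m1 O U X F), Category.assoc, b1_m1, a1_m2, Category.id_comp]
  inv_hom_id := by
    rw [← cancel_mono (m2 O U X F), Category.assoc, a1_m2, b1_m1, Category.id_comp]

/-- `Γ_Z(-)|_X ≅ Γ_{Z/X}((-)|_X)`. -/
noncomputable def sectOnRestrIso :
    ModSite.sectOn O U ⋙ ModSite.restr O X ≅
      ModSite.restr O X ⋙ ModSite.sectOn (O.over X) (UX U X) :=
  NatIso.ofComponents (fun F => compIso O U X F) (by
    intro F G g
    rw [← cancel_mono (m2 O U X G)]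
    change ((ModSite.restr O X).map ((ModSite.sectOn O U).map g) ≫ a1 O U X G) ≫ m2 O U X G =
      (a1 O U X F ≫ (ModSite.sectOn (O.over X) (UX U X)).map ((ModSite.restr O X).map g)) ≫
        m2 O U X G
    rw [Category.assoc, a1_m2, Category.assoc]
    have h1 : (ModSite.sectOn (O.over X) (UX U X)).map ((ModSite.restr O X).map g) ≫ m2 O U X G =
        m2 O U X F ≫ (ModSite.restr O X).map g :=
      (ModSite.sectOnι (O.over X) (UX U X)).naturality ((ModSite.restr O X).map g)
    rw [h1, ← Category.assoc, a1_m2]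
    unfold m1
    rw [← Functor.map_comp, ← Functor.map_comp]
    congr 1
    exact (ModSite.sectOnι O U).naturality g)

theorem main [HasInjectiveResolutions (ModSite.Mod O)]
    [HasInjectiveResolutions (ModSite.Mod (O.over X))] (q : ℕ) :
    Nonempty (ModSite.HZsh O U q ⋙ ModSite.restr O X ≅
      ModSite.restr O X ⋙ ModSite.HZsh (O.over X) (UX U X) q) :=
  ⟨DerivedCommute.rightDerivedBaseChangeIso (ModSite.sectOn O U) (ModSite.restr O X)
    (ModSite.restr O X) (ExtShRestr.injective_restr O X)
    (ModSite.sectOn (O.over X) (UX U X)) (sectOnRestrIso O U X) q⟩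

end Compare

end Groth.Agent.Lib.Helper13.SectOnRestr
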