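import Groth.Agent.Lib.Helper13.H1Trick
import Groth.Agent.Lib.Helper13.FTApprox
import Groth.Agent.Lib.Helper13.SerreCrit1
import Groth.Agent.Lib.Helper13.AffineVanish
import Groth.Agent.Lib.Helper13.ProfiniteAcyclic

/-!
# `H¹`-vanishing for finite type quasi-coherent ideals implies it for all quasi-coherent ideals
(on a quasi-compact quasi-separated scheme)
-/

set_option autoImplicit false
universe u
open CategoryTheory CategoryTheory.Limits AlgebraicGeometry TopologicalSpace Opposite

namespace Groth.Agent.Lib.Helper13.SerreFT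

variable {X : Scheme.{u}}

theorem subsingleton_H1_of_ft [CompactSpace X] [QuasiSeparatedSpace X]
    (I : X.Modules) [I.IsQuasicoherent]
    (h : ∀ (K' : X.Modules) (m : K' ⟶ I), Mono m → K'.IsQuasicoherent → K'.IsFiniteType →
      Subsingleton (Coh.HH X K' 1)) : Subsingleton (Coh.HH X I 1) := by
  have hT : IsTerminal (⊤ : X.Opens) := isTerminalTop
  have e := ProfiniteAcyclic.HEquivHU (Opens.grothendieckTopology X) hT (Coh.toAb I) 1
  refine e.toEquiv.subsingleton_congr.2 ?_
  obtain ⟨ι, hι, U, hUa, -, hcov⟩ :=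
    Groth.Agent.Lib.Helper3.QCSec.exists_finite_affine_cover (⊤ : X.Opens)
      (by simpa using (isCompact_univ : IsCompact (Set.univ : Set X)))
  haveI := hι
  refine H1Trick.subsingleton_HU_top (Coh.toAb I) U hcov
    (fun i => AffineVanish.subsingleton_HU_of_isAffineOpen I (hUa i) 0) ?_
  intro c
  obtain ⟨K', m, h1, h2, h3, h4⟩ := FTApprox.exists_ft_sub_of_sections I (α := ι × ι)
    (fun p => U p.1 ⊓ U p.2)
    (fun p => QuasiSeparatedSpace.inter_isCompact _ _ (U p.1).2 (hUa p.1).isCompact (U p.2).2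
      (hUa p.2).isCompact)
    (fun p => c p.1 p.2)
  haveI := h1
  refine ⟨Coh.toAb K', (SerreCrit1.TT X).map m, inferInstance, ?_, fun i j => h4 (i, j)⟩
  have h5 := h K' m h1 h2 h3
  have e' := ProfiniteAcyclic.HEquivHU (Opens.grothendieckTopology X) hT (Coh.toAb K') 1
  exact e'.toEquiv.subsingleton_congr.1 h5

end Groth.Agent.Lib.Helper13.SerreFT
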