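import Mathlib

/-!
# Helper13: morphisms out of sheafified representables (small sites, sheaves of sets)

* `homEquiv J Z F : (a h_Z ⟶ F) ≃ F(Z)` with naturality lemmas.
* `isColimit_cofan_iff`: `(a h_X, a h_{s i})` is a coproduct cofan in `Sheaf J (Type u)` iff for every
  sheaf `F` the map `F(X) → ∏ F(Y i)` is bijective.
* `unique_of_bot_mem`: sections of a sheaf over an object covered by the empty sieve.
-/

set_option autoImplicit false
open CategoryTheory CategoryTheory.Limits Opposite

namespace Groth.Agent.Lib.Helper13.SheafYoneda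

universe u

variable {C : Type u} [SmallCategory C] (J : GrothendieckTopology C)

/-- `Hom(a h_Z, F) ≃ F(Z)`. -/
noncomputable def homEquiv (Z : C) (F : Sheaf J (Type u)) :
    ((presheafToSheaf J (Type u)).obj (yoneda.obj Z) ⟶ F) ≃ F.obj.obj (op Z) :=
  ((sheafificationAdjunction J (Type u)).homEquiv (yoneda.obj Z) F).trans yonedaEquiv

lemma homEquiv_map_comp {Z W : C} (f : W ⟶ Z) (F : Sheaf J (Type u))
    (φ : (presheafToSheaf J (Type u)).obj (yoneda.obj Z) ⟶ F) :
    homEquiv J W F ((presheafToSheaf J (Type u)).map (yoneda.map f) ≫ φ) =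
      F.obj.map f.op (homEquiv J Z F φ) := by
  change yonedaEquiv ((sheafificationAdjunction J (Type u)).homEquiv _ _
    ((presheafToSheaf J (Type u)).map (yoneda.map f) ≫ φ)) = _
  rw [Adjunction.homEquiv_naturality_left, ← yonedaEquiv_naturality]
  rfl

lemma homEquiv_comp (Z : C) {F G : Sheaf J (Type u)}
    (φ : (presheafToSheaf J (Type u)).obj (yoneda.obj Z) ⟶ F) (δ : F ⟶ G) :
    homEquiv J Z G (φ ≫ δ) = δ.hom.app (op Z) (homEquiv J Z F φ) := by
  change yonedaEquiv ((sheafificationAdjunction J (Type u)).homEquiv _ _ (φ ≫ δ)) = _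
  rw [Adjunction.homEquiv_naturality_right, yonedaEquiv_comp]
  rfl

/-- The empty sieve is a sheaf-covering iff there is exactly one section. -/
lemma isSheafFor_bot_iff {X : C} (P : Cᵒᵖ ⥤ Type u) :
    Presieve.IsSheafFor P (⊥ : Sieve X).arrows ↔ ∃! _t : P.obj (op X), True := by
  constructor
  · intro h
    obtain ⟨t, -, ht⟩ := h (fun W g hg => False.elim hg)
      (fun _ _ _ _ _ _ _ h₁ _ _ => False.elim h₁)
    exact ⟨t, trivial, fun t' _ => ht t' (fun W g hg => False.elim hg)⟩
  · rintro ⟨t, -, ht⟩ x _
    exact ⟨t, fun W g hg => False.elim hg, fun t' _ => ht t' trivial⟩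

/-- Any two sections of a sheaf over an object covered by the empty sieve agree. -/
lemma eq_of_bot_mem {X : C} (hX : (⊥ : Sieve X) ∈ J X) (F : Sheaf J (Type u))
    (a b : F.obj.obj (op X)) : a = b :=
  ((isSheafFor_bot_iff F.obj).1
    (((isSheaf_iff_isSheaf_of_type _ _).1 F.property) _ hX)).unique trivial trivial

/-- Coproduct decompositions of sheafified representables, tested on sections of sheaves. -/
theorem isColimit_cofan_iff {X : C} {ι : Type u} (Y : ι → C) (s : ∀ i, Y i ⟶ X) :
    Nonempty (IsColimit (Cofan.mk ((presheafToSheaf J (Type u)).obj (yoneda.obj X))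
      (fun i => (presheafToSheaf J (Type u)).map (yoneda.map (s i))))) ↔
    ∀ (F : Sheaf J (Type u)) (x : ∀ i, F.obj.obj (op (Y i))),
      ∃! t : F.obj.obj (op X), ∀ i, F.obj.map (s i).op t = x i := by
  constructor
  · rintro ⟨hc⟩ F x
    let φ := Cofan.IsColimit.desc hc (fun i => (homEquiv J (Y i) F).symm (x i))
    have hφ : ∀ i, (presheafToSheaf J (Type u)).map (yoneda.map (s i)) ≫ φ =
        (homEquiv J (Y i) F).symm (x i) := fun i => Cofan.IsColimit.fac hc _ i
    refine ⟨homEquiv J X F φ, fun i => ?_, fun t' ht' => ?_⟩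
    · rw [← homEquiv_map_comp, hφ, Equiv.apply_symm_apply]
    · have h1 : (homEquiv J X F).symm t' = φ := by
        apply Cofan.IsColimit.hom_ext hc
        intro i
        change (presheafToSheaf J (Type u)).map (yoneda.map (s i)) ≫ _ =
          (presheafToSheaf J (Type u)).map (yoneda.map (s i)) ≫ φ
        rw [hφ]
        apply (homEquiv J (Y i) F).injective
        rw [homEquiv_map_comp, Equiv.apply_symm_apply, Equiv.apply_symm_apply, ht']
      rw [← h1, Equiv.apply_symm_apply]
  · intro h
    refine ⟨Cofan.IsColimit.mk _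
      (fun t => (homEquiv J X t.pt).symm
        (h t.pt (fun i => homEquiv J (Y i) t.pt (t.inj i))).exists.choose) ?_ ?_⟩
    · intro t i
      apply (homEquiv J (Y i) t.pt).injective
      change homEquiv J (Y i) t.pt ((presheafToSheaf J (Type u)).map (yoneda.map (s i)) ≫ _) = _
      rw [homEquiv_map_comp, Equiv.apply_symm_apply]
      exact (h t.pt (fun i => homEquiv J (Y i) t.pt (t.inj i))).exists.choose_spec i
    · intro t m hm
      apply (homEquiv J X t.pt).injective
      rw [Equiv.apply_symm_apply]
      refine (h t.pt (fun i => homEquiv J (Y i) t.pt (t.inj i))).unique (fun i => ?_)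
        (h t.pt (fun i => homEquiv J (Y i) t.pt (t.inj i))).exists.choose_spec
      rw [← homEquiv_map_comp]
      exact congrArg _ (hm i)

end Groth.Agent.Lib.Helper13.SheafYoneda
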