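import Mathlib

/-!
# A coproduct of distinguished triangles is distinguished (helper13, for helper2's S7280)

Dual of Mathlib's `CategoryTheory.Pretriangulated.productTriangle_distinguished`.
-/

set_option autoImplicit false
open CategoryTheory CategoryTheory.Limits CategoryTheory.Pretriangulated

namespace Groth.Agent.Lib.Helper13.SigmaTri

variable {C : Type*} [Category C] [Preadditive C] [HasZeroObject C] [HasShift C ℤ]
  [∀ n : ℤ, (shiftFunctor C n).Additive] [Pretriangulated C]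

theorem exists_sigma_triangle {ι : Type*} (A B D : ι → C) (f : ∀ i, A i ⟶ B i)
    (g : ∀ i, B i ⟶ D i) (h : ∀ i, D i ⟶ (A i)⟦(1 : ℤ)⟧)
    (hT : ∀ i, Triangle.mk (f i) (g i) (h i) ∈ distTriang C)
    [HasCoproduct A] [HasCoproduct B] [HasCoproduct D] :
    ∃ H : ∐ D ⟶ (∐ A)⟦(1 : ℤ)⟧,
      Triangle.mk (Limits.Sigma.map f) (Limits.Sigma.map g) H ∈ distTriang C := by
  obtain ⟨Z, f₂, f₃, hT'⟩ := distinguished_cocone_triangle (Limits.Sigma.map f)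
  -- morphisms of triangles `T i ⟶ T'`
  have hc : ∀ i, ∃ c : D i ⟶ Z, g i ≫ c = Sigma.ι B i ≫ f₂ ∧
      h i ≫ (Sigma.ι A i)⟦(1 : ℤ)⟧' = c ≫ f₃ := fun i =>
    complete_distinguished_triangle_morphism _ _ (hT i) hT' (Sigma.ι A i) (Sigma.ι B i)
      (Sigma.ι_map f i).symm
  choose c hc₂ hc₃ using hc
  let ψ : ∐ D ⟶ Z := Sigma.desc c
  have hψ : ∀ i, Sigma.ι D i ≫ ψ = c i := fun i => Sigma.ι_desc c i
  -- the shift preserves the coproduct of `A`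
  have hA1 : IsColimit (Cofan.mk ((∐ A)⟦(1 : ℤ)⟧) fun i => (Sigma.ι A i)⟦(1 : ℤ)⟧') :=
    isColimitCofanMkObjOfIsColimit (shiftFunctor C (1 : ℤ)) _ _ (coproductIsCoproduct A)
  have hB1 : IsColimit (Cofan.mk ((∐ B)⟦(1 : ℤ)⟧) fun i => (Sigma.ι B i)⟦(1 : ℤ)⟧') :=
    isColimitCofanMkObjOfIsColimit (shiftFunctor C (1 : ℤ)) _ _ (coproductIsCoproduct B)
  have hiso : IsIso ψ := by
    refine isIso_of_coyoneda_map_bijective _ (fun W => ⟨?_, ?_⟩)
    · -- injectivity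
      suffices hz : ∀ x : Z ⟶ W, ψ ≫ x = 0 → x = 0 by
        intro x₁ x₂ hx
        have := hz (x₁ - x₂) (by
          rw [Preadditive.comp_sub]
          exact sub_eq_zero.2 hx)
        exact sub_eq_zero.1 this
      intro x hx
      have hcx : ∀ i, c i ≫ x = 0 := fun i => by
        rw [← hψ i, Category.assoc, hx, comp_zero]
      have h1 : f₂ ≫ x = 0 := by
        apply Sigma.hom_ext
        intro i
        rw [← Category.assoc, ← hc₂ i, Category.assoc, hcx i, comp_zero, comp_zero]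
      obtain ⟨y, hy⟩ : ∃ y : (∐ A)⟦(1 : ℤ)⟧ ⟶ W, x = f₃ ≫ y :=
        Triangle.yoneda_exact₃ _ hT' x h1
      have h2 : ∀ i, h i ≫ ((Sigma.ι A i)⟦(1 : ℤ)⟧' ≫ y) = 0 := fun i => by
        rw [← Category.assoc, hc₃ i, Category.assoc, ← hy, hcx i]
      have h3 : ∀ i, ∃ z : (B i)⟦(1 : ℤ)⟧ ⟶ W,
          (Sigma.ι A i)⟦(1 : ℤ)⟧' ≫ y = (f i)⟦(1 : ℤ)⟧' ≫ z := fun i => by
        obtain ⟨z, hz⟩ : ∃ z : (B i)⟦(1 : ℤ)⟧ ⟶ W,
            (Sigma.ι A i)⟦(1 : ℤ)⟧' ≫ y = (-(f i)⟦(1 : ℤ)⟧') ≫ z :=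
          Triangle.yoneda_exact₃ _ (rot_of_distTriang _ (hT i))
            ((Sigma.ι A i)⟦(1 : ℤ)⟧' ≫ y) (h2 i)
        refine ⟨-z, ?_⟩
        rw [hz, Preadditive.neg_comp, Preadditive.comp_neg]
      choose z hz using h3
      let zz : (∐ B)⟦(1 : ℤ)⟧ ⟶ W := Cofan.IsColimit.desc hB1 z
      have hzz : ∀ i, (Sigma.ι B i)⟦(1 : ℤ)⟧' ≫ zz = z i := fun i =>
        Cofan.IsColimit.fac hB1 z i
      have hy2 : y = (Limits.Sigma.map f)⟦(1 : ℤ)⟧' ≫ zz := by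
        apply Cofan.IsColimit.hom_ext hA1
        intro i
        change (Sigma.ι A i)⟦(1 : ℤ)⟧' ≫ y = (Sigma.ι A i)⟦(1 : ℤ)⟧' ≫ _ ≫ zz
        rw [hz i, ← Category.assoc, ← Functor.map_comp, Sigma.ι_map, Functor.map_comp,
          Category.assoc, hzz i]
      rw [hy, hy2]
      change f₃ ≫ _ ≫ zz = 0
      rw [← Category.assoc]
      have h31 : f₃ ≫ (Limits.Sigma.map f)⟦(1 : ℤ)⟧' = 0 := comp_distTriang_mor_zero₃₁ _ hT'
      rw [h31, zero_comp]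
    · -- surjectivity
      intro w
      have h1 : Limits.Sigma.map f ≫ (Limits.Sigma.map g ≫ w) = 0 := by
        apply Sigma.hom_ext
        intro i
        rw [Sigma.ι_map_assoc, Sigma.ι_map_assoc, comp_zero]
        have h12 : f i ≫ g i = 0 := comp_distTriang_mor_zero₁₂ _ (hT i)
        rw [reassoc_of% h12, zero_comp]
      obtain ⟨x', hx'⟩ : ∃ x' : Z ⟶ W, Limits.Sigma.map g ≫ w = f₂ ≫ x' :=
        Triangle.yoneda_exact₂ _ hT' (Limits.Sigma.map g ≫ w) h1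
      have h2 : ∀ i, g i ≫ (Sigma.ι D i ≫ w - c i ≫ x') = 0 := fun i => by
        rw [Preadditive.comp_sub, sub_eq_zero, ← Category.assoc (g i) (c i), hc₂ i,
          Category.assoc, ← hx', Sigma.ι_map_assoc]
      have h3 : ∀ i, ∃ v : (A i)⟦(1 : ℤ)⟧ ⟶ W, Sigma.ι D i ≫ w - c i ≫ x' = h i ≫ v :=
        fun i => Triangle.yoneda_exact₃ _ (hT i) (Sigma.ι D i ≫ w - c i ≫ x') (h2 i)
      choose v hv using h3
      let vv : (∐ A)⟦(1 : ℤ)⟧ ⟶ W := Cofan.IsColimit.desc hA1 v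
      have hvv : ∀ i, (Sigma.ι A i)⟦(1 : ℤ)⟧' ≫ vv = v i := fun i =>
        Cofan.IsColimit.fac hA1 v i
      refine ⟨x' + f₃ ≫ vv, ?_⟩
      apply Sigma.hom_ext
      intro i
      change Sigma.ι D i ≫ ψ ≫ (x' + f₃ ≫ vv) = Sigma.ι D i ≫ w
      rw [← Category.assoc, hψ i, Preadditive.comp_add, ← Category.assoc (c i) f₃,
        ← hc₃ i, Category.assoc, hvv i, ← hv i]
      abel
  let e3 : ∐ D ≅ Z := @asIso _ _ _ _ ψ hiso
  refine ⟨ψ ≫ f₃, ?_⟩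
  refine isomorphic_distinguished _ hT' _
    (Triangle.isoMk _ _ (Iso.refl _) (Iso.refl _) e3 ?_ ?_ ?_)
  · exact (Category.comp_id _).trans (Category.id_comp _).symm
  · change Limits.Sigma.map g ≫ ψ = 𝟙 _ ≫ f₂
    rw [Category.id_comp]
    apply Sigma.hom_ext
    intro i
    rw [Sigma.ι_map_assoc, hψ i, hc₂ i]
  · change (ψ ≫ f₃) ≫ (𝟙 (∐ A))⟦(1 : ℤ)⟧' = ψ ≫ f₃
    rw [CategoryTheory.Functor.map_id, Category.comp_id]

end Groth.Agent.Lib.Helper13.SigmaTri
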