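import Groth.Agent.Lib.Helper17.GGDescent

/-!
# Family version of faithfully flat descent of "the submodule is everything" (helper13)
-/

set_option autoImplicit false
set_option linter.style.haveILetI false
universe u

namespace Groth.Agent.Lib.Helper13.SpanFam

open Groth.Agent.Lib.Helper17.UnitBC

open TensorProduct in
/-- a module which dies after tensoring with each member of a jointly surjective family of flat
algebras is zero -/
theorem subsingleton_of_family {R : Type u} [CommRing R] {ι : Type*} (S : ι → Type u)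
    [∀ i, CommRing (S i)] [∀ i, Algebra R (S i)] [∀ i, Module.Flat R (S i)]
    (hsurj : ∀ 𝔭 : PrimeSpectrum R, ∃ (i : ι) (𝔮 : PrimeSpectrum (S i)),
      𝔮.asIdeal.comap (algebraMap R (S i)) = 𝔭.asIdeal)
    (Q : Type u) [AddCommGroup Q] [Module R Q] (h : ∀ i, Subsingleton (S i ⊗[R] Q)) :
    Subsingleton Q := by
  refine subsingleton_of_forall_eq 0 fun n => ?_
  by_contra hn
  let I := (Submodule.span R {n}).annihilator
  have I_ne_top : I ≠ ⊤ := by
    intro hI
    rw [Ideal.eq_top_iff_one, Submodule.mem_annihilator_span_singleton, one_smul] at hI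
    exact hn hI
  let inc : R ⧸ I →ₗ[R] Q := Submodule.liftQ _ ((LinearMap.lsmul R Q).flip n) <| fun r hr => by
    simpa only [LinearMap.mem_ker, LinearMap.flip_apply, LinearMap.lsmul_apply,
      Submodule.mem_annihilator_span_singleton, I] using hr
  have injective_inc : Function.Injective inc := LinearMap.ker_eq_bot.1 <| eq_bot_iff.2 <| by
    intro r hr
    induction r using Quotient.inductionOn' with | h r =>
    simpa only [Submodule.Quotient.mk''_eq_mk, Submodule.mem_bot, Submodule.Quotient.mk_eq_zero,
      Submodule.mem_annihilator_span_singleton, LinearMap.mem_ker, Submodule.liftQ_apply,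
      LinearMap.flip_apply, LinearMap.lsmul_apply, I, inc] using hr
  obtain ⟨𝔪, hmax, hIm⟩ := Ideal.exists_le_maximal I I_ne_top
  obtain ⟨i, 𝔮, h𝔮⟩ := hsurj ⟨𝔪, hmax.isPrime⟩
  haveI := h i
  have hsub : Subsingleton (S i ⧸ (I • (⊤ : Submodule R (S i)))) :=
    ((Module.Flat.lTensor_preserves_injective_linearMap (M := S i) inc injective_inc).comp
      (tensorQuotEquivQuotSMul (S i) I).symm.injective).subsingleton
  rw [Submodule.Quotient.subsingleton_iff] at hsub
  have h1 : (1 : S i) ∈ I • (⊤ : Submodule R (S i)) := by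
    rw [hsub]
    exact Submodule.mem_top
  have h2 : (1 : S i) ∈ 𝔮.asIdeal := by
    refine Submodule.smul_induction_on h1 (fun r hr s _ => ?_) (fun x y hx hy => ?_)
    · rw [Algebra.smul_def]
      refine Ideal.mul_mem_right _ _ ?_
      have : r ∈ 𝔮.asIdeal.comap (algebraMap R (S i)) := by
        rw [h𝔮]
        exact hIm hr
      exact this
    · exact Ideal.add_mem _ hx hy
  exact 𝔮.isPrime.ne_top ((Ideal.eq_top_iff_one _).2 h2)

open TensorProduct in
/-- family version of `GGDescent.eq_top_of_span_image`: jointly surjective flat family. -/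
theorem eq_top_of_span_image_family {R : Type u} [CommRing R] {ι : Type*} {S : ι → Type u}
    [∀ i, CommRing (S i)] {φ : ∀ i, R →+* S i} (hflat : ∀ i, (φ i).Flat)
    (hsurj : ∀ 𝔭 : PrimeSpectrum R, ∃ (i : ι) (𝔮 : PrimeSpectrum (S i)),
      𝔮.asIdeal.comap (φ i) = 𝔭.asIdeal)
    {M : Type u} [AddCommGroup M] [Module R M] {N : ι → Type u} [∀ i, AddCommGroup (N i)]
    [∀ i, Module (S i) (N i)] {β : ∀ i, M → N i} (h : ∀ i, IsBCHom (φ i) (β i))
    (P : Submodule R M) (hP : ∀ i, Submodule.span (S i) (β i '' (P : Set M)) = ⊤) : P = ⊤ := by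
  letI : ∀ i, Algebra R (S i) := fun i => (φ i).toAlgebra
  haveI : ∀ i, Module.Flat R (S i) := fun i => hflat i
  have key : ∀ i, Subsingleton (S i ⊗[R] (M ⧸ P)) := by
    intro i
    letI : Module R (N i) := Module.compHom (N i) (φ i)
    haveI : IsScalarTower R (S i) (N i) := IsScalarTower.of_algebraMap_smul fun _ _ => rfl
    obtain ⟨l, hl, hb⟩ := h i
    let ψ : N i →ₗ[S i] S i ⊗[R] (M ⧸ P) :=
      (LinearMap.baseChange (S i) P.mkQ) ∘ₗ hb.equiv.symm.toLinearMap
    have hψsurj : Function.Surjective ψ := by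
      have h1 : Function.Surjective (LinearMap.baseChange (S i) P.mkQ) := by
        rw [LinearMap.baseChange_eq_ltensor]
        exact LinearMap.lTensor_surjective _ (Submodule.mkQ_surjective P)
      intro z
      obtain ⟨y, hy⟩ := h1 z
      exact ⟨hb.equiv y, by
        change (LinearMap.baseChange (S i) P.mkQ) (hb.equiv.symm (hb.equiv y)) = z
        rw [LinearEquiv.symm_apply_apply, hy]⟩
    have hψ0 : ψ = 0 := by
      have hle : Submodule.span (S i) (β i '' (P : Set M)) ≤ LinearMap.ker ψ := by
        rw [Submodule.span_le]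
        rintro _ ⟨m, hm, rfl⟩
        change ψ (β i m) = 0
        rw [← hl]
        change (LinearMap.baseChange (S i) P.mkQ) (hb.equiv.symm (l m)) = 0
        rw [hb.equiv_symm_apply, LinearMap.baseChange_tmul]
        have : P.mkQ m = 0 := (Submodule.Quotient.mk_eq_zero P).2 hm
        rw [this, TensorProduct.tmul_zero]
      rw [hP i, top_le_iff] at hle
      exact LinearMap.ker_eq_top.1 hle
    refine ⟨fun a b => ?_⟩
    obtain ⟨a', rfl⟩ := hψsurj a
    obtain ⟨b', rfl⟩ := hψsurj b
    rw [hψ0]
    rfl
  haveI : Subsingleton (M ⧸ P) := subsingleton_of_family S hsurj (M ⧸ P) key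
  exact Submodule.Quotient.subsingleton_iff.1 this

end Groth.Agent.Lib.Helper13.SpanFam
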