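import Mathlib
import Groth.Prelude.Def_EtBase

/-!
# Conservativity of the geometric stalk functors on abelian etale sheaves

Mathlib proves that the geometric points of the small etale site form a conservative family
for sheaves of sets in the universe of the points; here the coefficient category lives one
universe higher (`AddCommGrpCat.{u+1}`), so we reprove the detection of locally injective /
locally surjective maps directly from the description of covering sieves, in a form which
is independent of the universe of the concrete coefficient category.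
-/

set_option autoImplicit false
open CategoryTheory CategoryTheory.Limits AlgebraicGeometry Opposite

namespace Groth.Agent.Lib.Helper13.StalkConservative

universe w w' v v' u u'

section General

variable {C : Type u} [Category.{v} C] {J : GrothendieckTopology C} [LocallySmall.{w} C]
  {I : Type*} (Φ : I → GrothendieckTopology.Point.{w} J)
  {A : Type u'} [Category.{v'} A] [HasColimitsOfSize.{w, w} A]
  {FC : A → A → Type*} {CC : A → Type w'}
  [∀ X Y : A, FunLike (FC X Y) (CC X) (CC Y)] [ConcreteCategory.{w'} A FC]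
  [PreservesFilteredColimitsOfSize.{w, w} (forget A)]

/-- Cover detection by a family of points. -/
def DetectsCovers : Prop :=
  ∀ ⦃X : C⦄ (S : Sieve X), (∀ (i : I) (x : (Φ i).fiber.obj X),
    ∃ (Y : C) (g : Y ⟶ X) (_ : S g) (y : (Φ i).fiber.obj Y), (Φ i).fiber.map g y = x) → S ∈ J X

variable {Φ}

lemma isLocallyInjective_of_fibers (hcov : DetectsCovers Φ) {P Q : Cᵒᵖ ⥤ A} (f : P ⟶ Q)
    (hf : ∀ i, Function.Injective ((Φ i).presheafFiber.map f)) :
    Presheaf.IsLocallyInjective J f where
  equalizerSieve_mem {X} x y h := by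
    apply hcov
    intro i p
    have h1 : (Φ i).toPresheafFiber X.unop p P x = (Φ i).toPresheafFiber X.unop p P y := by
      apply hf i
      rw [GrothendieckTopology.Point.toPresheafFiber_naturality_apply,
        GrothendieckTopology.Point.toPresheafFiber_naturality_apply]
      exact congrArg _ h
    obtain ⟨Y, g, y', hy', heq⟩ := ((Φ i).toPresheafFiber_eq_iff' X.unop p x y).1 h1
    exact ⟨Y, g, heq, y', hy'⟩

lemma isLocallySurjective_of_fibers (hcov : DetectsCovers Φ) {P Q : Cᵒᵖ ⥤ A} (f : P ⟶ Q)
    (hf : ∀ i, Function.Surjective ((Φ i).presheafFiber.map f)) :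
    Presheaf.IsLocallySurjective J f where
  imageSieve_mem {U} s := by
    apply hcov
    intro i p
    obtain ⟨q, hq⟩ := hf i ((Φ i).toPresheafFiber U p Q s)
    obtain ⟨V, v, z, rfl⟩ := (Φ i).toPresheafFiber_jointly_surjective q
    rw [GrothendieckTopology.Point.toPresheafFiber_naturality_apply] at hq
    -- common refinement of (V, v) and (U, p)
    let eV : (Φ i).fiber.Elements := ⟨V, v⟩
    let eU : (Φ i).fiber.Elements := ⟨U, p⟩
    let eW := IsCofiltered.min eV eU
    let a : eW ⟶ eV := IsCofiltered.minToLeft eV eU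
    let b : eW ⟶ eU := IsCofiltered.minToRight eV eU
    have ha : (Φ i).fiber.map a.1 eW.2 = v := a.2
    have hb : (Φ i).fiber.map b.1 eW.2 = p := b.2
    have h1 : (Φ i).toPresheafFiber eW.1 eW.2 Q (Q.map a.1.op (f.app _ z)) =
        (Φ i).toPresheafFiber eW.1 eW.2 Q (Q.map b.1.op s) := by
      rw [GrothendieckTopology.Point.toPresheafFiber_w_apply,
        GrothendieckTopology.Point.toPresheafFiber_w_apply, ha, hb]
      exact hq
    obtain ⟨W', g, y, hy, heq⟩ := ((Φ i).toPresheafFiber_eq_iff' eW.1 eW.2 _ _).1 h1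
    refine ⟨W', g ≫ b.1, ⟨P.map (g ≫ a.1).op z, ?_⟩, y, ?_⟩
    · rw [NatTrans.naturality_apply, op_comp, Functor.map_comp_apply, op_comp,
        Functor.map_comp_apply]
      exact heq
    · rw [Functor.map_comp_apply, hy]
      exact hb

/-- Sheaf version: the fibre functors of a cover-detecting family jointly reflect isomorphisms. -/
theorem jointlyReflectIsomorphisms (hcov : DetectsCovers Φ) [(forget A).ReflectsIsomorphisms]
    [J.HasSheafCompose (forget A)] :
    JointlyReflectIsomorphisms (fun i : I => (Φ i).sheafFiber (A := A)) where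
  isIso {K L} f hf := by
    have hb : ∀ i, Function.Bijective ((Φ i).presheafFiber.map f.hom) := fun i => by
      have : IsIso ((Φ i).presheafFiber.map f.hom) := hf i
      exact ConcreteCategory.bijective_of_isIso _
    exact (Sheaf.isLocallyBijective_iff_isIso f).1
      ⟨isLocallyInjective_of_fibers hcov f.hom (fun i => (hb i).1),
        isLocallySurjective_of_fibers hcov f.hom (fun i => (hb i).2)⟩

end General

section Etale

universe t

/-- A geometric point of a scheme (separably closed field in the universe of the scheme). -/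
structure GeomPt (X : Scheme.{t}) where
  Ω : Type t
  [field : Field Ω]
  [sepClosed : IsSepClosed Ω]
  ξ : Spec (CommRingCat.of Ω) ⟶ X

attribute [instance] GeomPt.field GeomPt.sepClosed

/-- The point of the small etale site attached to a geometric point. -/
noncomputable abbrev GeomPt.pt {X : Scheme.{t}} (i : GeomPt X) :
    GrothendieckTopology.Point.{t} X.smallEtaleTopology := Scheme.pointSmallEtale i.ξ

set_option backward.isDefEq.respectTransparency false in
lemma detectsCovers_etale (X : Scheme.{t}) : DetectsCovers (fun i : GeomPt X => i.pt) := by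
  intro U R hR
  obtain ⟨α, T, f, rfl⟩ := R.exists_eq_ofArrows
  rw [Scheme.ofArrows_mem_smallEtaleTopology_iff]
  ext x
  simp only [Set.mem_iUnion, Set.mem_range, Set.mem_univ, iff_true]
  obtain ⟨i, hi⟩ : ∃ i : GeomPt X, i.ξ default = U.hom x :=
    ⟨{ Ω := SeparableClosure (X.residueField (U.hom x))
       ξ := (Scheme.SpecToEquivOfField (SeparableClosure (X.residueField (U.hom x))) _).2
        ⟨U.hom x, CommRingCat.ofHom (algebraMap (X.residueField (U.hom x)) _)⟩ },
      by simp [Scheme.SpecToEquivOfField]⟩
  obtain ⟨x', hx'⟩ := Scheme.pointSmallEtaleFiberObjToPreimage_surjective i.ξ hi U ⟨x, by simp⟩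
  rw [Subtype.ext_iff] at hx'
  simp only [Functor.id_obj, Scheme.pointSmallEtaleFiberObjToPreimage_coe,
    Scheme.Etale.forget_obj_left] at hx'
  subst hx'
  obtain ⟨W, g, ⟨Z, p, _, ⟨a⟩, rfl⟩, y, rfl⟩ := hR i x'
  exact ⟨a, (Scheme.pointSmallEtaleFiberObjToPreimage i.ξ hi (y ≫ p.hom)).1, rfl⟩

instance presFilt : PreservesFilteredColimitsOfSize.{t, t} (forget AddCommGrpCat.{t + 1}) :=
  preservesFilteredColimitsOfSize_of_univLE.{t + 1, t + 1, t, t} _

/-- The geometric stalk functors on abelian etale sheaves jointly reflect isomorphisms. -/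
theorem stalk_jointlyReflectIsomorphisms (X : Scheme.{t}) :
    JointlyReflectIsomorphisms (fun i : GeomPt X => EtCoh.stalk i.ξ) :=
  jointlyReflectIsomorphisms (A := AddCommGrpCat.{t + 1}) (detectsCovers_etale X)

variable {X : Scheme.{t}}

noncomputable instance ab5 : AB5OfSize.{t, t} AddCommGrpCat.{t + 1} :=
  AB5OfSize_of_univLE.{t, t, _, t + 1, t + 1} AddCommGrpCat.{t + 1}

instance stalk_preservesFiniteLimits {Ω : Type t} [Field Ω] [IsSepClosed Ω]
    (ξ : Spec (CommRingCat.of Ω) ⟶ X) : PreservesFiniteLimits (EtCoh.stalk ξ) :=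
  inferInstance

instance stalk_preservesFiniteColimits {Ω : Type t} [Field Ω] [IsSepClosed Ω]
    (ξ : Spec (CommRingCat.of Ω) ⟶ X) : PreservesFiniteColimits (EtCoh.stalk ξ) :=
  inferInstance

theorem isIso_iff_stalks {F G : EtCoh.Ab X} (a : F ⟶ G) :
    IsIso a ↔ ∀ i : GeomPt X, IsIso ((EtCoh.stalk i.ξ).map a) :=
  (stalk_jointlyReflectIsomorphisms X).isIso_iff a

theorem mono_iff_stalks {F G : EtCoh.Ab X} (a : F ⟶ G) :
    Mono a ↔ ∀ i : GeomPt X, Function.Injective ((EtCoh.stalk i.ξ).map a) := by
  rw [(stalk_jointlyReflectIsomorphisms X).jointlyReflectMonomorphisms.mono_iff]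
  exact forall_congr' fun i => AddCommGrpCat.mono_iff_injective _

theorem epi_iff_stalks {F G : EtCoh.Ab X} (a : F ⟶ G) :
    Epi a ↔ ∀ i : GeomPt X, Function.Surjective ((EtCoh.stalk i.ξ).map a) := by
  rw [(stalk_jointlyReflectIsomorphisms X).jointlyReflectEpimorphisms.epi_iff]
  exact forall_congr' fun i => AddCommGrpCat.epi_iff_surjective _

theorem exact_iff_stalks (S : ShortComplex (EtCoh.Ab X)) :
    S.Exact ↔ ∀ i : GeomPt X, (S.map (EtCoh.stalk i.ξ)).Exact :=
  (stalk_jointlyReflectIsomorphisms X).exact_iff S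

theorem isZero_iff_stalks (F : EtCoh.Ab X) :
    IsZero F ↔ ∀ i : GeomPt X, IsZero ((EtCoh.stalk i.ξ).obj F) :=
  (stalk_jointlyReflectIsomorphisms X).isZero_iff

end Etale

end Groth.Agent.Lib.Helper13.StalkConservative
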