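import Groth.Agent.Lib.Helper13.StalkPull

/-!
# Helper13: the stalk of `j_! F` is the coproduct of the stalks of `F` over the lifts of the point

For etale `j : U → X`, an abelian sheaf `F` on `U_et` and a geometric point `ξ` of `X`:
`(j_! F)_ξ ≅ ∐_{v ≫ j = ξ} F_v`  (`stalkExtZeroIso`).
The proof compares the functors `Hom(-, A)` of both sides through the adjunctions
`j_! ⊣ j^{-1}` and `stalk ⊣ skyscraper`.
-/

set_option autoImplicit false
open CategoryTheory CategoryTheory.Limits AlgebraicGeometry Opposite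

namespace Groth.Agent.Lib.Helper13.StalkExtZero

universe u

/-- Objects with naturally equivalent covariant hom-functors are isomorphic. -/
def isoOfHomEquiv {C : Type*} [Category C] {L R : C} (E : ∀ A : C, (L ⟶ A) ≃ (R ⟶ A))
    (nat : ∀ {A A' : C} (h : L ⟶ A) (a : A ⟶ A'), E A' (h ≫ a) = E A h ≫ a) : L ≅ R where
  hom := (E R).symm (𝟙 R)
  inv := E L (𝟙 L)
  hom_inv_id := by
    apply (E L).injective
    rw [nat, Equiv.apply_symm_apply, Category.id_comp]
  inv_hom_id := by
    rw [← nat, Category.id_comp, Equiv.apply_symm_apply]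

variable {U X : Scheme.{u}} (j : U ⟶ X) [AlgebraicGeometry.Etale j]
  {Ω : Type u} [Field Ω] [IsSepClosed Ω] (ξ : Spec (CommRingCat.of Ω) ⟶ X)

/-- Lifts of the geometric point `ξ` to `U`. -/
abbrev Lifts := {v : Spec (CommRingCat.of Ω) ⟶ U // v ≫ j = ξ}

variable {j ξ}

/-- A point of `V` over `v` gives a point of `V → U → X` over `ξ`. -/
noncomputable def bmap (v : Lifts j ξ) (V : U.Etale) (s : (Scheme.pointSmallEtale v.1).fiber.obj V) :
    (Scheme.pointSmallEtale ξ).fiber.obj ((EtShriek.compEtale j).obj V) :=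
  Over.homMk s.left (by
    have h := Over.w s
    dsimp at h ⊢
    rw [← Category.assoc, h, v.2])

/-- The lift of `ξ` determined by a point of `V → U → X` over `ξ`. -/
noncomputable def ut {V : U.Etale}
    (t : (Scheme.pointSmallEtale ξ).fiber.obj ((EtShriek.compEtale j).obj V)) : Lifts j ξ :=
  ⟨t.left ≫ V.hom, by
    have h := Over.w t
    dsimp at h ⊢
    rw [Category.assoc]; exact h⟩

/-- A point of `V → U → X` over `ξ` as a point of `V` over its lift. -/
noncomputable def st {V : U.Etale}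
    (t : (Scheme.pointSmallEtale ξ).fiber.obj ((EtShriek.compEtale j).obj V)) :
    (Scheme.pointSmallEtale (ut t).1).fiber.obj V :=
  Over.homMk t.left rfl

lemma bmap_st {V : U.Etale}
    (t : (Scheme.pointSmallEtale ξ).fiber.obj ((EtShriek.compEtale j).obj V)) :
    bmap (ut t) V (st t) = t :=
  Over.OverMorphism.ext rfl

lemma ut_bmap (v : Lifts j ξ) (V : U.Etale) (s : (Scheme.pointSmallEtale v.1).fiber.obj V) :
    ut (bmap v V s) = v := by
  apply Subtype.ext
  have h := Over.w s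
  dsimp at h
  exact h

section

variable (P : U.Etaleᵒᵖ ⥤ AddCommGrpCat.{u + 1})

omit [AlgebraicGeometry.Etale j] in
/-- Transport along an equality of lifts. -/
lemma transport {A : AddCommGrpCat.{u + 1}}
    (γ : ∀ v : Lifts j ξ, ((Scheme.pointSmallEtale v.1).presheafFiber.obj P ⟶ A))
    (v₁ v₂ : Lifts j ξ) (h : v₁ = v₂) (V : U.Etale)
    (s₁ : (Scheme.pointSmallEtale v₁.1).fiber.obj V) (s₂ : (Scheme.pointSmallEtale v₂.1).fiber.obj V)
    (hs : s₁.left = s₂.left) :
    (Scheme.pointSmallEtale v₁.1).toPresheafFiber V s₁ P ≫ γ v₁ =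
      (Scheme.pointSmallEtale v₂.1).toPresheafFiber V s₂ P ≫ γ v₂ := by
  subst h
  have : s₁ = s₂ := Over.OverMorphism.ext hs
  rw [this]

variable (j ξ) in
/-- The presheaf on `U_et`: `V ↦ ∏_{points of V → U → X over ξ} A`. -/
noncomputable abbrev SA (A : AddCommGrpCat.{u + 1}) : U.Etaleᵒᵖ ⥤ AddCommGrpCat.{u + 1} :=
  (EtShriek.compEtale j).op ⋙ (Scheme.pointSmallEtale ξ).skyscraperPresheaf A

variable {P}

/-- Projection of `SA A` at `V` to the factor of a point `t`. -/
noncomputable def πS (A : AddCommGrpCat.{u + 1}) (V : U.Etale)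
    (t : (Scheme.pointSmallEtale ξ).fiber.obj ((EtShriek.compEtale j).obj V)) :
    (SA j ξ A).obj (op V) ⟶ A :=
  Pi.π (fun _ : (Scheme.pointSmallEtale ξ).fiber.obj ((EtShriek.compEtale j).obj V) => A) t

/-- Maps into `SA A` at `V`. -/
noncomputable def liftS (A : AddCommGrpCat.{u + 1}) (V : U.Etale) {T : AddCommGrpCat.{u + 1}}
    (f : ∀ _ : (Scheme.pointSmallEtale ξ).fiber.obj ((EtShriek.compEtale j).obj V), T ⟶ A) :
    T ⟶ (SA j ξ A).obj (op V) :=
  Pi.lift f

lemma liftS_π (A : AddCommGrpCat.{u + 1}) (V : U.Etale) {T : AddCommGrpCat.{u + 1}}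
    (f : ∀ _ : (Scheme.pointSmallEtale ξ).fiber.obj ((EtShriek.compEtale j).obj V), T ⟶ A)
    (t : (Scheme.pointSmallEtale ξ).fiber.obj ((EtShriek.compEtale j).obj V)) :
    liftS A V f ≫ πS A V t = f t :=
  Pi.lift_π _ _

lemma hom_ext_S (A : AddCommGrpCat.{u + 1}) (V : U.Etale) {T : AddCommGrpCat.{u + 1}}
    (f g : T ⟶ (SA j ξ A).obj (op V)) (h : ∀ t, f ≫ πS A V t = g ≫ πS A V t) : f = g :=
  Pi.hom_ext _ _ h

lemma SA_map_π (A : AddCommGrpCat.{u + 1}) {V V' : U.Etale} (g : V ⟶ V')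
    (t : (Scheme.pointSmallEtale ξ).fiber.obj ((EtShriek.compEtale j).obj V)) :
    (SA j ξ A).map g.op ≫ πS A V t =
      πS A V' ((Scheme.pointSmallEtale ξ).fiber.map ((EtShriek.compEtale j).map g) t) :=
  (Pi.map'_comp_π _ _ _).trans (Category.comp_id _)

lemma SA_mapA_π {A A' : AddCommGrpCat.{u + 1}} (a : A ⟶ A') (V : U.Etale)
    (t : (Scheme.pointSmallEtale ξ).fiber.obj ((EtShriek.compEtale j).obj V)) :
    ((Scheme.pointSmallEtale ξ).skyscraperPresheafFunctor.map a).app
        (op ((EtShriek.compEtale j).obj V)) ≫ πS A' V t = πS A V t ≫ a :=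
  Pi.map_π (fun _ : (Scheme.pointSmallEtale ξ).fiber.obj ((EtShriek.compEtale j).obj V) => a) t

lemma compat {A : AddCommGrpCat.{u + 1}} (τ : P ⟶ SA j ξ A) (v : Lifts j ξ) ⦃V V' : U.Etale⦄
    (g : V ⟶ V') (s : (Scheme.pointSmallEtale v.1).fiber.obj V) :
    P.map g.op ≫ (τ.app (op V) ≫ πS A V (bmap v V s)) =
      τ.app (op V') ≫ πS A V' (bmap v V' ((Scheme.pointSmallEtale v.1).fiber.map g s)) := by
  have h := τ.naturality g.op
  rw [← Category.assoc, h, Category.assoc, SA_map_π]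
  rfl

/-- Forward direction of `E3`. -/
noncomputable def toFunE {A : AddCommGrpCat.{u + 1}} (τ : P ⟶ SA j ξ A) (v : Lifts j ξ) :
    (Scheme.pointSmallEtale v.1).presheafFiber.obj P ⟶ A :=
  (Scheme.pointSmallEtale v.1).presheafFiberDesc
    (fun V s => τ.app (op V) ≫ πS A V (bmap v V s)) (compat τ v)

lemma ι_toFunE {A : AddCommGrpCat.{u + 1}} (τ : P ⟶ SA j ξ A) (v : Lifts j ξ) (V : U.Etale)
    (s : (Scheme.pointSmallEtale v.1).fiber.obj V) :
    (Scheme.pointSmallEtale v.1).toPresheafFiber V s P ≫ toFunE τ v =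
      τ.app (op V) ≫ πS A V (bmap v V s) :=
  GrothendieckTopology.Point.toPresheafFiber_presheafFiberDesc _ _ _ _ _

variable (P) in
/-- Maps to the restricted skyscraper presheaf are families of maps out of the stalks at the
lifts. -/
noncomputable def E3 (A : AddCommGrpCat.{u + 1}) :
    (P ⟶ SA j ξ A) ≃
      (∀ v : Lifts j ξ, ((Scheme.pointSmallEtale v.1).presheafFiber.obj P ⟶ A)) where
  toFun τ v := toFunE τ v
  invFun γ :=
    { app := fun V => liftS A V.unop (fun t =>
        (Scheme.pointSmallEtale (ut t).1).toPresheafFiber V.unop (st t) P ≫ γ (ut t))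
      naturality := by
        intro V V' g
        apply hom_ext_S
        intro t
        have h1 := SA_map_π (j := j) (ξ := ξ) A g.unop t
        rw [Category.assoc, Category.assoc, liftS_π]
        erw [h1]
        rw [liftS_π, ← Category.assoc]
        erw [GrothendieckTopology.Point.toPresheafFiber_w]
        refine transport P γ _ _ ?_ _ _ _ ?_
        · apply Subtype.ext
          have hg : g.unop.left ≫ V.unop.hom = V'.unop.hom := MorphismProperty.Over.w g.unop
          change t.left ≫ V'.unop.hom = (t.left ≫ g.unop.left) ≫ V.unop.hom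
          exact ((Category.assoc _ _ _).trans (congrArg (fun m => t.left ≫ m) hg)).symm
        · rfl }
  left_inv τ := by
    ext V : 2
    apply hom_ext_S
    intro t
    change liftS A V.unop _ ≫ _ = _
    rw [liftS_π, ι_toFunE, bmap_st]
  right_inv γ := by
    funext v
    apply GrothendieckTopology.Point.presheafFiber_hom_ext
    intro V s
    rw [ι_toFunE]
    change liftS A V _ ≫ _ = _
    rw [liftS_π]
    exact transport P γ _ _ (ut_bmap v V s) _ _ _ rfl

lemma E3_nat {A A' : AddCommGrpCat.{u + 1}} (τ : P ⟶ SA j ξ A) (a : A ⟶ A') (v : Lifts j ξ) :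
    E3 P A' (τ ≫ Functor.whiskerLeft (EtShriek.compEtale j).op
      ((Scheme.pointSmallEtale ξ).skyscraperPresheafFunctor.map a)) v = E3 P A τ v ≫ a := by
  apply GrothendieckTopology.Point.presheafFiber_hom_ext
  intro V s
  change _ ≫ toFunE _ v = _ ≫ toFunE τ v ≫ a
  rw [ι_toFunE, ← Category.assoc, ι_toFunE, NatTrans.comp_app, Category.assoc, Category.assoc,
    Functor.whiskerLeft_app]
  congr 1
  exact SA_mapA_π a V _

end

section Main

variable (j ξ) (F : EtCoh.Ab U)

open Groth.Agent.Lib.Helper13.ExtZeroExact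

/-- The composite adjunction `stalk_ξ ∘ j_! ⊣ j^{-1} ∘ skyscraper_ξ`. -/
noncomputable def adj₁ : EtShriek.extZero j ⋙ EtCoh.stalk ξ ⊣
    (Scheme.pointSmallEtale ξ).skyscraperSheafFunctor ⋙ EtShriek.restrAlong j :=
  (EtShriek.extZeroAdj j).comp
    ((Scheme.pointSmallEtale ξ).skyscraperSheafAdjunction (A := AddCommGrpCat.{u + 1}))

/-- Maps out of a coproduct. -/
noncomputable def sigmaEquiv (A : AddCommGrpCat.{u + 1}) :
    (∀ v : Lifts j ξ, ((EtCoh.stalk v.1).obj F ⟶ A)) ≃
      ((∐ fun v : Lifts j ξ => (EtCoh.stalk v.1).obj F) ⟶ A) where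
  toFun γ := Sigma.desc γ
  invFun h v := Sigma.ι (fun v : Lifts j ξ => (EtCoh.stalk v.1).obj F) v ≫ h
  left_inv γ := by
    funext v
    exact Sigma.ι_desc _ _
  right_inv h := by
    apply Sigma.hom_ext
    intro v
    exact Sigma.ι_desc _ _

/-- The natural bijection of hom-sets. -/
noncomputable def E (A : AddCommGrpCat.{u + 1}) :
    ((EtCoh.stalk ξ).obj ((EtShriek.extZero j).obj F) ⟶ A) ≃
      ((∐ fun v : Lifts j ξ => (EtCoh.stalk v.1).obj F) ⟶ A) :=
  ((adj₁ j ξ).homEquiv F A).trans <|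
    ((fullyFaithfulSheafToPresheaf U.smallEtaleTopology AddCommGrpCat.{u + 1}).homEquiv
      (X := F) (Y := (EtShriek.restrAlong j).obj
        ((Scheme.pointSmallEtale ξ).skyscraperSheafFunctor.obj A))).trans <|
    (E3 (j := j) (ξ := ξ) F.obj A).trans (sigmaEquiv j ξ F A)

lemma E_nat {A A' : AddCommGrpCat.{u + 1}}
    (h : (EtCoh.stalk ξ).obj ((EtShriek.extZero j).obj F) ⟶ A) (a : A ⟶ A') :
    E j ξ F A' (h ≫ a) = E j ξ F A h ≫ a := by
  apply Sigma.hom_ext
  intro v
  have h1 := (adj₁ j ξ).homEquiv_naturality_right h a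
  have h2 := E3_nat (j := j) (ξ := ξ) (P := F.obj)
    ((fullyFaithfulSheafToPresheaf U.smallEtaleTopology AddCommGrpCat.{u + 1}).homEquiv
      ((adj₁ j ξ).homEquiv F A h)) a v
  change Sigma.ι _ v ≫ Sigma.desc _ = Sigma.ι _ v ≫ Sigma.desc _ ≫ a
  rw [Sigma.ι_desc, Sigma.ι_desc_assoc, h1]
  exact h2

/-- **Stalks of the extension by zero**: `(j_! F)_ξ ≅ ∐_{v ≫ j = ξ} F_v`. -/
noncomputable def stalkExtZeroIso :
    (EtCoh.stalk ξ).obj ((EtShriek.extZero j).obj F) ≅
      ∐ fun v : Lifts j ξ => (EtCoh.stalk v.1).obj F :=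
  isoOfHomEquiv (E j ξ F) (fun h a => E_nat j ξ F h a)

end Main

end Groth.Agent.Lib.Helper13.StalkExtZero
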