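import Groth.Agent.Lib.Helper23.FBC4
import Groth.Agent.Lib.Helper3.QcohStalk
import Groth.Agent.Lib.Helper17.FlatCover

/-!
# Degree zero of the stalk form of flat base change (helper13)

`Y` affine, `y : Y`, `ρ : O_{Y,y} ≃+* A`, `X₁ = X ×_Y Spec A`: for quasi-coherent `F` on `X`,
`(f_* F)_y ≃ H⁰(X₁, g₁^* F)`, semilinearly in `ρ` and naturally in `F`.
-/

set_option autoImplicit false
set_option linter.style.haveILetI false
universe u
open CategoryTheory CategoryTheory.Limits Opposite TopologicalSpace AlgebraicGeometry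
open Scheme.Modules TensorProduct

noncomputable section

namespace Groth.Agent.Lib.Helper13.StalkFBC0

open Groth.Agent.Lib.Helper23.T2 Groth.Agent.Lib.Helper23.FBC Groth.Agent.Lib.Helper3
  Groth.Agent.Lib.Helper3.QCSec Groth.Agent.Lib.Helper3.InvGen Groth.Agent.Lib.Helper17.UnitBC

variable {X Y X₁ : Scheme.{u}} (f : X ⟶ Y) [IsAffine Y] (y : Y) {A : Type u} [CommRing A]
  (ρ : Y.presheaf.stalk y ≃+* A)
  [X₁.Over (Spec (CommRingCat.of A))] (g₁ : X₁ ⟶ X) (jj : Spec (CommRingCat.of A) ⟶ Y)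
  (hjj : jj = Spec.map (CommRingCat.ofHom ρ.toRingHom) ≫ Y.fromSpecStalk y)

/-- the structure morphism of `X₁` -/
abbrev st : X₁ ⟶ Spec (CommRingCat.of A) := X₁ ↘ Spec (CommRingCat.of A)

/-- `Γ(Y, ⊤) → Γ(Spec A, ⊤)` -/
abbrev φ₂ : Γ(Y, ⊤) →+* Γ(Spec (CommRingCat.of A), ⊤) := jj.appTop.hom

/-- `Γ(Spec A, ⊤) → O_{Y,y}` -/
def τ : Γ(Spec (CommRingCat.of A), ⊤) →+* Y.presheaf.stalk y :=
  (ρ.symm : A →+* Y.presheaf.stalk y).comp (Scheme.ΓSpecIso (CommRingCat.of A)).hom.hom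

theorem appTop_comp_eq :
    (Y.fromSpecStalk y).appTop ≫ (Spec.map (CommRingCat.ofHom ρ.toRingHom)).appTop ≫
      (Scheme.ΓSpecIso (CommRingCat.of A)).hom =
      Y.presheaf.germ ⊤ y trivial ≫ CommRingCat.ofHom ρ.toRingHom := by
  rw [Scheme.fromSpecStalk_appTop, Scheme.ΓSpecIso_naturality]
  simp only [homOfLE_refl, op_id, CategoryTheory.Functor.map_id, Category.comp_id,
    Scheme.ΓSpecIso_inv_naturality, RingEquiv.toRingHom_eq_coe, Category.assoc,
    Functor.whiskeringLeft_obj_obj, Limits.colimit.cocone_x]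
  have h := Scheme.ΓSpecIso_naturality (Y.presheaf.germ ⊤ y trivial)
  rw [← Category.assoc (Scheme.Hom.appTop _)]
  erw [h]
  simp only [Category.assoc, Iso.inv_hom_id_assoc]
  rfl

include hjj in
theorem τ_φ₂ (r : Γ(Y, ⊤)) : τ y ρ (φ₂ jj r) = Y.presheaf.germ ⊤ y trivial r := by
  subst hjj
  have h4 := congrArg (fun φ => φ.hom r) (appTop_comp_eq y ρ)
  unfold τ φ₂
  rw [Scheme.Hom.comp_appTop]
  change (ρ.symm : A →+* Y.presheaf.stalk y) (((Y.fromSpecStalk y).appTop ≫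
    (Spec.map (CommRingCat.ofHom ρ.toRingHom)).appTop ≫
      (Scheme.ΓSpecIso (CommRingCat.of A)).hom).hom r) = _
  rw [appTop_comp_eq]
  exact ρ.symm_apply_apply _

section Germ

variable (F : X.Modules)

/-- the stalk `(f_* F)_y` -/
abbrev St : Type u := ((Scheme.Modules.pushforward f).obj F).presheaf.stalk y

/-- the `Γ(Spec A, ⊤)`-module structure on the stalk -/
@[reducible] def stModule : Module Γ(Spec (CommRingCat.of A), ⊤) (St f y F) :=
  Module.compHom _ (τ y ρ)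

/-- `τ` as a ring isomorphism -/
def τe : Γ(Spec (CommRingCat.of A), ⊤) ≃+* Y.presheaf.stalk y :=
  (Scheme.ΓSpecIso (CommRingCat.of A)).commRingCatIsoToRingEquiv.trans ρ.symm

theorem τe_apply (a : Γ(Spec (CommRingCat.of A), ⊤)) : τe y ρ a = τ y ρ a := rfl

include hjj in
/-- the germ map is a base change along `φ₂`. -/
theorem isBCHom_germ [F.IsQuasicoherent] [QuasiCompact f] [QuasiSeparated f] :
    letI := stModule f y ρ F
    IsBCHom (φ₂ jj) (fun m : Γ((Scheme.Modules.pushforward f).obj F, ⊤) =>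
      ((Scheme.Modules.pushforward f).obj F).presheaf.germ ⊤ y trivial m) := by
  letI := stModule f y ρ F
  haveI : ((Scheme.Modules.pushforward f).obj F).IsQuasicoherent :=
    QCSec.isQuasicoherent_pushforward f F
  letI := (φ₂ jj).toAlgebra
  letI : Module Γ(Y, ⊤) (St f y F) := Module.compHom (St f y F) (φ₂ jj)
  haveI : IsScalarTower Γ(Y, ⊤) Γ(Spec (CommRingCat.of A), ⊤) (St f y F) :=
    IsScalarTower.of_algebraMap_smul fun _ _ => rfl
  have hsmul : ∀ (r : Γ(Y, ⊤)) (x : St f y F), r • x = Y.presheaf.germ ⊤ y trivial r • x := by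
    intro r x
    change τ y ρ (φ₂ jj r) • x = _
    rw [τ_φ₂ y ρ jj hjj]
  let lin : Γ((Scheme.Modules.pushforward f).obj F, ⊤) →ₗ[Γ(Y, ⊤)] St f y F :=
    { toFun := fun m => ((Scheme.Modules.pushforward f).obj F).presheaf.germ ⊤ y trivial m
      map_add' := fun a b => map_add _ a b
      map_smul' := fun r m => by
        rw [RingHom.id_apply, hsmul]
        exact QS.germ_smul (U := ⊤) ((Scheme.Modules.pushforward f).obj F) y trivial r m }
  have hloc := QS.isLocalizedModule_germ (isAffineOpen_top Y)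
    ((Scheme.Modules.pushforward f).obj F) y trivial hsmul lin (fun _ => rfl)
  letI := TopCat.Presheaf.algebra_section_stalk Y.presheaf (⟨y, trivial⟩ : (⊤ : Y.Opens))
  haveI hO := (isAffineOpen_top Y).isLocalization_stalk ⟨y, trivial⟩
  let e : Y.presheaf.stalk y ≃ₐ[Γ(Y, ⊤)] Γ(Spec (CommRingCat.of A), ⊤) :=
    AlgEquiv.ofRingEquiv (f := (τe y ρ).symm) (fun r => by
      rw [RingEquiv.symm_apply_eq, τe_apply]
      exact (τ_φ₂ y ρ jj hjj r).symm)
  haveI : IsLocalization ((isAffineOpen_top Y).primeIdealOf ⟨y, trivial⟩).asIdeal.primeCompl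
      Γ(Spec (CommRingCat.of A), ⊤) :=
    IsLocalization.isLocalization_of_algEquiv _ e
  exact ⟨lin, fun _ => rfl, IsLocalizedModule.isBaseChange
    ((isAffineOpen_top Y).primeIdealOf ⟨y, trivial⟩).asIdeal.primeCompl
    Γ(Spec (CommRingCat.of A), ⊤) lin⟩

end Germ

section Pull

variable [Flat jj] (hsq : IsPullback g₁ (st (X₁ := X₁) (A := A)) f jj)
  (F : X.Modules)

/-- global sections of `g₁^* F` as a `Γ(Spec A, ⊤)`-module -/
@[reducible] def pbModule :
    Module Γ(Spec (CommRingCat.of A), ⊤) Γ((Scheme.Modules.pullback g₁).obj F, ⊤) :=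
  Module.compHom _ (st (X₁ := X₁) (A := A)).appTop.hom

include hsq in
/-- the unit on global sections is a base change along `φ₂`. -/
theorem isBCHom_unit [F.IsQuasicoherent] [QuasiCompact f] [QuasiSeparated f] :
    letI := pbModule (X₁ := X₁) (A := A) g₁ F
    IsBCHom (φ₂ jj) (fun m : Γ((Scheme.Modules.pushforward f).obj F, ⊤) =>
      unitSec g₁ F ⊤ ⊤ (fun _ _ => trivial) (show Γ(F, ⊤) from m)) := by
  letI := pbModule (X₁ := X₁) (A := A) g₁ F
  haveI : CompactSpace X := QuasiCompact.compactSpace_of_compactSpace f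
  haveI : QuasiSeparatedSpace X := quasiSeparatedSpace_of_quasiSeparated f
  have hV'V : (⊤ : (Spec (CommRingCat.of A)).Opens) ≤ jj ⁻¹ᵁ ⊤ := fun _ _ => trivial
  have hW : (⊤ : X.Opens) ≤ f ⁻¹ᵁ ⊤ := fun _ _ => trivial
  have hc : IsCompact ((⊤ : X.Opens) : Set X) := by
    rw [Opens.coe_top]; exact isCompact_univ
  have hqs : IsQuasiSeparated ((⊤ : X.Opens) : Set X) := by
    rw [Opens.coe_top]; exact isQuasiSeparated_univ
  have h0 := isBCHom_cmp_of_qcqs hsq F hV'V (isAffineOpen_top _) (isAffineOpen_top _) hW hc hqs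
  have hup : up g₁ (st (X₁ := X₁) (A := A)) ⊤ ⊤ = ⊤ := by
    rw [eq_top_iff]
    intro x _
    exact ⟨trivial, trivial⟩
  have h1 : (⊤ : X₁.Opens) ≤ g₁ ⁻¹ᵁ ⊤ := fun _ _ => trivial
  have h2 : (⊤ : X₁.Opens) ≤ (st (X₁ := X₁) (A := A)) ⁻¹ᵁ ⊤ := fun _ _ => trivial
  have h3 := isBCHom_cmp_transport F hW hV'V hup h1 h2 h0
  have h4 := IsBCHom.transfer h3
    (M₂ := Γ((Scheme.Modules.pushforward f).obj F, ⊤))
    (N₂ := Γ((Scheme.Modules.pullback g₁).obj F, ⊤))
    (AddEquiv.refl _)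
    (fun r m => by
      show (f.app ⊤).hom r • (show Γ(F, f ⁻¹ᵁ ⊤) from m) =
        (f.appLE ⊤ (f ⁻¹ᵁ ⊤) le_rfl).hom r • (show Γ(F, f ⁻¹ᵁ ⊤) from m)
      rw [Scheme.Hom.app_eq_appLE])
    (AddEquiv.refl _)
    (fun r m => by
      show ((st (X₁ := X₁) (A := A)).appLE ⊤ ⊤ h2).hom r •
          (show Γ((Scheme.Modules.pullback g₁).obj F, ⊤) from m) =
        (st (X₁ := X₁) (A := A)).appTop.hom r •
          (show Γ((Scheme.Modules.pullback g₁).obj F, ⊤) from m)
      rw [appLE_top_top])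
  refine (h4.of_eq ?_).congr (fun m => rfl)
  rw [appLE_top_top]

end Pull

section E0

variable [Flat jj] (hsq : IsPullback g₁ (st (X₁ := X₁) (A := A)) f jj)
  (F : X.Modules)

include hjj hsq in
/-- **degree zero**: `(f_* F)_y ≃ H⁰(X₁, g₁^* F)`, `ρ`-semilinear, sending the germ of a global
section to the class of its pullback. -/
theorem exists_e0 [F.IsQuasicoherent] [QuasiCompact f] [QuasiSeparated f] :
    ∃ e : St f y F ≃+ Coh.HH X₁ ((Scheme.Modules.pullback g₁).obj F) 0,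
      (∀ (c : Y.presheaf.stalk y) (x : St f y F), e (c • x) = ρ c • e x) ∧
      (∀ m : Γ((Scheme.Modules.pushforward f).obj F, ⊤),
        e (((Scheme.Modules.pushforward f).obj F).presheaf.germ ⊤ y trivial m) =
          (H0equiv ((Scheme.Modules.pullback g₁).obj F)).symm
            (unitSec g₁ F ⊤ ⊤ (fun _ _ => trivial) (show Γ(F, ⊤) from m))) := by
  letI := stModule f y ρ F
  letI := pbModule (X₁ := X₁) (A := A) g₁ F
  have h₁ := isBCHom_germ f y ρ jj hjj F
  have h₂ := isBCHom_unit f g₁ jj hsq F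
  letI := (φ₂ jj).toAlgebra
  letI : Module Γ(Y, ⊤) (St f y F) := Module.compHom (St f y F) (φ₂ jj)
  haveI : IsScalarTower Γ(Y, ⊤) Γ(Spec (CommRingCat.of A), ⊤) (St f y F) :=
    IsScalarTower.of_algebraMap_smul fun _ _ => rfl
  letI : Module Γ(Y, ⊤) Γ((Scheme.Modules.pullback g₁).obj F, ⊤) :=
    Module.compHom _ (φ₂ jj)
  haveI : IsScalarTower Γ(Y, ⊤) Γ(Spec (CommRingCat.of A), ⊤)
      Γ((Scheme.Modules.pullback g₁).obj F, ⊤) :=
    IsScalarTower.of_algebraMap_smul fun _ _ => rfl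
  obtain ⟨l₁, hl₁, hb₁⟩ := h₁
  obtain ⟨l₂, hl₂, hb₂⟩ := h₂
  let e' : St f y F ≃ₗ[Γ(Spec (CommRingCat.of A), ⊤)]
      Γ((Scheme.Modules.pullback g₁).obj F, ⊤) := hb₁.equiv.symm ≪≫ₗ hb₂.equiv
  have he' : ∀ m, e' (l₁ m) = l₂ m := by
    intro m
    change hb₂.equiv (hb₁.equiv.symm (l₁ m)) = l₂ m
    rw [hb₁.equiv_symm_apply, hb₂.equiv_tmul, one_smul]
  refine ⟨e'.toAddEquiv.trans
    (H0equiv ((Scheme.Modules.pullback g₁).obj F)).symm.toAddEquiv, ?_, ?_⟩
  · intro c x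
    have hc : c • x = ((τe y ρ).symm c) • x := by
      change c • x = τ y ρ ((τe y ρ).symm c) • x
      rw [← τe_apply, RingEquiv.apply_symm_apply]
    change (H0equiv ((Scheme.Modules.pullback g₁).obj F)).symm (e' (c • x)) =
      ρ c • (H0equiv ((Scheme.Modules.pullback g₁).obj F)).symm (e' x)
    rw [hc, e'.map_smul]
    exact LinearEquiv.map_smul (H0equiv ((Scheme.Modules.pullback g₁).obj F)).symm
      ((st (X₁ := X₁) (A := A)).appTop.hom ((τe y ρ).symm c)) (e' x)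
  · intro m
    have h1 : l₁ m = ((Scheme.Modules.pushforward f).obj F).presheaf.germ ⊤ y trivial m := hl₁ m
    change (H0equiv ((Scheme.Modules.pullback g₁).obj F)).symm (e' _) = _
    rw [← h1, he']
    exact congrArg _ (hl₂ m)

end E0

end Groth.Agent.Lib.Helper13.StalkFBC0
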