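import Groth.Agent.Lib.Helper13.StalkFBC0
import Groth.Agent.Lib.Helper13.StalkFBCT
import Groth.Agent.Lib.Helper23.FBC5
import Groth.Agent.Lib.Helper13.EdgeInIso
import Groth.Agent.Lib.Helper2.RpushCompare
import Groth.Agent.S0028

/-!
# The stalk form of flat base change over an affine base (helper13)

`Y` affine, `f : X ⟶ Y` quasi-compact and separated, `y : Y`, `ρ : O_{Y,y} ≃+* A`,
`X₁ = X ×_Y Spec A`: for quasi-coherent `F` on `X`, `(R^p f_* F)_y ≃ H^p(X₁, g₁^* F)`,
`A`-linearly, by dimension shifting along `0 → F → ⨁ j_* j^* F → Q → 0`.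
-/

set_option autoImplicit false
set_option linter.style.haveILetI false
universe u
open CategoryTheory CategoryTheory.Limits Opposite TopologicalSpace AlgebraicGeometry
open Scheme.Modules TensorProduct

noncomputable section

namespace Groth.Agent.Lib.Helper13.StalkFBC1

open Groth.Agent.Lib.Helper23.T2 Groth.Agent.Lib.Helper23.FBC Groth.Agent.Lib.Helper3
  Groth.Agent.Lib.Helper3.QCSec Groth.Agent.Lib.Helper3.InvGen Groth.Agent.Lib.Helper17.UnitBC
  Groth.Agent.Lib.Helper13.StalkFBC0 Groth.Agent.Lib.Helper13.StalkFBCT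
  Groth.Agent.Lib.Helper2

/-! ### algebra -/

section Coker

variable {R : Type*} [CommRing R]
variable {A B C A' B' C' : Type*} [AddCommGroup A] [Module R A] [AddCommGroup B] [Module R B]
  [AddCommGroup C] [Module R C] [AddCommGroup A'] [Module R A'] [AddCommGroup B'] [Module R B']
  [AddCommGroup C'] [Module R C']

/-- comparison of cokernels -/
theorem nonempty_coker_equiv (a : A →ₗ[R] B) (δ : B →ₗ[R] C) (hex : Function.Exact a δ)
    (hsurj : Function.Surjective δ) (a' : A' →ₗ[R] B') (δ' : B' →ₗ[R] C')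
    (hex' : Function.Exact a' δ') (hsurj' : Function.Surjective δ')
    (eA : A ≃ₗ[R] A') (eB : B ≃ₗ[R] B')
    (h : ∀ x : A, eB (a x) = a' (eA x)) :
    Nonempty (C ≃ₗ[R] C') := by
  let e1 : (B ⧸ LinearMap.ker δ) ≃ₗ[R] C := δ.quotKerEquivOfSurjective hsurj
  let e3 : (B' ⧸ LinearMap.ker δ') ≃ₗ[R] C' := δ'.quotKerEquivOfSurjective hsurj'
  have hmap : (LinearMap.ker δ).map (eB : B →ₗ[R] B') = LinearMap.ker δ' := by
    rw [hex.linearMap_ker_eq, hex'.linearMap_ker_eq]
    ext y
    constructor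
    · rintro ⟨_, ⟨t, rfl⟩, rfl⟩
      exact ⟨eA t, (h t).symm⟩
    · rintro ⟨z, rfl⟩
      refine ⟨a (eA.symm z), ⟨_, rfl⟩, ?_⟩
      change eB (a (eA.symm z)) = a' z
      rw [h, LinearEquiv.apply_symm_apply]
  let e2 := Submodule.Quotient.equiv (LinearMap.ker δ) (LinearMap.ker δ') eB hmap
  exact ⟨e1.symm ≪≫ₗ e2 ≪≫ₗ e3⟩

end Coker

/-! ### vanishing of the higher direct images of the effacement -/

section Vanish

theorem isZero_map_biproduct {C D : Type*} [Category C] [Preadditive C] [Category D]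
    [Preadditive D] (Φ : C ⥤ D) [Φ.Additive] {ι : Type*} [Fintype ι] (G : ι → C)
    [HasBiproduct G] (h : ∀ i, IsZero (Φ.obj (G i))) : IsZero (Φ.obj (⨁ G)) := by
  classical
  rw [IsZero.iff_id_eq_zero]
  have ht : ∑ i, biproduct.π G i ≫ biproduct.ι G i = 𝟙 (⨁ G) :=
    IsBilimit.total (biproduct.isBilimit G)
  rw [← Φ.map_id, ← ht, Φ.map_sum]
  apply Finset.sum_eq_zero
  intro i _
  rw [Φ.map_comp, (h i).eq_of_src (Φ.map (biproduct.ι G i)) 0, comp_zero]

variable {X Y : Scheme.{u}} (f : X ⟶ Y)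

/-- `R^{q+1} f_* (j_* N) = 0` for `j` an affine open immersion with `j ≫ f` affine. -/
theorem isZero_Rpush_push {U : Scheme.{u}} (j : U ⟶ X) [IsOpenImmersion j] [IsAffineHom j]
    [IsAffineHom (j ≫ f)] (N : U.Modules) [N.IsQuasicoherent] (q : ℕ) :
    IsZero (((Scheme.Modules.pushforward f).rightDerived (q + 1)).obj
      ((Scheme.Modules.pushforward j).obj N)) := by
  have hvan : ∀ n, IsZero (((Scheme.Modules.pushforward j).rightDerived (n + 1)).obj N) := by
    intro n
    exact (RpushCompare.isZero_Rpush_iff j N (n + 1)).2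
      (Groth.Agent.S0028.result j N (n + 1) (Nat.succ_pos n))
  haveI : PreservesFiniteLimits (Scheme.Modules.pushforward j) := by
    have : PreservesLimitsOfSize.{0, 0} (Scheme.Modules.pushforward j) :=
      (Scheme.Modules.pullbackPushforwardAdjunction j).rightAdjoint_preservesLimits
    exact PreservesLimitsOfSize.preservesFiniteLimits _
  haveI := EdgeInIso.isIso_edgeIn (Scheme.Modules.pushforward j) (Scheme.Modules.pushforward f)
    N hvan (q + 1)
  have h0 : IsZero (((Scheme.Modules.pushforward (j ≫ f)).rightDerived (q + 1)).obj N) :=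
    (RpushCompare.isZero_Rpush_iff (j ≫ f) N (q + 1)).2
      (Groth.Agent.S0028.result (j ≫ f) N (q + 1) (Nat.succ_pos q))
  have h1 : IsZero (((Scheme.Modules.pushforward j ⋙
      Scheme.Modules.pushforward f).rightDerived (q + 1)).obj N) :=
    IsZero.of_iso h0 ((RDer.rightDerivedIso (Scheme.Modules.pushforwardComp j f) (q + 1)).app N)
  exact IsZero.of_iso h1 (asIso (RDer.edgeIn (Scheme.Modules.pushforward j)
    (Scheme.Modules.pushforward f) (q + 1) N))

variable {ι : Type u} [Fintype ι] (U : ι → X.Opens)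

theorem isZero_Rpush_Eff [∀ i, IsAffineHom (U i).ι]
    [∀ i, IsAffineHom ((U i).ι ≫ f)] (F : X.Modules) [F.IsQuasicoherent] (q : ℕ) :
    IsZero (((Scheme.Modules.pushforward f).rightDerived (q + 1)).obj (Eff U F)) := by
  haveI : ∀ i, ((Scheme.Modules.restrictFunctor (U i).ι).obj F).IsQuasicoherent :=
    fun i => Scheme.Modules.isQuasicoherent_restrictFunctor (U i).ι F
  exact isZero_map_biproduct ((Scheme.Modules.pushforward f).rightDerived (q + 1))
    (fun i => PR (U i) F) (fun i => isZero_Rpush_push f (U i).ι _ q)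

end Vanish

/-! ### naturality in degree zero -/

section Nat

variable {X Y X₁ : Scheme.{u}} (f : X ⟶ Y) [IsAffine Y] (y : Y) {A : Type u} [CommRing A]
  (ρ : Y.presheaf.stalk y ≃+* A)
  [X₁.Over (Spec (CommRingCat.of A))] (g₁ : X₁ ⟶ X) (jj : Spec (CommRingCat.of A) ⟶ Y)
  (hjj : jj = Spec.map (CommRingCat.ofHom ρ.toRingHom) ≫ Y.fromSpecStalk y)

/-- the map on stalks `(f_* F)_y → (f_* G)_y` -/
def stMap {F G : X.Modules} (φ : F ⟶ G) : St f y F →+ St f y G :=
  AddMonoidHom.mk' (fun x => ((Stk.Φ y).map ((Scheme.Modules.pushforward f).map φ)).hom x)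
    (fun a b => map_add ((Stk.Φ y).map ((Scheme.Modules.pushforward f).map φ)).hom a b)

theorem stMap_apply {F G : X.Modules} (φ : F ⟶ G) (x : St f y F) :
    stMap f y φ x = ((Stk.Φ y).map ((Scheme.Modules.pushforward f).map φ)).hom x := rfl

theorem stMap_germ {F G : X.Modules} (φ : F ⟶ G)
    (m : Γ((Scheme.Modules.pushforward f).obj F, ⊤)) :
    stMap f y φ (((Scheme.Modules.pushforward f).obj F).presheaf.germ ⊤ y trivial m) =
      ((Scheme.Modules.pushforward f).obj G).presheaf.germ ⊤ y trivial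
        (((Scheme.Modules.pushforward f).map φ).app ⊤ m) :=
  DerSch.stalkFunctor_map_germ y ((Scheme.Modules.pushforward f).map φ) ⊤ trivial m

theorem stMap_smul {F G : X.Modules} (φ : F ⟶ G) (c : Y.presheaf.stalk y) (x : St f y F) :
    stMap f y φ (c • x) = c • stMap f y φ x :=
  LinearMap.map_smul ((Stk.Φ y).map ((Scheme.Modules.pushforward f).map φ)).hom c x

include hjj in
/-- two degree-zero comparison maps normalised on germs of global sections commute with the maps
induced by a morphism of modules. -/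
theorem e0_natural [QuasiCompact f] [QuasiSeparated f] {F G : X.Modules} [F.IsQuasicoherent]
    [G.IsQuasicoherent] (φ : F ⟶ G)
    (eF : St f y F ≃+ Coh.HH X₁ ((Scheme.Modules.pullback g₁).obj F) 0)
    (hF1 : ∀ (c : Y.presheaf.stalk y) (x : St f y F), eF (c • x) = ρ c • eF x)
    (hF2 : ∀ m : Γ((Scheme.Modules.pushforward f).obj F, ⊤),
      eF (((Scheme.Modules.pushforward f).obj F).presheaf.germ ⊤ y trivial m) =
        (H0equiv ((Scheme.Modules.pullback g₁).obj F)).symm
          (unitSec g₁ F ⊤ ⊤ (fun _ _ => trivial) (show Γ(F, ⊤) from m)))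
    (eG : St f y G ≃+ Coh.HH X₁ ((Scheme.Modules.pullback g₁).obj G) 0)
    (hG1 : ∀ (c : Y.presheaf.stalk y) (x : St f y G), eG (c • x) = ρ c • eG x)
    (hG2 : ∀ m : Γ((Scheme.Modules.pushforward f).obj G, ⊤),
      eG (((Scheme.Modules.pushforward f).obj G).presheaf.germ ⊤ y trivial m) =
        (H0equiv ((Scheme.Modules.pullback g₁).obj G)).symm
          (unitSec g₁ G ⊤ ⊤ (fun _ _ => trivial) (show Γ(G, ⊤) from m)))
    (x : St f y F) :
    eG (stMap f y φ x) = Hmap ((Scheme.Modules.pullback g₁).map φ) 0 (eF x) := by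
  letI := stModule f y ρ F
  have hbc := isBCHom_germ f y ρ jj hjj F
  refine hbc.induction
    (fun x => eG (stMap f y φ x) = Hmap ((Scheme.Modules.pullback g₁).map φ) 0 (eF x))
    ?_ ?_ ?_ ?_ x
  · change eG (stMap f y φ 0) = Hmap ((Scheme.Modules.pullback g₁).map φ) 0 (eF 0)
    rw [map_zero, map_zero, map_zero, map_zero]
  · intro m
    change eG (stMap f y φ
      (((Scheme.Modules.pushforward f).obj F).presheaf.germ ⊤ y trivial m)) =
      Hmap ((Scheme.Modules.pullback g₁).map φ) 0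
        (eF (((Scheme.Modules.pushforward f).obj F).presheaf.germ ⊤ y trivial m))
    rw [hF2, H0equiv_symm_naturality, stMap_germ, hG2]
    congr 1
    exact (unitSec_app g₁ φ ⊤ ⊤ (fun _ _ => trivial) _).symm
  · intro s n hn
    change eG (stMap f y φ (τ y ρ s • n)) =
      Hmap ((Scheme.Modules.pullback g₁).map φ) 0 (eF (τ y ρ s • n))
    rw [hF1, stMap_smul, hG1, hn]
    exact ((HmapK A ((Scheme.Modules.pullback g₁).map φ) 0).map_smul (ρ (τ y ρ s)) (eF n)).symm
  · intro n₁ n₂ h₁ h₂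
    change eG (stMap f y φ (n₁ + n₂)) =
      Hmap ((Scheme.Modules.pullback g₁).map φ) 0 (eF (n₁ + n₂))
    rw [map_add, map_add, map_add, map_add, h₁, h₂]

end Nat

/-! ### the induction -/

section Main

variable {X Y X₁ : Scheme.{u}} (f : X ⟶ Y) [IsAffine Y] (y : Y) {A : Type u} [CommRing A]
  (ρ : Y.presheaf.stalk y ≃+* A)
  [X₁.Over (Spec (CommRingCat.of A))] (g₁ : X₁ ⟶ X) (jj : Spec (CommRingCat.of A) ⟶ Y)
  (hjj : jj = Spec.map (CommRingCat.ofHom ρ.toRingHom) ≫ Y.fromSpecStalk y)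
  [Flat jj] (hsq : IsPullback g₁ (st (X₁ := X₁) (A := A)) f jj)
  [QuasiCompact f] [QuasiSeparated f]

/-- `A → O_{Y,y}` -/
abbrev ρs : A →+* Y.presheaf.stalk y := ρ.symm.toRingHom

include hjj hsq in
/-- compatible degree zero comparisons for the source and target of a morphism -/
theorem exists_pair {F G : X.Modules} [F.IsQuasicoherent] [G.IsQuasicoherent] (φ : F ⟶ G) :
    ∃ (eF : T f y (ρs y ρ) 0 F ≃ₗ[A] Coh.HH X₁ ((Scheme.Modules.pullback g₁).obj F) 0)
      (eG : T f y (ρs y ρ) 0 G ≃ₗ[A] Coh.HH X₁ ((Scheme.Modules.pullback g₁).obj G) 0),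
      ∀ x, eG ((((GamA f y (ρs y ρ)).rightDerived 0).map φ).hom x) =
        HmapK A ((Scheme.Modules.pullback g₁).map φ) 0 (eF x) := by
  obtain ⟨e0F, hF1, hF2⟩ := exists_e0 f y ρ g₁ jj hjj hsq F
  obtain ⟨e0G, hG1, hG2⟩ := exists_e0 f y ρ g₁ jj hjj hsq G
  let aF : ↑((GamA f y (ρs y ρ)).obj F) ≃+
    Coh.HH X₁ ((Scheme.Modules.pullback g₁).obj F) 0 := e0F
  let aG : ↑((GamA f y (ρs y ρ)).obj G) ≃+
    Coh.HH X₁ ((Scheme.Modules.pullback g₁).obj G) 0 := e0G
  let lF : ↑((GamA f y (ρs y ρ)).obj F) ≃ₗ[A]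
      Coh.HH X₁ ((Scheme.Modules.pullback g₁).obj F) 0 :=
    aF.toLinearEquiv (fun c x => by
      change e0F (ρs y ρ c • (show St f y F from x)) = c • e0F x
      rw [hF1]
      congr 1
      exact ρ.apply_symm_apply c)
  let lG : ↑((GamA f y (ρs y ρ)).obj G) ≃ₗ[A]
      Coh.HH X₁ ((Scheme.Modules.pullback g₁).obj G) 0 :=
    aG.toLinearEquiv (fun c x => by
      change e0G (ρs y ρ c • (show St f y G from x)) = c • e0G x
      rw [hG1]
      congr 1
      exact ρ.apply_symm_apply c)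
  refine ⟨((T0Iso f y (ρs y ρ)).app F).toLinearEquiv ≪≫ₗ lF,
    ((T0Iso f y (ρs y ρ)).app G).toLinearEquiv ≪≫ₗ lG, fun x => ?_⟩
  have hnat := (T0Iso f y (ρs y ρ)).hom.naturality φ
  have h1 : ((T0Iso f y (ρs y ρ)).hom.app G).hom
      ((((GamA f y (ρs y ρ)).rightDerived 0).map φ).hom x) =
      ((GamA f y (ρs y ρ)).map φ).hom (((T0Iso f y (ρs y ρ)).hom.app F).hom x) :=
    congrArg (fun ψ => ψ.hom x) hnat
  change e0G (((T0Iso f y (ρs y ρ)).hom.app G).hom
      ((((GamA f y (ρs y ρ)).rightDerived 0).map φ).hom x)) =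
    Hmap ((Scheme.Modules.pullback g₁).map φ) 0
      (e0F (((T0Iso f y (ρs y ρ)).hom.app F).hom x))
  rw [h1]
  exact e0_natural f y ρ g₁ jj hjj φ e0F hF1 hF2 e0G hG1 hG2
    (((T0Iso f y (ρs y ρ)).hom.app F).hom x)

include hjj hsq in
/-- **Stalk form of flat base change** (affine base): `(R^p f_* F)_y ≃ H^p(X₁, g₁^* F)`. -/
theorem nonempty_T_equiv [IsSeparated f] : ∀ (p : ℕ) (F : X.Modules) [F.IsQuasicoherent],
    Nonempty (T f y (ρs y ρ) p F ≃ₗ[A] Coh.HH X₁ ((Scheme.Modules.pullback g₁).obj F) p) := by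
  haveI : CompactSpace X := QuasiCompact.compactSpace_of_compactSpace f
  haveI : QuasiSeparatedSpace X := quasiSeparatedSpace_of_quasiSeparated f
  haveI : Flat g₁ := MorphismProperty.of_isPullback hsq.flip ‹Flat jj›
  haveI hjaff : IsAffineHom jj := inferInstance
  haveI : IsAffineHom g₁ := MorphismProperty.of_isPullback hsq.flip hjaff
  obtain ⟨ι, _, U, hU, hcov⟩ := exists_finite_affine_cover X
  haveI : ∀ i, IsAffineHom ((U i).ι ≫ f) := fun i => by
    haveI : IsAffine (U i : Scheme.{u}) := hU i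
    infer_instance
  haveI : ∀ i, IsAffineHom (U i).ι := fun i => IsAffineHom.of_comp (U i).ι f
  -- the step data for a quasi-coherent module
  have hstep : ∀ (F : X.Modules) [F.IsQuasicoherent],
      (cokernel (effMap U F)).IsQuasicoherent ∧
      (∀ p, IsZero (T f y (ρs y ρ) (p + 1) (Eff U F))) ∧
      (∀ p, Subsingleton (Coh.HH X₁ ((Scheme.Modules.pullback g₁).obj (Eff U F)) (p + 1))) := by
    intro F _
    haveI := isQuasicoherent_Eff U F
    exact ⟨QCProps.isQuasicoherent_cokernel _,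
      fun p => isZero_T f y (ρs y ρ) (p + 1) (Eff U F) (isZero_Rpush_Eff f U F p),
      fun p => subsingleton_HH_pullback_Eff g₁ U hU F p⟩
  intro p
  induction p with
  | zero =>
    intro F _
    obtain ⟨e, -, -⟩ := exists_pair f y ρ g₁ jj hjj hsq (𝟙 F)
    exact ⟨e⟩
  | succ p ih =>
    intro F _
    obtain ⟨hQ, hG, hG'⟩ := hstep F
    haveI := hQ
    haveI := isQuasicoherent_Eff U F
    have hS := effSC_shortExact U hcov F
    have hS' := shortExact_pullback g₁ (effSC U F) hS
    rcases p with _ | p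
    · -- degree one: cokernels
      obtain ⟨eA, eB, hAB⟩ := exists_pair f y ρ g₁ jj hjj hsq (effSC U F).g
      exact nonempty_coker_equiv
        (((GamA f y (ρs y ρ)).rightDerived 0).map (effSC U F).g).hom
        ((les f y (ρs y ρ)).δ (effSC U F) hS 0 1 rfl).hom
        (exact_T0 (effSC U F) hS) (surjective_δ0 (effSC U F) hS (hG 0))
        (HmapK A ((effSC U F).map (Scheme.Modules.pullback g₁)).g 0)
        (HδK A ((effSC U F).map (Scheme.Modules.pullback g₁)) hS' 0)
        (exact_Hmap_Hδ A _ hS' 0) (surjective_Hδ A _ hS' 0 (hG' 0)) eA eB hAB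
    · -- higher degrees: dimension shifting
      obtain ⟨e0⟩ := ih (cokernel (effMap U F))
      obtain ⟨e1⟩ := nonempty_T_succ_iso (f := f) (y := y) (ρs := ρs y ρ) (effSC U F) hS (p + 1)
        (hG p) (hG (p + 1))
      have hb' := bijective_Hδ ((effSC U F).map (Scheme.Modules.pullback g₁)) hS' (p + 1)
        (hG' p) (hG' (p + 1))
      let e2 : Coh.HH X₁ ((Scheme.Modules.pullback g₁).obj (cokernel (effMap U F))) (p + 1) ≃ₗ[A]
          Coh.HH X₁ ((Scheme.Modules.pullback g₁).obj F) (p + 1 + 1) :=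
        LinearEquiv.ofBijective
          (HδK A ((effSC U F).map (Scheme.Modules.pullback g₁)) hS' (p + 1)) hb'
      exact ⟨e1.symm.toLinearEquiv ≪≫ₗ e0 ≪≫ₗ e2⟩

include hjj hsq in
/-- **Stalk form of flat base change** (affine base), in terms of the stalk of `R^p f_* F`. -/
theorem exists_stalk_equiv [IsSeparated f] (p : ℕ) (F : X.Modules) [F.IsQuasicoherent] :
    ∃ e : ((((Scheme.Modules.pushforward f).rightDerived p).obj F).presheaf.stalk y) ≃+
        Coh.HH X₁ ((Scheme.Modules.pullback g₁).obj F) p,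
      ∀ (c : Y.presheaf.stalk y)
        (x : (((Scheme.Modules.pushforward f).rightDerived p).obj F).presheaf.stalk y),
        e (c • x) = ρ c • e x := by
  obtain ⟨eT⟩ := nonempty_T_equiv f y ρ g₁ jj hjj hsq p F
  let l : ↑((E y (ρs y ρ)).obj (((Scheme.Modules.pushforward f).rightDerived p).obj F)) ≃ₗ[A]
      Coh.HH X₁ ((Scheme.Modules.pullback g₁).obj F) p :=
    (TIso f y (ρs y ρ) p F).symm.toLinearEquiv ≪≫ₗ eT
  let a : ((((Scheme.Modules.pushforward f).rightDerived p).obj F).presheaf.stalk y) ≃+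
      Coh.HH X₁ ((Scheme.Modules.pullback g₁).obj F) p := l.toAddEquiv
  refine ⟨a, fun c x => ?_⟩
  have h := l.map_smul (ρ c) x
  have hc : ρs y ρ (ρ c) = c := ρ.symm_apply_apply c
  change l (c • x) = ρ c • l x
  rw [← h]
  congr 1
  change c • x = ρs y ρ (ρ c) • x
  rw [hc]

end Main

end Groth.Agent.Lib.Helper13.StalkFBC1
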