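import Groth.Agent.Lib.Helper13.EtaleRestr
import Groth.Agent.Lib.Helper13.StalkConservative
import Mathlib.CategoryTheory.Sites.Point.Comap
import Mathlib.CategoryTheory.Sites.Point.Category

/-!
# Helper13: stalks of inverse images, of restrictions and (vanishing of) stalks of `j_!`

* `stalkPullIso f ξ : EtCoh.pull f ⋙ EtCoh.stalk ξ ≅ EtCoh.stalk (ξ ≫ f)` (natural; the construction
  is helper1's from S0100, kept as a natural isomorphism of functors);
* `stalkRestrIso j u : EtShriek.restrAlong j ⋙ EtCoh.stalk u ≅ EtCoh.stalk (u ≫ j)` for etale `j`;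
* `isZero_stalk_extZero`: the stalk of `j_! H` vanishes at geometric points not factoring through `j`.
-/

set_option autoImplicit false
open CategoryTheory CategoryTheory.Limits AlgebraicGeometry Opposite

namespace Groth.Agent.Lib.Helper13.StalkPull

universe w v₁ u₁ u

/-- An isomorphism of type-valued functors induces an equivalence of categories of elements. -/
def elementsEquivOfIso {C : Type u₁} [Category.{v₁} C] {F₁ F₂ : C ⥤ Type w} (e : F₁ ≅ F₂) :
    F₁.Elements ≌ F₂.Elements :=
  CategoryTheory.Equivalence.mk (CategoryOfElements.map e.hom) (CategoryOfElements.map e.inv)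
    (NatIso.ofComponents (fun x => CategoryOfElements.isoMk _ _ (Iso.refl _) (by
        have h : (e.inv.app x.fst) ((e.hom.app x.fst) x.snd) = x.snd := by
          rw [← NatTrans.comp_app_apply, e.hom_inv_id]; rfl
        exact (Functor.map_id_apply F₁ x.fst x.snd).trans h.symm))
      (by intro x y g; apply CategoryOfElements.ext
          exact (Category.comp_id _).trans (Category.id_comp _).symm))
    (NatIso.ofComponents (fun x => CategoryOfElements.isoMk _ _ (Iso.refl _) (by
        have h : (e.hom.app x.fst) ((e.inv.app x.fst) x.snd) = x.snd := by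
          rw [← NatTrans.comp_app_apply, e.inv_hom_id]; rfl
        exact (Functor.map_id_apply F₂ x.fst _).trans h))
      (by intro x y g; apply CategoryOfElements.ext
          exact (Category.comp_id _).trans (Category.id_comp _).symm))

/-- The fiber functor of the geometric point `ξ ≫ f` of `Y` is the composition of base change
with the fiber functor of `ξ`. -/
noncomputable def fiberIso {X Y : Scheme.{u}} (f : X ⟶ Y)
    {Ω : Type u} [Field Ω] [IsSepClosed Ω] (ξ : Spec (CommRingCat.of Ω) ⟶ X) :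
    EtCoh.bc f ⋙ (Scheme.pointSmallEtale ξ).fiber ≅ (Scheme.pointSmallEtale (ξ ≫ f)).fiber :=
  Functor.isoWhiskerRight
      (MorphismProperty.Over.pullbackCompForgetIso (P := EtCoh.etaleMP) (Q := ⊤) f)
      (coyoneda.obj (op (Over.mk ξ))) ≪≫
    Functor.isoWhiskerLeft (Scheme.Etale.forget Y)
      ((Adjunction.compCoyonedaIso (Over.mapPullbackAdj f)).app (op (Over.mk ξ))).symm

/-- The stalk of the inverse image at `ξ` is the stalk at `ξ ≫ f`, naturally. -/
noncomputable def stalkPullIso {X Y : Scheme.{u}} (f : X ⟶ Y)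
    {Ω : Type u} [Field Ω] [IsSepClosed Ω] (ξ : Spec (CommRingCat.of Ω) ⟶ X) :
    EtCoh.pull f ⋙ EtCoh.stalk ξ ≅ EtCoh.stalk (ξ ≫ f) := by
  let Φ := Scheme.pointSmallEtale ξ
  let Ψ := Scheme.pointSmallEtale (ξ ≫ f)
  let α := fiberIso f ξ
  have hsmall : InitiallySmall.{u} (EtCoh.bc f ⋙ Φ.fiber).Elements :=
    initiallySmall_of_initial_of_initiallySmall (elementsEquivOfIso α).inverse
  let Φ' : Y.smallEtaleTopology.Point := Φ.comap (EtCoh.bc f) (EtCoh.coverPreserving_bc f)
  let e : Φ' ≅ Ψ := ⟨⟨α.inv⟩, ⟨α.hom⟩, by ext1; exact α.hom_inv_id, by ext1; exact α.inv_hom_id⟩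
  let e2 : Ψ.sheafFiber (A := AddCommGrpCat.{u+1}) ≅ Φ'.sheafFiber :=
    ⟨e.hom.sheafFiber, e.inv.sheafFiber,
      by rw [← GrothendieckTopology.Point.Hom.sheafFiber_comp, e.inv_hom_id,
        GrothendieckTopology.Point.Hom.sheafFiber_id],
      by rw [← GrothendieckTopology.Point.Hom.sheafFiber_comp, e.hom_inv_id,
        GrothendieckTopology.Point.Hom.sheafFiber_id]⟩
  let e3 := GrothendieckTopology.Point.sheafFiberComapIso Φ (EtCoh.bc f)
    (EtCoh.coverPreserving_bc f) AddCommGrpCat.{u+1}
  exact e3.symm ≪≫ e2.symm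

open Groth.Agent.Lib.Helper13.EtaleRestr Groth.Agent.Lib.Helper13.ExtZeroExact

/-- The stalk of the restriction to an etale `U → X` at `u` is the stalk at `u ≫ j`, naturally. -/
noncomputable def stalkRestrIso {U X : Scheme.{u}} (j : U ⟶ X) [AlgebraicGeometry.Etale j]
    {Ω : Type u} [Field Ω] [IsSepClosed Ω] (ξ : Spec (CommRingCat.of Ω) ⟶ U) :
    EtShriek.restrAlong j ⋙ EtCoh.stalk ξ ≅ EtCoh.stalk (ξ ≫ j) :=
  Functor.isoWhiskerRight (pullIsoRestr j).symm (EtCoh.stalk ξ) ≪≫ stalkPullIso j ξ

/-- The skyscraper sheaf at `ξ` restricts to zero on an etale `U → X` through which `ξ` does not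
factor. -/
lemma isZero_restr_skyscraper {U X : Scheme.{u}} (j : U ⟶ X) [AlgebraicGeometry.Etale j]
    {Ω : Type u} [Field Ω] [IsSepClosed Ω] (ξ : Spec (CommRingCat.of Ω) ⟶ X)
    (hξ : IsEmpty {v : Spec (CommRingCat.of Ω) ⟶ U // v ≫ j = ξ}) (A : AddCommGrpCat.{u + 1}) :
    IsZero ((EtShriek.restrAlong j).obj
      ((Scheme.pointSmallEtale ξ).skyscraperSheafFunctor.obj A)) := by
  rw [IsZero.iff_id_eq_zero]
  apply ObjectProperty.hom_ext
  ext V : 2
  have hV : IsEmpty ((Scheme.pointSmallEtale ξ).fiber.obj ((EtShriek.compEtale j).obj V.unop)) := by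
    constructor
    intro t
    refine hξ.false ⟨t.left ≫ V.unop.hom, ?_⟩
    have := Over.w t
    simpa using this
  apply Pi.hom_ext
  intro i
  exact hV.elim i

/-- The stalk of `j_! H` vanishes at geometric points which do not factor through `j`. -/
theorem isZero_stalk_extZero {U X : Scheme.{u}} (j : U ⟶ X) [AlgebraicGeometry.Etale j]
    {Ω : Type u} [Field Ω] [IsSepClosed Ω] (ξ : Spec (CommRingCat.of Ω) ⟶ X)
    (hξ : IsEmpty {v : Spec (CommRingCat.of Ω) ⟶ U // v ≫ j = ξ}) (H : EtCoh.Ab U) :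
    IsZero ((EtCoh.stalk ξ).obj ((EtShriek.extZero j).obj H)) := by
  let adj := (EtShriek.extZeroAdj j).comp
    ((Scheme.pointSmallEtale ξ).skyscraperSheafAdjunction (A := AddCommGrpCat.{u + 1}))
  rw [IsZero.iff_id_eq_zero]
  apply (adj.homEquiv H _).injective
  exact (isZero_restr_skyscraper j ξ hξ _).eq_of_tgt _ _

end Groth.Agent.Lib.Helper13.StalkPull
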