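import Mathlib
import Groth.Prelude
import Groth.Agent.Lib.Helper13.SteinEtMain

/-!
# Universal base change of global sections for proper flat geometrically reduced families
(helper13)
-/

set_option autoImplicit false
set_option linter.style.haveILetI false
universe u
open CategoryTheory CategoryTheory.Limits AlgebraicGeometry TopologicalSpace Opposite TensorProduct

namespace Groth.Agent.Lib.Helper13.SteinEtPO

open Groth.Agent.Lib.Helper12.GeomRedGen Groth.Agent.Lib.Helper13.SteinEtMain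

/-- global sections of `f` commute with every base change to an affine scheme. -/
def UnivPO {X S : Scheme.{u}} (f : X ⟶ S) : Prop :=
  ∀ {T X' : Scheme.{u}} [IsAffine T] (g : T ⟶ S) (f' : X' ⟶ T) (g' : X' ⟶ X),
    IsPullback g' f' f g → IsPushout f.appTop g.appTop g'.appTop f'.appTop

lemma UnivPO.of_isPullback {X S X₁ S₁ : Scheme.{u}} {f : X ⟶ S} (h : UnivPO f) [IsAffine S₁]
    {f₁ : X₁ ⟶ S₁} {g₁ : S₁ ⟶ S} {g₁' : X₁ ⟶ X} (sq : IsPullback g₁' f₁ f g₁) : UnivPO f₁ := by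
  intro T X' _ g f' g' hsq
  have big : IsPullback (g' ≫ g₁') f' f (g ≫ g₁) := hsq.paste_horiz sq
  have hbig := h (g ≫ g₁) f' (g' ≫ g₁') big
  have hleft := h g₁ f₁ g₁' sq
  rw [Scheme.Hom.comp_appTop, Scheme.Hom.comp_appTop] at hbig
  have hw : g.appTop ≫ f'.appTop = f₁.appTop ≫ g'.appTop := by
    rw [← Scheme.Hom.comp_appTop, ← Scheme.Hom.comp_appTop, hsq.w]
  exact (IsPushout.of_left hbig.flip hw hleft.flip).flip

/-- **Noetherian local statement with universal base change.** -/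
theorem noeth_local_po {X₀ S₀ : Scheme.{u}} (f₀ : X₀ ⟶ S₀) [IsLocallyNoetherian S₀] [IsProper f₀]
    [Flat f₀] [LocallyOfFinitePresentation f₀] (y₀ : S₀) (hy₀ : y₀ ∈ E f₀) :
    ∃ V₀ : S₀.Opens, y₀ ∈ V₀ ∧
      ∀ {T X' : Scheme.{u}} [IsAffine T] (g : T ⟶ S₀) (f' : X' ⟶ T) (g' : X' ⟶ X₀),
        IsPullback g' f' f₀ g → Set.range g ⊆ (V₀ : Set S₀) →
          f'.appTop.hom.Etale ∧
          FreeRank (Module.finrank (S₀.residueField y₀) Γ(f₀.fiber y₀, ⊤)) f'.appTop ∧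
          UnivPO f' := by
  classical
  have het := etale_fiber_of_mem_E f₀ y₀ hy₀
  have hEo : IsOpen (E f₀) := Groth.Agent.Lib.Helper12.GeomRedOpen.isOpen_E f₀
  obtain ⟨n, hn⟩ : ∃ n : ℕ, n = CohIII.fiberRank f₀ (Coh.structureModule X₀) 0 y₀ := ⟨_, rfl⟩
  obtain ⟨U₁, hU₁o, hyU₁, hU₁⟩ :=
    Groth.Agent.Lib.Helper13.H0LocConst.exists_open_const_noeth f₀ y₀ het
  obtain ⟨U₂, hyU₂, ⟨φ⟩⟩ := Groth.Agent.Lib.Helper13.CBCEtStalk.exists_free_nhd f₀ y₀ het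
  rw [← hn] at φ hU₁
  obtain ⟨e, he⟩ := Groth.Agent.Lib.Helper3.FreeBasis.exists_isBasis_of_iso φ
  rw [← Groth.Agent.Lib.Helper13.H0LocConst.fiberRank_eq_finrank, ← hn]
  obtain ⟨_, ⟨V₀', hV₀, rfl⟩, hyV₀, hV₀sub⟩ := S₀.isBasis_affineOpens.exists_subset_of_mem_open
    (show y₀ ∈ (E f₀ ∩ U₁ ∩ (U₂ : Set S₀)) from ⟨⟨hy₀, hyU₁⟩, hyU₂⟩)
    ((hEo.inter hU₁o).inter U₂.2)
  obtain ⟨V₀, rfl⟩ : ∃ V₀ : S₀.Opens, V₀ = V₀' := ⟨V₀', rfl⟩
  refine ⟨V₀, hyV₀, ?_⟩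
  haveI : IsAffine V₀.toScheme := hV₀
  obtain ⟨f₁, hf₁⟩ : ∃ f₁ : (f₀ ⁻¹ᵁ V₀).toScheme ⟶ V₀.toScheme, f₁ = f₀ ∣_ V₀ := ⟨_, rfl⟩
  have sq₁ : IsPullback (f₀ ⁻¹ᵁ V₀).ι f₁ f₀ V₀.ι := by
    rw [hf₁]; exact (isPullback_morphismRestrict f₀ V₀).flip
  haveI : IsProper f₁ := MorphismProperty.of_isPullback (P := @IsProper) sq₁ inferInstance
  haveI : Flat f₁ := MorphismProperty.of_isPullback (P := @Flat) sq₁ inferInstance
  haveI : LocallyOfFinitePresentation f₁ :=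
    MorphismProperty.of_isPullback (P := @LocallyOfFinitePresentation) sq₁ inferInstance
  haveI : GeometricallyReduced f₁ := by
    refine ⟨geometrically_iff_forall_fiberToSpecResidueField.mpr (fun v => ?_)⟩
    have hv : v ∈ E f₁ := (mem_E_pullback sq₁ v).mpr (hV₀sub v.2).1.1
    exact GeometricallyReduced.geometrically_isReduced (self := hv)
  haveI : IsLocallyNoetherian V₀.toScheme := inferInstance
  haveI : IsNoetherianRing Γ(V₀.toScheme, ⊤) :=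
    IsLocallyNoetherian.component_noetherian ⟨⊤, isAffineOpen_top _⟩
  haveI : Nonempty (⊤ : V₀.toScheme.Opens).toScheme := ⟨⟨⟨y₀, hyV₀⟩, trivial⟩⟩
  haveI : Nontrivial Γ(V₀.toScheme, ⊤) := Scheme.component_nontrivial _ ⊤
  -- freeness
  have hle : V₀.ι ''ᵁ ⊤ ≤ U₂ := by
    rw [V₀.ι_image_top]; exact fun x hx => (hV₀sub hx).2
  have hFR0 : FreeRank n (f₀.app (V₀.ι ''ᵁ ⊤)) :=
    freeRank_of_isBasisAt f₀ (V₀.ι ''ᵁ ⊤) _ (he (V₀.ι ''ᵁ ⊤) hle)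
  have hFR1 : FreeRank n f₁.appTop := by
    rw [hf₁, morphismRestrict_appTop]
    haveI : IsIso (X₀.presheaf.map (eqToHom (image_morphismRestrict_preimage f₀ V₀ ⊤)).op) :=
      inferInstance
    exact (freeRank_comp_isIso (f₀.app (V₀.ι ''ᵁ ⊤))
      (X₀.presheaf.map (eqToHom (image_morphismRestrict_preimage f₀ V₀ ⊤)).op)).mpr hFR0
  obtain ⟨b⟩ := hFR1
  letI alg₁ : Algebra Γ(V₀.toScheme, ⊤) Γ((f₀ ⁻¹ᵁ V₀).toScheme, ⊤) := f₁.appTop.hom.toAlgebra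
  have hfree₁ : Module.Free Γ(V₀.toScheme, ⊤) Γ((f₀ ⁻¹ᵁ V₀).toScheme, ⊤) :=
    Module.Free.of_basis b
  have hrk : Module.finrank Γ(V₀.toScheme, ⊤) Γ((f₀ ⁻¹ᵁ V₀).toScheme, ⊤) = n :=
    (Module.finrank_eq_card_basis b).trans (Fintype.card_fin n)
  have hrank₁ : ∀ v : V₀.toScheme,
      Module.finrank (V₀.toScheme.residueField v) Γ(f₁.fiber v, ⊤) =
        Module.finrank Γ(V₀.toScheme, ⊤) Γ((f₀ ⁻¹ᵁ V₀).toScheme, ⊤) := by
    intro v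
    rw [Groth.Agent.Lib.Helper13.CBCUnivG.finrank_fiber_eq_of_isPullback sq₁ v,
      ← Groth.Agent.Lib.Helper13.H0LocConst.fiberRank_eq_finrank,
      hU₁ (V₀.ι v) (hV₀sub v.2).1.2, hrk]
  obtain ⟨het₁, hpo₁⟩ := main' f₁ hfree₁ hrank₁
  have hU1 : UnivPO f₁ := fun g f' g' hsq => hpo₁ g f' g' hsq
  intro T X' _ g f' g' hsq hrange
  have hr1 : Set.range g ⊆ Set.range V₀.ι := by rw [Scheme.Opens.range_ι]; exact hrange
  obtain ⟨g₁, hg₁⟩ : ∃ g₁ : T ⟶ V₀.toScheme, g₁ ≫ V₀.ι = g :=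
    ⟨IsOpenImmersion.lift V₀.ι g hr1, IsOpenImmersion.lift_fac _ _ _⟩
  have hr2 : Set.range g' ⊆ Set.range (f₀ ⁻¹ᵁ V₀).ι := by
    rw [Scheme.Opens.range_ι]
    rintro _ ⟨x, rfl⟩
    show f₀ (g' x) ∈ V₀
    have hx : f₀ (g' x) = g (f' x) := by
      rw [← Scheme.Hom.comp_apply, hsq.w, Scheme.Hom.comp_apply]
    rw [hx]; exact hrange ⟨_, rfl⟩
  obtain ⟨g'₁, hg'₁⟩ : ∃ g'₁ : X' ⟶ (f₀ ⁻¹ᵁ V₀).toScheme, g'₁ ≫ (f₀ ⁻¹ᵁ V₀).ι = g' :=
    ⟨IsOpenImmersion.lift _ g' hr2, IsOpenImmersion.lift_fac _ _ _⟩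
  have hw : g'₁ ≫ f₁ = f' ≫ g₁ := by
    rw [← cancel_mono V₀.ι, Category.assoc, Category.assoc, hg₁, ← sq₁.w, ← Category.assoc,
      hg'₁]
    exact hsq.w
  have sqT : IsPullback g'₁ f' f₁ g₁ := by
    have big : IsPullback (g'₁ ≫ (f₀ ⁻¹ᵁ V₀).ι) f' f₀ (g₁ ≫ V₀.ι) := by
      rw [hg'₁, hg₁]; exact hsq
    exact IsPullback.of_right big hw sq₁
  have hpo := hpo₁ g₁ f' g'₁ sqT
  exact ⟨etale_of_isPushout hpo het₁, FreeRank.of_isPushout hpo ⟨b⟩, hU1.of_isPullback sqT⟩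

/-- **Local structure over an arbitrary base**: near every point of the base, every base change
of `f` to an affine scheme has finite étale free global sections which commute with further
base change. -/
theorem exists_nhd {X S : Scheme.{u}} (f : X ⟶ S) [IsProper f] [Flat f]
    [LocallyOfFinitePresentation f] [GeometricallyReduced f] (s : S) :
    ∃ U₀ : S.Opens, s ∈ U₀ ∧
      ∀ {T X' : Scheme.{u}} [IsAffine T] (g : T ⟶ S) (f' : X' ⟶ T) (g' : X' ⟶ X),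
        IsPullback g' f' f g → Set.range g ⊆ (U₀ : Set S) →
          f'.appTop.hom.Etale ∧
          FreeRank (Module.finrank (S.residueField s) Γ(f.fiber s, ⊤)) f'.appTop ∧
          UnivPO f' := by
  obtain ⟨W, hW, hsW, -⟩ := exists_isAffineOpen_mem_and_subset (x := s) (U := ⊤) trivial
  haveI : IsAffine W.toScheme := hW
  obtain ⟨S₀, X₀, f₀, γ, γ', hS₀a, hS₀n, hsq, hfl, hpr, hfp⟩ :=
    Groth.Agent.Lib.Helper12.FlatProperApprox.exists_model W hW (f ∣_ W)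
  haveI := hfl
  haveI := hpr
  haveI := hS₀n
  haveI := hfp
  haveI : IsLocallyNoetherian S₀ := inferInstance
  have hsq2 : IsPullback (f ⁻¹ᵁ W).ι (f ∣_ W) f W.ι := (isPullback_morphismRestrict f W).flip
  obtain ⟨s', hs'⟩ : ∃ s' : W.toScheme, W.ι s' = s := ⟨⟨s, hsW⟩, rfl⟩
  subst hs'
  have hy₀ : γ s' ∈ E f₀ := by
    rw [← mem_E_pullback hsq s']
    show GeometricallyReduced ((f ∣_ W).fiberToSpecResidueField s')
    infer_instance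
  obtain ⟨V₀, hyV₀, hV₀⟩ := noeth_local_po f₀ (γ s') hy₀
  refine ⟨W.ι ''ᵁ (γ ⁻¹ᵁ V₀), ⟨s', hyV₀, rfl⟩, ?_⟩
  intro T X' _ g f' g' hsqT hrange
  have hr1 : Set.range g ⊆ Set.range W.ι := by
    rw [Scheme.Opens.range_ι]
    rintro _ ⟨t, rfl⟩
    obtain ⟨w, -, hw⟩ := hrange ⟨t, rfl⟩
    rw [← hw]; exact w.2
  obtain ⟨g₁, hg₁⟩ : ∃ g₁ : T ⟶ W.toScheme, g₁ ≫ W.ι = g :=
    ⟨IsOpenImmersion.lift W.ι g hr1, IsOpenImmersion.lift_fac _ _ _⟩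
  have hr2 : Set.range g' ⊆ Set.range (f ⁻¹ᵁ W).ι := by
    rw [Scheme.Opens.range_ι]
    rintro _ ⟨x, rfl⟩
    show f (g' x) ∈ W
    have hx : f (g' x) = g (f' x) := by
      rw [← Scheme.Hom.comp_apply, hsqT.w, Scheme.Hom.comp_apply]
    rw [hx]
    have := hr1 ⟨f' x, rfl⟩
    rwa [Scheme.Opens.range_ι] at this
  obtain ⟨g'₁, hg'₁⟩ : ∃ g'₁ : X' ⟶ (f ⁻¹ᵁ W).toScheme, g'₁ ≫ (f ⁻¹ᵁ W).ι = g' :=
    ⟨IsOpenImmersion.lift _ g' hr2, IsOpenImmersion.lift_fac _ _ _⟩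
  have hw : g'₁ ≫ (f ∣_ W) = f' ≫ g₁ := by
    rw [← cancel_mono W.ι, Category.assoc, Category.assoc, hg₁, ← hsq2.w, ← Category.assoc,
      hg'₁]
    exact hsqT.w
  have sqT : IsPullback g'₁ f' (f ∣_ W) g₁ := by
    have big : IsPullback (g'₁ ≫ (f ⁻¹ᵁ W).ι) f' f (g₁ ≫ W.ι) := by
      rw [hg'₁, hg₁]; exact hsqT
    exact IsPullback.of_right big hw hsq2
  have sq0 : IsPullback (g'₁ ≫ γ') f' f₀ (g₁ ≫ γ) := sqT.paste_horiz hsq
  have hrange0 : Set.range (g₁ ≫ γ) ⊆ (V₀ : Set S₀) := by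
    rintro _ ⟨t, rfl⟩
    rw [Scheme.Hom.comp_apply]
    obtain ⟨w, hwV, hw'⟩ := hrange ⟨t, rfl⟩
    have h1 : W.ι (g₁ t) = g t := by rw [← Scheme.Hom.comp_apply, hg₁]
    have h2 : g₁ t = w := W.ι.isOpenEmbedding.injective (by rw [h1]; exact hw'.symm)
    rw [h2]; exact hwV
  have key := hV₀ (g₁ ≫ γ) f' (g'₁ ≫ γ') sq0 hrange0
  rw [← Groth.Agent.Lib.Helper13.CBCUnivG.finrank_fiber_eq_of_isPullback hsq2 s',
    Groth.Agent.Lib.Helper13.CBCUnivG.finrank_fiber_eq_of_isPullback hsq s']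
  exact key

end Groth.Agent.Lib.Helper13.SteinEtPO
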