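import Mathlib
import Groth.Prelude
import Groth.Agent.Lib.Helper13.SteinEtPO

/-!
# The Stein factorisation of a proper flat geometrically reduced family of finite presentation
commutes with arbitrary base change (helper13)
-/

set_option autoImplicit false
set_option linter.style.haveILetI false
universe u
open CategoryTheory CategoryTheory.Limits AlgebraicGeometry TopologicalSpace Opposite TensorProduct

namespace Groth.Agent.Lib.Helper13.SteinEtBC

open Groth.Agent.Lib.Helper13.SteinEtMain Groth.Agent.Lib.Helper13.SteinEtPO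

section Alg

variable {R S B : Type*} [CommRing R] [CommRing S] [Algebra R S] [CommRing B] [Algebra R B]

lemma toIntegralClosure_bijective_of_isIntegral [Algebra.IsIntegral R B] :
    Function.Bijective (TensorProduct.toIntegralClosure R S B) := by
  have hval : Function.Bijective (integralClosure R B).val :=
    ⟨Subtype.val_injective, fun b => ⟨⟨b, Algebra.IsIntegral.isIntegral b⟩, rfl⟩⟩
  let e : integralClosure R B ≃ₐ[R] B := AlgEquiv.ofBijective _ hval
  have hm : Function.Bijective
      (Algebra.TensorProduct.map (AlgHom.id S S) (integralClosure R B).val) := by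
    have : (Algebra.TensorProduct.map (AlgHom.id S S) (integralClosure R B).val) =
        (Algebra.TensorProduct.congr (AlgEquiv.refl : S ≃ₐ[S] S) e).toAlgHom := by
      ext x; simp [e]
    rw [this]; exact (Algebra.TensorProduct.congr (AlgEquiv.refl : S ≃ₐ[S] S) e).bijective
  have hcomp : ∀ x, ((TensorProduct.toIntegralClosure R S B x :
      integralClosure S (S ⊗[R] B)) : S ⊗[R] B) =
      Algebra.TensorProduct.map (AlgHom.id S S) (integralClosure R B).val x := fun x => rfl
  refine ⟨fun x y hxy => hm.1 ?_, fun y => ?_⟩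
  · rw [← hcomp, ← hcomp, hxy]
  · obtain ⟨x, hx⟩ := hm.2 (y : S ⊗[R] B)
    exact ⟨x, Subtype.ext (by rw [hcomp, hx])⟩

end Alg

lemma finite_of_freeRank {n : ℕ} {A B : CommRingCat.{u}} {φ : A ⟶ B} (h : FreeRank n φ) :
    φ.hom.Finite := by
  obtain ⟨b⟩ := h
  letI : Algebra A B := φ.hom.toAlgebra
  exact Module.Finite.of_basis b

set_option backward.defeqAttrib.useBackward true in
set_option backward.isDefEq.respectTransparency false in
set_option maxHeartbeats 1000000 in
/-- **Stein factorisation commutes with arbitrary base change** for proper flat geometrically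
reduced families of finite presentation. -/
theorem isIso_normalizationPullback {X S Y : Scheme.{u}} (f : X ⟶ S) [IsProper f] [Flat f]
    [LocallyOfFinitePresentation f] [GeometricallyReduced f] (g : Y ⟶ S) :
    IsIso (f.normalizationPullback g) := by
  apply IsZariskiLocalAtTarget.of_forall_exists_morphismRestrict (P := .isomorphisms _) fun x ↦ ?_
  obtain ⟨U₀, hsU₀, hU₀⟩ := exists_nhd f ((pullback.snd _ g ≫ g) x)
  obtain ⟨_, ⟨U', hU, rfl⟩, hxU, hUU₀⟩ := S.isBasis_affineOpens.exists_subset_of_mem_open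
    hsU₀ U₀.2
  obtain ⟨U, rfl⟩ : ∃ U : S.Opens, U = U' := ⟨U', rfl⟩
  obtain ⟨_, ⟨V', hV, rfl⟩, hxV, hVU : V' ≤ g ⁻¹ᵁ U⟩ :=
    Y.isBasis_affineOpens.exists_subset_of_mem_open (a := pullback.snd _ g x) hxU (g ⁻¹ᵁ U).2
  obtain ⟨V, rfl⟩ : ∃ V : Y.Opens, V = V' := ⟨V', rfl⟩
  let W := pullback.snd (Scheme.Hom.fromNormalization f) g ⁻¹ᵁ V
  refine ⟨W, hxV, (isIso_morphismRestrict_iff_isIso_app _ (U := W) (hV.preimage _)).mpr ?_⟩
  have := isIso_pushoutSection_of_isAffineOpen
    (.of_hasPullback f.fromNormalization g) hVU le_rfl (UY := W)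
    (by simp_rw [W, ← Scheme.Hom.comp_preimage, pullback.condition, Scheme.Hom.comp_preimage,
      ← Scheme.Hom.preimage_inf, inf_eq_right.mpr hVU]) hU hV
    (hU.preimage f.fromNormalization)
  rw [← @isIso_comp_left_iff _ _ _ _ _ _ _ this,
    ← isIso_comp_left_iff (pushout.congrHom f.fromNormalization.app_eq_appLE rfl).hom]
  -- local structure
  haveI : IsAffine U.toScheme := hU
  haveI : IsAffine V.toScheme := hV
  have sqU : IsPullback (f ⁻¹ᵁ U).ι (f.resLE U (f ⁻¹ᵁ U) le_rfl) f U.ι := by
    rw [Scheme.Hom.resLE_eq_morphismRestrict]; exact (isPullback_morphismRestrict f U).flip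
  obtain ⟨-, hFR, hPO⟩ := hU₀ U.ι (f.resLE U (f ⁻¹ᵁ U) le_rfl) (f ⁻¹ᵁ U).ι sqU
    (by rw [Scheme.Opens.range_ι]; exact hUU₀)
  have hfin : (f.app U).hom.Finite := by
    have h1 := finite_of_freeRank hFR
    rw [Scheme.Hom.appTop, Scheme.Hom.resLE_app_top] at h1
    have h2 := (RingHom.finite_respectsIso.cancel_left_isIso U.topIso.hom _).mp h1
    have h3 := (RingHom.finite_respectsIso.cancel_right_isIso _ (f ⁻¹ᵁ U).topIso.inv).mp h2
    rwa [Scheme.Hom.app_eq_appLE]
  have hUY : pullback.snd f g ⁻¹ᵁ V =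
      pullback.fst f g ⁻¹ᵁ f ⁻¹ᵁ U ⊓ pullback.snd f g ⁻¹ᵁ V := by
    simp_rw [← Scheme.Hom.comp_preimage, pullback.condition, Scheme.Hom.comp_preimage,
      ← Scheme.Hom.preimage_inf, inf_eq_right.mpr hVU]
  have := (isIso_pushoutSection_iff (.of_hasPullback f g) hVU le_rfl hUY).mpr (by
    have h1 := hPO _ _ _ (Scheme.Hom.isPullback_resLE (.of_hasPullback f g) hVU le_rfl hUY)
    simp only [Scheme.Hom.appTop, Scheme.Hom.resLE_app_top] at h1
    exact h1.of_iso U.topIso (f ⁻¹ᵁ U).topIso V.topIso (pullback.snd f g ⁻¹ᵁ V).topIso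
      (by simp) (by simp) (by simp) (by simp))
  algebraize [(f.app U).hom, (g.appLE U V hVU).hom, ((pullback.snd f g).app V).hom]
  let e₀ := (CommRingCat.isPushout_tensorProduct ..).flip.isoPushout ≪≫
    (pushout.congrHom f.app_eq_appLE rfl ≪≫ @asIso _ _ _ _ _ this :)
  let e : Γ(Y, V) ⊗[Γ(S, U)] Γ(X, f ⁻¹ᵁ U) ≃ₐ[Γ(Y, V)] Γ(pullback f g, pullback.snd f g ⁻¹ᵁ V) :=
    { toRingEquiv := e₀.commRingCatIsoToRingEquiv,
      commutes' r := by
        change (CommRingCat.ofHom Algebra.TensorProduct.includeLeftRingHom ≫ e₀.hom) r =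
          (pullback.snd f g).app V r
        congr 2
        simp [e₀, pushout.inr_desc_assoc, Scheme.Hom.app_eq_appLE] }
  let ψ : Γ(Y, V) ⊗[Γ(S, U)] integralClosure Γ(S, U) Γ(X, f ⁻¹ᵁ U) →ₐ[Γ(Y, V)]
      integralClosure Γ(Y, V) Γ(pullback f g, pullback.snd f g ⁻¹ᵁ V) :=
    e.mapIntegralClosure.toAlgHom.comp (TensorProduct.toIntegralClosure _ _ _)
  have hψ : Function.Bijective ψ := e.mapIntegralClosure.bijective.comp
    toIntegralClosure_bijective_of_isIntegral
  let φ : pushout (f.fromNormalization.app U) (g.appLE U V hVU) ⟶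
      Γ((pullback.snd f g).normalization, f.normalizationPullback g ⁻¹ᵁ W) :=
    pushout.map _ _ (CommRingCat.ofHom (algebraMap Γ(S, U) (integralClosure Γ(S, U) Γ(X, f ⁻¹ᵁ U))))
      (g.appLE U V hVU) (f.normalizationObjIso hU).hom (𝟙 _) (𝟙 _)
      (by simp [Scheme.Hom.fromNormalization_app _ hU]) (by simp) ≫
    (CommRingCat.isPushout_tensorProduct ..).flip.isoPushout.inv ≫
    (RingEquiv.ofBijective ψ.toRingHom hψ).toCommRingCatIso.hom ≫
    ((pullback.snd f g).normalizationObjIso hV).inv ≫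
    (pullback.snd f g).normalization.presheaf.map (eqToHom
      (by simp only [W, ← Scheme.Hom.comp_preimage, Scheme.Hom.normalizationPullback_snd])).op
  convert! show IsIso φ by dsimp only [φ]; infer_instance using 1
  ext1
  · dsimp [φ]
    simp only [Scheme.Hom.app_eq_appLE, colimit.ι_desc_assoc, span_left, PushoutCocone.mk_pt,
      PushoutCocone.mk_ι_app, Category.id_comp, Scheme.Hom.appLE_comp_appLE, eqToHom_op,
      Category.assoc, IsPushout.inl_isoPushout_inv_assoc]
    simp_rw [← Category.assoc, ← IsIso.comp_inv_eq]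
    simp only [← Functor.map_inv, inv_eqToHom, Scheme.Hom.appLE_map, IsIso.Iso.inv_inv,
      Category.assoc]
    have : Mono (CommRingCat.ofHom (integralClosure Γ(Y, V)
        Γ(pullback f g, pullback.snd f g ⁻¹ᵁ V)).val.toRingHom) :=
      ConcreteCategory.mono_of_injective _ Subtype.val_injective
    rw [← cancel_mono (CommRingCat.ofHom (Subalgebra.val _).toRingHom)]
    simp only [Category.assoc, Scheme.Hom.normalizationObjIso_hom_val, Scheme.Hom.appLE_comp_appLE,
      Scheme.Hom.toNormalization_normalizationPullback_fst, ← CommRingCat.ofHom_comp]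
    have H : pullback.snd f g ⁻¹ᵁ V ≤ pullback.fst f g ⁻¹ᵁ f ⁻¹ᵁ U := by
      rw [← Scheme.Hom.comp_preimage, pullback.condition, Scheme.Hom.comp_preimage]
      exact Scheme.Hom.preimage_mono _ hVU
    trans (f.normalizationObjIso hU).hom ≫ CommRingCat.ofHom
        (integralClosure Γ(S, U) Γ(X, f ⁻¹ᵁ U)).val.toRingHom ≫ (pullback.fst f g).appLE _ _ H
    · rw [reassoc_of% Scheme.Hom.normalizationObjIso_hom_val, Scheme.Hom.appLE_comp_appLE]
    · congr 1
      ext x
      change (pullback.fst f g).appLE _ _ H x = _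
      trans (CommRingCat.ofHom Algebra.TensorProduct.includeRight.toRingHom ≫ e₀.hom) x
      · congr 2; simp [e₀, pushout.inl_desc_assoc]
      · simp [ψ, toIntegralClosure, e]; rfl
  · dsimp [φ]
    simp only [Scheme.Hom.app_eq_appLE, colimit.ι_desc_assoc, span_right, PushoutCocone.mk_pt,
      PushoutCocone.mk_ι_app, Category.id_comp, Scheme.Hom.appLE_comp_appLE,
      Scheme.Hom.normalizationPullback_snd, eqToHom_op, IsPushout.inr_isoPushout_inv_assoc]
    simp_rw [← Category.assoc, ← IsIso.comp_inv_eq]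
    simp only [← Functor.map_inv, inv_eqToHom, Scheme.Hom.appLE_map, ← Scheme.Hom.app_eq_appLE,
      Scheme.Hom.fromNormalization_app _ hV, IsIso.Iso.inv_inv, Category.assoc, Iso.inv_hom_id,
      Category.comp_id]
    exact congr(CommRingCat.ofHom $(ψ.comp_algebraMap.symm))

end Groth.Agent.Lib.Helper13.SteinEtBC
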