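import Mathlib
import Groth.Prelude.Def_ega3
import Groth.Agent.Lib.Helper13.ZariskiConn
import Groth.Agent.Lib.Helper13.ZariskiNormal
import Groth.Agent.Lib.Helper23.T2L
import Groth.Agent.S1355

/-!
# Proper dominant morphisms at a normal point (EGA III 4.3.12-type statement)

`f : X ⟶ Y` proper dominant between locally Noetherian integral schemes with `R(Y)` algebraically
closed in `R(X)`; `y` a normal point of `Y`.  Then `O_Y(V) → O_X(f⁻¹ V)` is an isomorphism for all
opens `V` of a neighbourhood of `y`, and the fibre at `y` is geometrically connected.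
-/

set_option autoImplicit false
set_option maxHeartbeats 400000
set_option linter.style.haveILetI false
universe u

namespace Groth.Agent.Lib.Helper13.SteinNormalPt

open CategoryTheory Limits AlgebraicGeometry TopologicalSpace
open Groth.Agent.Lib.Helper13.ZariskiNormal Groth.Agent.Lib.Helper22

lemma genericPoint_mem {Z : Scheme.{u}} [IrreducibleSpace Z] (U : Z.Opens) {z : Z} (hz : z ∈ U) :
    genericPoint Z ∈ U :=
  ((genericPoint_spec Z).mem_open_set_iff U.isOpen).mpr ⟨z, trivial, hz⟩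

variable {X Y : Scheme.{u}} (f : X ⟶ Y) [IsIntegral X] [IsIntegral Y]

section

variable [UniversallyClosed f] (hdom : f.base (genericPoint X) ⤳ genericPoint Y)
  (halg : ∀ x : X.functionField,
    (∃ q : Polynomial Y.functionField, q ≠ 0 ∧
      Polynomial.eval₂ (CohIII.stalkToFunctionField f (genericPoint Y) hdom) x q = 0) →
    x ∈ Set.range (CohIII.stalkToFunctionField f (genericPoint Y) hdom))

include halg in
/-- Step 1: sections over the preimage of an affine neighbourhood of a normal point `y` are, as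
rational functions, in the local ring of `y`. -/
theorem exists_stalk_of_isIntegrallyClosed (y : Y) (hy : IsIntegrallyClosed (Y.presheaf.stalk y))
    (V : Y.Opens) (hV : IsAffineOpen V) (hyV : y ∈ V) [Nonempty V]
    [Nonempty (f ⁻¹ᵁ V : X.Opens)] (b : Γ(X, f ⁻¹ᵁ V)) :
    ∃ a : Y.presheaf.stalk y,
      CohIII.stalkToFunctionField f (genericPoint Y) hdom
        (algebraMap (Y.presheaf.stalk y) Y.functionField a) =
      X.germToFunctionField (f ⁻¹ᵁ V) b := by
  obtain ⟨p, hp, hps⟩ := exists_monic f hdom V b V hV le_rfl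
  have hq0 : p.map (Y.germToFunctionField V).hom ≠ 0 := (hp.map _).ne_zero
  have hq : Polynomial.eval₂ (CohIII.stalkToFunctionField f (genericPoint Y) hdom)
      (X.germToFunctionField (f ⁻¹ᵁ V) b) (p.map (Y.germToFunctionField V).hom) = 0 := by
    rw [Polynomial.eval₂_map]
    exact hps
  obtain ⟨β, hβ⟩ := halg _ ⟨_, hq0, hq⟩
  have hint : IsIntegral Γ(Y, V) β := by
    refine ⟨p, hp, ?_⟩
    apply φ_injective f hdom
    rw [map_zero]
    have h3 := Polynomial.hom_eval₂ p (algebraMap Γ(Y, V) Y.functionField)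
      (CohIII.stalkToFunctionField f (genericPoint Y) hdom) β
    rw [hβ] at h3
    exact h3.trans hps
  let y' : (V : Scheme.{u}) := ⟨y, hyV⟩
  letI := TopCat.Presheaf.algebra_section_stalk Y.presheaf y'
  haveI : IsScalarTower Γ(Y, V) (Y.presheaf.stalk y) Y.functionField :=
    functionField_isScalarTower Y V y'
  have h1 : IsIntegral (Y.presheaf.stalk y) β := hint.tower_top
  obtain ⟨a, ha⟩ := IsIntegrallyClosed.isIntegral_iff.mp h1
  exact ⟨a, by rw [ha, hβ]⟩

include halg in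
/-- Step 2: finitely many sections over `f⁻¹ V₁` come from sections of `O_Y` over a common
neighbourhood of the normal point `y`. -/
theorem exists_open_finset (y : Y) (hy : IsIntegrallyClosed (Y.presheaf.stalk y))
    (V₁ : Y.Opens) (hV₁ : IsAffineOpen V₁) (hyV₁ : y ∈ V₁) [Nonempty V₁]
    [Nonempty (f ⁻¹ᵁ V₁ : X.Opens)] (S : Finset Γ(X, f ⁻¹ᵁ V₁)) :
    ∃ (U : Y.Opens) (hyU : y ∈ U), U ≤ V₁ ∧ ∀ b ∈ S, ∃ T : Γ(Y, U),
      CohIII.stalkToFunctionField f (genericPoint Y) hdom
        (Y.presheaf.germ U (genericPoint Y) (genericPoint_mem U hyU) T) =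
      X.germToFunctionField (f ⁻¹ᵁ V₁) b := by
  classical
  induction S using Finset.induction_on with
  | empty => exact ⟨V₁, hyV₁, le_rfl, fun b hb => absurd hb (Finset.notMem_empty b)⟩
  | insert b₀ S _ ih =>
    obtain ⟨U, hyU, hUV, hU⟩ := ih
    obtain ⟨a, ha⟩ := exists_stalk_of_isIntegrallyClosed f hdom halg y hy V₁ hV₁ hyV₁ b₀
    obtain ⟨U', hU'U, hyU', t, ht⟩ := TopCat.Presheaf.exists_le_germ_eq Y.presheaf a hyU
    refine ⟨U', hyU', hU'U.trans hUV, ?_⟩
    intro b hb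
    rcases Finset.mem_insert.mp hb with rfl | hbS
    · refine ⟨t, ?_⟩
      haveI : Nonempty U' := ⟨⟨y, hyU'⟩⟩
      rw [← ha, ← ht, Scheme.algebraMap_germ_eq_germToFunctionField]
    · obtain ⟨T, hT⟩ := hU b hbS
      refine ⟨Y.presheaf.map (homOfLE hU'U).op T, ?_⟩
      rw [← hT]
      congr 1
      exact TopCat.Presheaf.germ_res_apply Y.presheaf (homOfLE hU'U) _ _ T

end

section

variable [IsProper f] [IsLocallyNoetherian Y]
  (hdom : f.base (genericPoint X) ⤳ genericPoint Y)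
  (halg : ∀ x : X.functionField,
    (∃ q : Polynomial Y.functionField, q ≠ 0 ∧
      Polynomial.eval₂ (CohIII.stalkToFunctionField f (genericPoint Y) hdom) x q = 0) →
    x ∈ Set.range (CohIII.stalkToFunctionField f (genericPoint Y) hdom))

include halg in
/-- Step 3: all sections over `f⁻¹ V₁` come from sections of `O_Y` over a common neighbourhood of
the normal point `y` (finite generation). -/
theorem exists_open_all (y : Y) (hy : IsIntegrallyClosed (Y.presheaf.stalk y))
    (V₁ : Y.Opens) (hV₁ : IsAffineOpen V₁) (hyV₁ : y ∈ V₁) [Nonempty V₁]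
    [Nonempty (f ⁻¹ᵁ V₁ : X.Opens)] :
    ∃ (U : Y.Opens) (hyU : y ∈ U), U ≤ V₁ ∧ ∀ b : Γ(X, f ⁻¹ᵁ V₁), ∃ T : Γ(Y, U),
      CohIII.stalkToFunctionField f (genericPoint Y) hdom
        (Y.presheaf.germ U (genericPoint Y) (genericPoint_mem U hyU) T) =
      X.germToFunctionField (f ⁻¹ᵁ V₁) b := by
  letI := (f.app V₁).hom.toAlgebra
  have hfin : Module.Finite Γ(Y, V₁) Γ(X, f ⁻¹ᵁ V₁) :=
    Groth.Agent.Lib.Helper23.T2.finite_app_of_isProper f V₁ hV₁
  obtain ⟨S, hS⟩ := hfin.fg_top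
  obtain ⟨U, hyU, hUV, hU⟩ := exists_open_finset f hdom halg y hy V₁ hV₁ hyV₁ S
  refine ⟨U, hyU, hUV, ?_⟩
  haveI : Nonempty U := ⟨⟨y, hyU⟩⟩
  intro b
  have hb : b ∈ Submodule.span Γ(Y, V₁) (S : Set Γ(X, f ⁻¹ᵁ V₁)) := by rw [hS]; trivial
  induction hb using Submodule.span_induction with
  | mem b hb => exact hU b hb
  | zero => exact ⟨0, by rw [map_zero, map_zero, map_zero]⟩
  | add b₁ b₂ _ _ h₁ h₂ =>
    obtain ⟨T₁, hT₁⟩ := h₁
    obtain ⟨T₂, hT₂⟩ := h₂
    exact ⟨T₁ + T₂, by rw [map_add, map_add, map_add, hT₁, hT₂]⟩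
  | smul r b _ h₁ =>
    obtain ⟨T₁, hT₁⟩ := h₁
    refine ⟨Y.presheaf.map (homOfLE hUV).op r * T₁, ?_⟩
    rw [Algebra.smul_def, map_mul, map_mul, map_mul, hT₁]
    congr 1
    have h1 : (algebraMap Γ(Y, V₁) Γ(X, f ⁻¹ᵁ V₁)) r = f.app V₁ r := rfl
    rw [h1, germ_app f hdom V₁ r]
    congr 1
    exact TopCat.Presheaf.germ_res_apply Y.presheaf (homOfLE hUV) _ _ r

omit [IsLocallyNoetherian Y] in
/-- Step 4: sections over `f⁻¹ V` for `V ≤ U` are, as rational functions, in every local ring of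
`V`. -/
theorem exists_stalk_of_le (V₁ : Y.Opens) (hV₁ : IsAffineOpen V₁) [Nonempty V₁]
    [Nonempty (f ⁻¹ᵁ V₁ : X.Opens)] (U : Y.Opens) (hUV : U ≤ V₁) (hgenU : genericPoint Y ∈ U)
    (hU : ∀ b : Γ(X, f ⁻¹ᵁ V₁), ∃ T : Γ(Y, U),
      CohIII.stalkToFunctionField f (genericPoint Y) hdom
        (Y.presheaf.germ U (genericPoint Y) hgenU T) =
      X.germToFunctionField (f ⁻¹ᵁ V₁) b)
    (V : Y.Opens) (hVU : V ≤ U) [Nonempty V] [Nonempty (f ⁻¹ᵁ V : X.Opens)]
    (s : Γ(X, f ⁻¹ᵁ V)) (y' : Y) (hy' : y' ∈ V) :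
    ∃ a' : Y.presheaf.stalk y',
      CohIII.stalkToFunctionField f (genericPoint Y) hdom
        (algebraMap (Y.presheaf.stalk y') Y.functionField a') =
      X.germToFunctionField (f ⁻¹ᵁ V) s := by
  obtain ⟨r, hrV, hy'r⟩ := hV₁.exists_basicOpen_le (V := V) ⟨y', hy'⟩ (hUV (hVU hy'))
  obtain ⟨g, hg⟩ : ∃ g : Γ(X, f ⁻¹ᵁ V₁), g = f.app V₁ r := ⟨_, rfl⟩
  have hpre : f ⁻¹ᵁ Y.basicOpen r = X.basicOpen g := by rw [hg]; exact Scheme.preimage_basicOpen f r
  have hle : X.basicOpen g ≤ f ⁻¹ᵁ V := by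
    rw [← hpre]; exact fun x hx => hrV hx
  have hgenD : genericPoint Y ∈ Y.basicOpen r := genericPoint_mem _ hy'r
  have hgenX : genericPoint X ∈ X.basicOpen g := by
    rw [← hpre]
    change f.base (genericPoint X) ∈ Y.basicOpen r
    rw [map_genericPoint f hdom]
    exact hgenD
  haveI : Nonempty (X.basicOpen g) := ⟨⟨_, hgenX⟩⟩
  haveI : Nonempty (Y.basicOpen r) := ⟨⟨y', hy'r⟩⟩
  haveI : Nonempty U := ⟨⟨_, hgenU⟩⟩
  obtain ⟨n, b, hb⟩ := exists_eq_pow_mul_of_isCompact_of_isQuasiSeparated X (f ⁻¹ᵁ V₁)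
    (f.isCompact_preimage hV₁.isCompact) (f.isQuasiSeparated_preimage hV₁.isQuasiSeparated) g
    (X.presheaf.map (homOfLE hle).op s)
  dsimp only [TopCat.Presheaf.restrictOpenCommRingCat_apply] at hb
  obtain ⟨T, hT⟩ := hU b
  have e1 := congrArg (X.germToFunctionField (X.basicOpen g)) hb
  rw [map_mul, map_pow] at e1
  erw [TopCat.Presheaf.germ_res_apply, TopCat.Presheaf.germ_res_apply,
    TopCat.Presheaf.germ_res_apply] at e1
  have e5 : X.germToFunctionField (f ⁻¹ᵁ V₁) g =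
      CohIII.stalkToFunctionField f (genericPoint Y) hdom (Y.germToFunctionField V₁ r) := by
    rw [hg]; exact germ_app f hdom V₁ r
  have hunit : IsUnit (Y.presheaf.map (homOfLE (Y.basicOpen_le r)).op r) :=
    Y.toRingedSpace.isUnit_res_basicOpen r
  obtain ⟨u, hu⟩ := hunit
  refine ⟨Y.presheaf.germ (Y.basicOpen r) y' hy'r
    (Y.presheaf.map (homOfLE (hrV.trans hVU)).op T * (↑(u⁻¹)) ^ n), ?_⟩
  rw [Scheme.algebraMap_germ_eq_germToFunctionField, map_mul, map_pow, map_mul, map_pow]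
  have e6 : Y.germToFunctionField (Y.basicOpen r) (Y.presheaf.map (homOfLE (hrV.trans hVU)).op T) =
      Y.presheaf.germ U (genericPoint Y) hgenU T :=
    TopCat.Presheaf.germ_res_apply Y.presheaf (homOfLE (hrV.trans hVU)) _ _ T
  have e7 : Y.germToFunctionField (Y.basicOpen r) (↑u) = Y.germToFunctionField V₁ r := by
    rw [hu]
    exact TopCat.Presheaf.germ_res_apply Y.presheaf _ _ _ r
  have e8 : CohIII.stalkToFunctionField f (genericPoint Y) hdom
        (Y.germToFunctionField (Y.basicOpen r) (↑(u⁻¹))) *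
      CohIII.stalkToFunctionField f (genericPoint Y) hdom (Y.germToFunctionField V₁ r) = 1 := by
    rw [← e7, ← map_mul, ← map_mul, Units.inv_mul, map_one, map_one]
  rw [e6, hT]
  change X.germToFunctionField (f ⁻¹ᵁ V₁) b * _ = _
  have e1' : X.germToFunctionField (f ⁻¹ᵁ V₁) b =
      CohIII.stalkToFunctionField f (genericPoint Y) hdom (Y.germToFunctionField V₁ r) ^ n *
        X.germToFunctionField (f ⁻¹ᵁ V) s := by
    rw [← e5]; exact e1
  rw [e1', mul_comm _ (X.germToFunctionField (f ⁻¹ᵁ V) s), mul_assoc, ← mul_pow, mul_comm _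
    (CohIII.stalkToFunctionField f (genericPoint Y) hdom
        (Y.germToFunctionField (Y.basicOpen r) (↑(u⁻¹)))), e8, one_pow, mul_one]

include halg in
/-- Step 5: `O_Y(V) → O_X(f⁻¹ V)` is bijective for all opens `V` of a neighbourhood of a normal
point. -/
theorem exists_open_bijective (y : Y) (hy : IsIntegrallyClosed (Y.presheaf.stalk y)) :
    ∃ U : Y.Opens, y ∈ U ∧ ∀ V : Y.Opens, V ≤ U → Function.Bijective (f.app V) := by
  obtain ⟨_, ⟨V₁, hV₁, rfl⟩, hyV₁, -⟩ := Y.isBasis_affineOpens.exists_subset_of_mem_open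
    (Set.mem_univ y) isOpen_univ
  haveI : Nonempty V₁ := ⟨⟨y, hyV₁⟩⟩
  haveI := nonempty_preimage f hdom V₁
  obtain ⟨U, hyU, hUV, hU⟩ := exists_open_all f hdom halg y hy V₁ hV₁ hyV₁
  refine ⟨U, hyU, ?_⟩
  intro V hVU
  by_cases hV : Nonempty V
  swap
  · have hVbot : V = ⊥ := by
      ext x
      simp only [Opens.coe_bot, Set.mem_empty_iff_false, iff_false]
      exact fun hx => hV ⟨x, hx⟩
    subst hVbot
    haveI : Subsingleton Γ(X, f ⁻¹ᵁ ⊥) := by
      have : f ⁻¹ᵁ (⊥ : Y.Opens) = ⊥ := rfl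
      rw [this]
      infer_instance
    exact ⟨fun a b _ => Subsingleton.elim _ _, fun s => ⟨0, Subsingleton.elim _ _⟩⟩
  haveI := nonempty_preimage f hdom V
  constructor
  · rw [injective_iff_map_eq_zero]
    intro b hb
    apply Y.germToFunctionField_injective V
    apply φ_injective f hdom
    rw [← germ_app f hdom V b, hb, map_zero, map_zero, map_zero]
  · intro s
    have key := exists_stalk_of_le f hdom V₁ hV₁ U hUV (genericPoint_mem U hyU) hU V hVU s
    obtain ⟨⟨y₀, hy₀⟩⟩ := hV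
    obtain ⟨a₀, ha₀⟩ := key y₀ hy₀
    have hmem : ∀ y' ∈ V, algebraMap (Y.presheaf.stalk y₀) Y.functionField a₀ ∈
        Set.range (algebraMap (Y.presheaf.stalk y') Y.functionField) := by
      intro y' hy'
      obtain ⟨a', ha'⟩ := key y' hy'
      refine ⟨a', ?_⟩
      apply φ_injective f hdom
      rw [ha', ha₀]
    haveI : Nonempty V := ⟨⟨y₀, hy₀⟩⟩
    obtain ⟨t, ht⟩ := NormalSections.exists_section_of_forall_mem_range V _ hmem
    refine ⟨t, ?_⟩
    apply X.germToFunctionField_injective (f ⁻¹ᵁ V)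
    rw [germ_app f hdom V t, ht, ha₀]

end

/-- **Zariski connectedness, local form for geometric connectedness**: if `O_Y(V) → O_X(f⁻¹ V)` is
an isomorphism for all opens `V` of a neighbourhood `U₀` of `y`, the fibre at `y` is geometrically
connected. -/
theorem geometricallyConnected_fiber_of_local {X Y : Scheme.{u}} (f : X ⟶ Y) [IsProper f]
    [IsLocallyNoetherian Y] (y : Y) (U₀ : Y.Opens) (hy : y ∈ U₀)
    (hf : ∀ V : Y.Opens, V ≤ U₀ → IsIso (f.app V)) :
    GeometricallyConnected (f.fiberToSpecResidueField y) := by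
  rw [Groth.Agent.S1355.result f y]
  intro U g u hg hgu
  haveI : Etale g := hg
  haveI : IsLocallyNoetherian U := LocallyOfFiniteType.isLocallyNoetherian g
  obtain ⟨_, ⟨V, hV, rfl⟩, hyV, hVU₀⟩ := Y.isBasis_affineOpens.exists_subset_of_mem_open
    (show g u ∈ (U₀ : Set Y) by rw [hgu]; exact hy) U₀.2
  obtain ⟨_, ⟨V', hV', rfl⟩, huV', hV'V⟩ := U.isBasis_affineOpens.exists_subset_of_mem_open
    (show u ∈ ((g ⁻¹ᵁ V : U.Opens) : Set U) from hyV) (g ⁻¹ᵁ V).2
  have hiso' : IsIso ((pullback.snd f g).app V') :=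
    Groth.Agent.Lib.Helper13.ZariskiConn.isIso_app_of_flat_baseChange
      (IsPullback.of_hasPullback f g) hV hV' hV'V (hf V hVU₀)
  exact Groth.Agent.Lib.Helper13.ZariskiConn.connectedSpace_fiber (pullback.snd f g) u hV' huV' hiso'

/-- S4480. -/
theorem main4480 {X Y : Scheme.{u}}
    [IsIntegral X] [IsIntegral Y] [IsLocallyNoetherian X] [IsLocallyNoetherian Y] (f : X ⟶ Y)
    [IsProper f]
    (hdom : f.base (genericPoint X) ⤳ genericPoint Y)
    (halg : ∀ x : X.functionField,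
      (∃ q : Polynomial Y.functionField, q ≠ 0 ∧
        Polynomial.eval₂ (CohIII.stalkToFunctionField f (genericPoint Y) hdom) x q = 0) →
      x ∈ Set.range (CohIII.stalkToFunctionField f (genericPoint Y) hdom))
    (y : Y) (hy : IsIntegrallyClosed (Y.presheaf.stalk y)) :
    GeometricallyConnected (f.fiberToSpecResidueField y) ∧
      ∃ U : Y.Opens, y ∈ U ∧ ∀ V : Y.Opens, V ≤ U → IsIso (f.app V) := by
  obtain ⟨U, hyU, hU⟩ := exists_open_bijective f hdom halg y hy
  have hiso : ∀ V : Y.Opens, V ≤ U → IsIso (f.app V) := fun V hV =>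
    (ConcreteCategory.isIso_iff_bijective (f.app V)).mpr (hU V hV)
  exact ⟨geometricallyConnected_fiber_of_local f y U hyU hiso, U, hyU, hiso⟩

end Groth.Agent.Lib.Helper13.SteinNormalPt
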