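import Mathlib
import Groth.Prelude
import Groth.Agent.Lib.Helper13.SteinLSC
import Groth.Agent.Lib.Helper6.OpenConnSch
import Groth.Agent.Lib.Helper12.SecCompBC
import Groth.Agent.S3417
import Groth.Agent.S4950
import Groth.Agent.S1339
import Groth.Agent.S3402
import Groth.Agent.S3403

/-!
# Constancy of the geometric number of connected components of the fibres of a proper morphism
near a point with geometrically reduced fibre along which the morphism is universally open
(EGA IV 15.5.9 (ii)) (helper13)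
-/

set_option autoImplicit false
set_option linter.style.haveILetI false
universe u
open CategoryTheory CategoryTheory.Limits AlgebraicGeometry TopologicalSpace Opposite

namespace Groth.Agent.Lib.Helper13.SteinUSC

open Groth.Agent.Lib.Helper13.SteinLSC

/-- preimage, under a closed map with preconnected fibres, of a set all of whose points specialise
to one of its points. -/
lemma isPreconnected_preimage_of_specializes {α β : Type*} [TopologicalSpace α]
    [TopologicalSpace β] (θ : α → β) (hcl : IsClosedMap θ)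
    (hfib : ∀ b, IsPreconnected (θ ⁻¹' {b}))
    (D : Set β) (m : β) (hm : m ∈ D) (hD : ∀ t ∈ D, t ⤳ m) : IsPreconnected (θ ⁻¹' D) := by
  rw [isPreconnected_closed_iff]
  rintro t t' ht ht' hsub ⟨x, hxD, hxt⟩ ⟨x', hx'D, hx't'⟩
  have h1 : m ∈ θ '' t := (hD _ hxD).mem_closed (hcl t ht) ⟨x, hxt, rfl⟩
  have h2 : m ∈ θ '' t' := (hD _ hx'D).mem_closed (hcl t' ht') ⟨x', hx't', rfl⟩
  obtain ⟨x₁, hx₁t, hx₁⟩ := h1
  obtain ⟨x₂, hx₂t, hx₂⟩ := h2
  have hfibD : θ ⁻¹' {m} ⊆ θ ⁻¹' D := by
    intro z hz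
    have hz' : θ z = m := hz
    show θ z ∈ D
    rw [hz']; exact hm
  obtain ⟨z, hz, hzt⟩ := isPreconnected_closed_iff.mp (hfib m) t t' ht ht'
    (hfibD.trans hsub) ⟨x₁, hx₁, hx₁t⟩ ⟨x₂, hx₂, hx₂t⟩
  exact ⟨z, hfibD hz, hzt⟩

/-- the fibre of an open subscheme is reduced when the fibre is. -/
lemma isReduced_fiber_of_isOpenImmersion {U P S : Scheme.{u}} (j : U ⟶ P) [IsOpenImmersion j]
    (p : P ⟶ S) (a : S) [IsReduced (p.fiber a)] : IsReduced ((j ≫ p).fiber a) := by
  obtain ⟨ψ, hψ⟩ : ∃ ψ : (j ≫ p).fiber a ⟶ p.fiber a,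
      ψ = pullback.lift ((j ≫ p).fiberι a ≫ j) ((j ≫ p).fiberToSpecResidueField a)
        (by rw [Category.assoc]; exact (j ≫ p).fiber_fac a) := ⟨_, rfl⟩
  have h1 : ψ ≫ p.fiberι a = (j ≫ p).fiberι a ≫ j := by
    rw [hψ]; exact pullback.lift_fst _ _ _
  have h2 : ψ ≫ pullback.snd p (S.fromSpecResidueField a) =
      pullback.snd (j ≫ p) (S.fromSpecResidueField a) := by
    rw [hψ]; exact pullback.lift_snd _ _ _
  have sq : IsPullback ψ ((j ≫ p).fiberι a) (p.fiberι a) j := by
    refine IsPullback.of_right ?_ h1 (IsPullback.of_hasPullback p (S.fromSpecResidueField a)).flip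
    rw [h2]
    exact (IsPullback.of_hasPullback (j ≫ p) (S.fromSpecResidueField a)).flip
  haveI : IsOpenImmersion ψ :=
    MorphismProperty.of_isPullback (P := @IsOpenImmersion) sq.flip inferInstance
  exact isReduced_of_isOpenImmersion ψ

section DVR

variable (A : Type u) [CommRing A] [IsDomain A] [IsDiscreteValuationRing A]

/-- **The key count over a discrete valuation ring.** -/
theorem dvr_card_le {P Q : Scheme.{u}} (θ : P ⟶ Q) (q : Q ⟶ Spec (CommRingCat.of A))
    (p : P ⟶ Spec (CommRingCat.of A)) (hp : θ ≫ q = p)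
    [IsFinite q] [UniversallyClosed θ] [Surjective θ] [GeometricallyConnected θ]
    [LocallyOfFiniteType p] (hopen : IsOpenMap p)
    (b : Spec (CommRingCat.of A)) (hb : ∀ z : Spec (CommRingCat.of A), b ⤳ z)
    [IsReduced (p.fiber (IsLocalRing.closedPoint A))] :
    ENat.card (q.fiber b) ≤ ENat.card (q.fiber (IsLocalRing.closedPoint A)) := by
  classical
  obtain ⟨a, ha_def⟩ : ∃ a : Spec (CommRingCat.of A), a = IsLocalRing.closedPoint A := ⟨_, rfl⟩
  have hredp : IsReduced (p.fiber a) := by rw [ha_def]; infer_instance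
  rw [← ha_def]
  have ha : IsClosed ({a} : Set (Spec (CommRingCat.of A))) := by
    rw [ha_def]; exact IsLocalRing.isClosed_singleton_closedPoint A
  have hb' : b = (⟨⊥, Ideal.isPrime_bot⟩ : PrimeSpectrum A) :=
    Groth.Agent.Lib.Helper6.OpenConn.eq_bot_of_forall_specializes b hb
  have hab : ∀ s : Spec (CommRingCat.of A), s = a ∨ s = b := fun s => by
    rw [hb', ha_def]; exact Groth.Agent.Lib.Helper6.OpenConn.eq_closedPoint_or_eq_bot s
  have hQfin : (Set.univ : Set Q).Finite := by
    have : (Set.univ : Set Q) = q ⁻¹' {a} ∪ q ⁻¹' {b} := by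
      ext t
      simp only [Set.mem_univ, Set.mem_union, Set.mem_preimage, Set.mem_singleton_iff, true_iff]
      exact hab (q t)
    rw [this]
    exact (q.finite_preimage_singleton a).union (q.finite_preimage_singleton b)
  haveI : Finite Q := Set.finite_univ_iff.mp hQfin
  have hDopen : ∀ m : Q, IsOpen {t : Q | t ⤳ m} := by
    intro m
    have : {t : Q | t ⤳ m}ᶜ = ⋃ t ∈ {t : Q | ¬ t ⤳ m}, closure {t} := by
      ext s
      simp only [Set.mem_compl_iff, Set.mem_setOf_eq, Set.mem_iUnion, exists_prop]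
      constructor
      · intro hs; exact ⟨s, hs, subset_closure rfl⟩
      · rintro ⟨t, ht, hst⟩ hsm
        exact ht ((specializes_iff_mem_closure.mpr hst).trans hsm)
    rw [← isClosed_compl_iff, this]
    exact (Set.toFinite _).isClosed_biUnion (fun _ _ => isClosed_closure)
  have hpq : ∀ x : P, p x = q (θ x) := by
    intro x; rw [← hp, Scheme.Hom.comp_apply]
  have key : ∀ (m t₁ t₂ : Q), q t₁ = b → q t₂ = b → t₁ ⤳ m → t₂ ⤳ m → t₁ = t₂ := by
    intro m t₁ t₂ h₁ h₂ hs₁ hs₂
    obtain ⟨D, hD⟩ : ∃ D : Q.Opens, D = ⟨{t | t ⤳ m}, hDopen m⟩ := ⟨_, rfl⟩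
    obtain ⟨U, hU⟩ : ∃ U : P.Opens, U = θ ⁻¹ᵁ D := ⟨_, rfl⟩
    have hUmem : ∀ x : P, x ∈ U ↔ θ x ⤳ m := by
      intro x; rw [hU, hD]; rfl
    have hpre : _root_.IsPreconnected (U : Set P) := by
      have h1 := isPreconnected_preimage_of_specializes (fun x : P => θ x) θ.isClosedMap
        (fun t => (θ.isConnected_preimage_singleton t).isPreconnected) {t | t ⤳ m} m
        specializes_rfl (fun t ht => ht)
      convert h1 using 1
      ext x; exact hUmem x
    haveI : PreconnectedSpace ↥U.toScheme := isPreconnected_iff_preconnectedSpace.mp hpre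
    obtain ⟨pU, hpU⟩ : ∃ pU : U.toScheme ⟶ Spec (CommRingCat.of A), pU = U.ι ≫ p := ⟨_, rfl⟩
    haveI : LocallyOfFiniteType pU := by rw [hpU]; infer_instance
    have hpUapp : ∀ u : U.toScheme, pU u = q (θ (U.ι u)) := by
      intro u; rw [hpU, Scheme.Hom.comp_apply, hpq]
    have hpUopen : IsOpenMap pU := by
      have h1 : (pU : U.toScheme → Spec (CommRingCat.of A)) = (p : P → _) ∘ (U.ι : _ → P) := by
        funext u; rw [hpU, Scheme.Hom.comp_apply]; rfl
      rw [h1]; exact hopen.comp U.ι.isOpenEmbedding.isOpenMap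
    haveI hredU : IsReduced (pU.fiber a) := by
      rw [hpU]; exact isReduced_fiber_of_isOpenImmersion U.ι p a
    have hconn : PreconnectedSpace ↥(pU.fiber b) :=
      Groth.Agent.S3417.result A pU hpUopen a b ha hb hredU
    have hdisc : DiscreteTopology ↥(q ⁻¹' {b}) := (q.isDiscrete_preimage_singleton b).to_subtype
    have hfib : ∀ w : pU.fiber b, pU (pU.fiberι b w) = b := by
      intro w
      have : pU.fiberι b w ∈ pU ⁻¹' {b} := by rw [← pU.range_fiberι b]; exact ⟨w, rfl⟩
      exact this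
    have hφ : Continuous (fun w : pU.fiber b =>
        (⟨θ (U.ι (pU.fiberι b w)), by
          show q (θ (U.ι (pU.fiberι b w))) ∈ ({b} : Set _)
          rw [← hpUapp, hfib]; rfl⟩ : ↥(q ⁻¹' {b}))) :=
      Continuous.subtype_mk (θ.continuous.comp (U.ι.continuous.comp (pU.fiberι b).continuous)) _
    have hlift : ∀ t : Q, q t = b → t ⤳ m → ∃ w : pU.fiber b, θ (U.ι (pU.fiberι b w)) = t := by
      intro t ht hs
      obtain ⟨x, hx⟩ := θ.surjective t
      have hxU : x ∈ U := (hUmem x).mpr (by rw [hx]; exact hs)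
      have hu : pU (⟨x, hxU⟩ : U.toScheme) = b := by
        rw [hpUapp]
        have : U.ι (⟨x, hxU⟩ : U.toScheme) = x := rfl
        rw [this, hx, ht]
      have hmem : (⟨x, hxU⟩ : U.toScheme) ∈ Set.range (pU.fiberι b) := by
        rw [pU.range_fiberι b]; exact hu
      obtain ⟨w, hw⟩ := hmem
      refine ⟨w, ?_⟩
      rw [hw]; exact hx
    obtain ⟨w₁, hw₁⟩ := hlift t₁ h₁ hs₁
    obtain ⟨w₂, hw₂⟩ := hlift t₂ h₂ hs₂
    have hc := congrArg Subtype.val (hconn.constant hφ (x := w₁) (y := w₂))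
    simp only at hc
    rw [hw₁, hw₂] at hc
    exact hc
  have hspec : ∀ t : Q, q t = b → ∃ m : Q, q m = a ∧ t ⤳ m := by
    intro t ht
    have hcl : IsClosed ((q : Q → _) '' closure {t}) := q.isClosedMap _ isClosed_closure
    have hmem : a ∈ (q : Q → _) '' closure {t} :=
      (hb a).mem_closed hcl ⟨t, subset_closure rfl, ht⟩
    obtain ⟨m, hm, hqm⟩ := hmem
    exact ⟨m, hqm, specializes_iff_mem_closure.mpr hm⟩
  have hqfib : ∀ (c : Spec (CommRingCat.of A)) (w : q.fiber c), q (q.fiberι c w) = c := by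
    intro c w
    have : q.fiberι c w ∈ q ⁻¹' {c} := by rw [← q.range_fiberι c]; exact ⟨w, rfl⟩
    exact this
  have hΦ : ∀ w : q.fiber b, ∃ w' : q.fiber a, (q.fiberι b w) ⤳ (q.fiberι a w') := by
    intro w
    obtain ⟨m, hqm, hm⟩ := hspec _ (hqfib b w)
    have hmr : m ∈ Set.range (q.fiberι a) := by rw [q.range_fiberι a]; exact hqm
    obtain ⟨w', rfl⟩ := hmr
    exact ⟨w', hm⟩
  choose Φ hΦ' using hΦ
  refine ENat.card_le_card_of_injective (f := Φ) ?_
  intro w₁ w₂ h12
  have h1 := hΦ' w₁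
  have h2 := hΦ' w₂
  rw [h12] at h1
  have h3 := key (q.fiberι a (Φ w₂)) (q.fiberι b w₁) (q.fiberι b w₂) (hqfib b w₁) (hqfib b w₂)
    h1 h2
  exact (q.fiberι b).isEmbedding.injective h3

/-- the base change to a discrete valuation ring is an open map. -/
lemma isOpenMap_snd {X Y : Scheme.{u}} (F : X ⟶ Y) (g : Spec (CommRingCat.of A) ⟶ Y)
    (hopen : ∀ x : X, F x = g (IsLocalRing.closedPoint A) → EGA43.IsUnivOpenAt F x) :
    IsOpenMap (pullback.snd F g) := by
  rw [isOpenMap_iff_nhds_le]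
  intro x
  rw [Filter.le_map_iff]
  intro N hN
  rcases Groth.Agent.Lib.Helper6.OpenConn.eq_closedPoint_or_eq_bot (A := A)
    ((pullback.snd F g) x) with h | h
  · have hx : F ((pullback.fst F g) x) = g (IsLocalRing.closedPoint A) := by
      rw [← Scheme.Hom.comp_apply, pullback.condition, Scheme.Hom.comp_apply, h]
    exact hopen _ hx _ g x rfl N hN
  · rw [h]
    refine Filter.mem_of_superset
      (Groth.Agent.Lib.Helper6.OpenConn.isOpen_singleton_bot.mem_nhds rfl) ?_
    rintro _ rfl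
    exact ⟨x, mem_of_mem_nhds hN, h⟩

/-- the count over a discrete valuation ring, for a Stein-type factorisation. -/
theorem dvr_main {X Y' Y : Scheme.{u}} (f' : X ⟶ Y') (π : Y' ⟶ Y) (F : X ⟶ Y)
    (hF : f' ≫ π = F) [IsProper F] [GeometricallyConnected f'] [IsFinite π]
    (g : Spec (CommRingCat.of A) ⟶ Y)
    (hopen : ∀ x : X, F x = g (IsLocalRing.closedPoint A) → EGA43.IsUnivOpenAt F x)
    (hred : GeometricallyReduced (F.fiberToSpecResidueField (g (IsLocalRing.closedPoint A))))
    (b : Spec (CommRingCat.of A)) (hb : ∀ z : Spec (CommRingCat.of A), b ⤳ z) :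
    ENat.card ((pullback.snd π g).fiber b) ≤
      ENat.card ((pullback.snd π g).fiber (IsLocalRing.closedPoint A)) := by
  haveI : UniversallyClosed f' := by
    haveI : UniversallyClosed (f' ≫ π) := by rw [hF]; infer_instance
    exact UniversallyClosed.of_comp_of_isSeparated f' π
  obtain ⟨θ, hθ⟩ : ∃ θ : pullback F g ⟶ pullback π g,
      θ = pullback.lift (pullback.fst F g ≫ f') (pullback.snd F g)
        (by rw [Category.assoc, hF, pullback.condition]) := ⟨_, rfl⟩
  have hθ1 : θ ≫ pullback.fst π g = pullback.fst F g ≫ f' := by rw [hθ, pullback.lift_fst]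
  have hθ2 : θ ≫ pullback.snd π g = pullback.snd F g := by rw [hθ, pullback.lift_snd]
  have sq : IsPullback θ (pullback.fst F g) (pullback.fst π g) f' := by
    refine IsPullback.of_right ?_ hθ1 (IsPullback.of_hasPullback π g).flip
    rw [hθ2, hF]; exact (IsPullback.of_hasPullback F g).flip
  haveI : Surjective θ := MorphismProperty.of_isPullback (P := @Surjective) sq.flip inferInstance
  haveI : UniversallyClosed θ :=
    MorphismProperty.of_isPullback (P := @UniversallyClosed) sq.flip inferInstance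
  haveI : GeometricallyConnected θ :=
    MorphismProperty.of_isPullback (P := @GeometricallyConnected) sq.flip inferInstance
  have hpopen : IsOpenMap (pullback.snd F g) := isOpenMap_snd A F g hopen
  haveI : IsReduced ((pullback.snd F g).fiber (IsLocalRing.closedPoint A)) := by
    have hP := isPullback_fiberToSpecResidueField_of_isPullback (IsPullback.of_hasPullback F g)
      (IsLocalRing.closedPoint A)
    exact hred.geometrically_isReduced _ _ _ hP
  exact dvr_card_le A θ (pullback.snd π g) (pullback.snd F g) hθ2 hpopen b hb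

end DVR

/-- the affine Noetherian case of upper semicontinuity along generizations. -/
theorem usc_affine_gen (R : Type u) [CommRing R] [IsNoetherianRing R] {X : Scheme.{u}}
    (f : X ⟶ Spec (CommRingCat.of R)) [IsProper f] (y z : Spec (CommRingCat.of R)) (hzy : z ⤳ y)
    (h : ∀ x : X, f x = y → EGA43.IsUnivOpenAt f x)
    (hred : GeometricallyReduced (f.fiberToSpecResidueField y)) :
    MoreMor.nGeomConnComp f z ≤ MoreMor.nGeomConnComp f y := by
  by_cases hne : z = y
  · rw [hne]
  haveI : GeometricallyConnected X.toSpecΓ :=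
    Groth.Agent.Lib.Helper13.SteinEt.geometricallyConnected_toSpecΓ R f
  obtain ⟨π, hπ⟩ : ∃ π : Spec Γ(X, ⊤) ⟶ Spec (CommRingCat.of R),
      π = Groth.Agent.Lib.Helper13.SteinEt.πB f := ⟨_, rfl⟩
  have hf : X.toSpecΓ ≫ π = f := by
    rw [hπ]; exact Groth.Agent.Lib.Helper13.SteinEt.toSpecΓ_πB f
  haveI : IsFinite π := by
    rw [hπ]
    letI algB : Algebra R Γ(X, ⊤) := (Coh.toGlobal f).toAlgebra
    have hfin : Module.Finite R Γ(X, ⊤) := Groth.Agent.Lib.Helper13.SteinEt.finite_gamma f
    have h1 : (algebraMap R Γ(X, ⊤)).Finite := hfin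
    exact (IsFinite.SpecMap_iff _).mpr h1
  haveI : IsLocallyNoetherian (Spec (CommRingCat.of R)) := inferInstance
  have hcount : ∀ z, MoreMor.nGeomConnComp f z = MoreMor.nGeomConnComp π z := by
    intro z
    rw [← hf]
    exact nGeomConnComp_comp X.toSpecΓ π z
  rw [hcount, hcount]
  obtain ⟨A, _, _, _, g, hga, hgb, hna, hnb⟩ := Groth.Agent.S4950.result π y z hne hzy
  rw [hna, hnb]
  subst hga
  exact dvr_main A X.toSpecΓ π f hf g h hred _
    (fun s => (genericPoint_spec (Spec (CommRingCat.of A))).specializes (Set.mem_univ s))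

/-- upper semicontinuity along generizations. -/
theorem usc_gen {X Y : Scheme.{u}} [IsLocallyNoetherian Y] (f : X ⟶ Y) [IsProper f] (y z : Y)
    (hzy : z ⤳ y) (h : ∀ x : X, f x = y → EGA43.IsUnivOpenAt f x)
    (hred : GeometricallyReduced (f.fiberToSpecResidueField y)) :
    MoreMor.nGeomConnComp f z ≤ MoreMor.nGeomConnComp f y := by
  obtain ⟨V', hV, hyV, -⟩ := exists_isAffineOpen_mem_and_subset (x := y) (U := ⊤) trivial
  obtain ⟨V, rfl⟩ : ∃ V : Y.Opens, V = V' := ⟨V', rfl⟩
  haveI : IsAffine V.toScheme := hV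
  haveI : IsLocallyNoetherian V.toScheme := inferInstance
  haveI : IsNoetherianRing Γ(V.toScheme, ⊤) :=
    IsLocallyNoetherian.component_noetherian ⟨⊤, isAffineOpen_top _⟩
  obtain ⟨F, hF⟩ : ∃ F : (f ⁻¹ᵁ V).toScheme ⟶ Spec (CommRingCat.of ↑Γ(V.toScheme, ⊤)),
      F = (f ∣_ V) ≫ V.toScheme.isoSpec.hom := ⟨_, rfl⟩
  obtain ⟨j, hj⟩ : ∃ j : Spec (CommRingCat.of ↑Γ(V.toScheme, ⊤)) ⟶ Y,
      j = V.toScheme.isoSpec.inv ≫ V.ι := ⟨_, rfl⟩
  have sq₁ : IsPullback (f ⁻¹ᵁ V).ι (f ∣_ V) f V.ι := (isPullback_morphismRestrict f V).flip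
  have sq₃ : IsPullback (𝟙 _) F (f ∣_ V) V.toScheme.isoSpec.inv :=
    IsPullback.of_horiz_isIso ⟨by rw [hF, Category.assoc, Iso.hom_inv_id, Category.comp_id,
      Category.id_comp]⟩
  have sq : IsPullback (f ⁻¹ᵁ V).ι F f j := by
    have h1 := sq₃.paste_horiz sq₁
    rw [Category.id_comp] at h1
    rw [hj]; exact h1
  haveI : IsProper F := by rw [hF]; infer_instance
  haveI : IsOpenImmersion j := by rw [hj]; infer_instance
  have hzV : z ∈ V := hzy.mem_open V.isOpen hyV
  obtain ⟨w₀, hw₀⟩ : ∃ w₀, j w₀ = y := by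
    refine ⟨V.toScheme.isoSpec.hom ⟨y, hyV⟩, ?_⟩
    rw [hj, ← Scheme.Hom.comp_apply, ← Category.assoc, Iso.hom_inv_id, Category.id_comp]
    rfl
  obtain ⟨w, hw⟩ : ∃ w, j w = z := by
    refine ⟨V.toScheme.isoSpec.hom ⟨z, hzV⟩, ?_⟩
    rw [hj, ← Scheme.Hom.comp_apply, ← Category.assoc, Iso.hom_inv_id, Category.id_comp]
    rfl
  subst hw₀
  subst hw
  have hww : w ⤳ w₀ := j.isOpenEmbedding.isInducing.specializes_iff.mp hzy
  have hF_open : ∀ x, F x = w₀ → EGA43.IsUnivOpenAt F x := by
    intro x hx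
    refine isUnivOpenAt_of_isPullback sq x (h _ ?_)
    rw [← Scheme.Hom.comp_apply, sq.w, Scheme.Hom.comp_apply, hx]
  have hredF : GeometricallyReduced (F.fiberToSpecResidueField w₀) :=
    MorphismProperty.of_isPullback (P := @GeometricallyReduced)
      (isPullback_fiberToSpecResidueField_of_isPullback sq w₀) hred
  rw [← Groth.Agent.S1335.result f F (f ⁻¹ᵁ V).ι j sq w₀,
    ← Groth.Agent.S1335.result f F (f ⁻¹ᵁ V).ι j sq w]
  exact usc_affine_gen _ F w₀ w hww hF_open hredF

/-- **EGA IV 15.5.9 (ii)**: the geometric number of connected components of the fibres of a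
proper morphism is constant near a point with geometrically reduced fibre along which the
morphism is universally open. -/
theorem const_nhd {X Y : Scheme.{u}} [IsLocallyNoetherian Y] (f : X ⟶ Y) [IsProper f] (y : Y)
    (h : ∀ x : X, f x = y → EGA43.IsUnivOpenAt f x)
    (hred : GeometricallyReduced (f.fiberToSpecResidueField y)) :
    ∃ V ∈ nhds y, ∀ z ∈ V, MoreMor.nGeomConnComp f z = MoreMor.nGeomConnComp f y := by
  obtain ⟨V₁, hV₁, hV₁n⟩ := lsc_at f y h
  haveI : LocallyOfFinitePresentation f :=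
    Groth.Agent.Lib.Helper12.SecCompBC.locallyOfFinitePresentation_of_isLocallyNoetherian f
  obtain ⟨E, hE⟩ : ∃ E : Set Y,
      E = {z | MoreMor.nGeomConnComp f z ≤ MoreMor.nGeomConnComp f y} := ⟨_, rfl⟩
  have hElc : Topology.IsLocallyConstructible E := by
    rcases eq_or_ne (MoreMor.nGeomConnComp f y) ⊤ with htop | htop
    · have : E = Set.univ := by
        rw [hE]; ext z; simp [htop]
      rw [this]; exact Topology.IsLocallyConstructible.univ
    · obtain ⟨k, hk⟩ := ENat.ne_top_iff_exists.mp htop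
      have : E = ⋃ i ∈ (Set.Iic k : Set ℕ), {z | MoreMor.nGeomConnComp f z = (i : ℕ∞)} := by
        rw [hE]
        ext z
        simp only [Set.mem_setOf_eq, Set.mem_iUnion, Set.mem_Iic, exists_prop]
        rw [← hk]
        constructor
        · intro hz
          obtain ⟨i, hi⟩ := ENat.ne_top_iff_exists.mp
            (ne_top_of_le_ne_top (ENat.coe_ne_top k) hz)
          refine ⟨i, ?_, hi.symm⟩
          rw [← hi] at hz; exact_mod_cast hz
        · rintro ⟨i, hi, hz⟩
          rw [hz]; exact_mod_cast hi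
      rw [this]
      exact Topology.IsLocallyConstructible.biUnion (Set.finite_Iic k)
        (fun i _ => Groth.Agent.S1339.result f i)
  have hEind := ((Groth.Agent.S3402.result Y E).mp hElc).1
  have hint : y ∈ interior E := (Groth.Agent.S3403.result Y E hEind y).mpr (fun z hz => by
    rw [hE]; exact usc_gen f y z hz h hred)
  refine ⟨V₁ ∩ interior E, Filter.inter_mem hV₁ (isOpen_interior.mem_nhds hint), fun z hz => ?_⟩
  have hzE : z ∈ E := interior_subset hz.2
  rw [hE] at hzE
  exact le_antisymm hzE (hV₁n z hz.1)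

end Groth.Agent.Lib.Helper13.SteinUSC
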