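import Mathlib

set_option autoImplicit false
set_option linter.style.haveILetI false

/-!
# Integration of a first-difference formula (sub-lemma B5 for S3321, requested by helper7)
-/

namespace Groth.Agent.Lib.Helper13.StepSum

open Finset

lemma sum_add_delta {n : ℕ} (b w : Fin n → ℤ) (i : Fin n) :
    ∑ k, (b k + if k = i then (1 : ℤ) else 0) * w k = ∑ k, b k * w k + w i := by
  simp only [add_mul, ite_mul, one_mul, zero_mul, Finset.sum_add_distrib, Finset.sum_ite_eq',
    Finset.mem_univ, if_true]

/-- the quadratic expression on the right-hand side. -/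
def G {n : ℕ} (M : Fin n → Fin n → ℤ) (c : Fin n → ℤ) (b : Fin n → ℤ) : ℤ :=
  ∑ i, b i * (2 * c i + M i i) - ∑ i, ∑ j, b i * b j * M i j

lemma G_step {n : ℕ} (M : Fin n → Fin n → ℤ) (hsymm : ∀ i j, M i j = M j i) (c : Fin n → ℤ)
    (b : Fin n → ℤ) (i : Fin n) :
    G M c (fun j => b j + if j = i then (1 : ℤ) else 0) - G M c b =
      2 * (-(∑ j, b j * M i j) + c i) := by
  have h1 := sum_add_delta b (fun k => 2 * c k + M k k) i
  have hin : ∀ k, ∑ j, (b k + if k = i then (1 : ℤ) else 0) *
      (b j + if j = i then (1 : ℤ) else 0) * M k j =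
      (b k + if k = i then (1 : ℤ) else 0) * (∑ j, b j * M k j + M k i) := by
    intro k
    rw [← sum_add_delta b (fun j => M k j) i, Finset.mul_sum]
    exact Finset.sum_congr rfl (fun j _ => by ring)
  have h2 : ∑ k, ∑ j, (b k + if k = i then (1 : ℤ) else 0) *
      (b j + if j = i then (1 : ℤ) else 0) * M k j =
      ∑ k, ∑ j, b k * b j * M k j + ∑ k, b k * M k i + (∑ j, b j * M i j + M i i) := by
    rw [Finset.sum_congr rfl (fun k _ => hin k),
      sum_add_delta b (fun k => ∑ j, b j * M k j + M k i) i]
    congr 1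
    rw [← Finset.sum_add_distrib]
    refine Finset.sum_congr rfl (fun k _ => ?_)
    rw [mul_add, Finset.mul_sum]
    congr 1
    exact Finset.sum_congr rfl (fun j _ => by ring)
  have h3 : ∑ k, b k * M k i = ∑ j, b j * M i j :=
    Finset.sum_congr rfl (fun k _ => by rw [hsymm k i])
  unfold G
  rw [h1, h2, h3]
  ring

lemma G_zero {n : ℕ} (M : Fin n → Fin n → ℤ) (c : Fin n → ℤ) : G M c (fun _ => 0) = 0 := by
  simp [G]

theorem two_mul_eq_of_step {n : ℕ} (M : Fin n → Fin n → ℤ) (hsymm : ∀ i j, M i j = M j i)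
    (c : Fin n → ℤ) (F : (Fin n → ℕ) → ℤ) (h0 : F (fun _ => 0) = 0)
    (hstep : ∀ (a : Fin n → ℕ) (i : Fin n),
      F (fun j => a j + if j = i then 1 else 0) - F a = -(∑ j, (a j : ℤ) * M i j) + c i)
    (a : Fin n → ℕ) :
    2 * F a = ∑ i, (a i : ℤ) * (2 * c i + M i i) - ∑ i, ∑ j, (a i : ℤ) * (a j : ℤ) * M i j := by
  suffices H : ∀ (s : ℕ) (a : Fin n → ℕ), ∑ j, a j = s →
      2 * F a = G M c (fun j => (a j : ℤ)) from H _ a rfl
  intro s
  induction s with
  | zero =>
    intro a ha
    have ha0 : a = fun _ => 0 := by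
      funext j
      exact (Finset.sum_eq_zero_iff.mp ha) j (Finset.mem_univ j)
    subst ha0
    rw [h0]
    simp [G]
  | succ s ih =>
    intro a ha
    obtain ⟨i, hi⟩ : ∃ i, a i ≠ 0 := by
      by_contra hcon
      push_neg at hcon
      have : ∑ j, a j = 0 := Finset.sum_eq_zero (fun j _ => hcon j)
      omega
    set a' : Fin n → ℕ := Function.update a i (a i - 1) with ha'
    have hrec : (fun j => a' j + if j = i then 1 else 0) = a := by
      funext j
      by_cases hj : j = i
      · subst hj
        simp only [ha', Function.update_self, if_true]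
        omega
      · simp [ha', Function.update_of_ne hj, hj]
    have hsum : ∑ j, a' j = s := by
      have h : ∑ j, a j = ∑ j, a' j + 1 := by
        conv_lhs => rw [← hrec]
        simp only [Finset.sum_add_distrib, Finset.sum_ite_eq', Finset.mem_univ, if_true]
      omega
    have hIH := ih a' hsum
    have hst := hstep a' i
    rw [hrec] at hst
    have hG := G_step M hsymm c (fun j => (a' j : ℤ)) i
    have hcast : (fun j => ((a j : ℕ) : ℤ)) =
        fun j => (a' j : ℤ) + if j = i then (1 : ℤ) else 0 := by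
      funext j
      rw [← hrec]
      push_cast
      split_ifs <;> simp
    rw [hcast]
    linarith

end Groth.Agent.Lib.Helper13.StepSum
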