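import Groth.Agent.Lib.Helper13.LocCohQC
import Groth.Agent.Lib.Helper2.LocCohZ.OpenSES
import Groth.Agent.Lib.Helper2.GSS.AcyclicClass
import Groth.Prelude.Def_SuppFam

/-!
# Comparison of module-level and abelian-level sections with support (helper13)

* two subsheaves with the same sections are isomorphic (`exists_iso_of_range_eq`);
* `gammaZCompare k : DCoh.gammaZ k ⋙ toAb ≅ toAb ⋙ LocCohZ.sectSuppF k.opensRange`;
* flasque sheaves are acyclic for `SuppFam.sectSuppLC h`.
-/

set_option autoImplicit false
set_option backward.isDefEq.respectTransparency false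
universe u

namespace Groth.Agent.Lib.Helper13.SuppCompare

open CategoryTheory CategoryTheory.Limits AlgebraicGeometry TopologicalSpace Opposite
open AlgebraicGeometry.Scheme.Modules
open Groth.Agent.Lib.Helper2 Groth.Agent.Lib.Helper2.LocCohZLib

section Sub

variable {X : TopCat.{u}}

lemma app_zero (B C : CohTop.Ab X) (V : Opens X) (t : B.obj.obj (op V)) :
    ((0 : B ⟶ C).hom.app (op V)).hom t = 0 := by
  have h : (sheafToPresheaf _ _ ⋙ (evaluation _ _).obj (op V)).map (0 : B ⟶ C) = 0 :=
    Functor.map_zero _ _ _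
  have h' : (0 : B ⟶ C).hom.app (op V) = 0 := h
  rw [h']
  rfl

/-- two subobjects of an abelian sheaf with the same sections are isomorphic (over the sheaf). -/
lemma exists_iso_of_range_eq {A B P : CohTop.Ab X} (a : A ⟶ P) (b : B ⟶ P) [Mono a] [Mono b]
    (h : ∀ (V : Opens X) (s : P.obj.obj (op V)),
      (∃ t, (a.hom.app (op V)).hom t = s) ↔ (∃ t, (b.hom.app (op V)).hom t = s)) :
    ∃ e : A ≅ B, e.hom ≫ b = a := by
  have key : ∀ {A B : CohTop.Ab X} (a : A ⟶ P) (b : B ⟶ P),
      (∀ (V : Opens X) (w : A.obj.obj (op V)),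
        ∃ t, (b.hom.app (op V)).hom t = (a.hom.app (op V)).hom w) →
      a ≫ cokernel.π b = 0 := by
    intro A B a b hab
    apply hom_eq_zero_of_app
    intro V w
    obtain ⟨t, ht⟩ := hab V w
    have e1 : ((a ≫ cokernel.π b).hom.app (op V)).hom w =
        ((cokernel.π b).hom.app (op V)).hom ((a.hom.app (op V)).hom w) := rfl
    have e2 : ((b ≫ cokernel.π b).hom.app (op V)).hom t =
        ((cokernel.π b).hom.app (op V)).hom ((b.hom.app (op V)).hom t) := rfl
    rw [e1, ← ht, ← e2, cokernel.condition]
    exact app_zero _ _ V t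
  have h1 := key a b (fun V w => (h V _).1 ⟨w, rfl⟩)
  have h2 := key b a (fun V w => (h V _).2 ⟨w, rfl⟩)
  refine ⟨⟨Abelian.monoLift b a h1, Abelian.monoLift a b h2, ?_, ?_⟩, Abelian.monoLift_comp b a h1⟩
  · rw [← cancel_mono a, Category.assoc, Abelian.monoLift_comp, Abelian.monoLift_comp,
      Category.id_comp]
  · rw [← cancel_mono b, Category.assoc, Abelian.monoLift_comp, Abelian.monoLift_comp,
      Category.id_comp]

end Sub

section C2

variable {S U' : Scheme.{u}} (k : U' ⟶ S) [IsOpenImmersion k]

/-- the forgetful functor to abelian sheaves. -/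
noncomputable abbrev TT (X : Scheme.{u}) := RpushCompare.TT X

lemma image_preimage_eq (V : S.Opens) : k ''ᵁ k ⁻¹ᵁ V = V ⊓ k.opensRange := by
  rw [Scheme.Hom.image_preimage_eq_opensRange_inf, inf_comm]

/-- sections of `Γ_Z(M)`: the sections of `M` killed by the unit. -/
lemma range_a (M : S.Modules) (V : S.Opens) (s : (Coh.toAb M).obj.obj (op V)) :
    (∃ t, (((TT S).map (kernel.ι ((restrictAdjunction k).unit.app M))).hom.app (op V)).hom t = s) ↔
      ((Coh.toAb M).obj.map (homOfLE (k.image_preimage_le V)).op).hom s = 0 := by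
  constructor
  · rintro ⟨t, rfl⟩
    have h0 : (TT S).map (kernel.ι ((restrictAdjunction k).unit.app M)) ≫
        (TT S).map ((restrictAdjunction k).unit.app M) = 0 := by
      rw [← Functor.map_comp, kernel.condition, Functor.map_zero]
    have h1 := congrArg (fun ψ : (TT S).obj (kernel ((restrictAdjunction k).unit.app M)) ⟶ _ =>
      (ψ.hom.app (op V)).hom t) h0
    exact h1.trans (app_zero _ _ V t)
  · intro hs
    have hSS : (ShortComplex.mk (kernel.ι ((restrictAdjunction k).unit.app M))
        ((restrictAdjunction k).unit.app M) (kernel.condition _)).Exact :=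
      ShortComplex.exact_of_f_is_kernel _ (kernelIsKernel _)
    have hex := hSS.map_of_mono_of_preservesKernel (TT S)
      (inferInstanceAs (Mono (kernel.ι ((restrictAdjunction k).unit.app M)))) inferInstance
    have hmono : Mono ((ShortComplex.mk (kernel.ι ((restrictAdjunction k).unit.app M))
        ((restrictAdjunction k).unit.app M) (kernel.condition _)).map (TT S)).f :=
      inferInstanceAs (Mono ((TT S).map (kernel.ι ((restrictAdjunction k).unit.app M))))
    exact TopCat.Sheaf.sections_exact_of_left_exact hex hmono s hs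

lemma range_eq (M : S.Modules) (V : S.Opens) (s : (Coh.toAb M).obj.obj (op V)) :
    (∃ t, (((TT S).map (kernel.ι ((restrictAdjunction k).unit.app M))).hom.app (op V)).hom t = s) ↔
      (∃ t, ((sectSuppι k.opensRange (Coh.toAb M)).hom.app (op V)).hom t = s) := by
  rw [range_a]
  constructor
  · intro hs
    apply exists_sectSupp_of_mem
    exact (map_eq_zero_iff_of_eq (Coh.toAb M) (image_preimage_eq k V) _ _ s).1 hs
  · rintro ⟨t, rfl⟩
    exact (map_eq_zero_iff_of_eq (Coh.toAb M) (image_preimage_eq k V) _ _ _).2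
      (sectSuppι_app_mem k.opensRange (Coh.toAb M) V t)

instance (M : S.Modules) : Mono ((TT S).map (kernel.ι ((restrictAdjunction k).unit.app M))) :=
  inferInstance

noncomputable def c2app (M : S.Modules) :
    (TT S).obj ((DCoh.gammaZ k).obj M) ≅ (LocCohZ.sectSuppF k.opensRange).obj ((TT S).obj M) :=
  (exists_iso_of_range_eq ((TT S).map (kernel.ι ((restrictAdjunction k).unit.app M)))
    (sectSuppι k.opensRange (Coh.toAb M)) (range_eq k M)).choose

lemma c2app_ι (M : S.Modules) :
    (c2app k M).hom ≫ sectSuppι k.opensRange (Coh.toAb M) =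
      (TT S).map (kernel.ι ((restrictAdjunction k).unit.app M)) :=
  (exists_iso_of_range_eq ((TT S).map (kernel.ι ((restrictAdjunction k).unit.app M)))
    (sectSuppι k.opensRange (Coh.toAb M)) (range_eq k M)).choose_spec

/-- **`toAb ∘ Γ_Z ≅ Γ_Z ∘ toAb`**. -/
noncomputable def gammaZCompare :
    DCoh.gammaZ k ⋙ TT S ≅ TT S ⋙ LocCohZ.sectSuppF k.opensRange :=
  NatIso.ofComponents (c2app k) (by
    intro M N φ
    refine (cancel_mono (sectSuppι k.opensRange (Coh.toAb N))).1 ?_
    have hL : (DCoh.gammaZ k ⋙ TT S).map φ ≫ (c2app k N).hom ≫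
        sectSuppι k.opensRange (Coh.toAb N) =
        (TT S).map (kernel.ι ((restrictAdjunction k).unit.app M)) ≫ (TT S).map φ := by
      rw [c2app_ι]
      change (TT S).map ((DCoh.gammaZ k).map φ) ≫ _ = _
      rw [← Functor.map_comp, ← Functor.map_comp]
      congr 1
      exact (LocCohQC.α k).naturality φ
    have hR : (c2app k M).hom ≫ (TT S ⋙ LocCohZ.sectSuppF k.opensRange).map φ ≫
        sectSuppι k.opensRange (Coh.toAb N) =
        (TT S).map (kernel.ι ((restrictAdjunction k).unit.app M)) ≫ (TT S).map φ := by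
      have h1 : (TT S ⋙ LocCohZ.sectSuppF k.opensRange).map φ ≫
          sectSuppι k.opensRange (Coh.toAb N) =
          sectSuppι k.opensRange (Coh.toAb M) ≫ (TT S).map φ :=
        sectSuppMap_ι k.opensRange ((TT S).map φ)
      rw [h1, ← Category.assoc, c2app_ι]
    rw [Category.assoc, Category.assoc, hL, hR])

end C2

section Flasque

variable {X : TopCat.{u}}

lemma isFlasque_restr (F : CohTop.Ab X) [hF : TopCat.Sheaf.IsFlasque F] (V : Opens X) :
    TopCat.Sheaf.IsFlasque (CohTop.restr F V) where
  epi {A B} i := TopCat.Presheaf.IsFlasque.epi (F := F.obj) _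

lemma isFlasque_toAb_of_injective {Y : Scheme.{u}} (I : Y.Modules) (hI : Injective I) :
    TopCat.Sheaf.IsFlasque (Coh.toAb I) where
  epi {A B} i := by
    rw [AddCommGrpCat.epi_iff_surjective]
    haveI : Mono i.unop := ⟨fun _ _ _ => Subsingleton.elim _ _⟩
    exact @InjRestrSurj.restriction_surjective _ _ _ Y.ringCatSheaf I hI _ _ i.unop inferInstance

variable {W V : Opens X} (h : W ≤ V)

instance preservesFiniteLimits_restrFunctor (V : Opens X) :
    PreservesFiniteLimits (CohTop.restrFunctor V) := by
  have : PreservesLimitsOfSize.{0, 0} (CohTop.restrFunctor V) :=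
    (adjShriek V).rightAdjoint_preservesLimits
  exact PreservesLimitsOfSize.preservesFiniteLimits _

instance preservesFiniteColimits_restrFunctor (V : Opens X) :
    PreservesFiniteColimits (CohTop.restrFunctor V) := by
  have : PreservesColimitsOfSize.{0, 0} (CohTop.restrFunctor V) :=
    (adjRes V).leftAdjoint_preservesColimits
  exact PreservesColimitsOfSize.preservesFiniteColimits _

instance preservesFiniteLimits_push {Z : TopCat.{u}} (f : X ⟶ Z) :
    PreservesFiniteLimits (CohTop.push f) := by
  have : PreservesLimitsOfSize.{0, 0} (CohTop.push f) :=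
    (TopCat.Sheaf.pullbackPushforwardAdjunction AddCommGrpCat.{u} f).rightAdjoint_preservesLimits
  exact PreservesLimitsOfSize.preservesFiniteLimits _

instance preservesFiniteLimits_sectSuppF_inOpen (V W : Opens X) :
    PreservesFiniteLimits (LocCohZ.sectSuppF (SuppFam.inOpen V W)) :=
  preservesFiniteLimits_sectSuppF _

instance preservesFiniteLimits_sectSuppLC : PreservesFiniteLimits (SuppFam.sectSuppLC h) := by
  unfold SuppFam.sectSuppLC
  haveI h3 : PreservesFiniteLimits (CohTop.push (CohCx.incl V)) := preservesFiniteLimits_push _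
  haveI h23 : PreservesFiniteLimits (LocCohZ.sectSuppF (SuppFam.inOpen V W) ⋙
      CohTop.push (CohCx.incl V)) := comp_preservesFiniteLimits _ _
  exact comp_preservesFiniteLimits _ _

/-- `sectSuppLC` is exact on short exact sequences starting with a flasque sheaf. -/
lemma epi_sectSuppLC_map (S : ShortComplex (CohTop.Ab X)) (hS : S.ShortExact)
    [hF : TopCat.Sheaf.IsFlasque S.X₁] : Epi ((SuppFam.sectSuppLC h).map S.g) := by
  have hS' : (S.map (CohTop.restrFunctor V)).ShortExact := hS.map_of_exact _
  haveI : TopCat.Sheaf.IsFlasque (S.map (CohTop.restrFunctor V)).X₁ := isFlasque_restr S.X₁ V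
  haveI : TopCat.Sheaf.IsFlasque ((CohTop.restrFunctor V).obj S.X₁) := isFlasque_restr S.X₁ V
  obtain ⟨hex, hmono⟩ := (Functor.preservesFiniteLimits_iff_forall_exact_map_and_mono
    (LocCohZ.sectSuppF (SuppFam.inOpen V W))).1 inferInstance _ hS'
  have hepi : Epi ((LocCohZ.sectSuppF (SuppFam.inOpen V W)).map
      (S.map (CohTop.restrFunctor V)).g) :=
    epi_sectSuppMap (SuppFam.inOpen V W) _ hS'
  have hS'' : ((S.map (CohTop.restrFunctor V)).map
      (LocCohZ.sectSuppF (SuppFam.inOpen V W))).ShortExact :=
    ShortComplex.ShortExact.mk' hex hmono hepi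
  haveI : TopCat.Sheaf.IsFlasque ((S.map (CohTop.restrFunctor V)).map
      (LocCohZ.sectSuppF (SuppFam.inOpen V W))).X₁ :=
    isFlasque_sectSupp (SuppFam.inOpen V W) ((CohTop.restrFunctor V).obj S.X₁)
  apply epi_of_app_surjective
  intro A
  exact (AddCommGrpCat.epi_iff_surjective _).1
    (TopCat.Sheaf.IsFlasque.epi_of_shortExact hS'' (U := (Opens.map (CohCx.incl V)).obj A))

/-- **flasque sheaves are acyclic for sections with support in a locally closed subset.** -/
theorem isZero_rightDerived_sectSuppLC_of_isFlasque (F : CohTop.Ab X)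
    [hF : TopCat.Sheaf.IsFlasque F] (n : ℕ) :
    IsZero (((SuppFam.sectSuppLC h).rightDerived (n + 1)).obj F) :=
  GSS.isZero_rightDerived_of_class (SuppFam.sectSuppLC h)
    (fun G : CohTop.Ab X => TopCat.Sheaf.IsFlasque G)
    (fun I _ => Groth.Agent.Lib.Helper1.FlasqueAcyclic.isFlasque_of_injective I)
    (fun S hS h1 h2 => by
      haveI := h1
      haveI := h2
      exact TopCat.Sheaf.IsFlasque.of_shortExact_of_isFlasque₁₂ hS)
    (fun S hS h1 => by
      haveI := h1
      exact epi_sectSuppLC_map h S hS) n F hF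

end Flasque

end Groth.Agent.Lib.Helper13.SuppCompare
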