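import Mathlib
import Groth.Prelude
import Groth.Agent.Lib.Helper13.ClMon

/-!
# The points of `K(L)` through translations
-/

set_option autoImplicit false
set_option linter.style.haveILetI false
universe u
open CategoryTheory CategoryTheory.Limits AlgebraicGeometry
open MonoidalCategory CartesianMonoidalCategory MonObj GrpObj

namespace Groth.Agent.Lib.Helper13.ThetaKL

open Groth.Agent.Lib.Helper13.ClMon

variable {K : Type u} [Field K] (X : Over (Spec (CommRingCat.of K))) [GrpObj X]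
  (L : X.left.Modules)

/-- the translation condition: `L_T ⊗ pr^* c = t_z^* L_T` for an invertible class `c` on `T`. -/
def KLcond {T : Over (Spec (CommRingCat.of K))} (z : T ⟶ X) : Prop :=
  ∃ c : PicF.Cl T.left, PicF.IsInvertibleCl c ∧
    PicF.pullCl (fst X T).left (PicF.cl L) * PicF.pullCl (snd X T).left c =
      PicF.pullCl (fst X T * (snd X T ≫ z)).left (PicF.cl L)

omit [Field K] in
theorem whiskerLeft_mul {S : Scheme.{u}} (X : Over S) [GrpObj X] {T : Over S} (z : T ⟶ X) :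
    (X ◁ z) ≫ μ[X] = fst X T * (snd X T ≫ z) := by
  rw [Hom.mul_def]
  congr 1

variable {X L}

/-- pulling back a translation relation along `w : T' ⟶ X ⊗ T`. -/
theorem pull_rel (hL : PicF.IsInvertible L) {T T' : Over (Spec (CommRingCat.of K))}
    (w : T' ⟶ X ⊗ T) (c : PicF.Cl T.left)
    (hb : PicF.IsInvertibleCl (PicF.pullCl (snd X T).left c)) (m : X ⊗ T ⟶ X)
    (h : PicF.pullCl (fst X T).left (PicF.cl L) * PicF.pullCl (snd X T).left c =
      PicF.pullCl m.left (PicF.cl L)) :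
    PicF.pullCl (w ≫ fst X T).left (PicF.cl L) * PicF.pullCl (w ≫ snd X T).left c =
      PicF.pullCl (w ≫ m).left (PicF.cl L) := by
  have h3 := congrArg (PicF.pullCl w.left) h
  rw [pullCl_mul _ (isInvCl_pullCl _ (isInvCl_cl hL)) hb] at h3
  rw [← pullCl_comp_left w (fst X T), ← pullCl_comp_left w (snd X T), ← pullCl_comp_left w m]
  exact h3

theorem isMumfordTriv_iff (hL : PicF.IsInvertible L) {T : Over (Spec (CommRingCat.of K))}
    (z : T ⟶ X) : ThetaGrp.IsMumfordTriv X L z ↔ KLcond X L z := by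
  have ha := isInvCl_cl hL
  have hza : PicF.IsInvertibleCl (PicF.pullCl z.left (PicF.cl L)) := isInvCl_pullCl _ ha
  constructor
  · rintro ⟨M, hM, ⟨e⟩⟩
    have h1 : (PicF.pullCl (snd X T).left (PicF.cl M) * PicF.pullCl (fst X T).left (PicF.cl L)) *
        PicF.pullCl (snd X T ≫ z).left (PicF.cl L) =
        PicF.pullCl ((X ◁ z) ≫ μ[X]).left (PicF.cl L) := (cl_eq_iff _ _).2 ⟨e⟩
    refine ⟨PicF.cl M * PicF.pullCl z.left (PicF.cl L), isInvCl_mul (isInvCl_cl hM) hza, ?_⟩
    rw [pullCl_mul _ (isInvCl_cl hM) hza, pullCl_comp_left, ← whiskerLeft_mul, ← h1]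
    rw [_root_.mul_comm (PicF.pullCl (snd X T).left (PicF.cl M))
      (PicF.pullCl (fst X T).left (PicF.cl L)), _root_.mul_assoc]
  · rintro ⟨c, hc, h⟩
    obtain ⟨b', hb', hbb'⟩ := exists_inv hza
    obtain ⟨M, hMcl, hM⟩ := isInvCl_mul hc hb'
    refine ⟨M, hM, ?_⟩
    have h2 : PicF.pullCl (snd X T).left b' *
        PicF.pullCl (snd X T).left (PicF.pullCl z.left (PicF.cl L)) = 1 := by
      rw [← pullCl_mul _ hb' hza, _root_.mul_comm, hbb', pullCl_one]
    have h1 : (PicF.pullCl (snd X T).left (PicF.cl M) * PicF.pullCl (fst X T).left (PicF.cl L)) *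
        PicF.pullCl (snd X T ≫ z).left (PicF.cl L) =
        PicF.pullCl ((X ◁ z) ≫ μ[X]).left (PicF.cl L) := by
      rw [hMcl, whiskerLeft_mul, ← h, pullCl_mul _ hc hb', ← pullCl_comp_left]
      calc (PicF.pullCl (snd X T).left c * PicF.pullCl (snd X T).left b' *
            PicF.pullCl (fst X T).left (PicF.cl L)) *
            PicF.pullCl (snd X T).left (PicF.pullCl z.left (PicF.cl L))
          = PicF.pullCl (fst X T).left (PicF.cl L) * PicF.pullCl (snd X T).left c *
            (PicF.pullCl (snd X T).left b' *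
              PicF.pullCl (snd X T).left (PicF.pullCl z.left (PicF.cl L))) := by ac_rfl
        _ = _ := by rw [h2, _root_.mul_one]
    exact (cl_eq_iff _ _).1 h1

theorem KLcond_one {T : Over (Spec (CommRingCat.of K))} :
    KLcond X L (1 : T ⟶ X) := by
  refine ⟨1, isInvCl_one, ?_⟩
  rw [pullCl_one, _root_.mul_one, MonObj.comp_one, _root_.mul_one]

theorem transl_mul_key {T : Over (Spec (CommRingCat.of K))} (z₁ z₂ : T ⟶ X) :
    ThetaGrp.transl X z₁ ≫ (fst X T * (snd X T ≫ z₂)) = fst X T * (snd X T ≫ (z₁ * z₂)) := by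
  have h1 : ThetaGrp.transl X z₁ ≫ snd X T ≫ z₂ = snd X T ≫ z₂ := by
    rw [← Category.assoc, ThetaGrp.transl_snd]
  rw [MonObj.comp_mul, ThetaGrp.transl_fst, h1, MonObj.comp_mul, _root_.mul_assoc]

theorem KLcond_mul (hL : PicF.IsInvertible L) {T : Over (Spec (CommRingCat.of K))}
    {z₁ z₂ : T ⟶ X} (h₁ : KLcond X L z₁) (h₂ : KLcond X L z₂) : KLcond X L (z₁ * z₂) := by
  obtain ⟨c₁, hc₁, h₁⟩ := h₁
  obtain ⟨c₂, hc₂, h₂⟩ := h₂
  refine ⟨c₁ * c₂, isInvCl_mul hc₁ hc₂, ?_⟩
  have h3 := pull_rel hL (ThetaGrp.transl X z₁) c₂ (isInvCl_pullCl _ hc₂) _ h₂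
  rw [ThetaGrp.transl_fst, ThetaGrp.transl_snd, transl_mul_key, ← h₁] at h3
  rw [← h3, pullCl_mul _ hc₁ hc₂, _root_.mul_assoc]

theorem transl_inv_key {T : Over (Spec (CommRingCat.of K))} (z : T ⟶ X) :
    ThetaGrp.transl X z⁻¹ ≫ (fst X T * (snd X T ≫ z)) = fst X T := by
  have h1 : ThetaGrp.transl X z⁻¹ ≫ snd X T ≫ z = snd X T ≫ z := by
    rw [← Category.assoc, ThetaGrp.transl_snd]
  rw [MonObj.comp_mul, ThetaGrp.transl_fst, h1, _root_.mul_assoc, ← MonObj.comp_mul,
    inv_mul_cancel, MonObj.comp_one, _root_.mul_one]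

theorem KLcond_inv (hL : PicF.IsInvertible L) {T : Over (Spec (CommRingCat.of K))}
    {z : T ⟶ X} (h : KLcond X L z) : KLcond X L z⁻¹ := by
  obtain ⟨c, hc, h⟩ := h
  obtain ⟨c', hc', hcc'⟩ := exists_inv hc
  refine ⟨c', hc', ?_⟩
  have h3 := pull_rel hL (ThetaGrp.transl X z⁻¹) c (isInvCl_pullCl _ hc) _ h
  rw [ThetaGrp.transl_fst, ThetaGrp.transl_snd, transl_inv_key] at h3
  rw [← h3, _root_.mul_assoc, ← pullCl_mul _ hc hc', hcc', pullCl_one, _root_.mul_one]

/-- the class `c` in the translation condition is the class of `z^* L`. -/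
theorem cl_eq_of_transl (hL : PicF.IsInvertible L) {T : Over (Spec (CommRingCat.of K))}
    (x : T ⟶ X) (c : PicF.Cl T.left)
    (h : PicF.pullCl (fst X T).left (PicF.cl L) * PicF.pullCl (snd X T).left c =
      PicF.pullCl (fst X T * (snd X T ≫ x)).left (PicF.cl L)) :
    c = PicF.pullCl x.left (PicF.cl L) := by
  have ha := isInvCl_cl hL
  have hb : PicF.IsInvertibleCl (PicF.pullCl (snd X T).left c) :=
    isInvCl_of_mul_eq (isInvCl_pullCl _ ha) (isInvCl_pullCl _ ha) h
  let e : T ⟶ X ⊗ T := lift 1 (𝟙 T)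
  have he1 : e ≫ fst X T = 1 := lift_fst _ _
  have he2 : e ≫ snd X T = 𝟙 T := lift_snd _ _
  have he3 : e ≫ (fst X T * (snd X T ≫ x)) = x := by
    rw [MonObj.comp_mul, he1, ← Category.assoc, he2, Category.id_comp, _root_.one_mul]
  have h3 := pull_rel hL e c hb _ h
  rw [he1, he2, he3, pullCl_one_hom ha, _root_.one_mul, pullCl_id_left] at h3
  exact h3

end Groth.Agent.Lib.Helper13.ThetaKL
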