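import Mathlib
import Groth.Prelude
import Groth.Agent.Lib.Helper13.ThetaKL

/-!
# The module in the Mumford condition is trivial
-/

set_option autoImplicit false
set_option linter.style.haveILetI false
universe u
open CategoryTheory CategoryTheory.Limits AlgebraicGeometry
open MonoidalCategory CartesianMonoidalCategory MonObj GrpObj

namespace Groth.Agent.Lib.Helper13.ThetaKL

open Groth.Agent.Lib.Helper13.ClMon

variable {K : Type u} [Field K] {X : Over (Spec (CommRingCat.of K))} [GrpObj X]
  {L : X.left.Modules}

/-- in the Mumford condition along `z`, the class on `T` is trivial. -/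
theorem mumford_cl_eq_one (hL : PicF.IsInvertible L) {T : Over (Spec (CommRingCat.of K))}
    (z : T ⟶ X) (n : PicF.Cl T.left) (hn : PicF.IsInvertibleCl n)
    (h1 : (PicF.pullCl (snd X T).left n * PicF.pullCl (fst X T).left (PicF.cl L)) *
        PicF.pullCl (snd X T ≫ z).left (PicF.cl L) =
        PicF.pullCl ((X ◁ z) ≫ μ[X]).left (PicF.cl L)) : n = 1 := by
  have ha := isInvCl_cl hL
  have hza : PicF.IsInvertibleCl (PicF.pullCl z.left (PicF.cl L)) := isInvCl_pullCl _ ha
  have h2 : PicF.pullCl (fst X T).left (PicF.cl L) *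
      PicF.pullCl (snd X T).left (n * PicF.pullCl z.left (PicF.cl L)) =
      PicF.pullCl (fst X T * (snd X T ≫ z)).left (PicF.cl L) := by
    rw [pullCl_mul _ hn hza, pullCl_comp_left, ← whiskerLeft_mul, ← h1]
    rw [_root_.mul_comm (PicF.pullCl (snd X T).left n)
      (PicF.pullCl (fst X T).left (PicF.cl L)), _root_.mul_assoc]
  have h3 := cl_eq_of_transl hL z _ h2
  have h4 : n * PicF.pullCl z.left (PicF.cl L) = 1 * PicF.pullCl z.left (PicF.cl L) := by
    rw [_root_.one_mul]
    exact h3
  exact (isUnit_of_isInvCl hza).mul_right_cancel h4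

end Groth.Agent.Lib.Helper13.ThetaKL
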