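import Groth.Agent.Lib.Helper6.TildePunctured
import Groth.Agent.Lib.Helper4.LC10

/-!
# Helper library (helper13): `E~` is flasque for an injective module `E` over a Noetherian ring

* `toOpen_surjective`: `E → Γ(Spec R ∖ V(a), E~)` is surjective.
* `res_surjective`: the restriction maps of `E~` are surjective.
-/

set_option autoImplicit false
set_option maxHeartbeats 800000

namespace Groth.Agent.Lib.Helper13.TildeFlasque

open CategoryTheory AlgebraicGeometry TopologicalSpace Opposite
open Groth.Agent.Lib.Helper6.TildePunctured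

universe u
variable {R : CommRingCat.{u}} [IsNoetherianRing R]

theorem exists_eq_pOpen' {S : Type*} [CommRing S] (W : Opens (PrimeSpectrum S)) :
    ∃ a : Ideal S, (W : Set (PrimeSpectrum S)) = (PrimeSpectrum.zeroLocus (a : Set S))ᶜ := by
  have hcl : PrimeSpectrum.zeroLocus
      ((PrimeSpectrum.vanishingIdeal ((W : Set (PrimeSpectrum S))ᶜ) : Ideal S) : Set S) =
      (W : Set (PrimeSpectrum S))ᶜ := by
    rw [PrimeSpectrum.zeroLocus_vanishingIdeal_eq_closure]
    exact W.isOpen.isClosed_compl.closure_eq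
  refine ⟨PrimeSpectrum.vanishingIdeal ((W : Set (PrimeSpectrum S))ᶜ), ?_⟩
  rw [hcl, compl_compl]

omit [IsNoetherianRing R] in
theorem exists_eq_pOpen (U : (Spec R).Opens) : ∃ a : Ideal R, U = pOpen a := by
  obtain ⟨a, ha⟩ := exists_eq_pOpen' (S := R) U
  exact ⟨a, Opens.ext ha⟩

theorem toOpen_surjective (E : ModuleCat.{u} R) [hE : Module.Injective R E] (a : Ideal R) :
    Function.Surjective (tilde.toOpen E (pOpen a)).hom := by
  intro s
  obtain ⟨E', hE', htf, hdec⟩ := Groth.Agent.Lib.Helper4.LC.exists_injective_complement a E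
  haveI := hE'
  -- the restriction of `toOpen` to `E'` is injective with the same range
  let g : E' →ₗ[R] Sec E (pOpen a) := (tilde.toOpen E (pOpen a)).hom.comp E'.subtype
  have hg : Function.Injective g := by
    rw [← LinearMap.ker_eq_bot, Submodule.eq_bot_iff]
    intro e he
    have h1 : (tilde.toOpen E (pOpen a)).hom (e : E) = 0 := he
    rw [toOpen_eq_zero_iff] at h1
    obtain ⟨n, hn⟩ := h1
    have h2 : e ∈ DRing.torsionSub a E' := ⟨n, fun r hr => Subtype.ext (hn r hr)⟩
    rw [htf] at h2
    exact h2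
  have hrange : ∀ m : E, (tilde.toOpen E (pOpen a)).hom m ∈ LinearMap.range g := by
    intro m
    obtain ⟨e', he', hd⟩ := hdec m
    refine ⟨⟨e', he'⟩, ?_⟩
    have h0 : (tilde.toOpen E (pOpen a)).hom (m - e') = 0 := by
      rw [toOpen_eq_zero_iff]
      exact hd
    rw [map_sub, sub_eq_zero] at h0
    exact h0.symm
  obtain ⟨n, hn⟩ := exists_pow_smul_mem_range E a s
  -- the map `a^n → E'`
  let h : (a ^ n : Ideal R) →ₗ[R] Sec E (pOpen a) :=
    (LinearMap.toSpanSingleton R (Sec E (pOpen a)) s).comp (a ^ n : Ideal R).subtype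
  have hh : ∀ r : (a ^ n : Ideal R), h r ∈ LinearMap.range g := by
    intro r
    obtain ⟨m, hm⟩ := hn r.1 r.2
    have : h r = (tilde.toOpen E (pOpen a)).hom m := hm.symm
    rw [this]
    exact hrange m
  let φ : (a ^ n : Ideal R) →ₗ[R] E' :=
    (LinearEquiv.ofInjective g hg).symm.toLinearMap.comp (h.codRestrict (LinearMap.range g) hh)
  have hφ : ∀ r : (a ^ n : Ideal R), g (φ r) = r.1 • s := by
    intro r
    have := (LinearEquiv.ofInjective g hg).apply_symm_apply (h.codRestrict (LinearMap.range g) hh r)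
    exact congrArg Subtype.val this
  obtain ⟨ψ, hψ⟩ := Module.Injective.extension_property R E' (a ^ n : Ideal R) R
    (a ^ n : Ideal R).subtype (Submodule.injective_subtype _) φ
  refine ⟨((ψ 1 : E') : E), ?_⟩
  have key : ∀ r ∈ a ^ n, r • ((tilde.toOpen E (pOpen a)).hom ((ψ 1 : E') : E) - s) = 0 := by
    intro r hr
    have h1 : ψ r = φ ⟨r, hr⟩ := DFunLike.congr_fun hψ ⟨r, hr⟩
    have h2 : ψ r = r • ψ 1 := by
      rw [← map_smul, smul_eq_mul, mul_one]
    have h3 : g (r • ψ 1) = r • s := by
      rw [← h2, h1]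
      exact hφ ⟨r, hr⟩
    rw [map_smul] at h3
    rw [smul_sub, sub_eq_zero]
    exact h3
  have := eq_zero_of_torsion E a _ n key
  exact sub_eq_zero.mp this

theorem res_surjective (E : ModuleCat.{u} R) [hE : Module.Injective R E]
    {U V : (Spec R).Opens} (h : V ≤ U) : Function.Surjective (res E h) := by
  intro s
  obtain ⟨a, rfl⟩ := exists_eq_pOpen V
  obtain ⟨m, hm⟩ := toOpen_surjective E a s
  exact ⟨(tilde.toOpen E U).hom m, (res_toOpen E h m).trans hm⟩

end Groth.Agent.Lib.Helper13.TildeFlasque
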