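import Mathlib

/-!
# Helper13: jointly epimorphic families and a quasi-isomorphism criterion (for S9063)

In an abelian category, the refinement criteria for `Mono`/`Epi` of a map in homology are
restated with jointly epimorphic families of refinements.  Then a map of cochain complexes
`c : K ⟶ I` which is termwise the inclusion of the "torsion part" of `I` is a quasi-isomorphism
as soon as the terms of `I` are divisible and the cohomology of `I` is torsion.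
-/

set_option autoImplicit false
set_option linter.style.haveILetI false
universe w v u
open CategoryTheory CategoryTheory.Limits CategoryTheory.Category

namespace Groth.Agent.Lib.Helper13.TorsQA

section JE

variable {𝒞 : Type u} [Category.{v} 𝒞]

/-- a jointly epimorphic family -/
def JE {ι : Type w} {A : 𝒞} {B : ι → 𝒞} (π : ∀ i, B i ⟶ A) : Prop :=
  ∀ ⦃Z : 𝒞⦄ (f g : A ⟶ Z), (∀ i, π i ≫ f = π i ≫ g) → f = g

lemma JE.comp {ι : Type w} {κ : ι → Type w} {A : 𝒞} {B : ι → 𝒞} {π : ∀ i, B i ⟶ A}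
    (hπ : JE π) {D : ∀ i, κ i → 𝒞} {τ : ∀ i (k : κ i), D i k ⟶ B i} (hτ : ∀ i, JE (τ i)) :
    JE (fun p : Σ i, κ i => τ p.1 p.2 ≫ π p.1) := by
  intro Z f g h
  apply hπ
  intro i
  apply hτ i
  intro k
  simpa using h ⟨i, k⟩

lemma JE.comp_epi {ι : Type w} {A : 𝒞} {B : ι → 𝒞} {π : ∀ i, B i ⟶ A} (hπ : JE π)
    {D : ι → 𝒞} (ρ : ∀ i, D i ⟶ B i) [∀ i, Epi (ρ i)] : JE (fun i => ρ i ≫ π i) := by
  intro Z f g h
  apply hπ
  intro i
  have := h i
  simp only [assoc] at this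
  exact (cancel_epi (ρ i)).1 this

lemma JE.epi_desc {ι : Type w} {A : 𝒞} {B : ι → 𝒞} {π : ∀ i, B i ⟶ A} (hπ : JE π)
    [HasCoproduct B] : Epi (Sigma.desc π) := by
  constructor
  intro Z f g h
  apply hπ
  intro i
  have := congrArg (fun t => Sigma.ι B i ≫ t) h
  simpa using this

end JE

section Crit

variable {𝒞 : Type u} [Category.{v} 𝒞] [Abelian 𝒞] {ι' : Type*} {c : ComplexShape ι'}
  {K L : HomologicalComplex 𝒞 c} (φ : K ⟶ L)

lemma mono_homologyMap_of_families (i j k : ι') (hi : c.prev j = i) (hk : c.next j = k)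
    (h : ∀ ⦃A : 𝒞⦄ (x₂ : A ⟶ K.X j) (_ : x₂ ≫ K.d j k = 0) (y₁ : A ⟶ L.X i)
        (_ : x₂ ≫ φ.f j = y₁ ≫ L.d i j),
      ∃ (ι : Type w) (_ : HasCoproductsOfShape ι 𝒞) (B : ι → 𝒞) (π : ∀ t, B t ⟶ A), JE π ∧
        ∀ t, ∃ x₁ : B t ⟶ K.X i, π t ≫ x₂ = x₁ ≫ K.d i j) :
    Mono (HomologicalComplex.homologyMap φ j) := by
  rw [HomologicalComplex.mono_homologyMap_iff_up_to_refinements φ i j k hi hk]
  intro A x₂ hx₂ y₁ hy₁
  obtain ⟨ι, _, B, π, hπ, hx⟩ := h x₂ hx₂ y₁ hy₁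
  choose x₁ hx₁ using hx
  refine ⟨∐ B, Sigma.desc π, hπ.epi_desc, Sigma.desc x₁, ?_⟩
  apply Sigma.hom_ext
  intro t
  simp [hx₁]

lemma epi_homologyMap_of_families (i j k : ι') (hi : c.prev j = i) (hk : c.next j = k)
    (h : ∀ ⦃A : 𝒞⦄ (y₂ : A ⟶ L.X j) (_ : y₂ ≫ L.d j k = 0),
      ∃ (ι : Type w) (_ : HasCoproductsOfShape ι 𝒞) (B : ι → 𝒞) (π : ∀ t, B t ⟶ A), JE π ∧
        ∀ t, ∃ (x₂ : B t ⟶ K.X j) (_ : x₂ ≫ K.d j k = 0) (y₁ : B t ⟶ L.X i),
          π t ≫ y₂ = x₂ ≫ φ.f j + y₁ ≫ L.d i j) :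
    Epi (HomologicalComplex.homologyMap φ j) := by
  rw [HomologicalComplex.epi_homologyMap_iff_up_to_refinements φ i j k hi hk]
  intro A y₂ hy₂
  obtain ⟨ι, _, B, π, hπ, hx⟩ := h y₂ hy₂
  choose x₂ hx₂ y₁ hy₁ using hx
  refine ⟨∐ B, Sigma.desc π, hπ.epi_desc, Sigma.desc x₂, ?_, Sigma.desc y₁, ?_⟩
  · apply Sigma.hom_ext
    intro t
    simp [hx₂]
  · apply Sigma.hom_ext
    intro t
    simp [hy₁]

end Crit

end Groth.Agent.Lib.Helper13.TorsQA
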