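import Mathlib
import Groth.Agent.Lib.Helper13.TorsQA

/-!
# Helper13: the torsion part of a divisible complex with torsion cohomology (for S9063)
-/

set_option autoImplicit false
set_option linter.style.haveILetI false
set_option maxHeartbeats 1600000
universe v u
open CategoryTheory CategoryTheory.Limits CategoryTheory.Category

namespace Groth.Agent.Lib.Helper13.TorsQB

open Groth.Agent.Lib.Helper13.TorsQA

/-- positive natural numbers -/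
abbrev PosNat : Type := {m : ℕ // 0 < m}

variable {𝒞 : Type u} [Category.{v} 𝒞] [Abelian 𝒞]

/-- `c : K ⟶ I` is termwise the inclusion of the torsion part, `I` has divisible terms and torsion
cohomology, `K` has torsion terms (all expressed with generalized elements). -/
structure TorsData {K I : CochainComplex 𝒞 ℤ} (c : K ⟶ I) : Prop where
  mono : ∀ n : ℤ, Mono (c.f n)
  lift : ∀ (n : ℤ) (m : ℕ), 0 < m → ∀ ⦃A : 𝒞⦄ (x : A ⟶ I.X n), m • x = 0 →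
    ∃ x' : A ⟶ K.X n, x' ≫ c.f n = x
  torsK : ∀ (n : ℤ) ⦃A : 𝒞⦄ (y : A ⟶ K.X n), JE (fun m : PosNat => kernel.ι (m.1 • y))
  torsH : ∀ (n : ℤ) ⦃A : 𝒞⦄ (γ : A ⟶ I.homology n), JE (fun m : PosNat => kernel.ι (m.1 • γ))
  div : ∀ (n : ℤ) (m : ℕ), 0 < m → Epi (m • 𝟙 (I.X n))

variable {K I : CochainComplex 𝒞 ℤ} (c : K ⟶ I)

lemma epi_homologyMap (h : TorsData c) [HasCoproductsOfShape PosNat 𝒞] (n : ℤ) :
    Epi (HomologicalComplex.homologyMap c n) := by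
  apply epi_homologyMap_of_families.{0} c (n - 1) n (n + 1) (by simp) (by simp)
  intro A y₂ hy₂
  let γ : A ⟶ I.homology n := I.liftCycles y₂ (n + 1) (by simp) hy₂ ≫ I.homologyπ n
  have key : ∀ m : PosNat, ∃ (B : 𝒞) (ρ : B ⟶ kernel (m.1 • γ)) (_ : Epi ρ) (x₂ : B ⟶ K.X n)
      (_ : x₂ ≫ K.d n (n + 1) = 0) (y₁ : B ⟶ I.X (n - 1)),
      (ρ ≫ kernel.ι (m.1 • γ)) ≫ y₂ = x₂ ≫ c.f n + y₁ ≫ I.d (n - 1) n := by
    intro m
    have hz : (kernel.ι (m.1 • γ) ≫ y₂) ≫ I.d n (n + 1) = 0 := by rw [assoc, hy₂, comp_zero]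
    have hmz : (m.1 • (kernel.ι (m.1 • γ) ≫ y₂)) ≫ I.d n (n + 1) = 0 := by
      rw [Preadditive.nsmul_comp, hz, smul_zero]
    have hcls : I.liftCycles (m.1 • (kernel.ι (m.1 • γ) ≫ y₂)) (n + 1) (by simp) hmz ≫
        I.homologyπ n = 0 := by
      have e : I.liftCycles (m.1 • (kernel.ι (m.1 • γ) ≫ y₂)) (n + 1) (by simp) hmz =
          m.1 • (kernel.ι (m.1 • γ) ≫ I.liftCycles y₂ (n + 1) (by simp) hy₂) := by
        rw [← cancel_mono (I.iCycles n)]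
        simp
      rw [e, Preadditive.nsmul_comp, assoc]
      have := kernel.condition (m.1 • γ)
      rwa [Preadditive.comp_nsmul] at this
    obtain ⟨B₁, ρ₁, hρ₁, w, hw⟩ :=
      (I.liftCycles_comp_homologyπ_eq_zero_iff_up_to_refinements (n - 1) n (n + 1) (by simp)
        (by simp) _ hmz).1 hcls
    haveI := h.div (n - 1) m.1 m.2
    obtain ⟨B₂, ρ₂, hρ₂, w', hw'⟩ :=
      surjective_up_to_refinements_of_epi (m.1 • 𝟙 (I.X (n - 1))) w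
    have hw'' : ρ₂ ≫ w = m.1 • w' := by rw [hw', Preadditive.comp_nsmul, comp_id]
    have hz' : m.1 • (ρ₂ ≫ ρ₁ ≫ kernel.ι (m.1 • γ) ≫ y₂ - w' ≫ I.d (n - 1) n) = 0 := by
      have e1 : m.1 • (ρ₂ ≫ ρ₁ ≫ kernel.ι (m.1 • γ) ≫ y₂) =
          ρ₂ ≫ ρ₁ ≫ (m.1 • (kernel.ι (m.1 • γ) ≫ y₂)) := by
        simp only [Preadditive.comp_nsmul]
      rw [smul_sub, e1, hw, ← assoc, hw'', Preadditive.nsmul_comp, sub_self]
    obtain ⟨x', hx'⟩ := h.lift n m.1 m.2 _ hz'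
    haveI := h.mono (n + 1)
    refine ⟨B₂, ρ₂ ≫ ρ₁, epi_comp _ _, x', ?_, w', ?_⟩
    · rw [← cancel_mono (c.f (n + 1)), assoc, ← c.comm, ← assoc, hx', zero_comp]
      simp [hy₂]
    · rw [hx']
      simp
  choose B ρ hρ x₂ hx₂ y₁ hy₁ using key
  exact ⟨PosNat, inferInstance, B, fun m => ρ m ≫ kernel.ι (m.1 • γ),
    (h.torsH n γ).comp_epi ρ, fun m => ⟨x₂ m, hx₂ m, y₁ m, hy₁ m⟩⟩

lemma mono_homologyMap (h : TorsData c) [HasCoproductsOfShape (Σ _ : PosNat, PosNat) 𝒞] (n : ℤ) :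
    Mono (HomologicalComplex.homologyMap c n) := by
  apply mono_homologyMap_of_families.{0} c (n - 1) n (n + 1) (by simp) (by simp)
  intro A x₂ hx₂ y₁ hy₁
  have key : ∀ m : PosNat, ∃ (γ : kernel (m.1 • x₂) ⟶ I.homology (n - 1)),
      ∀ k : PosNat, ∃ (B : 𝒞) (ρ : B ⟶ kernel (k.1 • γ)) (_ : Epi ρ) (x₁ : B ⟶ K.X (n - 1)),
        (ρ ≫ kernel.ι (k.1 • γ) ≫ kernel.ι (m.1 • x₂)) ≫ x₂ = x₁ ≫ K.d (n - 1) n := by
    intro m
    have hπ : m.1 • (kernel.ι (m.1 • x₂) ≫ x₂) = 0 := by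
      have := kernel.condition (m.1 • x₂)
      rwa [Preadditive.comp_nsmul] at this
    have hu : (m.1 • (kernel.ι (m.1 • x₂) ≫ y₁)) ≫ I.d (n - 1) n = 0 := by
      rw [Preadditive.nsmul_comp, assoc, ← hy₁, ← assoc, ← Preadditive.nsmul_comp, hπ, zero_comp]
    refine ⟨I.liftCycles (m.1 • (kernel.ι (m.1 • x₂) ≫ y₁)) n (by simp) hu ≫
      I.homologyπ (n - 1), ?_⟩
    intro k
    generalize hγ : I.liftCycles (m.1 • (kernel.ι (m.1 • x₂) ≫ y₁)) n (by simp) hu ≫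
      I.homologyπ (n - 1) = γ
    have hku : (k.1 • (kernel.ι (k.1 • γ) ≫ (m.1 • (kernel.ι (m.1 • x₂) ≫ y₁)))) ≫
        I.d (n - 1) n = 0 := by
      rw [Preadditive.nsmul_comp, assoc, hu, comp_zero, smul_zero]
    have hcls : I.liftCycles (k.1 • (kernel.ι (k.1 • γ) ≫ (m.1 • (kernel.ι (m.1 • x₂) ≫ y₁))))
        n (by simp) hku ≫ I.homologyπ (n - 1) = 0 := by
      have e : I.liftCycles (k.1 • (kernel.ι (k.1 • γ) ≫ (m.1 • (kernel.ι (m.1 • x₂) ≫ y₁))))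
          n (by simp) hku = k.1 • (kernel.ι (k.1 • γ) ≫
            I.liftCycles (m.1 • (kernel.ι (m.1 • x₂) ≫ y₁)) n (by simp) hu) := by
        rw [← cancel_mono (I.iCycles (n - 1))]
        simp
      rw [e, Preadditive.nsmul_comp, assoc, hγ]
      have := kernel.condition (k.1 • γ)
      rwa [Preadditive.comp_nsmul] at this
    obtain ⟨B₁, ρ₁, hρ₁, v, hv⟩ :=
      (I.liftCycles_comp_homologyπ_eq_zero_iff_up_to_refinements (n - 1 - 1) (n - 1) n (by simp)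
        (by simp) _ hku).1 hcls
    haveI := h.div (n - 1 - 1) (k.1 * m.1) (Nat.mul_pos k.2 m.2)
    obtain ⟨B₂, ρ₂, hρ₂, v', hv'⟩ :=
      surjective_up_to_refinements_of_epi ((k.1 * m.1) • 𝟙 (I.X (n - 1 - 1))) v
    have hv'' : ρ₂ ≫ v = (k.1 * m.1) • v' := by rw [hv', Preadditive.comp_nsmul, comp_id]
    have hw : (k.1 * m.1) • (ρ₂ ≫ ρ₁ ≫ kernel.ι (k.1 • γ) ≫ kernel.ι (m.1 • x₂) ≫ y₁ -
        v' ≫ I.d (n - 1 - 1) (n - 1)) = 0 := by
      have e1 : (k.1 * m.1) • (ρ₂ ≫ ρ₁ ≫ kernel.ι (k.1 • γ) ≫ kernel.ι (m.1 • x₂) ≫ y₁) =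
          ρ₂ ≫ ρ₁ ≫ (k.1 • (kernel.ι (k.1 • γ) ≫ (m.1 • (kernel.ι (m.1 • x₂) ≫ y₁)))) := by
        simp only [Preadditive.comp_nsmul, mul_smul]
      rw [smul_sub, e1, hv, ← assoc, hv'', Preadditive.nsmul_comp, sub_self]
    obtain ⟨x₁, hx₁⟩ := h.lift (n - 1) (k.1 * m.1) (Nat.mul_pos k.2 m.2) _ hw
    haveI := h.mono n
    refine ⟨B₂, ρ₂ ≫ ρ₁, epi_comp _ _, x₁, ?_⟩
    rw [← cancel_mono (c.f n)]
    simp only [assoc]
    rw [← c.comm, ← assoc x₁, hx₁, hy₁]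
    simp
  choose γ hγ using key
  choose B ρ hρ x₁ hx₁ using hγ
  exact ⟨Σ _ : PosNat, PosNat, inferInstance, fun p => B p.1 p.2,
    fun p => ρ p.1 p.2 ≫ kernel.ι (p.2.1 • γ p.1) ≫ kernel.ι (p.1.1 • x₂),
    ((h.torsK n x₂).comp (fun m => h.torsH (n - 1) (γ m))).comp_epi (fun p => ρ p.1 p.2),
    fun p => ⟨x₁ p.1 p.2, hx₁ p.1 p.2⟩⟩

theorem quasiIso (h : TorsData c) [HasCoproductsOfShape PosNat 𝒞]
    [HasCoproductsOfShape (Σ _ : PosNat, PosNat) 𝒞] : QuasiIso c := by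
  rw [quasiIso_iff]
  intro n
  rw [quasiIsoAt_iff_isIso_homologyMap]
  haveI := mono_homologyMap c h n
  haveI := epi_homologyMap c h n
  exact isIso_of_mono_of_epi _

end Groth.Agent.Lib.Helper13.TorsQB
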