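import Mathlib
import Groth.Prelude.Def_SiteCmp
import Groth.Prelude.Def_WeakSerre
import Groth.Prelude.Def_CohCx
import Groth.Prelude.Def_FreeSh
import Groth.Agent.Lib.Helper29.WS9074B
import Groth.Agent.Lib.Helper4.InjDivisible
import Groth.Agent.Lib.Helper9.TorsKer
import Groth.Agent.Lib.Helper2.DerivedAdj
import Groth.Agent.Lib.Helper13.TorsQB

/-!
# Helper13: torsion abelian sheaves, the torsion coreflection and `TorsData` (for S9063)
-/

set_option autoImplicit false
set_option linter.style.haveILetI false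
set_option linter.unusedSectionVars false
set_option maxHeartbeats 1600000
universe u
open CategoryTheory CategoryTheory.Limits CategoryTheory.Category Opposite

noncomputable section

namespace Groth.Agent.Lib.Helper13.TorsQC

open Groth.Agent.Lib.Helper13.TorsQA Groth.Agent.Lib.Helper13.TorsQB
open Groth.Agent.Lib.Helper29.WS9074B

variable {C : Type u} [SmallCategory C] (J : GrothendieckTopology C)

/-- existence of the torsion coreflection (sub-lemma TA) -/
def HasCorefl : Prop :=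
  ∀ F : Sheaf J AddCommGrpCat.{u}, ∃ (T : Sheaf J AddCommGrpCat.{u}) (ε : T ⟶ F),
    SiteCmp.IsTorsionSh J T ∧ Mono ε ∧
      ∀ (G : Sheaf J AddCommGrpCat.{u}) (g : G ⟶ F), SiteCmp.IsTorsionSh J G →
        ∃ g' : G ⟶ T, g' ≫ ε = g

variable {J}

/-- evaluation of morphisms at a section, as an additive map -/
def evalAt (F G : Sheaf J AddCommGrpCat.{u}) (U : C) (s : F.obj.obj (op U)) :
    (F ⟶ G) →+ G.obj.obj (op U) where
  toFun φ := (φ.hom.app (op U)).hom s
  map_zero' := rfl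
  map_add' φ ψ := by
    rw [Sheaf.Hom.add_app]
    rfl

lemma nsmul_app_apply {F G : Sheaf J AddCommGrpCat.{u}} (φ : F ⟶ G) (m : ℕ) (U : C)
    (s : F.obj.obj (op U)) :
    ((m • φ).hom.app (op U)).hom s = m • (φ.hom.app (op U)).hom s :=
  map_nsmul (evalAt F G U s) m φ

lemma isTorsionSh_of_nsmul_id_eq_zero (G : Sheaf J AddCommGrpCat.{u}) (m : ℕ) (hm : 0 < m)
    (h : m • 𝟙 G = 0) : SiteCmp.IsTorsionSh J G := by
  intro U s
  refine ⟨⊤, J.top_mem U, fun V g _ => ?_⟩
  rw [isOfFinAddOrder_iff_nsmul_eq_zero]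
  refine ⟨m, hm, ?_⟩
  have h1 := nsmul_app_apply (𝟙 G) m V ((G.obj.map g.op).hom s)
  rw [h] at h1
  have h2 : ((𝟙 G : G ⟶ G).hom.app (op V)).hom ((G.obj.map g.op).hom s) =
      (G.obj.map g.op).hom s := rfl
  rw [h2] at h1
  exact h1.symm

lemma isTorsionSh_kernel_nsmul (F : Sheaf J AddCommGrpCat.{u}) (m : ℕ) (hm : 0 < m) :
    SiteCmp.IsTorsionSh J (kernel (m • 𝟙 F)) := by
  apply isTorsionSh_of_nsmul_id_eq_zero _ m hm
  rw [← cancel_mono (kernel.ι (m • 𝟙 F)), zero_comp, Preadditive.nsmul_comp, id_comp]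
  have := kernel.condition (m • 𝟙 F)
  rwa [Preadditive.comp_nsmul, comp_id] at this

lemma epi_nsmul_id_of_injective (I : Sheaf J AddCommGrpCat.{u}) [Injective I] (m : ℕ)
    (hm : 0 < m) : Epi (m • 𝟙 I) := by
  apply epi_of_imageSieve_mem
  intro U x
  refine J.superset_covering ?_ (J.top_mem U)
  intro V g _
  obtain ⟨t, ht⟩ := Groth.Agent.Lib.Helper4.InjDivisible.exists_nsmul_eq_of_injective J I V
    ((I.obj.map g.op).hom x) m hm
  refine ⟨t, ?_⟩
  have h1 := nsmul_app_apply (𝟙 I) m V t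
  have h2 : ((𝟙 I : I ⟶ I).hom.app (op V)).hom t = t := rfl
  rw [h2, ht] at h1
  exact h1

lemma je_kernel_nsmul {A H : Sheaf J AddCommGrpCat.{u}} (hH : SiteCmp.IsTorsionSh J H)
    (γ : A ⟶ H) : JE (fun m : PosNat => kernel.ι (m.1 • γ)) := by
  intro Z f g h
  exact Groth.Agent.Lib.Helper9.TorsKer.jointly_epi_kernel_nsmul J hH γ f g
    (fun m hm => h ⟨m, hm⟩)

section Adj

variable [(SiteCmp.torsionSh J).IsSerreClass]
  {G : Sheaf J AddCommGrpCat.{u} ⥤ (SiteCmp.torsionSh J).FullSubcategory}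
  (adj : (SiteCmp.torsionSh J).ι ⊣ G)

include adj in
lemma lift_of_nsmul_eq_zero (F : Sheaf J AddCommGrpCat.{u}) (m : ℕ) (hm : 0 < m)
    {A : Sheaf J AddCommGrpCat.{u}} (x : A ⟶ F) (hx : m • x = 0) :
    ∃ x' : A ⟶ (SiteCmp.torsionSh J).ι.obj (G.obj F), x' ≫ adj.counit.app F = x := by
  have hx' : x ≫ (m • 𝟙 F) = 0 := by rw [Preadditive.comp_nsmul, comp_id, hx]
  let Fm : (SiteCmp.torsionSh J).FullSubcategory :=
    ⟨kernel (m • 𝟙 F), isTorsionSh_kernel_nsmul F m hm⟩
  let a : Fm ⟶ G.obj F := adj.homEquiv Fm F (kernel.ι (m • 𝟙 F))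
  have ha : (SiteCmp.torsionSh J).ι.map a ≫ adj.counit.app F = kernel.ι (m • 𝟙 F) := by
    have := adj.homEquiv_counit (X := Fm) (Y := F) (g := a)
    rw [← this]
    exact (adj.homEquiv Fm F).symm_apply_apply _
  exact ⟨kernel.lift _ x hx' ≫ (SiteCmp.torsionSh J).ι.map a, by
    rw [assoc, ha, kernel.lift_ι]⟩

include adj in
lemma mono_counit (hc : HasCorefl J) (F : Sheaf J AddCommGrpCat.{u}) :
    Mono (adj.counit.app F) := by
  obtain ⟨T, ε, hT, hε, huniv⟩ := hc F
  let T' : (SiteCmp.torsionSh J).FullSubcategory := ⟨T, hT⟩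
  let a : T' ⟶ G.obj F := adj.homEquiv T' F ε
  have ha : (SiteCmp.torsionSh J).ι.map a ≫ adj.counit.app F = ε := by
    have := adj.homEquiv_counit (X := T') (Y := F) (g := a)
    rw [← this]
    exact (adj.homEquiv T' F).symm_apply_apply _
  obtain ⟨g', hg'⟩ := huniv ((SiteCmp.torsionSh J).ι.obj (G.obj F)) (adj.counit.app F)
    (G.obj F).property
  -- `g'` is a monomorphism since `g' ≫ ι a = 𝟙`
  have h1 : g' ≫ (SiteCmp.torsionSh J).ι.map a = 𝟙 _ := by
    obtain ⟨h₀, hh₀⟩ : ∃ h₀ : G.obj F ⟶ G.obj F,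
        (SiteCmp.torsionSh J).ι.map h₀ = g' ≫ (SiteCmp.torsionSh J).ι.map a :=
      ⟨(SiteCmp.torsionSh J).ι.preimage (g' ≫ (SiteCmp.torsionSh J).ι.map a),
        Functor.map_preimage _ _⟩
    have e1 : (adj.homEquiv (G.obj F) F).symm h₀ = (adj.homEquiv (G.obj F) F).symm (𝟙 _) := by
      rw [adj.homEquiv_counit, adj.homEquiv_counit, hh₀, assoc, ha, hg']
      simp
    have e2 := (adj.homEquiv (G.obj F) F).symm.injective e1
    rw [← hh₀, e2]
    simp
  haveI : Mono g' := mono_of_mono_fac h1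
  rw [← hg']
  exact mono_comp _ _

include adj in
/-- the `TorsData` of the counit of the adjunction on complexes -/
theorem torsData (hc : HasCorefl J) (I : CochainComplex (Sheaf J AddCommGrpCat.{u}) ℤ)
    (hinj : ∀ n, Injective (I.X n)) (htors : ∀ n, SiteCmp.IsTorsionSh J (I.homology n)) :
    haveI := adj.right_adjoint_additive
    TorsData ((Groth.Agent.Lib.Helper2.DerivedAdj.mapHomologicalComplexAdj adj
      (ComplexShape.up ℤ)).counit.app I) := by
  haveI := adj.right_adjoint_additive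
  exact
  { mono := fun n => mono_counit adj hc (I.X n)
    lift := fun n m hm A x hx => lift_of_nsmul_eq_zero adj (I.X n) m hm x hx
    torsK := fun n A y => je_kernel_nsmul (G.obj (I.X n)).property y
    torsH := fun n A γ => je_kernel_nsmul (htors n) γ
    div := fun n m hm => by
      haveI := hinj n
      exact epi_nsmul_id_of_injective (I.X n) m hm }

end Adj

end Groth.Agent.Lib.Helper13.TorsQC
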