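import Mathlib
import Groth.Agent.Lib.Helper2.KInj.DerivedAdjK
import Groth.Agent.Lib.Helper13.GoodMap

/-!
# Helper13: counit of helper2's derived adjunction at a K-injective complex (for S9063)
-/

set_option autoImplicit false
set_option linter.style.haveILetI false
set_option linter.unusedSectionVars false
set_option maxHeartbeats 1600000
universe w₁ w₂ v₁ v₂ u₁ u₂
open CategoryTheory CategoryTheory.Limits CategoryTheory.Category

namespace Groth.Agent.Lib.Helper13.TorsQD

open Groth.Agent.Lib.Helper2 Groth.Agent.Lib.Helper2.KInj

section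

variable {A : Type u₁} [Category.{v₁} A] [Abelian A] {B : Type u₂} [Category.{v₂} B] [Abelian B]
  {F : A ⥤ B} {G : B ⥤ A} [F.Additive] [G.Additive] (adj : F ⊣ G)
  [HasDerivedCategory.{w₁} A] [HasDerivedCategory.{w₂} B]
  [PreservesFiniteLimits F] [PreservesFiniteColimits F]
  (hKinj : ∀ K : CochainComplex B ℤ, ∃ (I : CochainComplex B ℤ) (f : K ⟶ I),
    I.IsKInjective ∧ QuasiIso f)
  (RG : DerivedCategory B ⥤ DerivedCategory A)
  (β : G.mapHomotopyCategory (ComplexShape.up ℤ) ⋙ DerivedCategory.Qh ⟶ DerivedCategory.Qh ⋙ RG)
  [RG.IsRightDerivedFunctor β (HomotopyCategory.quasiIso B (ComplexShape.up ℤ))]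

include hKinj in
/-- if the counit of the adjunction on complexes is a quasi-isomorphism at a K-injective complex
`I`, the counit of the derived adjunction is an isomorphism at `I` -/
lemma isIso_counit_of_quasiIso (I : CochainComplex B ℤ) (hI : I.IsKInjective)
    (hq : QuasiIso ((DerivedAdj.mapHomologicalComplexAdj adj (ComplexShape.up ℤ)).counit.app I)) :
    IsIso ((derivedAdjK adj hKinj RG β).counit.app (DerivedCategory.Q.obj I)) := by
  change IsIso ((derivedAdjK adj hKinj RG β).counit.app (DerivedCategory.Qh.obj
    ((HomotopyCategory.quotient B (ComplexShape.up ℤ)).obj I)))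
  have hX := isLocal_quotient_obj_of_isKInjective I hI
  haveI := isIso_app_of_isLocal hKinj RG β _ hX
  haveI : IsIso (DerivedCategory.Qh.map ((homotopyAdj adj).counit.app
      ((HomotopyCategory.quotient B (ComplexShape.up ℤ)).obj I))) := by
    haveI : IsIso (DerivedCategory.Qh.map ((HomotopyCategory.quotient B (ComplexShape.up ℤ)).map
        ((DerivedAdj.mapHomologicalComplexAdj adj (ComplexShape.up ℤ)).counit.app I))) := by
      apply Localization.inverts DerivedCategory.Qh
        (HomotopyCategory.quasiIso B (ComplexShape.up ℤ))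
      rw [HomotopyCategory.quotient_map_mem_quasiIso_iff, HomologicalComplex.mem_quasiIso_iff]
      exact hq
    dsimp only [homotopyAdj]
    rw [Adjunction.localization_counit_app, Functor.map_comp, Functor.map_comp]
    infer_instance
  have h := derivedAdjK_counit_fac adj hKinj RG β
    ((HomotopyCategory.quotient B (ComplexShape.up ℤ)).obj I)
  have h2 : IsIso (F.mapDerivedCategory.map (β.app
      ((HomotopyCategory.quotient B (ComplexShape.up ℤ)).obj I)) ≫
      (derivedAdjK adj hKinj RG β).counit.app (DerivedCategory.Qh.obj
        ((HomotopyCategory.quotient B (ComplexShape.up ℤ)).obj I))) := by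
    rw [h]
    infer_instance
  exact IsIso.of_isIso_comp_left (F.mapDerivedCategory.map (β.app
      ((HomotopyCategory.quotient B (ComplexShape.up ℤ)).obj I))) _

end

section Reflect

variable {A : Type u₁} [Category.{v₁} A] [Abelian A] {B : Type u₂} [Category.{v₂} B] [Abelian B]
  (F : A ⥤ B) [F.Additive] [HasDerivedCategory.{w₁} A] [HasDerivedCategory.{w₂} B]
  [PreservesFiniteLimits F] [PreservesFiniteColimits F]

/-- the functor induced on derived categories by an exact functor reflecting isomorphisms
reflects isomorphisms -/
lemma isIso_of_isIso_mapDerivedCategory_map [F.ReflectsIsomorphisms] {K L : DerivedCategory A}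
    (f : K ⟶ L) (hf : IsIso (F.mapDerivedCategory.map f)) : IsIso f := by
  rw [DerivedCategory.isIso_iff]
  intro n
  have h1 : IsIso ((DerivedCategory.homologyFunctor B n).map (F.mapDerivedCategory.map f)) :=
    inferInstance
  have h2 : IsIso ((F.mapDerivedCategory ⋙ DerivedCategory.homologyFunctor B n).map f) := h1
  have h3 := (NatIso.isIso_map_iff (Groth.Agent.Lib.Helper13.GoodMap.homologyDIso F n) f).1 h2
  have h4 : IsIso (F.map ((DerivedCategory.homologyFunctor A n).map f)) := h3
  exact isIso_of_reflects_iso _ F

end Reflect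

end Groth.Agent.Lib.Helper13.TorsQD
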