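import Mathlib
import Groth.Prelude.Def_SiteCmp
import Groth.Prelude.Def_WeakSerre
import Groth.Agent.Lib.Helper2.KInj.Main
import Groth.Agent.Lib.Helper13.TorsQC
import Groth.Agent.Lib.Helper13.TorsQD

/-!
# Helper13: `D(Tors) ⥤ D(Ab(C))` is fully faithful with essential image `D_Tors` (S9063)
-/

set_option autoImplicit false
set_option linter.style.haveILetI false
set_option linter.unusedSectionVars false
set_option maxHeartbeats 1600000
set_option synthInstance.maxSize 1024
universe u
open CategoryTheory CategoryTheory.Limits CategoryTheory.Category Opposite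

attribute [local instance] HasDerivedCategory.standard

noncomputable section

namespace Groth.Agent.Lib.Helper13.TorsQE

open Groth.Agent.Lib.Helper13.TorsQC Groth.Agent.Lib.Helper2 Groth.Agent.Lib.Helper2.KInj

variable {C : Type u} [SmallCategory C] (J : GrothendieckTopology C)
  [(SiteCmp.torsionSh J).IsSerreClass]

lemma hasTerminal_costructuredArrow (hc : HasCorefl J) (F : Sheaf J AddCommGrpCat.{u}) :
    HasTerminal (CostructuredArrow (SiteCmp.torsionSh J).ι F) := by
  obtain ⟨T, ε, hT, hε, huniv⟩ := hc F
  let T' : (SiteCmp.torsionSh J).FullSubcategory := ⟨T, hT⟩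
  let t : CostructuredArrow (SiteCmp.torsionSh J).ι F := CostructuredArrow.mk (Y := T') ε
  have ex : ∀ X : CostructuredArrow (SiteCmp.torsionSh J).ι F, Nonempty (X ⟶ t) := by
    intro X
    obtain ⟨g, hg⟩ := huniv X.left.obj X.hom X.left.property
    exact ⟨CostructuredArrow.homMk (ObjectProperty.homMk g) (by exact hg)⟩
  have uniq : ∀ (X : CostructuredArrow (SiteCmp.torsionSh J).ι F) (m m' : X ⟶ t), m = m' := by
    intro X m m'
    apply CostructuredArrow.hom_ext
    apply (SiteCmp.torsionSh J).ι.map_injective
    rw [← cancel_mono ε]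
    exact (CostructuredArrow.w m).trans (CostructuredArrow.w m').symm
  have ht : IsTerminal t :=
    IsTerminal.ofUniqueHom (fun X => (ex X).some) (fun X m => uniq X m _)
  exact ht.hasTerminal

lemma isLeftAdjoint_ι (hc : HasCorefl J) : (SiteCmp.torsionSh J).ι.IsLeftAdjoint := by
  rw [isLeftAdjoint_iff_hasTerminal_costructuredArrow]
  exact fun F => hasTerminal_costructuredArrow J hc F

theorem main9063 (hc : HasCorefl J) :
    (WSerre.toDerived (SiteCmp.torsionSh J)).Full ∧
      (WSerre.toDerived (SiteCmp.torsionSh J)).Faithful ∧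
      ∀ K : DerivedCategory (Sheaf J AddCommGrpCat.{u}),
        WSerre.cohIn (SiteCmp.torsionSh J) K ↔
          (WSerre.toDerived (SiteCmp.torsionSh J)).essImage K := by
  haveI := isLeftAdjoint_ι J hc
  let G := (SiteCmp.torsionSh J).ι.rightAdjoint
  let adj : (SiteCmp.torsionSh J).ι ⊣ G := Adjunction.ofIsLeftAdjoint _
  haveI : G.Additive := adj.right_adjoint_additive
  have hKinj : ∀ K : CochainComplex (Sheaf J AddCommGrpCat.{u}) ℤ,
      ∃ (I : CochainComplex (Sheaf J AddCommGrpCat.{u}) ℤ) (f : K ⟶ I),
        I.IsKInjective ∧ QuasiIso f := fun K => by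
    obtain ⟨I, f, h1, h2, -, -⟩ := KInj.exists_kInjective_resolution K
    exact ⟨I, f, h1, h2⟩
  haveI := LocalRes.hasRightDerivedFunctor _ (exists_local_resolution hKinj)
    (G.mapHomotopyCategory (ComplexShape.up ℤ) ⋙
      DerivedCategory.Qh (C := (SiteCmp.torsionSh J).FullSubcategory))
  let RG := (G.mapHomotopyCategory (ComplexShape.up ℤ) ⋙
    DerivedCategory.Qh (C := (SiteCmp.torsionSh J).FullSubcategory)).totalRightDerived
      DerivedCategory.Qh (HomotopyCategory.quasiIso (Sheaf J AddCommGrpCat.{u}) (ComplexShape.up ℤ))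
  let β := (G.mapHomotopyCategory (ComplexShape.up ℤ) ⋙
    DerivedCategory.Qh (C := (SiteCmp.torsionSh J).FullSubcategory)).totalRightDerivedUnit
      DerivedCategory.Qh (HomotopyCategory.quasiIso (Sheaf J AddCommGrpCat.{u}) (ComplexShape.up ℤ))
  let dadj := KInj.derivedAdjK adj hKinj RG β
  -- the counit is an isomorphism on complexes with torsion cohomology
  have hcounit : ∀ K : DerivedCategory (Sheaf J AddCommGrpCat.{u}),
      WSerre.cohIn (SiteCmp.torsionSh J) K → IsIso (dadj.counit.app K) := by
    intro K hK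
    obtain ⟨I, f, hI, hf, -, hinj⟩ :=
      KInj.exists_kInjective_resolution (DerivedCategory.Q.objPreimage K)
    haveI : IsIso (DerivedCategory.Q.map f) :=
      Localization.inverts DerivedCategory.Q
        (HomologicalComplex.quasiIso (Sheaf J AddCommGrpCat.{u}) (ComplexShape.up ℤ)) f
        (by rw [HomologicalComplex.mem_quasiIso_iff]; exact hf)
    let e : DerivedCategory.Q.obj I ≅ K :=
      (asIso (DerivedCategory.Q.map f)).symm ≪≫ DerivedCategory.Q.objObjPreimageIso K
    have htors : ∀ n, SiteCmp.IsTorsionSh J (I.homology n) := by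
      intro n
      have e1 : (DerivedCategory.homologyFunctor (Sheaf J AddCommGrpCat.{u}) n).obj K ≅
          I.homology n :=
        (DerivedCategory.homologyFunctor _ n).mapIso e.symm ≪≫
          (DerivedCategory.homologyFunctorFactors _ n).app I
      exact (SiteCmp.torsionSh J).prop_of_iso e1 (hK n)
    have hq := Groth.Agent.Lib.Helper13.TorsQB.quasiIso _ (torsData adj hc I hinj htors)
    have h3 := Groth.Agent.Lib.Helper13.TorsQD.isIso_counit_of_quasiIso adj hKinj RG β I hI hq
    exact (NatTrans.isIso_app_iff_of_iso dadj.counit e).1 h3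
  -- objects in the image have torsion cohomology
  have hcoh : ∀ Y : DerivedCategory (SiteCmp.torsionSh J).FullSubcategory,
      WSerre.cohIn (SiteCmp.torsionSh J) ((WSerre.toDerived (SiteCmp.torsionSh J)).obj Y) := by
    intro Y n
    have e := (Groth.Agent.Lib.Helper13.GoodMap.homologyDIso (SiteCmp.torsionSh J).ι n).app Y
    exact (SiteCmp.torsionSh J).prop_of_iso e.symm
      ((DerivedCategory.homologyFunctor _ n).obj Y).property
  -- the unit is an isomorphism
  have hunit : ∀ Y : DerivedCategory (SiteCmp.torsionSh J).FullSubcategory,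
      IsIso (dadj.unit.app Y) := by
    intro Y
    haveI := hcounit _ (hcoh Y)
    have tri := dadj.left_triangle_components Y
    have h1 : IsIso ((SiteCmp.torsionSh J).ι.mapDerivedCategory.map (dadj.unit.app Y)) := by
      have h2 : (SiteCmp.torsionSh J).ι.mapDerivedCategory.map (dadj.unit.app Y) =
          inv (dadj.counit.app ((SiteCmp.torsionSh J).ι.mapDerivedCategory.obj Y)) := by
        rw [← cancel_mono (dadj.counit.app ((SiteCmp.torsionSh J).ι.mapDerivedCategory.obj Y)),
          tri, IsIso.inv_hom_id]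
        rfl
      rw [h2]
      infer_instance
    exact Groth.Agent.Lib.Helper13.TorsQD.isIso_of_isIso_mapDerivedCategory_map
      (SiteCmp.torsionSh J).ι _ h1
  haveI : IsIso dadj.unit := NatIso.isIso_of_isIso_app _
  let ff := dadj.fullyFaithfulLOfIsIsoUnit
  refine ⟨ff.full, ff.faithful, fun K => ⟨fun hK => ?_, fun hK => ?_⟩⟩
  · haveI := hcounit K hK
    exact ⟨RG.obj K, ⟨asIso (dadj.counit.app K)⟩⟩
  · obtain ⟨Y, ⟨e⟩⟩ := hK
    intro n
    exact (SiteCmp.torsionSh J).prop_of_iso
      ((DerivedCategory.homologyFunctor _ n).mapIso e) (hcoh Y n)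

end Groth.Agent.Lib.Helper13.TorsQE
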