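import Mathlib
import Groth.Prelude.Def_ArtFun2
import Groth.Agent.Lib.Helper19.ArtFunTangent
import Groth.Agent.Lib.Helper19.ArtFunDouble

/-!
# X2 for helper18 (S12276): `F(k[kʳ]) ≃ F(k[ε])ʳ` under `H0` and `Heps`
-/

set_option autoImplicit false
universe u v
open CategoryTheory
open ArtFun ArtFun.Art Groth.Agent.Lib.Helper19.ArtFunTangent

namespace Groth.Agent.Lib.Helper13.TszPi

variable {Λ : Type u} {k : Type u} [CommRing Λ] [Field k] [Algebra Λ k]

section General

variable {M N : Type u} [AddCommGroup M] [Module k M] [Module kᵐᵒᵖ M] [SMulCommClass k kᵐᵒᵖ M]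
  [IsCentralScalar k M] [Module Λ M] [IsScalarTower Λ k M] [IsScalarTower Λ kᵐᵒᵖ M]
  [Module.Finite k M]
  [AddCommGroup N] [Module k N] [Module kᵐᵒᵖ N] [SMulCommClass k kᵐᵒᵖ N]
  [IsCentralScalar k N] [Module Λ N] [IsScalarTower Λ k N] [IsScalarTower Λ kᵐᵒᵖ N]
  [Module.Finite k N]

variable (F : Art Λ k ⥤ Type v)

/-- functoriality of `F(k ⊕ M)` in linear equivalences -/
noncomputable def congrEquiv (e : M ≃ₗ[k] N) : F.obj (tsz Λ k M) ≃ F.obj (tsz Λ k N) where
  toFun := F.map (tszHom e.toLinearMap)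
  invFun := F.map (tszHom e.symm.toLinearMap)
  left_inv z := by
    rw [map_map, tszHom_comp,
      tszHom_congr (g := LinearMap.id) (fun m => e.symm_apply_apply m), tszHom_id, map_id']
  right_inv z := by
    rw [map_map, tszHom_comp,
      tszHom_congr (g := LinearMap.id) (fun m => e.apply_symm_apply m), tszHom_id, map_id']

/-- `F(k ⊕ (M × k)) ≃ F(k ⊕ M) × F(k[ε])` -/
noncomputable def prodEquiv (h0 : H0 F) (h2 : Heps F) :
    F.obj (tsz Λ k (M × k)) ≃ F.obj (tsz Λ k M) × F.obj (dual Λ k) :=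
  Equiv.ofBijective
    (fun z => (F.map (tszHom (LinearMap.fst k M k)) z,
      F.map (tszHom (LinearMap.snd k M k) : tsz Λ k (M × k) ⟶ tsz Λ k k) z))
    ⟨fun z z' h => inj_pair h2 z z' (congrArg Prod.fst h) (congrArg Prod.snd h),
      fun xy => by
        obtain ⟨z, hz1, hz2⟩ := surj_pair h0 h2 xy.1 xy.2
        exact ⟨z, Prod.ext hz1 hz2⟩⟩

end General

section Base

variable {M : Type u} [AddCommGroup M] [Module k M] [Module kᵐᵒᵖ M] [SMulCommClass k kᵐᵒᵖ M]
  [IsCentralScalar k M] [IsScalarTower k kᵐᵒᵖ M] [Module.Finite k M]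

/-- the structure map `k → k ⊕ M` -/
def baseToTsz : base k k ⟶ tsz k k M :=
  ⟨Algebra.ofId k (TrivSqZeroExt k M), AlgHom.ext fun _ => rfl⟩

theorem toBase_baseToTsz :
    (toBase (tsz k k M) ≫ baseToTsz : tsz k k M ⟶ tsz k k M) = tszHom 0 := rfl

theorem subsingleton_obj_of_subsingleton [Subsingleton M] (F : Art k k ⥤ Type v) (h0 : H0 F) :
    Nonempty (F.obj (tsz k k M)) ∧ Subsingleton (F.obj (tsz k k M)) := by
  haveI := h0.2
  refine ⟨⟨F.map baseToTsz h0.1.some⟩, ⟨fun z z' => ?_⟩⟩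
  have h1 : ∀ w : F.obj (tsz k k M), w = F.map (tszHom (0 : M →ₗ[k] M)) w := by
    intro w
    rw [tszHom_congr (f := (0 : M →ₗ[k] M)) (g := LinearMap.id)
      (fun m => Subsingleton.elim _ _), tszHom_id, map_id']
  rw [h1 z, h1 z', ← toBase_baseToTsz, ← map_map, ← map_map]
  congr 1
  exact Subsingleton.elim _ _

end Base

/-- X2: under `H0` and `Heps`, `F(k[kʳ]) ≃ F(k[ε])ʳ`. -/
theorem nonempty_equiv_tsz_pi {k : Type u} [Field k] (F : Art k k ⥤ Type u) (h0 : H0 F)
    (h2 : Heps F) (r : ℕ) :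
    Nonempty (F.obj (tsz k k (Fin r → k)) ≃ (Fin r → F.obj (dual k k))) := by
  induction r with
  | zero =>
    obtain ⟨⟨z⟩, hs⟩ := subsingleton_obj_of_subsingleton (M := Fin 0 → k) F h0
    exact ⟨{ toFun := fun _ => isEmptyElim
             invFun := fun _ => z
             left_inv := fun w => Subsingleton.elim _ _
             right_inv := fun w => funext fun i => isEmptyElim i }⟩
  | succ r ih =>
    obtain ⟨e⟩ := ih
    let l : (Fin (r + 1) → k) ≃ₗ[k] (Fin r → k) × k :=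
      (Fin.consLinearEquiv k (fun _ : Fin (r + 1) => k)).symm.trans
        (LinearEquiv.prodComm k k (Fin r → k))
    exact ⟨(congrEquiv F l).trans ((prodEquiv F h0 h2).trans
      ((Equiv.prodCongr e (Equiv.refl _)).trans ((Equiv.prodComm _ _).trans
        (Fin.consEquiv (fun _ : Fin (r + 1) => F.obj (dual k k))))))⟩

end Groth.Agent.Lib.Helper13.TszPi
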