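import Groth.Agent.Lib.Helper2.RDBridge
import Groth.Agent.Lib.Helper13.EdgeOutIso

/-!
# A "way-out" lemma for right derived functors on `D⁺` (helper13)

Let `Ψ : C ⥤ D` be a left exact additive functor between abelian categories (`C` with enough injectives),
`P` a class of objects of `D` closed under kernels, cokernels and extensions (encoded as: the middle term of a
five term exact sequence whose four outer terms are in `P` is in `P`), and `Q` a class of objects of `C` such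
that `R^q Ψ M ∈ P` for all `M ∈ Q`.  Then for every bounded below complex of injectives `K` whose cohomology
objects are in `Q`, the cohomology objects of `Ψ K` are in `P`.  Consequently, for `E ∈ D⁺(C)` with cohomology in
`Q`, the cohomology of `RΨ E` is in `P`.
-/

set_option autoImplicit false
set_option backward.isDefEq.respectTransparency false

universe w w' v v' u u'

namespace Groth.Agent.Lib.Helper13.WayOut

open CategoryTheory CategoryTheory.Limits
open Groth.Agent.Lib.Helper2 Groth.Agent.Lib.Helper2.RDBridge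

section Seq

variable {B : Type*} [Category B] [Abelian B] (K : CochainComplex B ℤ)

/-- `0 ⟶ B^n ⟶ Z^n ⟶ H^n ⟶ 0`, with `B^n := ker (Z^n ⟶ H^n)`. -/
noncomputable abbrev sb (n : ℤ) : ShortComplex B :=
  ShortComplex.mk (kernel.ι (K.homologyπ n)) (K.homologyπ n) (kernel.condition _)

lemma sb_shortExact (n : ℤ) : (sb K n).ShortExact :=
  { exact := ShortComplex.exact_of_f_is_kernel _ (kernelIsKernel _)
    mono_f := inferInstanceAs (Mono (kernel.ι (K.homologyπ n)))
    epi_g := inferInstanceAs (Epi (K.homologyπ n)) }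

/-- `K^i ⟶ B^j`. -/
noncomputable def e (i j : ℤ) : K.X i ⟶ kernel (K.homologyπ j) :=
  kernel.lift (K.homologyπ j) (K.toCycles i j) (K.toCycles_comp_homologyπ i j)

lemma e_ι (i j : ℤ) : e K i j ≫ kernel.ι (K.homologyπ j) = K.toCycles i j :=
  kernel.lift_ι _ _ _

lemma iCycles_e (i j : ℤ) : K.iCycles i ≫ e K i j = 0 := by
  rw [← cancel_mono (kernel.ι (K.homologyπ j)), Category.assoc, e_ι, zero_comp,
    ← cancel_mono (K.iCycles j), Category.assoc, K.toCycles_i, K.iCycles_d, zero_comp]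

lemma epi_e (i j : ℤ) (hij : i + 1 = j) : Epi (e K i j) := by
  have hex : (ShortComplex.mk (K.toCycles i j) (K.homologyπ j)
      (K.toCycles_comp_homologyπ i j)).Exact :=
    ShortComplex.exact_of_g_is_cokernel _ (K.homologyIsCokernel i j (by subst hij; simp))
  exact hex.epi_kernelLift

/-- `0 ⟶ Z^i ⟶ K^i ⟶ B^{i+1} ⟶ 0`. -/
noncomputable abbrev sa (i j : ℤ) : ShortComplex B :=
  ShortComplex.mk (K.iCycles i) (e K i j) (iCycles_e K i j)

lemma sa_shortExact (i j : ℤ) (hij : i + 1 = j) : (sa K i j).ShortExact := by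
  have hlim : IsLimit (KernelFork.ofι (K.iCycles i) (iCycles_e K i j)) :=
    isKernelOfComp (f := e K i j) (kernel.ι (K.homologyπ j) ≫ K.iCycles j) (K.d i j)
      (K.cyclesIsKernel i j (by subst hij; simp)) (iCycles_e K i j)
      (by rw [← Category.assoc, e_ι, K.toCycles_i])
  exact
    { exact := ShortComplex.exact_of_f_is_kernel _ hlim
      mono_f := inferInstanceAs (Mono (K.iCycles i))
      epi_g := epi_e K i j hij }

end Seq

section KC

variable {A : Type*} [Category A] [Abelian A]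

/-- For `u : X ⟶ Y` and a monomorphism `v : Y ⟶ Z`: `0 ⟶ coker u ⟶ coker (u ≫ v) ⟶ coker v ⟶ 0` is exact
(stated for arbitrary presentations of the three cokernels). -/
theorem kc {X Y Z Wu Wv W : A} (u : X ⟶ Y) (v : Y ⟶ Z) [Mono v]
    (pu : Y ⟶ Wu) [Epi pu] (wu : u ≫ pu = 0) (hu : (ShortComplex.mk u pu wu).Exact)
    (pv : Z ⟶ Wv) [Epi pv] (wv : v ≫ pv = 0) (hv : (ShortComplex.mk v pv wv).Exact)
    (π : Z ⟶ W) [Epi π] (wπ : (u ≫ v) ≫ π = 0) (hπ : (ShortComplex.mk (u ≫ v) π wπ).Exact) :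
    ∃ (φ : Wu ⟶ W) (ψ : W ⟶ Wv) (w : φ ≫ ψ = 0), Mono φ ∧ Epi ψ ∧
      (ShortComplex.mk φ ψ w).Exact := by
  haveI : Epi (ShortComplex.mk u pu wu).g := ‹Epi pu›
  haveI : Epi (ShortComplex.mk (u ≫ v) π wπ).g := ‹Epi π›
  let φ : Wu ⟶ W := hu.desc (v ≫ π) (by
    change u ≫ v ≫ π = 0
    rw [← Category.assoc]; exact wπ)
  have hφ : pu ≫ φ = v ≫ π := hu.g_desc _ _
  let ψ : W ⟶ Wv := hπ.desc pv (by
    change (u ≫ v) ≫ pv = 0
    rw [Category.assoc, wv, comp_zero])
  have hψ : π ≫ ψ = pv := hπ.g_desc _ _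
  have w : φ ≫ ψ = 0 := by
    rw [← cancel_epi pu, ← Category.assoc, hφ, Category.assoc, hψ, wv, comp_zero]
  refine ⟨φ, ψ, w, ?_, ?_, ?_⟩
  · rw [Preadditive.mono_iff_cancel_zero]
    intro T t ht
    obtain ⟨T₁, p₁, hp₁, b, hb⟩ := surjective_up_to_refinements_of_epi pu t
    have h1 : (b ≫ v) ≫ π = 0 := by
      rw [Category.assoc, ← hφ, ← Category.assoc, ← hb, Category.assoc, ht, comp_zero]
    obtain ⟨T₂, p₂, hp₂, a, ha⟩ := hπ.exact_up_to_refinements (b ≫ v) h1
    have ha' : p₂ ≫ b ≫ v = a ≫ u ≫ v := ha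
    have h2 : p₂ ≫ b = a ≫ u := by
      rw [← cancel_mono v, Category.assoc, Category.assoc]
      exact ha'
    have h3 : (p₂ ≫ p₁) ≫ t = 0 := by
      rw [Category.assoc, hb, ← Category.assoc, h2, Category.assoc, wu, comp_zero]
    haveI := hp₁
    haveI := hp₂
    haveI : Epi (p₂ ≫ p₁) := epi_comp _ _
    exact (cancel_epi (p₂ ≫ p₁)).1 (by rw [h3, comp_zero])
  · exact epi_of_epi_fac hψ
  · rw [ShortComplex.exact_iff_exact_up_to_refinements]
    intro T t ht
    have ht' : t ≫ ψ = 0 := ht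
    obtain ⟨T₁, p₁, hp₁, c, hc⟩ := surjective_up_to_refinements_of_epi π t
    have h1 : c ≫ pv = 0 := by
      rw [← hψ, ← Category.assoc, ← hc, Category.assoc, ht', comp_zero]
    obtain ⟨T₂, p₂, hp₂, b, hb⟩ := hv.exact_up_to_refinements c h1
    have hb' : p₂ ≫ c = b ≫ v := hb
    haveI := hp₁
    haveI := hp₂
    refine ⟨T₂, p₂ ≫ p₁, epi_comp _ _, b ≫ pu, ?_⟩
    change (p₂ ≫ p₁) ≫ t = (b ≫ pu) ≫ φ
    rw [Category.assoc, hc, ← Category.assoc, hb', Category.assoc, Category.assoc, hφ]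

end KC

section Main

variable {C : Type u} [Category.{v} C] [Abelian C] [EnoughInjectives C]
  {D : Type u'} [Category.{v'} D] [Abelian D]

/-- A class of objects closed under kernels, cokernels and extensions, in the form: it contains the zero objects and
the middle term of a five term exact sequence whose four outer terms are in the class. -/
structure Closed (P : ObjectProperty D) : Prop where
  zero : ∀ X : D, IsZero X → P X
  five : ∀ {X₁ X₂ X₃ X₄ X₅ : D} (a : X₁ ⟶ X₂) (b : X₂ ⟶ X₃) (c : X₃ ⟶ X₄) (d : X₄ ⟶ X₅)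
      (w₁ : a ≫ b = 0) (w₂ : b ≫ c = 0) (w₃ : c ≫ d = 0),
      (ShortComplex.mk a b w₁).Exact → (ShortComplex.mk b c w₂).Exact →
      (ShortComplex.mk c d w₃).Exact → P X₁ → P X₂ → P X₄ → P X₅ → P X₃

namespace Closed

variable {P : ObjectProperty D} (h : Closed P)
include h

lemma of_iso {X Y : D} (e : X ≅ Y) (hX : P X) : P Y :=
  h.five (0 : X ⟶ X) e.hom (0 : Y ⟶ X) (𝟙 X) zero_comp comp_zero zero_comp
    ((ShortComplex.exact_iff_mono _ rfl).2 (by dsimp; infer_instance))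
    ((ShortComplex.exact_iff_epi _ rfl).2 (by dsimp; infer_instance))
    ((ShortComplex.exact_iff_mono _ rfl).2 (by dsimp; infer_instance)) hX hX hX hX

lemma of_ker {Y Z : D} (d : Y ⟶ Z) (hY : P Y) (hZ : P Z) : P (kernel d) :=
  h.five (𝟙 Y) (0 : Y ⟶ kernel d) (kernel.ι d) d comp_zero zero_comp (kernel.condition d)
    ((ShortComplex.exact_iff_epi _ rfl).2 (by dsimp; infer_instance))
    ((ShortComplex.exact_iff_mono _ rfl).2 (by dsimp; infer_instance))
    (ShortComplex.exact_of_f_is_kernel _ (kernelIsKernel d)) hY hY hY hZ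

lemma of_ext {X Y Z : D} (φ : X ⟶ Y) (ψ : Y ⟶ Z) (w : φ ≫ ψ = 0) (hφ : Mono φ) (hψ : Epi ψ)
    (hex : (ShortComplex.mk φ ψ w).Exact) (hX : P X) (hZ : P Z) : P Y :=
  h.five (0 : X ⟶ X) φ ψ (0 : Z ⟶ Z) zero_comp w comp_zero
    ((ShortComplex.exact_iff_mono _ rfl).2 (by dsimp; exact hφ)) hex
    ((ShortComplex.exact_iff_epi _ rfl).2 (by dsimp; exact hψ)) hX hX hZ hZ

end Closed

variable (Ψ : C ⥤ D) [Ψ.Additive] [PreservesFiniteLimits Ψ]

/-- the beginning of the long exact sequence, written with `Ψ` instead of `R^0 Ψ`. -/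
theorem les0 (S : ShortComplex C) (hS : S.ShortExact) :
    ∃ (δ : Ψ.obj S.X₃ ⟶ (Ψ.rightDerived 1).obj S.X₁)
      (h2 : Ψ.map S.g ≫ δ = 0) (h3 : δ ≫ (Ψ.rightDerived 1).map S.f = 0),
      (ShortComplex.mk _ _ h2).Exact ∧ (ShortComplex.mk _ _ h3).Exact := by
  obtain ⟨δ₀, z1, z2, z3, e1, e2, e3⟩ := rightDerived_les' Ψ S hS 0
  let ι := Ψ.rightDerivedZeroIsoSelf
  have n1 : Ψ.map S.g ≫ ι.inv.app S.X₃ = ι.inv.app S.X₂ ≫ (Ψ.rightDerived 0).map S.g :=
    ι.inv.naturality S.g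
  have n2 : (Ψ.rightDerived 0).map S.g ≫ ι.hom.app S.X₃ = ι.hom.app S.X₂ ≫ Ψ.map S.g :=
    ι.hom.naturality S.g
  have h2 : Ψ.map S.g ≫ ι.inv.app S.X₃ ≫ δ₀ = 0 := by
    rw [← Category.assoc, n1, Category.assoc, z2, comp_zero]
  have h3 : (ι.inv.app S.X₃ ≫ δ₀) ≫ (Ψ.rightDerived 1).map S.f = 0 := by
    rw [Category.assoc, z3, comp_zero]
  have iso2 : ShortComplex.mk ((Ψ.rightDerived 0).map S.g) δ₀ z2 ≅
      ShortComplex.mk (Ψ.map S.g) (ι.inv.app S.X₃ ≫ δ₀) h2 :=
    ShortComplex.isoMk (ι.app S.X₂) (ι.app S.X₃) (Iso.refl _) n2.symm (by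
      change ι.hom.app S.X₃ ≫ ι.inv.app S.X₃ ≫ δ₀ = δ₀ ≫ 𝟙 _
      rw [Iso.hom_inv_id_app_assoc, Category.comp_id])
  have iso3 : ShortComplex.mk δ₀ ((Ψ.rightDerived (0 + 1)).map S.f) z3 ≅
      ShortComplex.mk (ι.inv.app S.X₃ ≫ δ₀) ((Ψ.rightDerived 1).map S.f) h3 :=
    ShortComplex.isoMk (ι.app S.X₃) (Iso.refl _) (Iso.refl _) (by
      change ι.hom.app S.X₃ ≫ ι.inv.app S.X₃ ≫ δ₀ = δ₀ ≫ 𝟙 _
      rw [Iso.hom_inv_id_app_assoc, Category.comp_id]) (by
      change 𝟙 _ ≫ (Ψ.rightDerived 1).map S.f = (Ψ.rightDerived 1).map S.f ≫ 𝟙 _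
      rw [Category.id_comp, Category.comp_id])
  exact ⟨ι.inv.app S.X₃ ≫ δ₀, h2, h3, (ShortComplex.exact_iff_of_iso iso2).1 e2,
    (ShortComplex.exact_iff_of_iso iso3).1 e3⟩

variable {Ψ} {P : ObjectProperty D} {Q : ObjectProperty C}

/-- the higher derived functors of `Ψ` on the boundaries and the cycles of `K` are in `P`. -/
theorem rd_bd_cycles (hP : Closed P) (hQ : ∀ M, Q M → ∀ q, P ((Ψ.rightDerived q).obj M))
    (K : CochainComplex C ℤ) (hK : ∀ n, Injective (K.X n)) (a : ℤ)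
    (hlow : ∀ n, n < a → IsZero (K.X n)) (hH : ∀ n, Q (K.homology n)) (n : ℤ) :
    (∀ q, P ((Ψ.rightDerived (q + 1)).obj (kernel (K.homologyπ n)))) ∧
      (∀ q, P ((Ψ.rightDerived (q + 1)).obj (K.cycles n))) := by
  have hB_of_le : ∀ n, n ≤ a → IsZero (kernel (K.homologyπ n)) := by
    intro n hn
    haveI := epi_e K (n - 1) n (by omega)
    exact IsZero.of_epi (e K (n - 1) n) (hlow (n - 1) (by omega))
  have zeroB : ∀ n, n ≤ a → ∀ q, P ((Ψ.rightDerived (q + 1)).obj (kernel (K.homologyπ n))) := by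
    intro n hn q
    haveI : Injective (kernel (K.homologyπ n)) := (hB_of_le n hn).injective
    exact hP.zero _ (Ψ.isZero_rightDerived_obj_injective_succ q _)
  have stepZ : ∀ n, (∀ q, P ((Ψ.rightDerived (q + 1)).obj (kernel (K.homologyπ n)))) →
      ∀ q, P ((Ψ.rightDerived (q + 1)).obj (K.cycles n)) := by
    intro n hB q
    obtain ⟨δ₁, _, _, z3, _, _, e3⟩ := rightDerived_les' Ψ (sb K n) (sb_shortExact K n) q
    obtain ⟨δ₂, z1', z2', _, e1', e2', _⟩ :=
      rightDerived_les' Ψ (sb K n) (sb_shortExact K n) (q + 1)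
    exact hP.five δ₁ ((Ψ.rightDerived (q + 1)).map (sb K n).f)
      ((Ψ.rightDerived (q + 1)).map (sb K n).g) δ₂
      z3 z1' z2' e3 e1' e2' (hQ _ (hH n) q) (hB q) (hQ _ (hH n) (q + 1)) (hB (q + 1))
  have stepB : ∀ n, (∀ q, P ((Ψ.rightDerived (q + 1)).obj (K.cycles n))) →
      ∀ q, P ((Ψ.rightDerived (q + 1)).obj (kernel (K.homologyπ (n + 1)))) := by
    intro n hZ q
    obtain ⟨δ, z1, z2, z3, e1, e2, e3⟩ :=
      rightDerived_les' Ψ (sa K n (n + 1)) (sa_shortExact K n (n + 1) rfl) (q + 1)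
    haveI := hK n
    have hz1 : IsZero ((Ψ.rightDerived (q + 1)).obj (K.X n)) :=
      Ψ.isZero_rightDerived_obj_injective_succ q (K.X n)
    have hz2 : IsZero ((Ψ.rightDerived (q + 1 + 1)).obj (K.X n)) :=
      Ψ.isZero_rightDerived_obj_injective_succ (q + 1) (K.X n)
    exact hP.five (0 : (Ψ.rightDerived (q + 1)).obj (K.X n) ⟶ (Ψ.rightDerived (q + 1)).obj (K.X n))
      ((Ψ.rightDerived (q + 1)).map (sa K n (n + 1)).g) δ
      ((Ψ.rightDerived (q + 1 + 1)).map (sa K n (n + 1)).f) zero_comp z2 z3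
      (ShortComplex.exact_of_isZero_X₂ _ hz1) e2 e3 (hP.zero _ hz1) (hP.zero _ hz1)
      (hZ (q + 1)) (hP.zero _ hz2)
  have key : ∀ (k : ℕ) (n : ℤ), n = a + k →
      ∀ q, P ((Ψ.rightDerived (q + 1)).obj (kernel (K.homologyπ n))) := by
    intro k
    induction k with
    | zero =>
      intro n hn
      exact zeroB n (by simp at hn; omega)
    | succ k ih =>
      intro n hn
      obtain rfl : n = (a + k) + 1 := by push_cast at hn; omega
      exact stepB (a + k) (stepZ (a + k) (ih (a + k) rfl))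
  have hBn : ∀ q, P ((Ψ.rightDerived (q + 1)).obj (kernel (K.homologyπ n))) := by
    by_cases hn : a ≤ n
    · exact key (n - a).toNat n (by omega)
    · exact zeroB n (by omega)
  exact ⟨hBn, stepZ n hBn⟩

/-- **Key abstract statement**: the cohomology objects of `Ψ K` are in `P`. -/
theorem P_homology_map_aux (hP : Closed P) (hQ : ∀ M, Q M → ∀ q, P ((Ψ.rightDerived q).obj M))
    (K : CochainComplex C ℤ) (hK : ∀ n, Injective (K.X n)) (a : ℤ)
    (hlow : ∀ n, n < a → IsZero (K.X n)) (hH : ∀ n, Q (K.homology n)) (m n : ℤ)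
    (hprev : (ComplexShape.up ℤ).prev n = m) (hmn : m + 1 = n) :
    P (((Ψ.mapHomologicalComplex (ComplexShape.up ℤ)).obj K).homology n) := by
  subst hprev
  have hcyc := rd_bd_cycles hP hQ K hK a hlow hH
  set m := (ComplexShape.up ℤ).prev n with hm
  let GK := (Ψ.mapHomologicalComplex (ComplexShape.up ℤ)).obj K
  let u : Ψ.obj (K.X m) ⟶ Ψ.obj (kernel (K.homologyπ n)) := Ψ.map (e K m n)
  let v : Ψ.obj (kernel (K.homologyπ n)) ⟶ Ψ.obj (K.cycles n) := Ψ.map (kernel.ι (K.homologyπ n))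
  haveI : Mono v := inferInstanceAs (Mono (Ψ.map (kernel.ι (K.homologyπ n))))
  obtain ⟨δa, a2, a3, ea2, ea3⟩ := les0 Ψ (sa K m n) (sa_shortExact K m n hmn)
  haveI := hK m
  haveI : Epi δa :=
    ea3.epi_f ((Ψ.isZero_rightDerived_obj_injective_succ 0 (K.X m)).eq_of_tgt _ _)
  obtain ⟨δb, b2, b3, eb2, eb3⟩ := les0 Ψ (sb K n) (sb_shortExact K n)
  have wvg : v ≫ Ψ.map (K.homologyπ n) = 0 := by
    rw [← Ψ.map_comp, kernel.condition, Ψ.map_zero]
  have hvg : (ShortComplex.mk v (Ψ.map (K.homologyπ n)) wvg).Exact :=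
    ((Functor.preservesFiniteLimits_iff_forall_exact_map_and_mono Ψ).1 inferInstance (sb K n)
      (sb_shortExact K n)).1
  let pv : Ψ.obj (K.cycles n) ⟶ kernel δb := kernel.lift δb (Ψ.map (K.homologyπ n)) b2
  have hpv : pv ≫ kernel.ι δb = Ψ.map (K.homologyπ n) := kernel.lift_ι _ _ _
  haveI : Epi pv := eb2.epi_kernelLift
  have wv : v ≫ pv = 0 := by
    rw [← cancel_mono (kernel.ι δb), Category.assoc, hpv, zero_comp, wvg]
  have hv : (ShortComplex.mk v pv wv).Exact := by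
    let φ : ShortComplex.mk v pv wv ⟶ ShortComplex.mk v (Ψ.map (K.homologyπ n)) wvg :=
      { τ₁ := 𝟙 _
        τ₂ := 𝟙 _
        τ₃ := kernel.ι δb
        comm₁₂ := by
          change 𝟙 _ ≫ v = v ≫ 𝟙 _
          rw [Category.id_comp, Category.comp_id]
        comm₂₃ := by
          change 𝟙 _ ≫ Ψ.map (K.homologyπ n) = pv ≫ kernel.ι δb
          rw [Category.id_comp, hpv] }
    haveI : Epi φ.τ₁ := inferInstanceAs (Epi (𝟙 _))
    haveI : IsIso φ.τ₂ := inferInstanceAs (IsIso (𝟙 _))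
    haveI : Mono φ.τ₃ := inferInstanceAs (Mono (kernel.ι δb))
    exact (ShortComplex.exact_iff_of_epi_of_isIso_of_mono φ).2 hvg
  haveI := EdgeOutIso.isIso_cyclesComparison Ψ K n
  let cyc : GK.cycles n ⟶ Ψ.obj (K.cycles n) := RDer.cyclesComparison Ψ K n
  haveI : IsIso cyc := EdgeOutIso.isIso_cyclesComparison Ψ K n
  let π : Ψ.obj (K.cycles n) ⟶ GK.homology n := inv cyc ≫ GK.homologyπ n
  haveI : Epi π := epi_comp _ _
  have huv : u ≫ v = Ψ.map (K.toCycles m n) := by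
    change Ψ.map (e K m n) ≫ Ψ.map (kernel.ι (K.homologyπ n)) = _
    rw [← Ψ.map_comp, e_ι]
  have htc : GK.toCycles m n ≫ cyc = Ψ.map (K.toCycles m n) :=
    RDer.toCycles_cyclesComparison Ψ K n
  have wπ : (u ≫ v) ≫ π = 0 := by
    change (u ≫ v) ≫ inv cyc ≫ GK.homologyπ n = 0
    rw [huv, ← htc, Category.assoc, IsIso.hom_inv_id_assoc, GK.toCycles_comp_homologyπ]
  have hπ : (ShortComplex.mk (u ≫ v) π wπ).Exact := by
    have h0 : (ShortComplex.mk (GK.toCycles m n) (GK.homologyπ n)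
        (GK.toCycles_comp_homologyπ m n)).Exact :=
      ShortComplex.exact_of_g_is_cokernel _ (GK.homologyIsCokernel m n rfl)
    let φ : ShortComplex.mk (GK.toCycles m n) (GK.homologyπ n) (GK.toCycles_comp_homologyπ m n) ⟶
        ShortComplex.mk (u ≫ v) π wπ :=
      { τ₁ := 𝟙 _
        τ₂ := cyc
        τ₃ := 𝟙 _
        comm₁₂ := by
          change 𝟙 _ ≫ u ≫ v = GK.toCycles m n ≫ cyc
          rw [Category.id_comp, huv, htc]
        comm₂₃ := by
          change cyc ≫ inv cyc ≫ GK.homologyπ n = GK.homologyπ n ≫ 𝟙 _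
          rw [IsIso.hom_inv_id_assoc, Category.comp_id] }
    haveI : Epi φ.τ₁ := inferInstanceAs (Epi (𝟙 _))
    haveI : IsIso φ.τ₂ := inferInstanceAs (IsIso cyc)
    haveI : Mono φ.τ₃ := inferInstanceAs (Mono (𝟙 _))
    exact (ShortComplex.exact_iff_of_epi_of_isIso_of_mono φ).1 h0
  obtain ⟨φ, ψ, w, hφ, hψ, hex⟩ := kc u v δa a2 ea2 pv wv hv π wπ hπ
  have hPH : P (Ψ.obj (K.homology n)) :=
    hP.of_iso (Ψ.rightDerivedZeroIsoSelf.app _) (hQ _ (hH n) 0)
  exact hP.of_ext φ ψ w hφ hψ hex ((hcyc m).2 0) (hP.of_ker δb hPH ((hcyc n).1 0))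

theorem P_homology_map (hP : Closed P) (hQ : ∀ M, Q M → ∀ q, P ((Ψ.rightDerived q).obj M))
    (K : CochainComplex C ℤ) (hK : ∀ n, Injective (K.X n)) (a : ℤ)
    (hlow : ∀ n, n < a → IsZero (K.X n)) (hH : ∀ n, Q (K.homology n)) (n : ℤ) :
    P (((Ψ.mapHomologicalComplex (ComplexShape.up ℤ)).obj K).homology n) :=
  P_homology_map_aux hP hQ K hK a hlow hH _ n rfl (by simp)

end Main

section Bridge

variable {C : Type u} [Category.{v} C] [Abelian C] [EnoughInjectives C] [HasDerivedCategory.{w} C]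
  {D : Type u'} [Category.{v'} D] [Abelian D] [HasDerivedCategory.{w'} D]
  (Ψ : C ⥤ D) [Ψ.Additive]

/-- an injective model of an object of `D⁺(C)`, computing its cohomology and the cohomology of `RΨ`. -/
theorem exists_model (E : DerivedCategory.Plus C) :
    ∃ (K : CochainComplex C ℤ) (_ : ∀ n, Injective (K.X n)) (a : ℤ) (_ : ∀ n, n < a → IsZero (K.X n)),
      (∀ i : ℤ, Nonempty ((DerivedCategory.homologyFunctor C i).obj E.obj ≅ K.homology i)) ∧
      (∀ i : ℤ, Nonempty ((DerivedCategory.homologyFunctor D i).obj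
          (Ψ.rightDerivedFunctorPlus.obj E).obj ≅
        ((Ψ.mapHomologicalComplex (ComplexShape.up ℤ)).obj K).homology i)) := by
  obtain ⟨a, ha⟩ : ∃ a : ℤ, DerivedCategory.TStructure.t.IsGE E.obj a := E.property
  haveI : E.IsGE a := (E.isGE_ι_obj_iff a).1 ha
  obtain ⟨L, hL, ⟨e⟩⟩ := DerivedCategory.Plus.exists_injective_nonempty_iso E a
  let J : CochainComplex.Plus C := (InjectiveObject.ι C).mapCochainComplexPlus.obj L
  haveI hJ : ∀ n, Injective (J.obj.X n) := fun n => (L.obj.X n).property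
  haveI : J.obj.IsStrictlyGE a := by
    change CochainComplex.IsStrictlyGE (((InjectiveObject.ι C).mapHomologicalComplex (ComplexShape.up ℤ)).obj L.obj) a
    infer_instance
  refine ⟨J.obj, hJ, a, fun n hn => J.obj.isZero_of_isStrictlyGE a n hn, fun i => ⟨?_⟩, fun i => ⟨?_⟩⟩
  · exact (DerivedCategory.homologyFunctor C i).mapIso (DerivedCategory.Plus.ι.mapIso e.symm) ≪≫
      (DerivedCategory.homologyFunctorFactors C i).app J.obj
  · exact (HD i).mapIso (Ψ.rightDerivedFunctorPlus.mapIso e.symm ≪≫ (RDPlus.uIso Ψ J).symm) ≪≫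
      hIso Ψ i J

variable [PreservesFiniteLimits Ψ] {P : ObjectProperty D} {Q : ObjectProperty C}

/-- the way-out lemma on `D⁺`. -/
theorem P_homology_rightDerivedFunctorPlus (hP : Closed P)
    (hQ : ∀ M, Q M → ∀ q, P ((Ψ.rightDerived q).obj M))
    (hQiso : ∀ {M N : C}, (M ≅ N) → Q M → Q N)
    (E : DerivedCategory.Plus C) (hE : ∀ i : ℤ, Q ((DerivedCategory.homologyFunctor C i).obj E.obj))
    (i : ℤ) :
    P ((DerivedCategory.homologyFunctor D i).obj (Ψ.rightDerivedFunctorPlus.obj E).obj) := by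
  obtain ⟨K, hK, a, hlow, h1, h2⟩ := exists_model Ψ E
  obtain ⟨e2⟩ := h2 i
  exact hP.of_iso e2.symm (P_homology_map hP hQ K hK a hlow
    (fun n => hQiso (h1 n).some (hE n)) i)

end Bridge

end Groth.Agent.Lib.Helper13.WayOut
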