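import Mathlib
import Groth.Prelude.Def_CohCx
import Groth.Prelude.Def_CohSite
import Groth.Prelude.Def_FreeSh
import Groth.Agent.Lib.Helper13.ExtLocal
import Groth.Agent.Lib.Helper13.FlasqueBasic

/-!
# Weakly contractible objects of a site: sections are exact, higher cohomology vanishes
-/
set_option autoImplicit false
universe u
open CategoryTheory CategoryTheory.Limits Opposite CategoryTheory.Abelian
open Groth.Agent.Lib.Helper13.ExtLocal Groth.Agent.Lib.Helper13.FlasqueBasic

noncomputable section

namespace Groth.Agent.Lib.Helper13.WeaklyContractible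

variable {C : Type u} [SmallCategory C] (J : GrothendieckTopology C) (U : C)

/-- sections over `U`. -/
abbrev sect : Sheaf J AddCommGrpCat.{u} ⥤ AddCommGrpCat.{u} :=
  sheafToPresheaf J AddCommGrpCat.{u} ⋙ (evaluation Cᵒᵖ AddCommGrpCat.{u}).obj (op U)

theorem sect_preservesFiniteColimits (hU : CohSite.IsWeaklyContractible J U) :
    PreservesFiniteColimits (sect J U) := by
  apply preservesFiniteColimits_of_preservesEpi
  intro F G φ hφ
  rw [epi_iff_epi_forget] at hφ
  have hsurj := hU _ _ _ hφ
  rw [AddCommGrpCat.epi_iff_surjective]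
  exact hsurj

theorem ext_eq_zero (hU : CohSite.IsWeaklyContractible J U) (F : Sheaf J AddCommGrpCat.{u})
    (p : ℕ) (ξ : Ext (CohCx.freeSheaf J U) F (p + 1)) : ξ = 0 := by
  have hex := sect_preservesFiniteColimits J U hU
  let I : InjectiveResolution F := InjectiveResolution.of F
  obtain ⟨g, hg, hξ⟩ := I.extMk_surjective ξ (p + 2) rfl
  let S : ShortComplex (Sheaf J AddCommGrpCat.{u}) :=
    ShortComplex.mk _ _ (I.cocomplex.d_comp_d p (p + 1) (p + 2))
  have hS : S.Exact := I.exact_succ p
  have hS' : (S.map (sect J U)).Exact := hS.map (sect J U)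
  rw [ShortComplex.ab_exact_iff] at hS'
  have hs : ((S.map (sect J U)).g).hom (CohFree.evalGen J U _ g) = 0 := by
    change (S.g.hom.app (op U)).hom (CohFree.evalGen J U _ g) = 0
    rw [← evalGen_comp]
    change CohFree.evalGen J U _ (g ≫ I.cocomplex.d (p + 1) (p + 2)) = 0
    rw [hg]
    rfl
  obtain ⟨t, ht⟩ := hS' _ hs
  rw [← hξ, InjectiveResolution.extMk_eq_zero_iff _ _ _ _ _ p rfl]
  refine ⟨CohFree.ofSect J U _ t, ?_⟩
  apply evalGen_injective
  rw [evalGen_comp, CohFree.evalGen_ofSect]
  exact ht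

theorem subsingleton_HU (hU : CohSite.IsWeaklyContractible J U) (F : Sheaf J AddCommGrpCat.{u})
    (p : ℕ) : Subsingleton (CohSite.HU F (p + 1) U) :=
  ⟨fun a b => (ext_eq_zero J U hU F p a).trans (ext_eq_zero J U hU F p b).symm⟩

end Groth.Agent.Lib.Helper13.WeaklyContractible
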