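import Mathlib
import Groth.Prelude
import Groth.Agent.Lib.Helper13.ZariskiConn
import Groth.Agent.Lib.Helper13.ZariskiNormal

/-!
# Connected fibres of proper birational morphisms onto normal schemes
-/
set_option autoImplicit false
universe u
open CategoryTheory CategoryTheory.Limits Opposite TopologicalSpace AlgebraicGeometry

namespace Groth.Agent.Lib.Helper13.ZariskiConnBir

theorem main15544 {X Y : Scheme.{u}} [IsIntegral X] [IsIntegral Y] [IsLocallyNoetherian Y]
    (hY : Pi1.IsNormalScheme Y) (f : X ⟶ Y) [IsProper f]
    (hgen : f.base (genericPoint X) = genericPoint Y)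
    (hbir : IsIso (f.stalkMap (genericPoint X))) (y : Y) : ConnectedSpace ↥(f.fiber y) := by
  have hdom : f.base (genericPoint X) ⤳ genericPoint Y := by rw [hgen]
  have hins : Inseparable (genericPoint Y) (f.base (genericPoint X)) := by rw [hgen]
  have hsurj : Function.Surjective (CohIII.stalkToFunctionField f (genericPoint Y) hdom) := by
    have h1 : Function.Bijective (f.stalkMap (genericPoint X)).hom :=
      ConcreteCategory.bijective_of_isIso (f.stalkMap (genericPoint X))
    have h2 : Function.Bijective (Y.presheaf.stalkSpecializes hdom).hom :=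
      ConcreteCategory.bijective_of_isIso (Y.presheaf.stalkCongr hins).hom
    exact h1.2.comp h2.2
  have hiso := ZariskiNormal.isIso_app f hdom hY (fun x _ => hsurj x)
  obtain ⟨_, ⟨V, hV, rfl⟩, hyV, -⟩ := Y.isBasis_affineOpens.exists_subset_of_mem_open
    (Set.mem_univ y) isOpen_univ
  exact ZariskiConn.connectedSpace_fiber f y hV hyV (hiso V)

end Groth.Agent.Lib.Helper13.ZariskiConnBir
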